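import Groth.Agent.PerfA.Restrict
import Groth.Agent.PerfB.TildeExact
import Groth.Prelude.Def_DRing2

/-!
# Supports of the modules `M~` and vanishing on opens
-/

set_option autoImplicit false
universe u
open CategoryTheory CategoryTheory.Limits AlgebraicGeometry
attribute [local instance] HasDerivedCategory.standard

namespace Groth.Agent.PerfA.TildeSupp
open AlgebraicGeometry.Scheme.Modules Groth.Agent.PerfA.Restrict

variable {R : CommRingCat.{u}}

/-- `M` vanishes at the prime `x`, elementwise. -/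
def VanAt (M : ModuleCat.{u} R) (x : PrimeSpectrum R) : Prop :=
  ∀ m : M, ∃ s ∉ x.asIdeal, s • m = 0

theorem isZero_stalk_tilde_iff (M : ModuleCat.{u} R) (x : Spec R) :
    IsZero ((stalkAb x).obj (tilde M)) ↔ VanAt M x := by
  have h1 : IsZero ((stalkAb x).obj (tilde M)) ↔
      Subsingleton ↑(TopCat.Presheaf.stalk (tilde M).presheaf x) := by
    constructor
    · intro h
      exact AddCommGrpCat.subsingleton_of_isZero h
    · intro h
      exact @AddCommGrpCat.isZero_of_subsingleton _ h
  rw [h1]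
  have h2 := IsLocalizedModule.subsingleton_iff (S := x.asIdeal.primeCompl) (tilde.toStalk M x).hom
  refine Iff.trans h2 ?_
  refine forall_congr' fun m => ?_
  constructor
  · rintro ⟨s, hs, h⟩
    exact ⟨s, hs, h⟩
  · rintro ⟨s, hs, h⟩
    exact ⟨s, hs, h⟩

theorem isZero_restrict_tilde_iff (M : ModuleCat.{u} R) {U : Scheme.{u}} (j : U ⟶ Spec R)
    [IsOpenImmersion j] : IsZero ((tilde M).restrict j) ↔ ∀ y : U, VanAt M (j y) := by
  rw [isZero_iff_stalk]
  refine forall_congr' fun y => ?_
  rw [← isZero_stalk_tilde_iff]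
  exact ((stalkRestrict j y).app (tilde M)).isZero_iff

/-- `M` is `f`-power torsion iff it vanishes at all primes of `D(f)`. -/
theorem forall_vanAt_iff (M : ModuleCat.{u} R) (f : R) :
    (∀ x : PrimeSpectrum R, f ∉ x.asIdeal → VanAt M x) ↔ ∀ m : M, ∃ n : ℕ, f ^ n • m = 0 := by
  constructor
  · intro h m
    have h1 : f ∈ Ideal.radical (LinearMap.ker (LinearMap.toSpanSingleton R M m)) := by
      rw [Ideal.radical_eq_sInf, Submodule.mem_sInf]
      rintro p ⟨hp, hpp⟩
      by_contra hf
      obtain ⟨s, hs, hsm⟩ := h ⟨p, hpp⟩ hf m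
      exact hs (hp (by simpa using hsm))
    obtain ⟨n, hn⟩ := h1
    exact ⟨n, by simpa using hn⟩
  · intro h x hx m
    obtain ⟨n, hn⟩ := h m
    exact ⟨f ^ n, fun hc => hx (x.2.mem_of_pow_mem n hc), hn⟩

/-- `H^i(M~) = H^i(M)~`. -/
noncomputable def HDtilde (M : DerivedCategory (ModuleCat.{u} R)) (i : ℤ) :
    DCoh.HD ((DCoh.tildeD R).obj M) i ≅
      (tilde.functor R).obj ((DerivedCategory.homologyFunctor (ModuleCat.{u} R) i).obj M) :=
  (ExactD.mapHomology (tilde.functor R) i).app M

theorem isZero_restrictD_tildeD_iff (M : DerivedCategory (ModuleCat.{u} R)) {U : Scheme.{u}}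
    (j : U ⟶ Spec R) [IsOpenImmersion j] :
    IsZero ((restrictD j).obj ((DCoh.tildeD R).obj M)) ↔
      ∀ (i : ℤ) (y : U), VanAt ((DerivedCategory.homologyFunctor (ModuleCat.{u} R) i).obj M) (j y) := by
  rw [ExactD.isZero_iff]
  refine forall_congr' fun i => ?_
  rw [← isZero_restrict_tilde_iff]
  exact (HDrestrict j _ i ≪≫ (restrictFunctor j).mapIso (HDtilde M i)).isZero_iff

end Groth.Agent.PerfA.TildeSupp
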