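import Groth.Agent.PerfA.QCohExt
import Groth.Agent.PerfA.CohomIn
import Groth.Agent.PerfA.Restrict

/-!
# The subcategories `D_QCoh(O_X)` and `D_Coh(O_X)` of `D(O_X)`

They are triangulated subcategories stable under shifts, truncations, retracts, restriction to opens,
and membership is local.
-/

set_option autoImplicit false
universe u
open CategoryTheory CategoryTheory.Limits AlgebraicGeometry TopologicalSpace Pretriangulated
  DerivedCategory

namespace Groth.Agent.PerfA.QCohD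
open AlgebraicGeometry.Scheme.Modules QCohSerre CohSerre CohomIn Restrict

attribute [local instance] HasDerivedCategory.standard

section QCoh

variable (X : Scheme.{u})

instance : (DCoh.IsQCohD (X := X)).IsClosedUnderIsomorphisms :=
  inferInstanceAs (coh (qcoh X)).IsClosedUnderIsomorphisms
instance : (DCoh.IsQCohD (X := X)).IsStableUnderShift ℤ :=
  inferInstanceAs ((coh (qcoh X)).IsStableUnderShift ℤ)
instance : (DCoh.IsQCohD (X := X)).ContainsZero :=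
  inferInstanceAs (coh (qcoh X)).ContainsZero
instance : (DCoh.IsQCohD (X := X)).IsTriangulatedClosed₂ :=
  inferInstanceAs (coh (qcoh X)).IsTriangulatedClosed₂
instance : (DCoh.IsQCohD (X := X)).IsTriangulated where

variable {X}

lemma isQCohD_of_iso {K L : DCoh.D X} (e : K ≅ L) (h : DCoh.IsQCohD K) : DCoh.IsQCohD L :=
  (DCoh.IsQCohD (X := X)).prop_of_iso e h

lemma isQCohD_Q_iff (E : CochainComplex X.Modules ℤ) :
    DCoh.IsQCohD (Q.obj E) ↔ ∀ i, Coh.IsQCoh (E.homology i) := coh_Q_iff (qcoh X) E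

/-- A complex with quasi-coherent terms has quasi-coherent cohomology. -/
lemma isQCohD_Q_of_terms (E : CochainComplex X.Modules ℤ) (hE : ∀ i, Coh.IsQCoh (E.X i)) :
    DCoh.IsQCohD (Q.obj E) := coh_Q_of_terms (qcoh X) E hE

lemma isQCohD_single (M : X.Modules) (hM : Coh.IsQCoh M) (n : ℤ) :
    DCoh.IsQCohD ((singleFunctor X.Modules n).obj M) := coh_single (qcoh X) M hM n

lemma isQCohD_inD (M : X.Modules) (hM : Coh.IsQCoh M) : DCoh.IsQCohD (DCoh.inD X M) :=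
  isQCohD_single M hM 0

lemma isQCohD_shift {K : DCoh.D X} (h : DCoh.IsQCohD K) (n : ℤ) : DCoh.IsQCohD (K⟦n⟧) :=
  (DCoh.IsQCohD (X := X)).le_shift n _ h

lemma isQCohD_truncGE {K : DCoh.D X} (h : DCoh.IsQCohD K) (n : ℤ) :
    DCoh.IsQCohD ((TStructure.t.truncGE n).obj K) := coh_truncGE (qcoh X) K n h
lemma isQCohD_truncLT {K : DCoh.D X} (h : DCoh.IsQCohD K) (n : ℤ) :
    DCoh.IsQCohD ((TStructure.t.truncLT n).obj K) := coh_truncLT (qcoh X) K n h
lemma isQCohD_truncLE {K : DCoh.D X} (h : DCoh.IsQCohD K) (n : ℤ) :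
    DCoh.IsQCohD ((TStructure.t.truncLE n).obj K) := coh_truncLE (qcoh X) K n h
lemma isQCohD_truncGT {K : DCoh.D X} (h : DCoh.IsQCohD K) (n : ℤ) :
    DCoh.IsQCohD ((TStructure.t.truncGT n).obj K) := coh_truncGT (qcoh X) K n h

lemma isQCohD_ext₁ (T : Triangle (DCoh.D X)) (hT : T ∈ distTriang _) (h₂ : DCoh.IsQCohD T.obj₂)
    (h₃ : DCoh.IsQCohD T.obj₃) : DCoh.IsQCohD T.obj₁ :=
  (DCoh.IsQCohD (X := X)).ext_of_isTriangulatedClosed₁ T hT h₂ h₃
lemma isQCohD_ext₂ (T : Triangle (DCoh.D X)) (hT : T ∈ distTriang _) (h₁ : DCoh.IsQCohD T.obj₁)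
    (h₃ : DCoh.IsQCohD T.obj₃) : DCoh.IsQCohD T.obj₂ :=
  (DCoh.IsQCohD (X := X)).ext_of_isTriangulatedClosed₂ T hT h₁ h₃
lemma isQCohD_ext₃ (T : Triangle (DCoh.D X)) (hT : T ∈ distTriang _) (h₁ : DCoh.IsQCohD T.obj₁)
    (h₂ : DCoh.IsQCohD T.obj₂) : DCoh.IsQCohD T.obj₃ :=
  (DCoh.IsQCohD (X := X)).ext_of_isTriangulatedClosed₃ T hT h₁ h₂

lemma isQCohD_of_retract {K L : DCoh.D X} (i : K ⟶ L) (r : L ⟶ K) (h : i ≫ r = 𝟙 K)
    (hL : DCoh.IsQCohD L) : DCoh.IsQCohD K := coh_of_retract (qcoh X) i r h hL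

lemma isQCohD_restrictD {Y : Scheme.{u}} (j : Y ⟶ X) [IsOpenImmersion j] {K : DCoh.D X}
    (h : DCoh.IsQCohD K) : DCoh.IsQCohD ((restrictD j).obj K) := fun i =>
  isQCoh_of_iso (HDrestrict j K i).symm (isQCoh_restrict j (h i))

/-- Having quasi-coherent cohomology is local. -/
lemma isQCohD_of_restrictD (K : DCoh.D X)
    (h : ∀ x : X, ∃ (U : Scheme.{u}) (j : U ⟶ X) (_ : IsOpenImmersion j) (y : U), j y = x ∧
      DCoh.IsQCohD ((restrictD j).obj K)) : DCoh.IsQCohD K := fun i =>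
  isQCoh_of_restrict _ fun x => by
    obtain ⟨U, j, hj, y, hy, hK⟩ := h x
    exact ⟨U, j, hj, y, hy, isQCoh_of_iso (HDrestrict j K i) (hK i)⟩

lemma isQCohD_of_restrictD_opens (K : DCoh.D X)
    (h : ∀ x : X, ∃ U : X.Opens, x ∈ U ∧ DCoh.IsQCohD ((restrictD U.ι).obj K)) : DCoh.IsQCohD K :=
  isQCohD_of_restrictD K fun x => by
    obtain ⟨U, hx, hU⟩ := h x
    exact ⟨U, U.ι, inferInstance, ⟨x, hx⟩, rfl, hU⟩

lemma isQCohD_of_isStrictlyPerfect (E : CochainComplex X.Modules ℤ) (hE : DCoh.IsStrictlyPerfect E) :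
    DCoh.IsQCohD (Q.obj E) :=
  isQCohD_Q_of_terms E fun i => (isCoh_of_isFinLocFree (hE.2 i)).1

lemma isQCohD_of_isPerfect (K : DCoh.D X) (hK : DCoh.IsPerfect K) : DCoh.IsQCohD K := by
  refine isQCohD_of_restrictD_opens K fun x => ?_
  obtain ⟨V, hxV, E, hE, ⟨e⟩⟩ := (isPerfect_iff K).1 hK x
  exact ⟨V, hxV, isQCohD_of_iso e.symm (isQCohD_of_isStrictlyPerfect E hE)⟩

end QCoh

section Coh

variable (X : Scheme.{u})

instance : (DCoh.IsCohD (X := X)).IsClosedUnderIsomorphisms :=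
  inferInstanceAs (coh (cohp X)).IsClosedUnderIsomorphisms
instance : (DCoh.IsCohD (X := X)).IsStableUnderShift ℤ :=
  inferInstanceAs ((coh (cohp X)).IsStableUnderShift ℤ)
instance : (DCoh.IsCohD (X := X)).ContainsZero :=
  inferInstanceAs (coh (cohp X)).ContainsZero
instance [IsLocallyNoetherian X] : (DCoh.IsCohD (X := X)).IsTriangulatedClosed₂ :=
  inferInstanceAs (coh (cohp X)).IsTriangulatedClosed₂
instance [IsLocallyNoetherian X] : (DCoh.IsCohD (X := X)).IsTriangulated where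

variable {X}

lemma isCohD_of_iso {K L : DCoh.D X} (e : K ≅ L) (h : DCoh.IsCohD K) : DCoh.IsCohD L :=
  (DCoh.IsCohD (X := X)).prop_of_iso e h

lemma isQCohD_of_isCohD {K : DCoh.D X} (h : DCoh.IsCohD K) : DCoh.IsQCohD K := fun i => (h i).1

lemma isCohD_Q_iff (E : CochainComplex X.Modules ℤ) :
    DCoh.IsCohD (Q.obj E) ↔ ∀ i, Coh.IsCoh (E.homology i) := coh_Q_iff (cohp X) E

/-- A complex with coherent terms has coherent cohomology. -/
lemma isCohD_Q_of_terms [IsLocallyNoetherian X] (E : CochainComplex X.Modules ℤ)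
    (hE : ∀ i, Coh.IsCoh (E.X i)) : DCoh.IsCohD (Q.obj E) := coh_Q_of_terms (cohp X) E hE

lemma isCohD_single (M : X.Modules) (hM : Coh.IsCoh M) (n : ℤ) :
    DCoh.IsCohD ((singleFunctor X.Modules n).obj M) := coh_single (cohp X) M hM n

lemma isCohD_inD (M : X.Modules) (hM : Coh.IsCoh M) : DCoh.IsCohD (DCoh.inD X M) :=
  isCohD_single M hM 0

lemma isCohD_shift {K : DCoh.D X} (h : DCoh.IsCohD K) (n : ℤ) : DCoh.IsCohD (K⟦n⟧) :=
  (DCoh.IsCohD (X := X)).le_shift n _ h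

lemma isCohD_truncGE {K : DCoh.D X} (h : DCoh.IsCohD K) (n : ℤ) :
    DCoh.IsCohD ((TStructure.t.truncGE n).obj K) := coh_truncGE (cohp X) K n h
lemma isCohD_truncLT {K : DCoh.D X} (h : DCoh.IsCohD K) (n : ℤ) :
    DCoh.IsCohD ((TStructure.t.truncLT n).obj K) := coh_truncLT (cohp X) K n h
lemma isCohD_truncLE {K : DCoh.D X} (h : DCoh.IsCohD K) (n : ℤ) :
    DCoh.IsCohD ((TStructure.t.truncLE n).obj K) := coh_truncLE (cohp X) K n h
lemma isCohD_truncGT {K : DCoh.D X} (h : DCoh.IsCohD K) (n : ℤ) :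
    DCoh.IsCohD ((TStructure.t.truncGT n).obj K) := coh_truncGT (cohp X) K n h

lemma isCohD_ext₁ [IsLocallyNoetherian X] (T : Triangle (DCoh.D X)) (hT : T ∈ distTriang _)
    (h₂ : DCoh.IsCohD T.obj₂) (h₃ : DCoh.IsCohD T.obj₃) : DCoh.IsCohD T.obj₁ :=
  (DCoh.IsCohD (X := X)).ext_of_isTriangulatedClosed₁ T hT h₂ h₃
lemma isCohD_ext₂ [IsLocallyNoetherian X] (T : Triangle (DCoh.D X)) (hT : T ∈ distTriang _)
    (h₁ : DCoh.IsCohD T.obj₁) (h₃ : DCoh.IsCohD T.obj₃) : DCoh.IsCohD T.obj₂ :=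
  (DCoh.IsCohD (X := X)).ext_of_isTriangulatedClosed₂ T hT h₁ h₃
lemma isCohD_ext₃ [IsLocallyNoetherian X] (T : Triangle (DCoh.D X)) (hT : T ∈ distTriang _)
    (h₁ : DCoh.IsCohD T.obj₁) (h₂ : DCoh.IsCohD T.obj₂) : DCoh.IsCohD T.obj₃ :=
  (DCoh.IsCohD (X := X)).ext_of_isTriangulatedClosed₃ T hT h₁ h₂

lemma isCohD_of_retract {K L : DCoh.D X} (i : K ⟶ L) (r : L ⟶ K) (h : i ≫ r = 𝟙 K)
    [IsLocallyNoetherian X] (hL : DCoh.IsCohD L) : DCoh.IsCohD K :=
  coh_of_retract (cohp X) i r h hL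

lemma isCohD_restrictD {Y : Scheme.{u}} (j : Y ⟶ X) [IsOpenImmersion j] {K : DCoh.D X}
    (h : DCoh.IsCohD K) : DCoh.IsCohD ((restrictD j).obj K) := fun i =>
  isCoh_of_iso (HDrestrict j K i).symm (isCoh_restrict j (h i))

/-- Having coherent cohomology is local. -/
lemma isCohD_of_restrictD_opens (K : DCoh.D X)
    (h : ∀ x : X, ∃ U : X.Opens, x ∈ U ∧ DCoh.IsCohD ((restrictD U.ι).obj K)) : DCoh.IsCohD K :=
  fun i => isCoh_of_restrict _ fun x => by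
    obtain ⟨U, hx, hU⟩ := h x
    exact ⟨U, hx, isCoh_of_iso (HDrestrict U.ι K i) (hU i)⟩

lemma isCohD_of_isStrictlyPerfect [IsLocallyNoetherian X] (E : CochainComplex X.Modules ℤ)
    (hE : DCoh.IsStrictlyPerfect E) : DCoh.IsCohD (Q.obj E) :=
  isCohD_Q_of_terms E fun i => isCoh_of_isFinLocFree (hE.2 i)

lemma isCohD_of_isPerfect [IsLocallyNoetherian X] (K : DCoh.D X) (hK : DCoh.IsPerfect K) :
    DCoh.IsCohD K := by
  refine isCohD_of_restrictD_opens K fun x => ?_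
  obtain ⟨V, hxV, E, hE, ⟨e⟩⟩ := (isPerfect_iff K).1 hK x
  exact ⟨V, hxV, isCohD_of_iso e.symm (isCohD_of_isStrictlyPerfect E hE)⟩

end Coh

end Groth.Agent.PerfA.QCohD
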