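import Groth.Agent.PerfA.ExtZero
import Groth.Agent.Dcoh.Restrict

/-!
# `j_!O_X` for the whole space is the structure sheaf
-/

set_option autoImplicit false

universe u

open CategoryTheory AlgebraicGeometry

namespace Groth.Agent.PerfA.UnitOU

open ExtZero Groth.Agent.Dcoh.Restrict

variable (X : Scheme.{u})

/-- `O_X ≅ OU ⊤`. -/
noncomputable def unitIsoOU : Coh.structureModule X ≅ OU (⊤ : X.Opens) where
  hom := unitHom (gen ⊤)
  inv := desc (one ⊤)
  hom_inv_id := by
    apply unit_hom_ext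
    rw [Scheme.Modules.Hom.comp_app]
    change (desc (one ⊤)).app ⊤ ((unitHom (gen ⊤)).app ⊤ (one ⊤)) = one ⊤
    rw [unitHom_app_one, desc_app_gen]
  inv_hom_id := by
    apply ExtZero.hom_ext
    rw [Scheme.Modules.Hom.comp_app]
    change (unitHom (gen ⊤)).app ⊤ ((desc (one ⊤)).app ⊤ (gen ⊤)) = gen ⊤
    rw [desc_app_gen, unitHom_app_one]

lemma unitIsoOU_hom_app_one : (unitIsoOU X).hom.app ⊤ (one ⊤) = gen ⊤ := unitHom_app_one _

lemma unitIsoOU_inv_app_gen : (unitIsoOU X).inv.app ⊤ (gen ⊤) = one ⊤ := desc_app_gen _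

end Groth.Agent.PerfA.UnitOU
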