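import Groth.Prelude.Def_DCoh2
import Mathlib.Algebra.Category.ModuleCat.Presheaf.Generator
import Mathlib.Algebra.Category.Grp.FilteredColimits

/-!
# The sheaves `j_! O_U` as representing objects

For an open `U` of a scheme `X`, `OU U : X.Modules` is the sheafification of the free presheaf of modules on the
representable presheaf of `U`; it represents `M ↦ Γ(M, U)`.
-/

set_option autoImplicit false

universe u

open CategoryTheory CategoryTheory.Limits AlgebraicGeometry Opposite TopologicalSpace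

namespace Groth.Agent.PerfA.ExtZero

variable {X : Scheme.{u}}

variable (X) in
/-- The functor `U ↦ j_! O_U`. -/
noncomputable def OUF : X.Opens ⥤ X.Modules :=
  yoneda ⋙ PresheafOfModules.free.{u} X.ringCatSheaf.obj ⋙
    PresheafOfModules.sheafification.{u, u, u, u} (R := X.ringCatSheaf) (𝟙 X.ringCatSheaf.obj)

/-- `j_! O_U`. -/
noncomputable abbrev OU (U : X.Opens) : X.Modules := (OUF X).obj U

/-- The composite adjunction, as a bijection. -/
noncomputable def homEquiv₀ (U : X.Opens) (M : X.Modules) :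
    (OU U ⟶ M) ≃ Γ(M, U) :=
  ((PresheafOfModules.sheafificationAdjunction.{u, u, u, u} (R := X.ringCatSheaf)
    (𝟙 X.ringCatSheaf.obj)).homEquiv _ M).trans
    (PresheafOfModules.freeYonedaEquiv (M := (PresheafOfModules.restrictScalars
      (𝟙 X.ringCatSheaf.obj)).obj M.val) (X := U))

/-- The canonical section of `j_! O_U` over `U`. -/
noncomputable def gen (U : X.Opens) : Γ(OU U, U) := homEquiv₀ U (OU U) (𝟙 _)

lemma homEquiv₀_comp {U : X.Opens} {M N : X.Modules} (f : OU U ⟶ M) (g : M ⟶ N) :
    homEquiv₀ U N (f ≫ g) = g.app U (homEquiv₀ U M f) := by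
  exact congrArg (PresheafOfModules.freeYonedaEquiv (M := (PresheafOfModules.restrictScalars
      (𝟙 X.ringCatSheaf.obj)).obj N.val) (X := U))
    ((PresheafOfModules.sheafificationAdjunction.{u, u, u, u} (R := X.ringCatSheaf)
      (𝟙 X.ringCatSheaf.obj)).homEquiv_naturality_right (Y := M) (Y' := N) f g)

lemma homEquiv₀_apply {U : X.Opens} {M : X.Modules} (f : OU U ⟶ M) :
    homEquiv₀ U M f = f.app U (gen U) := by
  rw [gen, ← homEquiv₀_comp, Category.id_comp]

/-- `Hom(j_! O_U, M) = Γ(M, U)`. -/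
noncomputable def homEquiv (U : X.Opens) (M : X.Modules) : (OU U ⟶ M) ≃+ Γ(M, U) :=
  AddEquiv.mk' (homEquiv₀ U M) (by
    intro f g
    simp only [homEquiv₀_apply]
    rfl)

lemma homEquiv_apply {U : X.Opens} {M : X.Modules} (f : OU U ⟶ M) :
    homEquiv U M f = f.app U (gen U) := homEquiv₀_apply f

lemma homEquiv_comp {U : X.Opens} {M N : X.Modules} (f : OU U ⟶ M) (g : M ⟶ N) :
    homEquiv U N (f ≫ g) = g.app U (homEquiv U M f) := homEquiv₀_comp f g

lemma hom_ext {U : X.Opens} {M : X.Modules} {f g : OU U ⟶ M} (h : f.app U (gen U) = g.app U (gen U)) :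
    f = g := by
  apply (homEquiv U M).injective
  simpa only [homEquiv_apply] using h

/-- The map `j_! O_U ⟶ M` attached to a section. -/
noncomputable def desc {U : X.Opens} {M : X.Modules} (s : Γ(M, U)) : OU U ⟶ M := (homEquiv U M).symm s

@[simp]
lemma desc_app_gen {U : X.Opens} {M : X.Modules} (s : Γ(M, U)) : (desc s).app U (gen U) = s := by
  rw [← homEquiv_apply, desc, AddEquiv.apply_symm_apply]

@[reassoc (attr := simp)]
lemma desc_comp {U : X.Opens} {M N : X.Modules} (s : Γ(M, U)) (g : M ⟶ N) :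
    desc s ≫ g = desc (g.app U s) := by
  apply hom_ext
  simp

lemma desc_add {U : X.Opens} {M : X.Modules} (s t : Γ(M, U)) : desc (s + t) = desc s + desc t :=
  map_add (homEquiv U M).symm s t

lemma desc_zero {U : X.Opens} {M : X.Modules} : desc (0 : Γ(M, U)) = 0 :=
  map_zero (homEquiv U M).symm

lemma desc_surjective {U : X.Opens} {M : X.Modules} (f : OU U ⟶ M) : ∃ s : Γ(M, U), f = desc s :=
  ⟨f.app U (gen U), hom_ext (by simp)⟩

lemma desc_injective {U : X.Opens} {M : X.Modules} {s t : Γ(M, U)} (h : desc s = desc t) : s = t :=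
  (homEquiv U M).symm.injective h

set_option backward.defeqAttrib.useBackward true in
set_option backward.isDefEq.respectTransparency false in
lemma freeYonedaEquiv_map_comp {C : Type u} [Category.{u} C] {R : Cᵒᵖ ⥤ RingCat.{u}}
    {M : PresheafOfModules.{u} R} {U V : C} (i : V ⟶ U)
    (m : (PresheafOfModules.free R).obj (yoneda.obj U) ⟶ M) :
    PresheafOfModules.freeYonedaEquiv ((PresheafOfModules.free R).map (yoneda.map i) ≫ m) =
      M.presheaf.map i.op (PresheafOfModules.freeYonedaEquiv m) := by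
  have h := (PresheafOfModules.freeAdjunction R).homEquiv_naturality_left (yoneda.map i) m
  rw [PresheafOfModules.freeAdjunction_homEquiv, PresheafOfModules.freeAdjunction_homEquiv] at h
  refine (congrArg yonedaEquiv h).trans ?_
  exact (yonedaEquiv_naturality _ _).symm

/-- The transition map sends the generator to the restriction of the generator. -/
lemma OUF_map_app_gen {U V : X.Opens} (i : V ⟶ U) :
    ((OUF X).map i).app V (gen V) = (OU U).presheaf.map i.op (gen U) := by
  rw [← homEquiv₀_apply]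
  have h := (PresheafOfModules.sheafificationAdjunction.{u, u, u, u} (R := X.ringCatSheaf)
      (𝟙 X.ringCatSheaf.obj)).homEquiv_naturality_left
        ((PresheafOfModules.free.{u} X.ringCatSheaf.obj).map (yoneda.map i)) (𝟙 (OU U))
  refine (congrArg (PresheafOfModules.freeYonedaEquiv (M := (PresheafOfModules.restrictScalars
      (𝟙 X.ringCatSheaf.obj)).obj (OU U).val) (X := V)) ((congrArg _ (Category.comp_id _).symm).trans h)).trans ?_
  exact freeYonedaEquiv_map_comp i _

@[reassoc (attr := simp)]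
lemma map_desc {U V : X.Opens} (i : V ⟶ U) {M : X.Modules} (s : Γ(M, U)) :
    (OUF X).map i ≫ desc s = desc (M.presheaf.map i.op s) := by
  apply hom_ext
  rw [desc_app_gen, Scheme.Modules.Hom.comp_app]
  refine (congrArg ((desc s).app V) (OUF_map_app_gen i)).trans ?_
  refine (NatTrans.naturality_apply (desc s).mapPresheaf i.op (gen U)).trans ?_
  exact congrArg _ (desc_app_gen s)

instance mono_OUF_map {U V : X.Opens} (i : V ⟶ U) : Mono ((OUF X).map i) := by
  have h1 : Mono ((PresheafOfModules.free.{u} X.ringCatSheaf.obj).map (yoneda.map i)) := by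
    apply PresheafOfModules.mono_of_injective
    intro W
    change Function.Injective (((ModuleCat.free (X.ringCatSheaf.obj.obj W)).map ((yoneda.map i).app W)).hom)
    have hinj : Function.Injective ((yoneda.map i).app W) := by
      intro a b _
      exact Subsingleton.elim (α := (W.unop ⟶ V)) a b
    exact Finsupp.mapDomain_injective hinj
  exact inferInstanceAs (Mono ((PresheafOfModules.sheafification.{u, u, u, u} (R := X.ringCatSheaf) (𝟙 X.ringCatSheaf.obj)).map
    ((PresheafOfModules.free.{u} X.ringCatSheaf.obj).map (yoneda.map i))))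

section MayerVietoris

variable (U V : X.Opens)

/-- `j_!O_{U ∩ V} ⟶ j_!O_U ⊕ j_!O_V`. -/
noncomputable def mvf : OU (U ⊓ V) ⟶ OU U ⊞ OU V :=
  biprod.lift ((OUF X).map (homOfLE inf_le_left)) (- (OUF X).map (homOfLE inf_le_right))

/-- `j_!O_U ⊕ j_!O_V ⟶ j_!O_{U ∪ V}`. -/
noncomputable def mvg : OU U ⊞ OU V ⟶ OU (U ⊔ V) :=
  biprod.desc ((OUF X).map (homOfLE le_sup_left)) ((OUF X).map (homOfLE le_sup_right))

/-- The Mayer-Vietoris short complex `j_!O_{U ∩ V} ⟶ j_!O_U ⊕ j_!O_V ⟶ j_!O_{U ∪ V}`. -/
@[simps]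
noncomputable def mvShortComplex : ShortComplex X.Modules where
  X₁ := OU (U ⊓ V)
  X₂ := OU U ⊞ OU V
  X₃ := OU (U ⊔ V)
  f := mvf U V
  g := mvg U V
  zero := by
    rw [mvf, mvg, biprod.lift_desc, ← Functor.map_comp, Preadditive.neg_comp, ← Functor.map_comp,
      ← sub_eq_add_neg, sub_eq_zero]
    rfl

instance : Mono (mvf U V) := by
  have : Mono (mvf U V ≫ biprod.fst) := by
    rw [mvf, biprod.lift_fst]
    infer_instance
  exact mono_of_mono _ biprod.fst

lemma mvg_hom_ext {M : X.Modules} {f g : OU (U ⊔ V) ⟶ M} (h : mvg U V ≫ f = mvg U V ≫ g) : f = g := by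
  obtain ⟨s, rfl⟩ := desc_surjective f
  obtain ⟨t, rfl⟩ := desc_surjective g
  congr 1
  have h1 := congrArg (biprod.inl ≫ ·) h
  have h2 := congrArg (biprod.inr ≫ ·) h
  simp only [mvg, biprod.inl_desc_assoc, biprod.inr_desc_assoc, map_desc] at h1 h2
  exact TopCat.Sheaf.eq_of_locally_eq₂ ⟨M.presheaf, M.isSheaf⟩ (homOfLE le_sup_left) (homOfLE le_sup_right)
    le_rfl s t (desc_injective h1) (desc_injective h2)

instance : Epi (mvg U V) := ⟨fun _ _ h => mvg_hom_ext U V h⟩

/-- Gluing of two sections. -/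
lemma exists_glue (M : X.Modules) (s : Γ(M, U)) (t : Γ(M, V))
    (h : M.presheaf.map (homOfLE inf_le_left : U ⊓ V ⟶ U).op s =
      M.presheaf.map (homOfLE inf_le_right : U ⊓ V ⟶ V).op t) :
    ∃ r : Γ(M, U ⊔ V), M.presheaf.map (homOfLE le_sup_left : U ⟶ U ⊔ V).op r = s ∧
      M.presheaf.map (homOfLE le_sup_right : V ⟶ U ⊔ V).op r = t := by
  let ι : Bool → X.Opens := fun b => match b with
    | true => U
    | false => V
  have hι : U ⊔ V ≤ iSup ι := sup_le (le_iSup ι true) (le_iSup ι false)
  let sf : ∀ b : Bool, Γ(M, ι b) := fun b => match b with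
    | true => s
    | false => t
  let iUV : ∀ b : Bool, ι b ⟶ U ⊔ V := fun b => match b with
    | true => homOfLE le_sup_left
    | false => homOfLE le_sup_right
  obtain ⟨r, hr, -⟩ := TopCat.Sheaf.existsUnique_gluing' ⟨M.presheaf, M.isSheaf⟩ ι (U ⊔ V) iUV hι sf (by
    rintro (_ | _) (_ | _)
    · rfl
    · have := congrArg (M.presheaf.map (homOfLE (le_of_eq (inf_comm V U)) : V ⊓ U ⟶ U ⊓ V).op) h
      rw [← ConcreteCategory.comp_apply, ← ConcreteCategory.comp_apply, ← Functor.map_comp,
        ← Functor.map_comp] at this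
      exact this.symm
    · exact h
    · rfl)
  exact ⟨r, hr true, hr false⟩

lemma exists_mv_desc {M : X.Modules} (f : OU U ⊞ OU V ⟶ M) (hf : mvf U V ≫ f = 0) :
    ∃ g : OU (U ⊔ V) ⟶ M, mvg U V ≫ g = f := by
  obtain ⟨s, hs⟩ := desc_surjective (biprod.inl ≫ f)
  obtain ⟨t, ht⟩ := desc_surjective (biprod.inr ≫ f)
  have hf' : f = biprod.desc (desc s) (desc t) := by
    apply biprod.hom_ext'
    · rw [hs, biprod.inl_desc]
    · rw [ht, biprod.inr_desc]
  have h : M.presheaf.map (homOfLE inf_le_left : U ⊓ V ⟶ U).op s =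
      M.presheaf.map (homOfLE inf_le_right : U ⊓ V ⟶ V).op t := by
    apply desc_injective
    rw [hf', mvf, biprod.lift_desc, Preadditive.neg_comp, map_desc, map_desc, ← sub_eq_add_neg,
      sub_eq_zero] at hf
    exact hf
  obtain ⟨r, hr1, hr2⟩ := exists_glue U V M s t h
  refine ⟨desc r, ?_⟩
  rw [hf', mvg]
  apply biprod.hom_ext'
  · rw [biprod.inl_desc, biprod.inl_desc_assoc, map_desc, hr1]
  · rw [biprod.inr_desc, biprod.inr_desc_assoc, map_desc, hr2]

lemma mvShortComplex_exact : (mvShortComplex U V).Exact := by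
  apply ShortComplex.exact_of_g_is_cokernel
  exact CokernelCofork.IsColimit.ofπ _ _ (fun f hf => (exists_mv_desc U V f hf).choose)
    (fun f hf => (exists_mv_desc U V f hf).choose_spec)
    (fun f hf m hm => mvg_hom_ext U V (hm.trans (exists_mv_desc U V f hf).choose_spec.symm))

lemma mvShortComplex_shortExact : (mvShortComplex U V).ShortExact where
  exact := mvShortComplex_exact U V
  mono_f := inferInstanceAs (Mono (mvf U V))
  epi_g := inferInstanceAs (Epi (mvg U V))

end MayerVietoris

/-- `j_! O_∅ = 0`. -/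
lemma isZero_OU_bot : IsZero (OU (⊥ : X.Opens)) := by
  rw [IsZero.iff_id_eq_zero]
  apply (homEquiv (⊥ : X.Opens) (OU ⊥)).injective
  exact TopCat.Sheaf.eq_of_locally_eq' ⟨(OU (⊥ : X.Opens)).presheaf, (OU (⊥ : X.Opens)).isSheaf⟩
    (fun i : PEmpty.{1} => i.elim) ⊥ (fun i => i.elim) bot_le _ _ (fun i => i.elim)

lemma isIso_OUF_map_of_eq {U V : X.Opens} (i : V ⟶ U) (h : V = U) : IsIso ((OUF X).map i) := by
  subst h
  rw [Subsingleton.elim i (𝟙 V), CategoryTheory.Functor.map_id]
  infer_instance

/-- The objects `j_! O_U` detect epimorphisms / are separating. -/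
lemma separating {M N : X.Modules} (f g : M ⟶ N) (h : ∀ (U : X.Opens) (a : OU U ⟶ M), a ≫ f = a ≫ g) :
    f = g := by
  apply Scheme.Modules.hom_ext
  intro U
  ext s
  have := h U (desc s)
  rw [desc_comp, desc_comp] at this
  exact desc_injective this

end Groth.Agent.PerfA.ExtZero
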