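import Groth.Prelude.Def_DCoh2
import Groth.Prelude.Def_CohTop
import Groth.Agent.PerfA.ExtZero
import Groth.Agent.CohqA.ExtCompare
import Groth.Agent.CohqB.DevSupport
import Groth.Agent.CohtopA.FreeAb
import Groth.Agent.Ega3B.InjMod
import Groth.Agent.S0452
import Groth.Agent.S0484
import Groth.Agent.CohqA.AffineVanish
import Mathlib.CategoryTheory.Abelian.GrothendieckCategory.EnoughInjectives
import Mathlib.CategoryTheory.Abelian.GrothendieckCategory.HasExt

/-!
# Affine vanishing in the category of `O_X`-modules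

For `U` an affine open of a scheme `X` and `M` quasi-coherent, `Ext^n(j_! O_U, M) = 0` for `n > 0`, the
`Ext` being computed in `X.Modules`.  More generally `Ext^n(j_! O_U, M)` is `H^n(U, M)` for any `O_X`-module `M`.
-/

set_option autoImplicit false

universe w u

open CategoryTheory CategoryTheory.Limits AlgebraicGeometry Opposite TopologicalSpace
attribute [local instance] HasDerivedCategory.standard

namespace Groth.Agent.PerfA.AffVan

open Groth.Agent.PerfA.ExtZero Groth.Agent.CohqB.DevSupport Groth.Agent.CohtopA.FreeAb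

variable {X : Scheme.{u}}

variable (X) in
/-- `O_X`-modules form a Grothendieck abelian category. -/
theorem isGrothendieckAbelian : IsGrothendieckAbelian.{u} X.Modules :=
  Groth.Agent.S0484.result _ X.ringCatSheaf

variable (X) in
theorem enoughInjectives : EnoughInjectives X.Modules := by
  have := isGrothendieckAbelian X
  infer_instance

/-- The canonical map `Z_U ⟶ j_! O_U` of abelian sheaves. -/
noncomputable def can (U : X.Opens) :
    freeAb (Opens.grothendieckTopology X) U ⟶ (toAbF X).obj (OU U) :=
  (Equiv.ofBijective _ (homEv_bijective U ((toAbF X).obj (OU U)))).symm (gen U)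

lemma homEv_can (U : X.Opens) : homEv U _ (can U) = gen U :=
  (Equiv.ofBijective _ (homEv_bijective U ((toAbF X).obj (OU U)))).apply_symm_apply (gen U)

lemma can_bijective (U : X.Opens) (M : X.Modules) :
    Function.Bijective (fun g : OU U ⟶ M => can U ≫ (toAbF X).map g) := by
  have h : (fun g : OU U ⟶ M => homEv U _ (can U ≫ (toAbF X).map g)) = homEquiv U M := by
    ext g
    rw [homEv_comp, homEv_can, homEquiv_apply]
    rfl
  have h1 : Function.Bijective
      ((homEv U ((toAbF X).obj M)) ∘ (fun g : OU U ⟶ M => can U ≫ (toAbF X).map g)) := by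
    change Function.Bijective (fun g : OU U ⟶ M => homEv U _ (can U ≫ (toAbF X).map g))
    rw [h]
    exact (homEquiv U M).bijective
  exact (Function.Bijective.of_comp_iff' (homEv_bijective U ((toAbF X).obj M)) _).1 h1

/-- `Ext^n(j_! O_U, M) = H^n(U, M)` for any `O_X`-module `M`. -/
noncomputable def extEquiv [HasExt.{w} X.Modules] (U : X.Opens) (M : X.Modules) (n : ℕ) :
    Abelian.Ext.{w} (OU U) M n ≃+ CohTop.HU (X := X.toTopCat) (Coh.toAb M) n U :=
  haveI := enoughInjectives X
  Groth.Agent.CohqA.ExtCompare.compareEquiv (toAbF X) (can U) (can_bijective U)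
    (fun I _ n => by
      have := Groth.Agent.Ega3B.InjMod.isFlasque_of_injective I
      exact Groth.Agent.S0452.result (X := X.toTopCat) (Coh.toAb I) U n) M n

theorem subsingleton_HU (M : X.Modules) (hM : Coh.IsQCoh M) (U : X.Opens) (hU : IsAffineOpen U) (n : ℕ) :
    Subsingleton (CohTop.HU (X := X.toTopCat) (Coh.toAb M) (n + 1) U) :=
  Groth.Agent.CohqA.AffineVanish.HU_subsingleton M (n + 1) (Nat.succ_pos n) U hU

/-- Affine vanishing: `Ext^{n+1}(j_! O_U, M) = 0` in `X.Modules` for `U` affine and `M` quasi-coherent. -/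
theorem ext_eq_zero [HasExt.{w} X.Modules] (M : X.Modules) (hM : Coh.IsQCoh M) (U : X.Opens)
    (hU : IsAffineOpen U) (n : ℕ) (x : Abelian.Ext.{w} (OU U) M (n + 1)) : x = 0 := by
  have := subsingleton_HU M hM U hU n
  exact (extEquiv U M (n + 1)).injective (Subsingleton.elim _ _)

theorem subsingleton_ext [HasExt.{w} X.Modules] (M : X.Modules) (hM : Coh.IsQCoh M) (U : X.Opens)
    (hU : IsAffineOpen U) (n : ℕ) : Subsingleton (Abelian.Ext.{w} (OU U) M (n + 1)) :=
  ⟨fun x y => (ext_eq_zero M hM U hU n x).trans (ext_eq_zero M hM U hU n y).symm⟩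

section Single

variable {C : Type*} [Category* C] [Abelian C] [HasDerivedCategory.{w} C] [HasExt.{w} C]

/-- Vanishing of positive `Ext` groups, in terms of morphisms between single complexes. -/
theorem hom_single_eq_zero (G M : C) (h : ∀ (n : ℕ) (x : Abelian.Ext.{w} G M (n + 1)), x = 0)
    (a b : ℤ) (hab : b < a)
    (f : (DerivedCategory.singleFunctor C a).obj G ⟶ (DerivedCategory.singleFunctor C b).obj M) :
    f = 0 := by
  obtain ⟨n, hn⟩ : ∃ n : ℕ, b + ((n + 1 : ℕ) : ℤ) = a := ⟨(a - b - 1).toNat, by omega⟩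
  let e₁ : (shiftFunctor (DerivedCategory C) a).obj ((DerivedCategory.singleFunctor C a).obj G) ≅
      (DerivedCategory.singleFunctor C 0).obj G :=
    ((DerivedCategory.singleFunctors C).shiftIso a 0 a (by omega)).app G
  let e₂ : (shiftFunctor (DerivedCategory C) a).obj ((DerivedCategory.singleFunctor C b).obj M) ≅
      (shiftFunctor (DerivedCategory C) ((n + 1 : ℕ) : ℤ)).obj
        ((DerivedCategory.singleFunctor C 0).obj M) :=
    ((DerivedCategory.singleFunctors C).shiftIso a (b - a) b (by omega)).app M ≪≫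
      (((DerivedCategory.singleFunctors C).shiftIso ((n + 1 : ℕ) : ℤ) (b - a) 0 (by omega)).app M).symm
  have h0 : e₁.inv ≫ (shiftFunctor (DerivedCategory C) a).map f ≫ e₂.hom = 0 := by
    have := h n (Abelian.Ext.homEquiv.symm (e₁.inv ≫ (shiftFunctor (DerivedCategory C) a).map f ≫ e₂.hom))
    rw [Equiv.symm_apply_eq] at this
    rw [this]
    exact Abelian.Ext.zero_hom _ _ _
  apply (shiftFunctor (DerivedCategory C) a).map_injective
  rw [Functor.map_zero]
  rw [← cancel_epi e₁.inv, ← cancel_mono e₂.hom, Category.assoc, h0]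
  simp

end Single

/-- `Hom_{D(O_X)}(j_! O_U[-a], M[-b]) = 0` for `b < a`, `U` affine and `M` quasi-coherent. -/
theorem hom_single_OU_eq_zero (M : X.Modules) (hM : Coh.IsQCoh M) (U : X.Opens)
    (hU : IsAffineOpen U) (a b : ℤ) (hab : b < a)
    (f : (DerivedCategory.singleFunctor X.Modules a).obj (OU U) ⟶
      (DerivedCategory.singleFunctor X.Modules b).obj M) : f = 0 :=
  haveI := HasExt.standard X.Modules
  hom_single_eq_zero _ _ (fun n x => ext_eq_zero M hM U hU n x) a b hab f

end Groth.Agent.PerfA.AffVan
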