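import Groth.Agent.PerfA.PostTower

/-!
# Maps into a complex that is the derived limit of its truncations

* `hom_eq_zero_of_rlim`: if `K` is the derived limit of its truncations and bounded above (or `X` is
  bounded above) and all maps `X ⟶ S_q (H^q K)` vanish, then all maps `X ⟶ K` vanish.
* `bijective_homology`: for `G` in the class, `Hom(S_m G, K) → Hom(H^m S_m G, H^m K)` is bijective.
-/

set_option autoImplicit false

universe w v u

open CategoryTheory Category Limits Pretriangulated Triangulated DerivedCategory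

namespace Groth.Agent.PerfA.PostHom

open PostAbs PostTower

variable {C : Type u} [Category.{v} C] [Abelian C] [HasDerivedCategory.{w} C]

/-- The property that `K` is the derived limit of its truncations `τ_{≥ -n} K`. -/
def IsPostnikov (K : DerivedCategory C) [HasProduct (E K)] : Prop :=
  ∃ c : (∏ᶜ E K) ⟶ K⟦(1 : ℤ)⟧,
      Triangle.mk (Pi.lift (toE K)) (oneSub (trans K)) c ∈ distTriang (DerivedCategory C)

lemma homology_truncGE_zero (X K : DerivedCategory C) (a : ℤ)
    (h : ∀ (q : ℤ) (φ : X ⟶ (singleFunctor C q).obj ((homologyFunctor C q).obj K)), φ = 0)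
    (q : ℤ) (φ : X ⟶ (singleFunctor C q).obj ((homologyFunctor C q).obj
      ((tt.truncGE a).obj K))) : φ = 0 := by
  by_cases h' : a ≤ q
  · have := isIso_homology_truncGEπ K a q h'
    let e := (singleFunctor C q).mapIso (asIso ((homologyFunctor C q).map
      ((tt.truncGEπ a).app K)))
    have h0 := h q (φ ≫ e.inv)
    rw [← cancel_mono e.inv, h0, zero_comp]
  · have hz : IsZero ((homologyFunctor C q).obj ((tt.truncGE a).obj K)) :=
      isZero_of_isGE _ a q (by lia)
    exact ((singleFunctor C q).map_isZero hz).eq_of_tgt _ _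

lemma homology_truncLT_zero (X K : DerivedCategory C) (a : ℤ)
    (h : ∀ (q : ℤ), q < a →
      ∀ (φ : X ⟶ (singleFunctor C q).obj ((homologyFunctor C q).obj K)), φ = 0)
    (q : ℤ) (φ : X ⟶ (singleFunctor C q).obj ((homologyFunctor C q).obj
      ((tt.truncLT a).obj K))) : φ = 0 := by
  by_cases h' : q < a
  · have := isIso_homology_truncLTι K a q h'
    let e := (singleFunctor C q).mapIso (asIso ((homologyFunctor C q).map
      ((tt.truncLTι a).app K)))
    have h0 := h q h' (φ ≫ e.hom)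
    rw [← cancel_mono e.hom, h0, zero_comp]
  · have hz : IsZero ((homologyFunctor C q).obj ((tt.truncLT a).obj K)) :=
      isZero_of_isLE _ (a - 1) q (by lia)
    exact ((singleFunctor C q).map_isZero hz).eq_of_tgt _ _

lemma isLE_truncGE (K : DerivedCategory C) (a b : ℤ) [K.IsLE b] :
    ((tt.truncGE a).obj K).IsLE b := by
  rw [isLE_iff]
  intro i hi
  by_cases h' : a ≤ i
  · have := isIso_homology_truncGEπ K a i h'
    exact (isZero_of_isLE K b i hi).of_iso
      (asIso ((homologyFunctor C i).map ((tt.truncGEπ a).app K))).symm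
  · exact isZero_of_isGE _ a i (by lia)

/-- Vanishing of maps into a bounded above Postnikov-complete complex. -/
theorem hom_eq_zero_of_isLE (K : DerivedCategory C) [HasProduct (E K)] (hK : IsPostnikov K)
    (X : DerivedCategory C) (b : ℤ) [K.IsLE b]
    (h : ∀ (q : ℤ) (φ : X ⟶ (singleFunctor C q).obj ((homologyFunctor C q).obj K)), φ = 0)
    (φ : X ⟶ K) : φ = 0 := by
  obtain ⟨c, hT⟩ := hK
  refine milnor_unique (trans K) _ c hT X (fun k y => trans_lift X K k (h _) y) φ (fun n => ?_)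
  have : ((tt.truncGE (-(n : ℤ))).obj K).IsLE b := isLE_truncGE K _ b
  exact hom_eq_zero_of_bounded X (b + 1 + n).toNat (-(n : ℤ)) b (by lia) (E K n) inferInstance
    this (homology_truncGE_zero X K _ h) _

/-- Five lemma type statement. -/
lemma bijective_comp_of_triangle (T : Triangle (DerivedCategory C)) (hT : T ∈ distTriang _)
    (X : DerivedCategory C) (h1 : ∀ φ : X ⟶ T.obj₁, φ = 0) (h2 : ∀ φ : X ⟶ T.obj₁⟦(1 : ℤ)⟧, φ = 0) :
    Function.Bijective (fun φ : X ⟶ T.obj₂ => φ ≫ T.mor₂) := by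
  constructor
  · intro φ ψ hφψ
    have h3 : (φ - ψ) ≫ T.mor₂ = 0 := by
      rw [Preadditive.sub_comp, sub_eq_zero]
      exact hφψ
    obtain ⟨g, hg⟩ := Triangle.coyoneda_exact₂ _ hT (φ - ψ) h3
    rw [h1 g, zero_comp] at hg
    exact sub_eq_zero.1 hg
  · intro φ
    obtain ⟨g, hg⟩ := Triangle.coyoneda_exact₃ _ hT φ (h2 _)
    exact ⟨g, hg.symm⟩

/-- A detecting class `P` and a class `Qc` of objects such that `Ext^{>0}(G, M) = 0` for `G ∈ P`
and `M ∈ Qc`. -/
structure Acyc (P Qc : ObjectProperty C) : Prop where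
  detects : Detects P
  iso : ∀ ⦃A B : C⦄, (A ≅ B) → Qc A → Qc B
  zero : ∀ ⦃Z : C⦄, IsZero Z → Qc Z
  van : ∀ ⦃G : C⦄, P G → ∀ ⦃M : C⦄, Qc M → ∀ (m n : ℤ), n < m →
    ∀ φ : (singleFunctor C m).obj G ⟶ (singleFunctor C n).obj M, φ = 0

/-- Complexes with cohomology in the class. -/
def CohIn (Qc : ObjectProperty C) : ObjectProperty (DerivedCategory C) :=
  fun K => ∀ q : ℤ, Qc ((homologyFunctor C q).obj K)

section Acyc

variable {P Qc : ObjectProperty C} (hPQ : Acyc P Qc)
include hPQ

lemma Acyc.cohIn_truncGE {K : DerivedCategory C} (hK : CohIn Qc K) (a : ℤ) :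
    CohIn Qc ((tt.truncGE a).obj K) := by
  intro q
  by_cases h' : a ≤ q
  · have := isIso_homology_truncGEπ K a q h'
    exact hPQ.iso (asIso ((homologyFunctor C q).map ((tt.truncGEπ a).app K))) (hK q)
  · exact hPQ.zero (isZero_of_isGE _ a q (by lia))

lemma Acyc.cohIn_truncLT {K : DerivedCategory C} (hK : CohIn Qc K) (a : ℤ) :
    CohIn Qc ((tt.truncLT a).obj K) := by
  intro q
  by_cases h' : q < a
  · have := isIso_homology_truncLTι K a q h'
    exact hPQ.iso (asIso ((homologyFunctor C q).map ((tt.truncLTι a).app K))).symm (hK q)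
  · exact hPQ.zero (isZero_of_isLE _ (a - 1) q (by lia))

lemma Acyc.van_of_cohIn {K : DerivedCategory C} (hK : CohIn Qc K) : Van P K :=
  fun _ hG m q hq φ => hPQ.van hG (hK q) m q hq φ

theorem Acyc.isPostnikov {K : DerivedCategory C} (hK : CohIn Qc K) [HasProduct (E K)] :
    IsPostnikov K :=
  rlim_triangle hPQ.detects (hPQ.van_of_cohIn hK)

variable [HasProductsOfShape ℕ (DerivedCategory C)]

/-- Vanishing of maps `X ⟶ K` for `K` bounded above with cohomology in the class. -/
theorem Acyc.hom_eq_zero_of_isLE {K : DerivedCategory C} (hK : CohIn Qc K)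
    (X : DerivedCategory C) (b : ℤ) [K.IsLE b]
    (h : ∀ (q : ℤ) (φ : X ⟶ (singleFunctor C q).obj ((homologyFunctor C q).obj K)), φ = 0)
    (φ : X ⟶ K) : φ = 0 :=
  PostHom.hom_eq_zero_of_isLE K (hPQ.isPostnikov hK) X b h φ

/-- Vanishing of maps `X ⟶ K` for `X` bounded above, `K` with cohomology in the class. -/
theorem Acyc.hom_eq_zero_of_isLE' {K : DerivedCategory C} (hK : CohIn Qc K)
    (X : DerivedCategory C) (b : ℤ) [X.IsLE b]
    (h : ∀ (q : ℤ), q ≤ b →
      ∀ (φ : X ⟶ (singleFunctor C q).obj ((homologyFunctor C q).obj K)), φ = 0)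
    (φ : X ⟶ K) : φ = 0 := by
  have h1 : φ ≫ (tt.truncGEπ (b + 1)).app K = 0 := TStructure.t.zero _ b (b + 1) (by lia)
  obtain ⟨ψ, hψ⟩ : ∃ ψ : X ⟶ (tt.truncLT (b + 1)).obj K, φ = ψ ≫ (tt.truncLTι (b + 1)).app K :=
    Triangle.coyoneda_exact₂ _ (tt.triangleLTGE_distinguished (b + 1) K) _ h1
  have h2 : ψ = 0 := hPQ.hom_eq_zero_of_isLE (hPQ.cohIn_truncLT hK (b + 1)) X b
    (homology_truncLT_zero X K (b + 1) (fun q hq φ => h q (by lia) φ)) ψ
  rw [hψ, h2, zero_comp]

/-- `Hom(X, K) = Hom(X, τ_{≥ a} K)` if `Hom(X, S_q (H^q K)) = 0` and `Hom(X⟦-1⟧, S_q (H^q K)) = 0`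
for `q < a`. -/
theorem Acyc.bijective_truncGE {K : DerivedCategory C} (hK : CohIn Qc K)
    (X X' : DerivedCategory C) (eX : X'⟦(1 : ℤ)⟧ ≅ X) (a : ℤ)
    (h : ∀ (q : ℤ), q < a →
      ∀ (φ : X ⟶ (singleFunctor C q).obj ((homologyFunctor C q).obj K)), φ = 0)
    (h' : ∀ (q : ℤ), q < a →
      ∀ (φ : X' ⟶ (singleFunctor C q).obj ((homologyFunctor C q).obj K)), φ = 0) :
    Function.Bijective (fun φ : X ⟶ K => φ ≫ (tt.truncGEπ a).app K) := by
  refine bijective_comp_of_triangle _ (tt.triangleLTGE_distinguished a K) X ?_ ?_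
  · intro φ
    exact hPQ.hom_eq_zero_of_isLE (hPQ.cohIn_truncLT hK a) X (a - 1)
      (homology_truncLT_zero X K a h) φ
  · intro φ
    obtain ⟨ψ, hψ⟩ : ∃ ψ : X' ⟶ (tt.truncLT a).obj K, ψ⟦(1 : ℤ)⟧' = eX.hom ≫ φ :=
      (shiftFunctor (DerivedCategory C) (1 : ℤ)).map_surjective _
    have h2 : ψ = 0 := hPQ.hom_eq_zero_of_isLE (hPQ.cohIn_truncLT hK a) X' (a - 1)
      (homology_truncLT_zero X' K a h') ψ
    rw [← cancel_epi eX.hom, ← hψ, h2, Functor.map_zero, comp_zero]
    rfl

omit hPQ [HasProductsOfShape ℕ (DerivedCategory C)] in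
/-- For `K ∈ D^{≥ m}`, maps `S_m G ⟶ K` are the maps `H^m (S_m G) ⟶ H^m K`. -/
lemma bijective_homology_of_isGE (G : C) (K : DerivedCategory C) (m : ℤ) [K.IsGE m] :
    Function.Bijective
      (fun φ : (singleFunctor C m).obj G ⟶ K => (homologyFunctor C m).map φ) := by
  -- reduce to `K = S_m Y`
  have hT := tt.triangleLTGE_distinguished (m + 1) K
  have hLE : ((tt.truncLT (m + 1)).obj K).IsLE m := inferInstance
  have hGE : ((tt.truncLT (m + 1)).obj K).IsGE m := by
    rw [isGE_iff]
    intro i hi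
    have := isIso_homology_truncLTι K (m + 1) i (by lia)
    exact (isZero_of_isGE K m i hi).of_iso
      (asIso ((homologyFunctor C i).map ((tt.truncLTι (m + 1)).app K)))
  obtain ⟨Y, ⟨e⟩⟩ := exists_iso_singleFunctor_obj_of_isGE_of_isLE
    ((tt.truncLT (m + 1)).obj K) m
  have hi := isIso_homology_truncLTι K (m + 1) m (by lia)
  let κ : (singleFunctor C m).obj Y ⟶ K := e.inv ≫ (tt.truncLTι (m + 1)).app K
  have hκ : IsIso ((homologyFunctor C m).map κ) := by
    dsimp only [κ]
    rw [Functor.map_comp]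
    infer_instance
  have hlift : ∀ φ : (singleFunctor C m).obj G ⟶ K, ∃ g : G ⟶ Y,
      φ = (singleFunctor C m).map g ≫ κ := by
    intro φ
    have h1 : φ ≫ (tt.truncGEπ (m + 1)).app K = 0 := TStructure.t.zero _ m (m + 1) (by lia)
    obtain ⟨ψ, hψ⟩ : ∃ ψ : (singleFunctor C m).obj G ⟶ (tt.truncLT (m + 1)).obj K,
        φ = ψ ≫ (tt.truncLTι (m + 1)).app K :=
      Triangle.coyoneda_exact₂ _ hT _ h1
    obtain ⟨g, hg⟩ := (singleFunctor C m).map_surjective (ψ ≫ e.hom)
    exact ⟨g, by rw [hg, hψ]; simp [κ]⟩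
  let i := singleFunctorCompHomologyFunctorIso C m
  have hnat : ∀ g : G ⟶ Y, (homologyFunctor C m).map ((singleFunctor C m).map g) =
      i.hom.app G ≫ g ≫ i.inv.app Y := by
    intro g
    have := i.hom.naturality g
    dsimp at this
    rw [← cancel_mono (i.hom.app Y), this]
    simp
  constructor
  · intro φ ψ hφψ
    obtain ⟨g, rfl⟩ := hlift φ
    obtain ⟨g', rfl⟩ := hlift ψ
    have h2 : (homologyFunctor C m).map ((singleFunctor C m).map g) =
        (homologyFunctor C m).map ((singleFunctor C m).map g') := by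
      rw [← cancel_mono ((homologyFunctor C m).map κ), ← Functor.map_comp, ← Functor.map_comp]
      exact hφψ
    rw [hnat, hnat] at h2
    have h3 : g = g' := by
      rw [← cancel_mono (i.inv.app Y), ← cancel_epi (i.hom.app G)]
      exact h2
    rw [h3]
  · intro f
    refine ⟨(singleFunctor C m).map (i.inv.app G ≫ f ≫ inv ((homologyFunctor C m).map κ) ≫
      i.hom.app Y) ≫ κ, ?_⟩
    dsimp only
    rw [Functor.map_comp, hnat]
    simp

/-- For `G` in the class `P` and `K` with cohomology in `Qc`, maps `S_m G ⟶ K` are the same as maps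
`H^m (S_m G) ⟶ H^m K`, where `H^m (S_m G) ≅ G`. -/
theorem Acyc.bijective_homology {K : DerivedCategory C} (hK : CohIn Qc K) {G : C} (hG : P G)
    (m : ℤ) :
    Function.Bijective
      (fun φ : (singleFunctor C m).obj G ⟶ K => (homologyFunctor C m).map φ) := by
  have h1 := hPQ.bijective_truncGE hK ((singleFunctor C m).obj G)
    ((singleFunctor C (m + 1)).obj G) (((singleFunctors C).shiftIso 1 m (m + 1) (by lia)).app G)
    m (fun q hq φ => hPQ.van hG (hK q) m q hq φ)
    (fun q hq φ => hPQ.van hG (hK q) (m + 1) q (by lia) φ)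
  have h2 := bijective_homology_of_isGE G ((tt.truncGE m).obj K) m
  have h3 := isIso_homology_truncGEπ K m m le_rfl
  have h4 : (fun φ : (singleFunctor C m).obj G ⟶ K =>
      (homologyFunctor C m).map φ) = (fun f => f ≫ inv ((homologyFunctor C m).map
        ((tt.truncGEπ m).app K))) ∘ (fun φ => (homologyFunctor C m).map φ) ∘
          (fun φ : (singleFunctor C m).obj G ⟶ K => φ ≫ (tt.truncGEπ m).app K) := by
    funext φ
    simp
  rw [h4]
  refine Function.Bijective.comp ?_ (h2.comp h1)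
  exact (Iso.homToEquiv (asIso ((homologyFunctor C m).map ((tt.truncGEπ m).app K))).symm).bijective

end Acyc

end Groth.Agent.PerfA.PostHom
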