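import Groth.Prelude.Def_DCoh2
import Groth.Agent.PerfA.PostHom
import Groth.Agent.PerfA.ProjHom
import Groth.Agent.PerfA.ExtZero
import Groth.Agent.PerfA.AffVan
import Groth.Agent.PerfA.QCohSerre
import Groth.Agent.CohqB.QC2
import Mathlib.Algebra.Category.ModuleCat.Projective

/-!
# Quasi-coherent cohomology: the Postnikov machine (classes) for `D(O_X)` and `D(A)`
-/

set_option autoImplicit false

universe w v u

open CategoryTheory Category Limits AlgebraicGeometry DerivedCategory Opposite TopologicalSpace
attribute [local instance] HasDerivedCategory.standard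

namespace Groth.Agent.PerfA.QCohAcyc

open PostAbs PostTower PostHom ExtZero

variable (X : Scheme.{u})

/-- The objects `j_!O_U`, `U` affine. -/
def affOU : ObjectProperty X.Modules := fun G => ∃ U : X.Opens, IsAffineOpen U ∧ Nonempty (G ≅ OU U)

/-- Quasi-coherent modules. -/
def qc : ObjectProperty X.Modules := fun M => Coh.IsQCoh M

variable {X}

/-- A section which vanishes on all affine opens is zero. -/
lemma section_eq_zero (M : X.Modules) (U : X.Opens) (s : Γ(M, U))
    (h : ∀ (V : X.Opens) (hV : V ≤ U), IsAffineOpen V → CohqB.QC2.res M hV s = 0) : s = 0 := by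
  refine CohqB.QC2.section_ext M (fun V : {V : X.Opens // V ≤ U ∧ IsAffineOpen V} => V.1)
    (fun V => V.2.1) ?_ s 0 (fun V => ?_)
  · intro x hx
    obtain ⟨V, hV, hxV, hVU⟩ := Opens.isBasis_iff_nbhd.1 X.isBasis_affineOpens hx
    exact Opens.mem_iSup.2 ⟨⟨V, hVU, hV⟩, hxV⟩
  · rw [h V.1 V.2.1 V.2.2, map_zero]

lemma detects_affOU : Detects (affOU X) := by
  intro A B f hf
  by_contra hcon
  push Not at hcon
  apply hf
  apply Scheme.Modules.hom_ext
  intro U
  ext s
  change f.app U s = 0
  refine section_eq_zero B U _ (fun V hV hVa => ?_)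
  have h1 := hcon (OU V) ⟨V, hVa, ⟨Iso.refl _⟩⟩ (desc (CohqB.QC2.res A hV s))
  rw [desc_comp] at h1
  have h2 : desc (f.app V (CohqB.QC2.res A hV s)) = desc (0 : Γ(B, V)) := by rw [h1, desc_zero]
  have h3 := desc_injective h2
  rw [CohqB.QC2.app_res] at h3
  exact h3

/-- The Postnikov machine for quasi-coherent cohomology. -/
theorem acyc : Acyc (affOU X) (qc X) where
  detects := detects_affOU
  iso _ _ e h := QCohSerre.isQCoh_of_iso e h
  zero _ h := QCohSerre.isQCoh_of_isZero h
  van := by
    rintro G ⟨U, hU, ⟨e⟩⟩ M hM m n hnm φ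
    have h := AffVan.hom_single_OU_eq_zero M hM U hU m n hnm ((singleFunctor X.Modules m).map e.inv ≫ φ)
    rw [← cancel_epi ((singleFunctor X.Modules m).map e.inv), h, comp_zero]

/-- `R` and its isomorphic copies as a class of `R`-modules. -/
def self (R : CommRingCat.{u}) : ObjectProperty (ModuleCat.{u} R) :=
  fun G => Nonempty (G ≅ ModuleCat.of R R)

lemma detects_self (R : CommRingCat.{u}) : Detects (self R) := by
  intro A B f hf
  have : ∃ a : A, f a ≠ 0 := by
    by_contra hcon
    push Not at hcon
    exact hf (by ext a; exact hcon a)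
  obtain ⟨a, ha⟩ := this
  refine ⟨ModuleCat.of R R, ⟨Iso.refl _⟩, ModuleCat.ofHom (LinearMap.toSpanSingleton R A a), ?_⟩
  intro h
  apply ha
  have h1 := congr_arg (fun t => t.hom (1 : R)) h
  simpa using h1

theorem acycMod (R : CommRingCat.{u}) : Acyc (self R) (fun _ : ModuleCat.{u} R => True) where
  detects := detects_self R
  iso _ _ _ _ := trivial
  zero _ _ := trivial
  van := by
    rintro G ⟨e⟩ M - m n hnm φ
    have : Projective (ModuleCat.of R R) := ModuleCat.projective_of_free (Module.Basis.singleton Unit R)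
    have : Projective G := Projective.of_iso e.symm this
    refine ProjHom.eq_zero_of_homology_map_eq_zero G m _ φ ?_
    have hz : IsZero ((homologyFunctor (ModuleCat.{u} R) m).obj
        ((singleFunctor (ModuleCat.{u} R) n).obj M)) := isZero_of_isLE _ n m hnm
    exact hz.eq_of_tgt _ _

end Groth.Agent.PerfA.QCohAcyc
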