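import Groth.Prelude.Def_DCoh2
import Groth.Agent.PerfA.QCohAcyc
import Groth.Agent.Cohder.KInjProd
import Groth.Agent.S0476
import Groth.Agent.S0484

/-!
# K-injective resolutions and countable products in `D(O_X)` and `D(A)`
-/

set_option autoImplicit false

universe w v u

open CategoryTheory Category Limits AlgebraicGeometry DerivedCategory Opposite TopologicalSpace
attribute [local instance] HasDerivedCategory.standard

namespace Groth.Agent.PerfA.QCohRes

section General

variable {C : Type u} [Category.{v} C] [Abelian C] [HasDerivedCategory.{w} C]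

/-- The derived category has products if there are K-injective resolutions. -/
lemma hasProductsOfShape_of_resolutions (J : Type*) [HasProductsOfShape J C]
    (hres : ∀ K : CochainComplex C ℤ, ∃ (I : CochainComplex C ℤ) (s : K ⟶ I),
      I.IsKInjective ∧ QuasiIso s) : HasProductsOfShape J (DerivedCategory C) := by
  have h : ∀ X : J → DerivedCategory C, HasProduct X := by
    intro X
    choose I s hI hs using fun j => hres (Q.objPreimage (X j))
    exact Cohder.KInjProd.hasProduct_of_iso X I hI (fun j =>
      (Q.objObjPreimageIso (X j)).symm ≪≫ @asIso _ _ _ _ (Q.map (s j)) (by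
        have := hs j; infer_instance))
  exact ⟨fun F => hasLimit_of_iso (Discrete.natIsoFunctor (F := F)).symm⟩

end General

variable (X : Scheme.{u})

instance isGrothendieckAbelian : IsGrothendieckAbelian.{u} X.Modules :=
  Groth.Agent.S0484.result _ X.ringCatSheaf

/-- K-injective resolutions of complexes of `O_X`-modules. -/
theorem exists_resolution (K : CochainComplex X.Modules ℤ) :
    ∃ (I : CochainComplex X.Modules ℤ) (s : K ⟶ I), I.IsKInjective ∧ QuasiIso s := by
  obtain ⟨I, s, h1, h2, -⟩ := Groth.Agent.S0476.result K
  exact ⟨I, s, h1, h2⟩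

theorem exists_resolution_mod (R : CommRingCat.{u}) (K : CochainComplex (ModuleCat.{u} R) ℤ) :
    ∃ (I : CochainComplex (ModuleCat.{u} R) ℤ) (s : K ⟶ I), I.IsKInjective ∧ QuasiIso s := by
  obtain ⟨I, s, h1, h2, -⟩ := Groth.Agent.S0476.result K
  exact ⟨I, s, h1, h2⟩

instance hasProductsOfShape_nat : HasProductsOfShape ℕ (DCoh.D X) :=
  hasProductsOfShape_of_resolutions ℕ (exists_resolution X)

instance hasProductsOfShape_nat_mod (R : CommRingCat.{u}) :
    HasProductsOfShape ℕ (DerivedCategory (ModuleCat.{u} R)) :=
  hasProductsOfShape_of_resolutions ℕ (exists_resolution_mod R)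

end Groth.Agent.PerfA.QCohRes
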