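import Groth.Agent.PerfA.Hyp1
import Groth.Agent.PerfA.QCohAcyc
import Groth.Agent.PerfA.QCohRes
import Groth.Agent.PerfA.QCohD
import Groth.Agent.Dcoh.Restrict
import Groth.Agent.PerfA.UnitOU

/-!
# Hypercohomology of `D_QCoh` on affine opens and general vanishing / truncation statements

* `toHD_bijective`: `H^m(U, K) → Γ(U, H^m K)` is bijective for `K ∈ D_QCoh(O_X)` and `U` affine.
* `hom_eq_zero_of_isLE`, `hom_eq_zero_of_isLE'`: for `K ∈ D_QCoh(O_X)` and `X' ∈ D(O_X)` such that all maps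
  `X' ⟶ (H^q K)[-q]` vanish, one of them bounded above, all maps `X' ⟶ K` vanish.
* `bijective_truncGE`.
-/

set_option autoImplicit false

universe u

open CategoryTheory CategoryTheory.Limits AlgebraicGeometry Opposite TopologicalSpace
open DerivedCategory
open Groth.Agent.PerfA.ExtZero Groth.Agent.PerfA.Hyp0 Groth.Agent.PerfA.Hyp1

attribute [local instance] HasDerivedCategory.standard

namespace Groth.Agent.PerfA.HypAffine

open PostAbs PostTower PostHom QCohAcyc QCohRes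

variable {X : Scheme.{u}}

/-- `H^m(U, K) = Γ(U, H^m(K))` for `U` affine and `K ∈ D_QCoh(O_X)`. -/
theorem toHD_bijective (K : DCoh.D X) (hK : DCoh.IsQCohD K) (U : X.Opens) (hU : IsAffineOpen U)
    (m : ℤ) : Function.Bijective (fun φ : P m U ⟶ K => toHD φ) := by
  have h1 := (acyc (X := X)).bijective_homology (K := K) hK (G := OU U) ⟨U, hU, ⟨Iso.refl _⟩⟩ m
  have h2 : (fun φ : P m U ⟶ K => toHD φ) = (homEquiv U (DCoh.HD K m)) ∘
      (fun f => (singleFunctorCompHomologyFunctorIso X.Modules m).inv.app (OU U) ≫ f) ∘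
        (fun φ : P m U ⟶ K => (homologyFunctor X.Modules m).map φ) := rfl
  rw [h2]
  refine (homEquiv U (DCoh.HD K m)).bijective.comp (Function.Bijective.comp ?_ h1)
  exact (Iso.homFromEquiv ((singleFunctorCompHomologyFunctorIso X.Modules m).app (OU U))).bijective

/-- A map out of `j_!O_U[-m]`, `U` affine, to `K ∈ D_QCoh` is zero iff the section of `H^m(K)` is. -/
theorem eq_zero_iff_toHD (K : DCoh.D X) (hK : DCoh.IsQCohD K) (U : X.Opens) (hU : IsAffineOpen U)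
    (m : ℤ) (φ : P m U ⟶ K) : φ = 0 ↔ toHD φ = 0 :=
  ⟨fun h => by rw [h, toHD_zero], fun h => (toHD_bijective K hK U hU m).1 (h.trans toHD_zero.symm)⟩

/-- Vanishing of maps `Y ⟶ K` for `K ∈ D_QCoh` bounded above. -/
theorem hom_eq_zero_of_isLE (K : DCoh.D X) (hK : DCoh.IsQCohD K) (Y : DCoh.D X) (b : ℤ) [K.IsLE b]
    (h : ∀ (q : ℤ) (φ : Y ⟶ (singleFunctor X.Modules q).obj (DCoh.HD K q)), φ = 0)
    (φ : Y ⟶ K) : φ = 0 :=
  (acyc (X := X)).hom_eq_zero_of_isLE (K := K) hK Y b h φ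

/-- Vanishing of maps `Y ⟶ K` for `Y` bounded above and `K ∈ D_QCoh`. -/
theorem hom_eq_zero_of_isLE' (K : DCoh.D X) (hK : DCoh.IsQCohD K) (Y : DCoh.D X) (b : ℤ) [Y.IsLE b]
    (h : ∀ (q : ℤ), q ≤ b → ∀ (φ : Y ⟶ (singleFunctor X.Modules q).obj (DCoh.HD K q)), φ = 0)
    (φ : Y ⟶ K) : φ = 0 :=
  (acyc (X := X)).hom_eq_zero_of_isLE' (K := K) hK Y b h φ

/-- `Hom(Y, K) = Hom(Y, τ_{≥ a} K)`. -/
theorem bijective_truncGE (K : DCoh.D X) (hK : DCoh.IsQCohD K) (Y Y' : DCoh.D X)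
    (eY : Y'⟦(1 : ℤ)⟧ ≅ Y) (a : ℤ)
    (h : ∀ (q : ℤ), q < a → ∀ (φ : Y ⟶ (singleFunctor X.Modules q).obj (DCoh.HD K q)), φ = 0)
    (h' : ∀ (q : ℤ), q < a → ∀ (φ : Y' ⟶ (singleFunctor X.Modules q).obj (DCoh.HD K q)), φ = 0) :
    Function.Bijective (fun φ : Y ⟶ K => φ ≫ (tt.truncGEπ a).app K) :=
  (acyc (X := X)).bijective_truncGE (K := K) hK Y Y' eY a h h'

/-- On an affine scheme, `Hom(O_X[-m], K) → Γ(X, H^m K)` is bijective for `K ∈ D_QCoh(O_X)`. -/
theorem unit_bijective [IsAffine X] (K : DCoh.D X) (hK : DCoh.IsQCohD K) (m : ℤ) :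
    Function.Bijective (fun φ : (singleFunctor X.Modules m).obj (Coh.structureModule X) ⟶ K =>
      Groth.Agent.Dcoh.Restrict.unitEquiv (DCoh.HD K m) (toH φ)) := by
  have h1 := toHD_bijective K hK ⊤ (isAffineOpen_top X) m
  have h2 : (fun φ : (singleFunctor X.Modules m).obj (Coh.structureModule X) ⟶ K =>
      Groth.Agent.Dcoh.Restrict.unitEquiv (DCoh.HD K m) (toH φ)) =
      (fun φ : P m (⊤ : X.Opens) ⟶ K => toHD φ) ∘
        (fun φ => (singleFunctor X.Modules m).map (UnitOU.unitIsoOU X).inv ≫ φ) := by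
    funext φ
    simp only [Function.comp_apply, toHD]
    have h3 := toH_map_comp (m := m) (K := K) (UnitOU.unitIsoOU X).inv φ
    rw [h3, homEquiv_apply, Scheme.Modules.Hom.comp_app]
    change _ = (toH φ).app ⊤ ((UnitOU.unitIsoOU X).inv.app ⊤ (gen ⊤))
    rw [UnitOU.unitIsoOU_inv_app_gen]
    rfl
  rw [h2]
  exact h1.comp (Iso.homFromEquiv
    ((singleFunctor X.Modules m).mapIso (UnitOU.unitIsoOU X))).bijective

end Groth.Agent.PerfA.HypAffine
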