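import Groth.Agent.PerfA.HypAct
import Groth.Agent.Dcoh.DerSch

/-!
# Hypercohomology and `Rf_*`

For `f : X ⟶ S`, `V ⊆ S` open and `K ∈ D(O_X)` we construct the map
`θ : H^m(f⁻¹V, K) → Γ(V, H^m(Rf_*K))`, natural in `K` and `V` and compatible with module structures, and show that it
is locally (on `V`) injective and surjective.
-/

set_option autoImplicit false

universe u

open CategoryTheory CategoryTheory.Limits AlgebraicGeometry Opposite TopologicalSpace
open HomologicalComplex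
open Groth.Agent.PerfA.ExtZero Groth.Agent.PerfA.Hyp0 Groth.Agent.PerfA.Hyp1 Groth.Agent.PerfA.HypAct
open Groth.Agent.Dcoh

attribute [local instance] HasDerivedCategory.standard

namespace Groth.Agent.PerfA.HypTheta

section Chain

variable {S : Scheme.{u}} {L : CochainComplex S.Modules ℤ} {m : ℤ} {V : S.Opens}

/-- A cocycle section whose cohomology class vanishes is locally a coboundary. -/
lemma exists_local_coboundary (z : OU V ⟶ L.X m) (hz : z ≫ L.d m (m + 1) = 0)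
    (h : toHD (ofCocycle z hz) = 0) (x : S) (hx : x ∈ V) :
    ∃ (V' : S.Opens) (hV : V' ≤ V) (y : OU V' ⟶ L.X (m - 1)), x ∈ V' ∧
      y ≫ L.d (m - 1) m = (OUF S).map (homOfLE hV) ≫ z := by
  have h1 : L.liftCycles z (m + 1) (by simp) hz ≫ L.homologyπ m = 0 := by
    have h0 : toH (G := OU V) (ofCocycle z hz) = 0 := (homEquiv V _).injective (by rw [map_zero]; exact h)
    rw [← toH_ofCocycle, h0]
    exact zero_comp
  obtain ⟨G', p, hp, y, hy⟩ := (L.liftCycles_comp_homologyπ_eq_zero_iff_up_to_refinements (m - 1) m (m + 1)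
    (by simp) (by simp) z hz).1 h1
  obtain ⟨V', hV, q, hxV, hq⟩ := exists_local_section p x hx
  refine ⟨V', hV, q ≫ y, hxV, ?_⟩
  rw [Category.assoc, ← hy, ← Category.assoc, hq]

/-- Sections of the cohomology sheaf lift locally to cocycles. -/
lemma exists_local_cocycle (s : Γ(DCoh.HD (DerivedCategory.Q.obj L) m, V)) (x : S) (hx : x ∈ V) :
    ∃ (V' : S.Opens) (hV : V' ≤ V) (z : OU V' ⟶ L.X m) (hz : z ≫ L.d m (m + 1) = 0), x ∈ V' ∧
      toHD (ofCocycle z hz) = (DCoh.HD (DerivedCategory.Q.obj L) m).presheaf.map (homOfLE hV).op s := by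
  let s' : OU V ⟶ L.homology m := desc s ≫ (DerivedCategory.homologyFunctorFactors S.Modules m).hom.app L
  obtain ⟨G', p, hp, z, hz⟩ := surjective_up_to_refinements_of_epi (L.homologyπ m) s'
  obtain ⟨V', hV, q, hxV, hq⟩ := exists_local_section p x hx
  refine ⟨V', hV, (q ≫ z) ≫ L.iCycles m, by simp, hxV, ?_⟩
  have h1 : toH (G := OU V') (ofCocycle ((q ≫ z) ≫ L.iCycles m) (by simp)) =
      desc ((DCoh.HD (DerivedCategory.Q.obj L) m).presheaf.map (homOfLE hV).op s) := by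
    rw [← cancel_mono ((DerivedCategory.homologyFunctorFactors S.Modules m).hom.app L)]
    have e : L.liftCycles ((q ≫ z) ≫ L.iCycles m) (m + 1) (by simp) (by simp) = q ≫ z := by
      rw [← cancel_mono (L.iCycles m), liftCycles_i]
    have e2 : (q ≫ z) ≫ L.homologyπ m = desc ((DCoh.HD (DerivedCategory.Q.obj L) m).presheaf.map (homOfLE hV).op s) ≫
        (DerivedCategory.homologyFunctorFactors S.Modules m).hom.app L := by
      rw [Category.assoc, ← hz, ← Category.assoc, hq, ← map_desc, Category.assoc]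
      rfl
    refine (toH_ofCocycle _ _).trans ?_
    rw [e]
    exact e2
  rw [toHD, h1, homEquiv_apply, desc_app_gen]

end Chain

variable {X S : Scheme.{u}} (f : X ⟶ S)

/-- `f_*` on complexes. -/
noncomputable abbrev pushCx : CochainComplex X.Modules ℤ ⥤ CochainComplex S.Modules ℤ :=
  (Scheme.Modules.pushforward f).mapHomologicalComplex (ComplexShape.up ℤ)

section Adj

/-- `H ⟶ f_*G ⟶ f_*L^m`. -/
noncomputable def pz {G : X.Modules} {H : S.Modules} (η : H ⟶ (Scheme.Modules.pushforward f).obj G)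
    {L : CochainComplex X.Modules ℤ} {m : ℤ} (z : G ⟶ L.X m) : H ⟶ ((pushCx f).obj L).X m :=
  η ≫ (Scheme.Modules.pushforward f).map z

variable {f} in
lemma pz_d {G : X.Modules} {H : S.Modules} (η : H ⟶ (Scheme.Modules.pushforward f).obj G)
    {L : CochainComplex X.Modules ℤ} {m : ℤ} (z : G ⟶ L.X m) (n : ℤ) :
    pz f η z ≫ ((pushCx f).obj L).d m n = pz f η (z ≫ L.d m n) :=
  (Category.assoc _ _ _).trans (congrArg (η ≫ ·) ((Scheme.Modules.pushforward f).map_comp z (L.d m n)).symm)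

variable {f} in
lemma pz_f {G : X.Modules} {H : S.Modules} (η : H ⟶ (Scheme.Modules.pushforward f).obj G)
    {L L' : CochainComplex X.Modules ℤ} {m : ℤ} (z : G ⟶ L.X m) (g : L ⟶ L') :
    pz f η z ≫ ((pushCx f).map g).f m = pz f η (z ≫ g.f m) :=
  (Category.assoc _ _ _).trans (congrArg (η ≫ ·) ((Scheme.Modules.pushforward f).map_comp z (g.f m)).symm)

variable {f} in
lemma pz_zero {G : X.Modules} {H : S.Modules} (η : H ⟶ (Scheme.Modules.pushforward f).obj G)
    {L : CochainComplex X.Modules ℤ} {m : ℤ} : pz f η (0 : G ⟶ L.X m) = 0 :=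
  (congrArg (η ≫ ·) (Functor.map_zero _ _ _)).trans comp_zero

variable {f} in
lemma pz_cocycle {G : X.Modules} {H : S.Modules} (η : H ⟶ (Scheme.Modules.pushforward f).obj G)
    {L : CochainComplex X.Modules ℤ} {m : ℤ} (z : G ⟶ L.X m) (hz : z ≫ L.d m (m + 1) = 0) :
    pz f η z ≫ ((pushCx f).obj L).d m (m + 1) = 0 := by
  rw [pz_d, hz, pz_zero]

variable {f} in
lemma comp_pz {G : X.Modules} {H H' : S.Modules} (a : H' ⟶ H) (η : H ⟶ (Scheme.Modules.pushforward f).obj G)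
    {L : CochainComplex X.Modules ℤ} {m : ℤ} (z : G ⟶ L.X m) :
    a ≫ pz f η z = pz f (a ≫ η) z :=
  (Category.assoc _ _ _).symm

variable {f} in
lemma pz_comp_map {G G' : X.Modules} {H : S.Modules} (η : H ⟶ (Scheme.Modules.pushforward f).obj G')
    (b : G' ⟶ G) {L : CochainComplex X.Modules ℤ} {m : ℤ} (z : G ⟶ L.X m) :
    pz f (η ≫ (Scheme.Modules.pushforward f).map b) z = pz f η (b ≫ z) :=
  (Category.assoc _ _ _).trans (congrArg (η ≫ ·) ((Scheme.Modules.pushforward f).map_comp b z).symm)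

variable [DCoh.HasRpush f]

/-- The map `H[-m] ⟶ Rf_*(G[-m])` attached to `H ⟶ f_* G`. -/
noncomputable def adjS {G : X.Modules} {H : S.Modules} (η : H ⟶ (Scheme.Modules.pushforward f).obj G) (m : ℤ) :
    (DerivedCategory.singleFunctor S.Modules m).obj H ⟶
      (DCoh.Rpush f).obj ((DerivedCategory.singleFunctor X.Modules m).obj G) :=
  ofCocycle _ (pz_cocycle (L := (single X.Modules (.up ℤ) m).obj G) η (singleObjXSelf (.up ℤ) m G).inv (by simp)) ≫
    (DerSch.rpushUnitQ f).app ((single X.Modules (.up ℤ) m).obj G)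

/-- `adjS` followed by the image of a cocycle. -/
lemma adjS_comp_ofCocycle {G : X.Modules} {H : S.Modules} (η : H ⟶ (Scheme.Modules.pushforward f).obj G) {m : ℤ}
    {L : CochainComplex X.Modules ℤ} (z : G ⟶ L.X m) (hz : z ≫ L.d m (m + 1) = 0) :
    adjS f η m ≫ (DCoh.Rpush f).map (ofCocycle z hz) =
      ofCocycle (pz f η z) (pz_cocycle η z hz) ≫ (DerSch.rpushUnitQ f).app L := by
  have h1 : (DerSch.rpushUnitQ f).app ((single X.Modules (.up ℤ) m).obj G) ≫ (DCoh.Rpush f).map (ofCocycle z hz) =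
      DerivedCategory.Q.map ((pushCx f).map (cocycleHom z hz)) ≫ (DerSch.rpushUnitQ f).app L :=
    ((DerSch.rpushUnitQ f).naturality (cocycleHom z hz)).symm
  rw [adjS, Category.assoc]
  refine (congrArg (_ ≫ ·) h1).trans ?_
  rw [← Category.assoc, ofCocycle_comp]
  congr 2
  rw [pz_f]
  congr 1
  rw [cocycleHom_f, Iso.inv_hom_id_assoc]

/-- Naturality of `adjS`. -/
lemma map_adjS {G G' : X.Modules} {H H' : S.Modules} (η : H ⟶ (Scheme.Modules.pushforward f).obj G)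
    (η' : H' ⟶ (Scheme.Modules.pushforward f).obj G') (a : H' ⟶ H) (b : G' ⟶ G)
    (hab : a ≫ η = η' ≫ (Scheme.Modules.pushforward f).map b) (m : ℤ) :
    (DerivedCategory.singleFunctor S.Modules m).map a ≫ adjS f η m =
      adjS f η' m ≫ (DCoh.Rpush f).map ((DerivedCategory.singleFunctor X.Modules m).map b) := by
  have hd : (singleObjXSelf (.up ℤ) m G).inv ≫ ((single X.Modules (.up ℤ) m).obj G).d m (m + 1) = 0 := by simp
  have hz : (b ≫ (singleObjXSelf (.up ℤ) m G).inv) ≫ ((single X.Modules (.up ℤ) m).obj G).d m (m + 1) = 0 := by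
    rw [Category.assoc, hd, comp_zero]
  have hb : (DerivedCategory.singleFunctor X.Modules m).map b =
      ofCocycle (b ≫ (singleObjXSelf (.up ℤ) m G).inv) hz := by
    refine congrArg DerivedCategory.Q.map (?_ : (single X.Modules (.up ℤ) m).map b = _)
    apply HomologicalComplex.from_single_hom_ext
    rw [single_map_f_self, cocycleHom_f]
  refine Eq.trans ?_ (congrArg (fun t => adjS f η' m ≫ (DCoh.Rpush f).map t) hb).symm
  refine Eq.trans ?_ (adjS_comp_ofCocycle f η' (b ≫ (singleObjXSelf (.up ℤ) m G).inv) hz).symm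
  rw [adjS, ← Category.assoc, map_ofCocycle]
  congr 2
  rw [comp_pz, hab, pz_comp_map]

end Adj

section Theta

/-- The map `j_! O_V ⟶ f_* (j_! O_{f⁻¹V})`. -/
noncomputable def ηU (V : S.Opens) : OU V ⟶ (Scheme.Modules.pushforward f).obj (OU (f ⁻¹ᵁ V)) :=
  desc (M := (Scheme.Modules.pushforward f).obj (OU (f ⁻¹ᵁ V))) (gen (f ⁻¹ᵁ V))

lemma ηU_comp_map_desc (V : S.Opens) {M : X.Modules} (s : Γ(M, f ⁻¹ᵁ V)) :
    ηU f V ≫ (Scheme.Modules.pushforward f).map (desc s) =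
      desc (M := (Scheme.Modules.pushforward f).obj M) s := by
  apply ExtZero.hom_ext
  rw [ηU, desc_comp, desc_app_gen, desc_app_gen, Scheme.Modules.pushforward_map_app]
  exact desc_app_gen s

lemma map_ηU {V V' : S.Opens} (h : V' ≤ V) :
    (OUF S).map (homOfLE h) ≫ ηU f V =
      ηU f V' ≫ (Scheme.Modules.pushforward f).map ((OUF X).map (homOfLE (f.preimage_mono h))) := by
  obtain ⟨s, hs⟩ := desc_surjective ((OUF X).map (homOfLE (f.preimage_mono h)))
  rw [hs, ηU_comp_map_desc, ηU, map_desc]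
  congr 1
  have h1 : s = ((OUF X).map (homOfLE (f.preimage_mono h))).app _ (gen _) := by
    rw [hs, desc_app_gen]
  rw [h1, OUF_map_app_gen]
  rfl

lemma act_ηU {V : S.Opens} (r : Γ(S, V)) :
    act r ≫ ηU f V = ηU f V ≫ (Scheme.Modules.pushforward f).map (act (f.app V r)) := by
  rw [act, act, ηU_comp_map_desc, desc_comp]
  congr 1
  rw [Scheme.Modules.Hom.app_smul, ηU, desc_app_gen]
  rfl

variable [DCoh.HasRpush f]

/-- The map `H^m(f⁻¹V, K) → H^m(V, Rf_*K)`. -/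
noncomputable def adjP {m : ℤ} {K : DCoh.D X} {V : S.Opens} (φ : P m (f ⁻¹ᵁ V) ⟶ K) :
    P m V ⟶ (DCoh.Rpush f).obj K :=
  adjS f (ηU f V) m ≫ (DCoh.Rpush f).map φ

lemma adjP_comp {m : ℤ} {K L : DCoh.D X} {V : S.Opens} (φ : P m (f ⁻¹ᵁ V) ⟶ K) (g : K ⟶ L) :
    adjP f (φ ≫ g) = adjP f φ ≫ (DCoh.Rpush f).map g := by
  rw [adjP, adjP, Functor.map_comp, Category.assoc]

lemma adjP_res {m : ℤ} {K : DCoh.D X} {V V' : S.Opens} (h : V' ≤ V) (φ : P m (f ⁻¹ᵁ V) ⟶ K) :
    adjP f (res (f.preimage_mono h) φ) = res h (adjP f φ) := by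
  rw [adjP, adjP, res, res, Functor.map_comp, ← Category.assoc, ← Category.assoc]
  congr 1
  exact (map_adjS f (ηU f V) (ηU f V') _ _ (map_ηU f h) m).symm

lemma adjP_smul {m : ℤ} {K : DCoh.D X} {V : S.Opens} (r : Γ(S, V)) (φ : P m (f ⁻¹ᵁ V) ⟶ K) :
    adjP f (f.app V r • φ) = r • adjP f φ := by
  rw [adjP, adjP, smul_def, smul_def, Functor.map_comp, ← Category.assoc, ← Category.assoc]
  congr 1
  exact (map_adjS f (ηU f V) (ηU f V) _ _ (act_ηU f r) m).symm

lemma additive_Rpush : (DCoh.Rpush f).Additive := by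
  let := DerSch.rpushCommShift f
  have := DerSch.rpush_isTriangulated f
  infer_instance

lemma adjP_add {m : ℤ} {K : DCoh.D X} {V : S.Opens} (φ ψ : P m (f ⁻¹ᵁ V) ⟶ K) :
    adjP f (φ + ψ) = adjP f φ + adjP f ψ := by
  have := additive_Rpush f
  rw [adjP, adjP, adjP, Functor.map_add, Preadditive.comp_add]

lemma adjP_zero {m : ℤ} {K : DCoh.D X} {V : S.Opens} :
    adjP f (0 : P m (f ⁻¹ᵁ V) ⟶ K) = 0 := by
  have := additive_Rpush f
  rw [adjP, Functor.map_zero, comp_zero]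

/-- The map `H^m(f⁻¹V, K) → Γ(V, H^m(Rf_*K))`. -/
noncomputable def θ {m : ℤ} {K : DCoh.D X} {V : S.Opens} (φ : P m (f ⁻¹ᵁ V) ⟶ K) :
    Γ(DCoh.HD ((DCoh.Rpush f).obj K) m, V) := toHD (adjP f φ)

lemma θ_comp {m : ℤ} {K L : DCoh.D X} {V : S.Opens} (φ : P m (f ⁻¹ᵁ V) ⟶ K) (g : K ⟶ L) :
    θ f (φ ≫ g) =
      ((DerivedCategory.homologyFunctor S.Modules m).map ((DCoh.Rpush f).map g)).app V (θ f φ) := by
  rw [θ, adjP_comp, toHD_comp, θ]

lemma θ_res {m : ℤ} {K : DCoh.D X} {V V' : S.Opens} (h : V' ≤ V) (φ : P m (f ⁻¹ᵁ V) ⟶ K) :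
    θ f (res (f.preimage_mono h) φ) =
      (DCoh.HD ((DCoh.Rpush f).obj K) m).presheaf.map (homOfLE h).op (θ f φ) := by
  rw [θ, adjP_res, toHD_res, θ]

lemma θ_smul {m : ℤ} {K : DCoh.D X} {V : S.Opens} (r : Γ(S, V)) (φ : P m (f ⁻¹ᵁ V) ⟶ K) :
    θ f (f.app V r • φ) = r • θ f φ := by
  rw [θ, adjP_smul, toHD_smul, θ]

lemma θ_add {m : ℤ} {K : DCoh.D X} {V : S.Opens} (φ ψ : P m (f ⁻¹ᵁ V) ⟶ K) :
    θ f (φ + ψ) = θ f φ + θ f ψ := by
  rw [θ, adjP_add, toHD_add, θ, θ]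

lemma θ_zero {m : ℤ} {K : DCoh.D X} {V : S.Opens} :
    θ f (0 : P m (f ⁻¹ᵁ V) ⟶ K) = 0 := by
  rw [θ, adjP_zero, toHD_zero]

/-- Reduction to `K = Q I` with `I` K-injective. -/
lemma exists_kInjective_iso (K : DCoh.D X) :
    ∃ (I : CochainComplex X.Modules ℤ), I.IsKInjective ∧ Nonempty (K ≅ DerivedCategory.Q.obj I) := by
  obtain ⟨K', ⟨e⟩⟩ : ∃ K', Nonempty (DerivedCategory.Q.obj K' ≅ K) :=
    ⟨_, ⟨DerivedCategory.Q.objObjPreimageIso K⟩⟩
  obtain ⟨I, f, hI, hf⟩ := DerSch.hasKInj X K'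
  exact ⟨I, hI, ⟨e.symm ≪≫ asIso (DerivedCategory.Q.map f)⟩⟩

/-- `θ` is locally injective. -/
theorem θ_locally_injective {m : ℤ} {K : DCoh.D X} {V : S.Opens} (φ : P m (f ⁻¹ᵁ V) ⟶ K)
    (h : θ f φ = 0) (x : S) (hx : x ∈ V) :
    ∃ (V' : S.Opens) (hV : V' ≤ V), x ∈ V' ∧ res (f.preimage_mono hV) φ = 0 := by
  obtain ⟨I, hI, ⟨e⟩⟩ := exists_kInjective_iso K
  have hU := DerSch.isIso_rpushUnitQ_app f I hI
  obtain ⟨z, hz, hφ⟩ := exists_cocycle_of_isKInjective (φ ≫ e.hom)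
  have h1 : θ f (φ ≫ e.hom) = 0 := by rw [θ_comp, h, map_zero]
  have h2 : toHD (ofCocycle (pz f (ηU f V) z) (pz_cocycle _ z hz)) = 0 := by
    have h3 : toHD (ofCocycle (pz f (ηU f V) z) (pz_cocycle _ z hz) ≫ (DerSch.rpushUnitQ f).app I) = 0 := by
      rw [← adjS_comp_ofCocycle f (ηU f V) z hz, ← hφ]
      exact h1
    have h4 := toHD_comp (ofCocycle (pz f (ηU f V) z) (pz_cocycle _ z hz) ≫ (DerSch.rpushUnitQ f).app I)
      (inv ((DerSch.rpushUnitQ f).app I))
    rw [Category.assoc, IsIso.hom_inv_id, Category.comp_id, h3, map_zero] at h4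
    exact h4
  obtain ⟨V', hV, y, hxV, hy⟩ := exists_local_coboundary _ _ h2 x hx
  obtain ⟨t, ht⟩ := desc_surjective y
  obtain ⟨s, hs⟩ := desc_surjective z
  refine ⟨V', hV, hxV, ?_⟩
  rw [← cancel_mono e.hom, zero_comp, ← res_comp, hφ, res]
  refine (map_ofCocycle z hz _).trans ?_
  refine ofCocycle_eq_zero (n := m - 1) (by lia) _ _ (desc (M := I.X (m - 1)) (U := f ⁻¹ᵁ V') t) ?_
  subst hs ht
  rw [desc_comp, map_desc]
  have h5 : pz f (ηU f V) (desc s) = desc (M := ((pushCx f).obj I).X m) s := ηU_comp_map_desc f V s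
  rw [h5, map_desc, desc_comp] at hy
  have h6 := desc_injective (U := V') (M := ((pushCx f).obj I).X m) hy
  exact congrArg (desc (M := I.X m) (U := f ⁻¹ᵁ V')) h6

/-- `θ` is locally surjective. -/
theorem θ_locally_surjective {m : ℤ} {K : DCoh.D X} {V : S.Opens}
    (s : Γ(DCoh.HD ((DCoh.Rpush f).obj K) m, V)) (x : S) (hx : x ∈ V) :
    ∃ (V' : S.Opens) (hV : V' ≤ V) (φ : P m (f ⁻¹ᵁ V') ⟶ K), x ∈ V' ∧
      θ f φ = (DCoh.HD ((DCoh.Rpush f).obj K) m).presheaf.map (homOfLE hV).op s := by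
  obtain ⟨I, hI, ⟨e⟩⟩ := exists_kInjective_iso K
  have hU := DerSch.isIso_rpushUnitQ_app f I hI
  let a : (DCoh.Rpush f).obj K ⟶ DerivedCategory.Q.obj ((pushCx f).obj I) :=
    (DCoh.Rpush f).map e.hom ≫ inv ((DerSch.rpushUnitQ f).app I)
  obtain ⟨V', hV, z, hz, hxV, hzs⟩ := exists_local_cocycle
    (((DerivedCategory.homologyFunctor S.Modules m).map a).app V s) x hx
  obtain ⟨t, ht⟩ := desc_surjective z
  have hz' : desc (M := I.X m) (U := f ⁻¹ᵁ V') t ≫ I.d m (m + 1) = 0 := by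
    rw [desc_comp]
    rw [ht, desc_comp] at hz
    have h0 := desc_injective (hz.trans desc_zero.symm)
    exact (congrArg (desc (M := I.X (m + 1)) (U := f ⁻¹ᵁ V')) h0).trans desc_zero
  refine ⟨V', hV, ofCocycle (desc (M := I.X m) (U := f ⁻¹ᵁ V') t) hz' ≫ e.inv, hxV, ?_⟩
  have h1 : adjP f (ofCocycle (desc (M := I.X m) (U := f ⁻¹ᵁ V') t) hz') =
      ofCocycle z hz ≫ (DerSch.rpushUnitQ f).app I := by
    refine (adjS_comp_ofCocycle f (ηU f V') _ hz').trans ?_
    congr 2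
    rw [ht]
    exact ηU_comp_map_desc f V' t
  rw [θ, adjP_comp, h1, Category.assoc, toHD_comp, hzs]
  have h2 : ((DerivedCategory.homologyFunctor S.Modules m).map a).app V'
      ((DCoh.HD ((DCoh.Rpush f).obj K) m).presheaf.map (homOfLE hV).op s) =
      (DCoh.HD (DerivedCategory.Q.obj ((pushCx f).obj I)) m).presheaf.map (homOfLE hV).op
        (((DerivedCategory.homologyFunctor S.Modules m).map a).app V s) :=
    NatTrans.naturality_apply
      ((DerivedCategory.homologyFunctor S.Modules m).map a).mapPresheaf (homOfLE hV).op s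
  have h3 : a ≫ (DerSch.rpushUnitQ f).app I ≫ (DCoh.Rpush f).map e.inv = 𝟙 _ := by
    simp only [a, Category.assoc]
    rw [IsIso.inv_hom_id_assoc, ← Functor.map_comp, e.hom_inv_id, CategoryTheory.Functor.map_id]
  have h4 : ((DerivedCategory.homologyFunctor S.Modules m).map a).app V' ≫
      ((DerivedCategory.homologyFunctor S.Modules m).map
        ((DerSch.rpushUnitQ f).app I ≫ (DCoh.Rpush f).map e.inv)).app V' = 𝟙 _ := by
    rw [← Scheme.Modules.Hom.comp_app, ← Functor.map_comp, h3, CategoryTheory.Functor.map_id,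
      Scheme.Modules.Hom.id_app]
  rw [← h2]
  exact congr($(h4) _)

end Theta

end Groth.Agent.PerfA.HypTheta
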