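import Groth.Agent.PerfA.HypLoc
import Groth.Agent.PerfA.HypTheta

/-!
# `Rf_*` and quasi-coherence

For `f : X ⟶ S` quasi-compact and quasi-separated, `K ∈ D_QCoh(O_X)`, and `W ⊆ S` affine, the map
`θ : H^m(f⁻¹W, K) → Γ(W, H^m(Rf_*K))` is bijective, and `H^m(Rf_*K)` is quasi-coherent.
-/

set_option autoImplicit false

universe u

open CategoryTheory CategoryTheory.Limits AlgebraicGeometry Opposite TopologicalSpace
open Groth.Agent.PerfA.ExtZero Groth.Agent.PerfA.Hyp0 Groth.Agent.PerfA.Hyp1 Groth.Agent.PerfA.HypAct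
open Groth.Agent.PerfA.HypBound Groth.Agent.PerfA.HypLoc Groth.Agent.PerfA.HypTheta
open Groth.Agent.CohqB

attribute [local instance] HasDerivedCategory.standard

namespace Groth.Agent.PerfA.HypQC

/-- An ideal of functions on an affine open which locally contains an invertible function is the unit ideal. -/
lemma ideal_eq_top {S : Scheme.{u}} {W : S.Opens} (hW : IsAffineOpen W) (I : Ideal Γ(S, W))
    (h : ∀ x ∈ W, ∃ g ∈ I, x ∈ S.basicOpen g) : I = ⊤ := by
  have h1 : (⨆ g : (I : Set Γ(S, W)), S.basicOpen (g : Γ(S, W))) = W := by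
    apply le_antisymm
    · exact iSup_le fun g => S.basicOpen_le _
    · intro x hx
      obtain ⟨g, hg, hxg⟩ := h x hx
      exact Opens.mem_iSup.2 ⟨⟨g, hg⟩, hxg⟩
  have h2 := hW.iSup_basicOpen_eq_self_iff.1 h1
  rwa [Ideal.span_eq] at h2

variable {X S : Scheme.{u}} (f : X ⟶ S)

section Loc

variable [QuasiCompact f] [QuasiSeparated f] {K : DCoh.D X} (hK : AffBij K) (hK' : DCoh.IsQCohD K) {m : ℤ}

include hK hK'

lemma exists_pow_smul {W : S.Opens} (hW : IsAffineOpen W) (g : Γ(S, W)) (φ : P m (f ⁻¹ᵁ W) ⟶ K)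
    (h : res (f.preimage_mono (S.basicOpen_le g)) φ = 0) : ∃ n : ℕ, f.app W (g ^ n) • φ = 0 := by
  have hL := locAt (U := f ⁻¹ᵁ W) (f.isCompact_preimage hW.isCompact)
    (f.isQuasiSeparated_preimage hW.isQuasiSeparated) (f.app W g) hK hK'
  obtain ⟨n, hn⟩ := hL.eq_zero m (f ⁻¹ᵁ (S.basicOpen g)) (f.preimage_mono (S.basicOpen_le g)) (by
    rw [Scheme.preimage_basicOpen]
    exact (inf_eq_right.2 (X.basicOpen_le _)).symm) φ h
  refine ⟨n, ?_⟩
  rw [pw] at hn
  rw [map_pow]
  convert hn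
  change (f.app W g) ^ n = X.presheaf.map (𝟙 _) ((f.app W g) ^ n)
  rw [CategoryTheory.Functor.map_id]
  rfl

lemma exists_extend {W : S.Opens} (hW : IsAffineOpen W) (g : Γ(S, W))
    (ψ : P m (f ⁻¹ᵁ (S.basicOpen g)) ⟶ K) :
    ∃ (n : ℕ) (φ : P m (f ⁻¹ᵁ W) ⟶ K), res (f.preimage_mono (S.basicOpen_le g)) φ =
      f.app (S.basicOpen g) ((QC2.resR (S.basicOpen_le g) g) ^ n) • ψ := by
  have hL := locAt (U := f ⁻¹ᵁ W) (f.isCompact_preimage hW.isCompact)
    (f.isQuasiSeparated_preimage hW.isQuasiSeparated) (f.app W g) hK hK'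
  obtain ⟨n, φ, hφ⟩ := hL.exists_lift m (f ⁻¹ᵁ (S.basicOpen g)) (f.preimage_mono (S.basicOpen_le g)) (by
    rw [Scheme.preimage_basicOpen]
    exact (inf_eq_right.2 (X.basicOpen_le _)).symm) ψ
  refine ⟨n, φ, hφ.trans ?_⟩
  rw [pw]
  congr 1
  rw [← map_pow, ← map_pow]
  exact congr($(f.naturality (homOfLE (S.basicOpen_le g)).op) (g ^ n)).symm

variable [DCoh.HasRpush f]

theorem θ_eq_zero {W : S.Opens} (hW : IsAffineOpen W) (φ : P m (f ⁻¹ᵁ W) ⟶ K) (h : θ f φ = 0) :
    φ = 0 := by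
  let I : Ideal Γ(S, W) :=
    { carrier := {r | f.app W r • φ = 0}
      add_mem' := fun {a b} ha hb => by
        change f.app W (a + b) • φ = 0
        rw [map_add, add_smul, show f.app W a • φ = 0 from ha, show f.app W b • φ = 0 from hb, add_zero]
      zero_mem' := by
        change f.app W 0 • φ = 0
        rw [map_zero, zero_smul]
      smul_mem' := fun c x hx => by
        change f.app W (c * x) • φ = 0
        rw [map_mul, mul_smul, show f.app W x • φ = 0 from hx, smul_zero] }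
  have hI : I = ⊤ := by
    apply ideal_eq_top hW
    intro x hx
    obtain ⟨V', hV, hxV, hφ⟩ := θ_locally_injective f φ h x hx
    obtain ⟨g, hg, hxg⟩ := hW.exists_basicOpen_le ⟨x, hxV⟩ hx
    have h1 : res (f.preimage_mono (S.basicOpen_le g)) φ = 0 := by
      have := congrArg (res (f.preimage_mono hg)) hφ
      rwa [res_res, res_zero] at this
    obtain ⟨n, hn⟩ := exists_pow_smul f hK hK' hW g φ h1
    refine ⟨g ^ (n + 1), ?_, ?_⟩
    · change f.app W (g ^ (n + 1)) • φ = 0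
      rw [pow_succ', map_mul, mul_smul, hn, smul_zero]
    · rw [S.basicOpen_pow g (Nat.succ_pos n)]
      exact hxg
  have h1 : (1 : Γ(S, W)) ∈ I := hI ▸ Submodule.mem_top
  have h2 : f.app W 1 • φ = 0 := h1
  rwa [map_one, one_smul] at h2

theorem θ_injective {W : S.Opens} (hW : IsAffineOpen W) :
    Function.Injective (θ f : (P m (f ⁻¹ᵁ W) ⟶ K) → _) := by
  intro φ ψ h
  rw [← sub_eq_zero]
  apply θ_eq_zero f hK hK' hW
  have h1 : θ f (φ - ψ) + θ f ψ = θ f φ := by rw [← θ_add, sub_add_cancel]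
  rwa [h, add_eq_right] at h1

/-- Sections of `H^m(Rf_*K)` over `W` vanishing on `D(g)` are `g`-power torsion. -/
theorem exists_pow_smul_section {W : S.Opens} (hW : IsAffineOpen W) (g : Γ(S, W))
    (t : Γ(DCoh.HD ((DCoh.Rpush f).obj K) m, W)) (ht : QC2.res _ (S.basicOpen_le g) t = 0) :
    ∃ n : ℕ, g ^ n • t = 0 := by
  have key : ∃ (V : S.Opens) (hV : V ≤ W) (n : ℕ), (W : Set S) ⊆ V ∧ QC2.res _ hV (g ^ n • t) = 0 := by
    refine IsCompact.induction_on (p := fun A => ∃ (V : S.Opens) (hV : V ≤ W) (n : ℕ), A ⊆ V ∧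
      QC2.res _ hV (g ^ n • t) = 0) hW.isCompact ?_ ?_ ?_ ?_
    · refine ⟨⊥, bot_le, 0, by simp, ?_⟩
      exact QC2.section_ext _ (fun i : Empty => i.elim) (fun i => i.elim) bot_le _ _ (fun i => i.elim)
    · rintro A B hAB ⟨V, hV, n, hBV, h⟩
      exact ⟨V, hV, n, hAB.trans hBV, h⟩
    · rintro A B ⟨V, hV, n, hAV, h⟩ ⟨V', hV', n', hBV, h'⟩
      refine ⟨V ⊔ V', sup_le hV hV', n + n', ?_, ?_⟩
      · rw [Opens.coe_sup]
        exact Set.union_subset_union hAV hBV
      · refine QC2.section_ext _ (fun i : Bool => if i then V else V')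
          (fun i => by cases i <;> simp) ?_ _ _ ?_
        · refine sup_le ?_ ?_
          · exact le_iSup_of_le true (by simp)
          · exact le_iSup_of_le false (by simp)
        · rintro (_ | _)
          · simp only [map_zero]
            rw [QC2.res_res]
            change QC2.res _ hV' _ = 0
            rw [pow_add, mul_smul, QC2.res_smul, h', smul_zero]
          · simp only [map_zero]
            rw [QC2.res_res]
            change QC2.res _ hV _ = 0
            rw [add_comm, pow_add, mul_smul, QC2.res_smul, h, smul_zero]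
    · intro x hx
      obtain ⟨V', hV, ψ, hxV, hψ⟩ := θ_locally_surjective f t x hx
      obtain ⟨r, hr, hxr⟩ := hW.exists_basicOpen_le ⟨x, hxV⟩ hx
      -- restrict to `D(r)`
      have hDr : IsAffineOpen (S.basicOpen r) := hW.basicOpen r
      let g' : Γ(S, S.basicOpen r) := QC2.resR (S.basicOpen_le r) g
      have hb : S.basicOpen g' = S.basicOpen r ⊓ S.basicOpen g := Scheme.basicOpen_res _ _ _
      have hθ : θ f (res (f.preimage_mono hr) ψ) = QC2.res _ (S.basicOpen_le r) t := by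
        rw [θ_res, hψ]
        exact QC2.res_res _ hV hr t
      have h1 : res (f.preimage_mono (S.basicOpen_le g')) (res (f.preimage_mono hr) ψ) = 0 := by
        apply θ_eq_zero f hK hK' (hDr.basicOpen g')
        rw [θ_res, hθ]
        refine (QC2.res_res _ (S.basicOpen_le r) (S.basicOpen_le g') t).trans ?_
        have h2 : S.basicOpen g' ≤ S.basicOpen g := by rw [hb]; exact inf_le_right
        have h3 := congrArg (QC2.res _ h2) ht
        rw [QC2.res_res, map_zero] at h3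
        exact h3
      obtain ⟨n, hn⟩ := exists_pow_smul f hK hK' hDr g' _ h1
      refine ⟨(S.basicOpen r : Set S), ?_, S.basicOpen r, S.basicOpen_le r, n, subset_rfl, ?_⟩
      · exact mem_nhdsWithin_of_mem_nhds ((S.basicOpen r).isOpen.mem_nhds hxr)
      · have h2 := congrArg (θ f) hn
        rw [θ_smul, θ_zero, hθ] at h2
        rw [QC2.res_smul, map_pow]
        exact h2
  obtain ⟨V, hV, n, hWV, h⟩ := key
  refine ⟨n, ?_⟩
  obtain rfl : V = W := le_antisymm hV hWV
  simpa using h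

/-- `H^m(f⁻¹W, K) → Γ(W, H^m(Rf_*K))` is bijective for `W` affine. -/
theorem θ_surjective {W : S.Opens} (hW : IsAffineOpen W) :
    Function.Surjective (θ f : (P m (f ⁻¹ᵁ W) ⟶ K) → _) := by
  intro s
  let J : Ideal Γ(S, W) :=
    { carrier := {r | ∃ φ : P m (f ⁻¹ᵁ W) ⟶ K, θ f φ = r • s}
      add_mem' := by
        rintro a b ⟨φ, hφ⟩ ⟨ψ, hψ⟩
        exact ⟨φ + ψ, by rw [θ_add, hφ, hψ, add_smul]⟩
      zero_mem' := ⟨0, by rw [θ_zero, zero_smul]⟩
      smul_mem' := by
        rintro c x ⟨φ, hφ⟩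
        exact ⟨f.app W c • φ, by rw [θ_smul, hφ, smul_eq_mul, mul_smul]⟩ }
  have hJ : J = ⊤ := by
    apply ideal_eq_top hW
    intro x hx
    obtain ⟨V', hV, φ', hxV, hφ'⟩ := θ_locally_surjective f s x hx
    obtain ⟨g, hg, hxg⟩ := hW.exists_basicOpen_le ⟨x, hxV⟩ hx
    have hθ : θ f (res (f.preimage_mono hg) φ') = QC2.res _ (S.basicOpen_le g) s := by
      rw [θ_res, hφ']
      exact QC2.res_res _ hV hg s
    obtain ⟨n, φ, hφ⟩ := exists_extend f hK hK' hW g (res (f.preimage_mono hg) φ')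
    obtain ⟨k, hk⟩ := exists_pow_smul_section f hK hK' hW g (θ f φ - g ^ n • s) (by
      rw [map_sub, sub_eq_zero, QC2.res_smul, map_pow, ← hθ]
      refine (θ_res f (S.basicOpen_le g) φ).symm.trans ?_
      rw [hφ, θ_smul])
    refine ⟨g ^ (k + n + 1), ?_, ?_⟩
    · refine ⟨f.app W (g ^ (k + 1)) • φ, ?_⟩
      rw [θ_smul]
      rw [smul_sub, sub_eq_zero] at hk
      rw [pow_succ', mul_smul, hk, ← mul_smul, ← mul_smul]
      congr 1
      ring
    · rw [S.basicOpen_pow g (Nat.succ_pos _)]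
      exact hxg
  obtain ⟨φ, hφ⟩ : (1 : Γ(S, W)) ∈ J := hJ ▸ Submodule.mem_top
  exact ⟨φ, by rw [hφ, one_smul]⟩

theorem θ_bijective {W : S.Opens} (hW : IsAffineOpen W) :
    Function.Bijective (θ f : (P m (f ⁻¹ᵁ W) ⟶ K) → _) :=
  ⟨θ_injective f hK hK' hW, θ_surjective f hK hK' hW⟩

theorem loc_HD {W : S.Opens} (hW : IsAffineOpen W) : QC2.Loc (DCoh.HD ((DCoh.Rpush f).obj K) m) W where
  exists_lift g s := by
    obtain ⟨ψ, hψ⟩ := θ_surjective f hK hK' (hW.basicOpen g) s
    obtain ⟨n, φ, hφ⟩ := exists_extend f hK hK' hW g ψ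
    refine ⟨n, θ f φ, ?_⟩
    refine (θ_res f (S.basicOpen_le g) φ).symm.trans ?_
    rw [hφ, θ_smul, hψ]
  eq_zero g t ht := exists_pow_smul_section f hK hK' hW g t ht

theorem isQCoh_HD (m : ℤ) : Coh.IsQCoh (DCoh.HD ((DCoh.Rpush f).obj K) m) :=
  (QC2.isQuasicoherent_iff_loc _).2 fun _ hW => loc_HD f hK hK' hW

end Loc

end Groth.Agent.PerfA.HypQC
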