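import Groth.Agent.S0015
import Mathlib.AlgebraicGeometry.Morphisms.QuasiSeparated

/-!
# The induction principle for opens contained in a given qcqs open
-/

set_option autoImplicit false

universe u

open CategoryTheory CategoryTheory.Limits AlgebraicGeometry Opposite TopologicalSpace

namespace Groth.Agent.PerfA.HypInd

variable {X : Scheme.{u}}

/-- Induction principle (08DR) for opens contained in a quasi-compact quasi-separated open `U`. -/
theorem qcqs_induction (U : X.Opens) (hU : IsCompact (U : Set X)) (hU' : IsQuasiSeparated (U : Set X))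
    (P : X.Opens → Prop) (h₁ : ∀ W ≤ U, IsAffineOpen W → P W)
    (h₂ : ∀ W W' : X.Opens, W ≤ U → W' ≤ U → IsCompact (W : Set X) → IsAffineOpen W' → P W → P W' →
      P (W ⊓ W') → P (W ⊔ W'))
    (W : X.Opens) (hWU : W ≤ U) (hW : IsCompact (W : Set X)) : P W := by
  have : CompactSpace U := isCompact_iff_compactSpace.1 hU
  have : QuasiSeparatedSpace U := (isQuasiSeparated_iff_quasiSeparatedSpace _ U.isOpen).1 hU'
  have key := Groth.Agent.S0015.result (U : Scheme.{u}) (fun W' => P (U.ι ''ᵁ W'))
    (fun W' hW' => h₁ _ (by simpa using U.ι.image_le_opensRange W') (hW'.image_of_isOpenImmersion U.ι))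
    (fun W₁ W₂ h h' p₁ p₂ p₃ => by
      have e1 : U.ι ''ᵁ (W₁ ⊔ W₂) = U.ι ''ᵁ W₁ ⊔ U.ι ''ᵁ W₂ := by
        ext1
        simp [Set.image_union]
      have e2 : U.ι ''ᵁ (W₁ ⊓ W₂) = U.ι ''ᵁ W₁ ⊓ U.ι ''ᵁ W₂ := by
        ext1
        exact Set.image_inter (s := (W₁ : Set U)) (t := (W₂ : Set U)) Subtype.val_injective
      rw [e1]
      refine h₂ _ _ ?_ ?_ ?_ ?_ p₁ p₂ ?_
      · simpa using U.ι.image_le_opensRange W₁
      · simpa using U.ι.image_le_opensRange W₂
      · simpa using h.image U.ι.continuous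
      · exact h'.image_of_isOpenImmersion U.ι
      · rw [← e2]; exact p₃)
    (U.ι ⁻¹ᵁ W) (by
      have := (U.ι.isOpenEmbedding.isCompact_preimage_iff (K := (W : Set X)) (by simpa using hWU)).2 hW
      exact this)
  simpa [Scheme.Hom.image_preimage_eq_opensRange_inf, hWU] using key

end Groth.Agent.PerfA.HypInd
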