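import Groth.Prelude.Def_PerfAux
import Groth.Agent.CohtopA.Compact

/-!
# Compact objects relative to a property: `PerfAux.IsCompactObjRel`

Reformulation in terms of finite sums; closure under isomorphisms, shifts, extensions, retracts.
-/

set_option autoImplicit false

universe w v u v' u'

open CategoryTheory CategoryTheory.Limits CategoryTheory.Pretriangulated ZeroObject

namespace Groth.Agent.PerfA.CompactRel

open Groth.Agent.CohtopA.Compact

section Preadditive

variable {D : Type u} [Category.{v} D] [Preadditive D]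

open scoped Classical in
lemma homSumToHomCoprod_of (K : D) {ι : Type w} (X : ι → D) [HasCoproduct X] (i : ι)
    (f : K ⟶ X i) :
    PerfAux.homSumToHomCoprod K X (DirectSum.of (fun i => K ⟶ X i) i f) = f ≫ Sigma.ι X i := by
  unfold PerfAux.homSumToHomCoprod
  have h := DirectSum.toAddMonoid_of (fun i => Preadditive.rightComp K (Sigma.ι X i)) i f
  convert h using 1
  rfl

/-- Compactness relative to `P`: every morphism to a coproduct of objects in `P` is a finite
sum of morphisms through the summands. -/
lemma isCompactObjRel_iff (P : D → Prop) (K : D) :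
    PerfAux.IsCompactObjRel.{w} P K ↔
      ∀ (ι : Type w) (X : ι → D) [HasCoproduct X], (∀ i, P (X i)) →
        ∀ (f : K ⟶ ∐ X), IsFiniteSum (Cofan.mk (∐ X) (Sigma.ι X)) f := by
  classical
  constructor
  · intro h ι X _ hX f
    obtain ⟨x, rfl⟩ := (h ι X hX).2 f
    induction x using DirectSum.induction_on with
    | zero => rw [map_zero]; exact IsFiniteSum.zero _
    | of i g =>
      rw [homSumToHomCoprod_of]
      exact IsFiniteSum.single (Cofan.mk (∐ X) (Sigma.ι X)) i g
    | add x y hx hy =>
      rw [map_add]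
      exact hx.add hy
  · intro h ι X _ hX
    constructor
    · intro x y hxy
      have key : ∀ (x : DirectSum ι (fun i => K ⟶ X i)) (j : ι),
          PerfAux.homSumToHomCoprod K X x ≫ proj (coproductIsCoproduct X) j = x j := by
        intro x j
        induction x using DirectSum.induction_on with
        | zero => simp
        | of i g =>
          rw [homSumToHomCoprod_of]
          by_cases hij : i = j
          · subst hij
            have := inj_proj_self (coproductIsCoproduct X) i
            simp only [Cofan.inj, Cofan.mk_ι_app] at this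
            rw [Category.assoc, this, DirectSum.of_eq_same, Category.comp_id]
          · have := inj_proj_of_ne (coproductIsCoproduct X) i j hij
            simp only [Cofan.inj, Cofan.mk_ι_app] at this
            rw [Category.assoc, this, DirectSum.of_eq_of_ne _ _ _ (Ne.symm hij), comp_zero]
        | add x y hx hy =>
          rw [map_add, Preadditive.add_comp, hx, hy, DirectSum.add_apply]
      ext j
      rw [← key x j, ← key y j, hxy]
    · intro f
      obtain ⟨s, g, rfl⟩ := h ι X hX f
      refine ⟨∑ i ∈ s, DirectSum.of (fun i => K ⟶ X i) i (g i), ?_⟩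
      rw [map_sum]
      refine Finset.sum_congr rfl (fun i _ => ?_)
      rw [homSumToHomCoprod_of]
      rfl

variable {P : D → Prop}

/-- Compactness against any colimit cofan. -/
lemma isFiniteSum_of_isColimit {K : D} (hK : PerfAux.IsCompactObjRel.{w} P K) {ι : Type w}
    {X : ι → D} (hX : ∀ i, P (X i)) {c : Cofan X} (hc : IsColimit c) (f : K ⟶ c.pt) :
    IsFiniteSum c f := by
  have : HasCoproduct X := ⟨⟨⟨c, hc⟩⟩⟩
  exact IsFiniteSum.of_iso (coproductIsCoproduct X) hc
    ((isCompactObjRel_iff P K).1 hK ι X hX) f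

lemma isCompactObjRel_mono {P' : D → Prop} (h : ∀ X, P' X → P X) {K : D}
    (hK : PerfAux.IsCompactObjRel.{w} P K) : PerfAux.IsCompactObjRel.{w} P' K :=
  fun ι X _ hX => hK ι X (fun i => h _ (hX i))

lemma isCompactObjRel_of_retract {K L : D} (r : Retract K L)
    (hL : PerfAux.IsCompactObjRel.{w} P L) : PerfAux.IsCompactObjRel.{w} P K := by
  rw [isCompactObjRel_iff] at hL ⊢
  intro ι X _ hX f
  have := (hL ι X hX (r.r ≫ f)).precomp r.i
  simpa using this

lemma isCompactObjRel_of_iso {K L : D} (e : K ≅ L) (hK : PerfAux.IsCompactObjRel.{w} P K) :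
    PerfAux.IsCompactObjRel.{w} P L :=
  isCompactObjRel_of_retract (Retract.ofIso e.symm) hK

lemma isCompactObjRel_zero {Z : D} (hZ : IsZero Z) : PerfAux.IsCompactObjRel.{w} P Z := by
  rw [isCompactObjRel_iff]
  intro ι X _ hX f
  rw [hZ.eq_of_src f 0]
  exact IsFiniteSum.zero _

/-- Left adjoints of functors commuting with the relevant coproducts preserve relative
compactness. -/
lemma isCompactObjRel_of_adj {D' : Type u'} [Category.{v'} D'] [Preadditive D'] {P' : D' → Prop}
    {F : D ⥤ D'} {G : D' ⥤ D} (adj : F ⊣ G) [F.Additive] [G.Additive]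
    (hG : ∀ X, P' X → P (G.obj X))
    (hG' : ∀ (ι : Type w) (X : ι → D') [HasCoproduct X], (∀ i, P' (X i)) →
      PreservesColimit (Discrete.functor X) G) {K : D}
    (hK : PerfAux.IsCompactObjRel.{w} P K) : PerfAux.IsCompactObjRel.{w} P' (F.obj K) := by
  rw [isCompactObjRel_iff]
  intro ι X _ hX f
  have := hG' ι X hX
  let c : Cofan (fun i => G.obj (X i)) := Cofan.mk (G.obj (∐ X)) (fun i => G.map (Sigma.ι X i))
  have hc : IsColimit c := isColimitOfHasCoproductOfPreservesColimit G X
  obtain ⟨s, g, hg⟩ := isFiniteSum_of_isColimit hK (fun i => hG _ (hX i)) hc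
    (adj.homEquiv _ _ f)
  refine ⟨s, fun i => (adj.homEquiv _ _).symm (g i), ?_⟩
  apply (adj.homEquiv _ _).injective
  rw [hg]
  have : ∀ (t : Finset ι), (adj.homEquiv K (∐ X)) (∑ i ∈ t, (adj.homEquiv _ _).symm (g i) ≫
      (Cofan.mk (∐ X) (Sigma.ι X)).inj i) = ∑ i ∈ t, g i ≫ c.inj i := by
    classical
    intro t
    induction t using Finset.induction_on with
    | empty => simp [Adjunction.homEquiv_unit]
    | insert a t ha ih =>
      rw [Finset.sum_insert ha, Finset.sum_insert ha, ← ih]
      simp only [Adjunction.homEquiv_unit, Functor.map_add, Preadditive.comp_add]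
      congr 1
      simp [c, Cofan.inj, Adjunction.homEquiv_counit]
  exact (this s).symm

end Preadditive

section Triangulated

variable {D : Type u} [Category.{v} D] [Preadditive D] [HasZeroObject D] [HasShift D ℤ]
    [∀ n : ℤ, (shiftFunctor D n).Additive] {P : D → Prop}

omit [HasZeroObject D] in
lemma isCompactObjRel_shift (hP : ∀ (n : ℤ) (X : D), P X → P (X⟦n⟧)) {K : D}
    (hK : PerfAux.IsCompactObjRel.{w} P K) (n : ℤ) : PerfAux.IsCompactObjRel.{w} P (K⟦n⟧) := by
  have : (shiftEquiv D n).functor.Additive := inferInstanceAs (shiftFunctor D n).Additive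
  have : (shiftEquiv D n).inverse.Additive := inferInstanceAs (shiftFunctor D (-n)).Additive
  exact isCompactObjRel_of_adj (shiftEquiv D n).toAdjunction (fun X hX => hP (-n) X hX)
    (fun ι X _ _ => inferInstance) hK

variable [Pretriangulated D]

lemma isCompactObjRel_ext₂ (T : Triangle D) (hT : T ∈ distTriang D)
    (h₁ : PerfAux.IsCompactObjRel.{w} P T.obj₁) (h₃ : PerfAux.IsCompactObjRel.{w} P T.obj₃) :
    PerfAux.IsCompactObjRel.{w} P T.obj₂ := by
  classical
  rw [isCompactObjRel_iff]
  intro ι X _ hX f
  obtain ⟨s, hs, hs'⟩ := IsFiniteSum.eq_sum_proj (coproductIsCoproduct X)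
    ((isCompactObjRel_iff _ _).1 h₁ ι X hX (T.mor₁ ≫ f))
  let y : T.obj₂ ⟶ ∐ X := ∑ i ∈ s, (f ≫ proj (coproductIsCoproduct X) i) ≫
    (Cofan.mk (∐ X) (Sigma.ι X)).inj i
  have hy : T.mor₁ ≫ (f - y) = 0 := by
    rw [Preadditive.comp_sub, sub_eq_zero]
    conv_lhs => rw [hs']
    simp only [y, Preadditive.comp_sum, Category.assoc]
  obtain ⟨z, hz⟩ := Triangle.yoneda_exact₂ T hT _ hy
  have hf : f = y + T.mor₂ ≫ z := by rw [← hz]; abel
  rw [hf]
  exact IsFiniteSum.add ⟨s, _, rfl⟩ (((isCompactObjRel_iff _ _).1 h₃ ι X hX z).precomp _)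

/-- The object property "compact relative to `P`" is triangulated. -/
lemma isTriangulated_isCompactObjRel (hP : ∀ (n : ℤ) (X : D), P X → P (X⟦n⟧)) :
    ObjectProperty.IsTriangulated (fun K : D => PerfAux.IsCompactObjRel.{w} P K) where
  exists_zero := ⟨0, isZero_zero D, isCompactObjRel_zero (isZero_zero D)⟩
  isStableUnderShiftBy n := ⟨fun _ hK => isCompactObjRel_shift hP hK n⟩
  ext₂' T hT h₁ h₃ := ObjectProperty.le_isoClosure _ _ (isCompactObjRel_ext₂ T hT h₁ h₃)

end Triangulated

end Groth.Agent.PerfA.CompactRel
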