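import Groth.Agent.PerfB.CoprodDerived
import Groth.Agent.PerfB.ModExactCoprod
import Mathlib.CategoryTheory.Limits.Preserves.Basic

/-!
# Homology functors on derived categories preserve exact coproducts
-/

set_option autoImplicit false
universe w' w v u t

open CategoryTheory CategoryTheory.Limits DerivedCategory

namespace Groth.Agent.PerfA.HomologyCoprod

open Groth.Agent.PerfB.ColimHomology Groth.Agent.PerfB.CoprodDerived

section Cx

variable {C : Type u} [Category.{v} C] [Abelian C] {J : Type w} [Category.{w'} J]
  {ι : Type t} {c : ComplexShape ι} [HasColimitsOfShape J C] [HasExactColimitsOfShape J C]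

/-- the natural transformation from evaluation at `j` to the colimit functor -/
noncomputable def evalToColim (j : J) : (evaluation J C).obj j ⟶ colim where
  app F := colimit.ι F j
  naturality _ _ α := (ι_colimMap α j).symm

lemma homologyMap_ι (F : J ⥤ HomologicalComplex C c) (i : ι) (j : J) :
    HomologicalComplex.homologyMap ((colimCxCocone F).ι.app j) i ≫
      (((famCx F).sc i).mapHomologyIso (colim (J := J) (C := C))).hom =
    (((famCx F).sc i).mapHomologyIso ((evaluation J C).obj j)).hom ≫
      colimit.ι ((famCx F).homology i) j := by
  have h := NatTrans.app_homology (evalToColim (C := C) j) ((famCx F).sc i)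
  exact (Iso.inv_comp_eq _).1 h.symm

/-- The colimit cocone on homology. -/
noncomputable def homologyIso' (F : J ⥤ HomologicalComplex C c) (i : ι) :
    (colimCx F).homology i ≅ colimit (F ⋙ HomologicalComplex.homologyFunctor C c i) :=
  ((famCx F).sc i).mapHomologyIso (colim (J := J) (C := C)) ≪≫
    colim.mapIso (famHomologyIso F i)

lemma homologyMap_ι_homologyIso' (F : J ⥤ HomologicalComplex C c) (i : ι) (j : J) :
    HomologicalComplex.homologyMap ((colimCxCocone F).ι.app j) i ≫ (homologyIso' F i).hom =
      colimit.ι (F ⋙ HomologicalComplex.homologyFunctor C c i) j := by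
  have h1 : HomologicalComplex.homologyMap ((colimCxCocone F).ι.app j) i ≫
      (homologyIso' F i).hom = (HomologicalComplex.homologyMap ((colimCxCocone F).ι.app j) i ≫
      (((famCx F).sc i).mapHomologyIso (colim (J := J) (C := C))).hom) ≫
        colim.map (famHomologyIso F i).hom := (Category.assoc _ _ _).symm
  have h2 : (HomologicalComplex.homologyMap ((colimCxCocone F).ι.app j) i ≫
      (((famCx F).sc i).mapHomologyIso (colim (J := J) (C := C))).hom) ≫
        colim.map (famHomologyIso F i).hom =
      ((((famCx F).sc i).mapHomologyIso ((evaluation J C).obj j)).hom ≫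
      colimit.ι ((famCx F).homology i) j) ≫ colim.map (famHomologyIso F i).hom :=
    congrArg (· ≫ colim.map (famHomologyIso F i).hom) (homologyMap_ι F i j)
  have h3 : ((((famCx F).sc i).mapHomologyIso ((evaluation J C).obj j)).hom ≫
      colimit.ι ((famCx F).homology i) j) ≫ colim.map (famHomologyIso F i).hom =
      (((famCx F).sc i).mapHomologyIso ((evaluation J C).obj j)).hom ≫
      (famHomologyIso F i).hom.app j ≫
        colimit.ι (F ⋙ HomologicalComplex.homologyFunctor C c i) j :=
    (Category.assoc _ _ _).trans (congrArg _ (ι_colimMap _ j))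
  have h4 : (((famCx F).sc i).mapHomologyIso ((evaluation J C).obj j)).hom ≫
      (((famCx F).sc i).mapHomologyIso ((evaluation J C).obj j)).inv ≫
        colimit.ι (F ⋙ HomologicalComplex.homologyFunctor C c i) j =
        colimit.ι (F ⋙ HomologicalComplex.homologyFunctor C c i) j :=
    Iso.hom_inv_id_assoc _ _
  exact h1.trans (h2.trans (h3.trans h4))

instance preservesColimitsOfShape_homology (i : ι) :
    PreservesColimitsOfShape J (HomologicalComplex.homologyFunctor C c i) where
  preservesColimit {F} := preservesColimit_of_preserves_colimit_cocone (isColimitColimCxCocone F)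
    (IsColimit.ofIsoColimit (colimit.isColimit (F ⋙ HomologicalComplex.homologyFunctor C c i))
      (Cocone.ext (homologyIso' F i).symm (fun j =>
        (Iso.comp_inv_eq _).2 (homologyMap_ι_homologyIso' F i j).symm)))

end Cx

section Derived

variable {C : Type u} [Category.{v} C] [Abelian C] {J : Type w} [HasCoproductsOfShape J C]
  [HasExactColimitsOfShape (Discrete J) C] [HasDerivedCategory.{t} C]

instance preservesCoproduct_homologyFunctor_Q (F : J → CochainComplex C ℤ) (m : ℤ) :
    PreservesColimit (Discrete.functor fun j => Q.obj (F j)) (homologyFunctor C m) := by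
  refine preservesColimit_of_preserves_colimit_cocone (isColimitQCofan F) ?_
  have h1 : IsColimit ((HomologicalComplex.homologyFunctor C (ComplexShape.up ℤ) m).mapCocone
      (Cofan.mk (∐ F) (Sigma.ι F))) :=
    isColimitOfPreserves _ (coproductIsCoproduct F)
  refine (IsColimit.equivOfNatIsoOfIso (Discrete.natIso fun j =>
    ((homologyFunctorFactors C m).app (F j.as)).symm) _ _ ?_) h1
  refine Cocone.ext ((homologyFunctorFactors C m).app (∐ F)).symm fun j => ?_
  have h2 := (homologyFunctorFactors C m).inv.naturality (Sigma.ι F j.as)
  change ((homologyFunctorFactors C m).hom.app (F j.as) ≫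
    (HomologicalComplex.homologyFunctor C (ComplexShape.up ℤ) m).map (Sigma.ι F j.as)) ≫
      (homologyFunctorFactors C m).inv.app (∐ F) = (homologyFunctor C m).map (Q.map (Sigma.ι F j.as))
  rw [Category.assoc, h2, Iso.hom_inv_id_app_assoc]
  rfl

instance preservesCoproducts_homologyFunctor (m : ℤ) :
    PreservesColimitsOfShape (Discrete J) (homologyFunctor C m) where
  preservesColimit {K} := by
    let e : Discrete.functor (fun j => Q.obj (Q.objPreimage (K.obj ⟨j⟩))) ≅ K :=
      Discrete.natIso fun j => Q.objObjPreimageIso (K.obj j)
    exact preservesColimit_of_iso_diagram _ e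

end Derived

end Groth.Agent.PerfA.HomologyCoprod
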