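import Groth.Agent.PerfA.PerfInd
import Groth.Agent.PerfA.HypAffine
import Groth.Agent.PerfA.CompactRel
import Groth.Agent.PerfA.HomologyCoprod
import Groth.Agent.PerfB.ModExactCoprod
import Groth.Agent.Dcoh.SecCoprod
import Groth.Agent.S1040

/-!
# Perfect complexes are compact in `D_QCoh`
-/

set_option autoImplicit false
universe u
open CategoryTheory CategoryTheory.Limits AlgebraicGeometry Opposite TopologicalSpace
open CategoryTheory.Pretriangulated
attribute [local instance] HasDerivedCategory.standard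

namespace Groth.Agent.PerfA.PerfCompact

open Groth.Agent.PerfA.ExtZero Groth.Agent.CohtopA.Compact Groth.Agent.PerfA.CompactRel
  Groth.Agent.PerfA.Hyp1

variable {X : Scheme.{u}}

/-- The functor `H^m` maps coproducts to coproducts. -/
noncomputable def isColimitHD {ι : Type u} (K : ι → DCoh.D X) [HasCoproduct K] (m : ℤ) :
    IsColimit (Cofan.mk (DCoh.HD (∐ K) m)
      (fun i => (DerivedCategory.homologyFunctor X.Modules m).map (Sigma.ι K i))) :=
  isColimitOfHasCoproductOfPreservesColimit (DerivedCategory.homologyFunctor X.Modules m) K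

lemma toHD_sum {ι : Type*} {K : DCoh.D X} {U : X.Opens} {m : ℤ} (t : Finset ι)
    (g : ι → (P m U ⟶ K)) : toHD (∑ i ∈ t, g i) = ∑ i ∈ t, toHD (g i) := by
  classical
  induction t using Finset.induction_on with
  | empty => rw [Finset.sum_empty, Finset.sum_empty, toHD_zero]
  | insert a t ha ih => rw [Finset.sum_insert ha, Finset.sum_insert ha, toHD_add, ih]

lemma isCompact_P (U : X.Opens) (hU : IsAffineOpen U) (m : ℤ) :
    PerfAux.IsCompactObjRel.{u} (fun L : DCoh.D X => DCoh.IsQCohD L) (P m U) := by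
  rw [isCompactObjRel_iff]
  intro ι K _ hK f
  have hK' : DCoh.IsQCohD (∐ K) := Groth.Agent.S1040.result X K hK
  obtain ⟨t, s, hs⟩ := Dcoh.SecCoprod.isFinSum_of_isCompact (isColimitHD K m) hU.isCompact (toHD f)
  choose g hg using fun i => (HypAffine.toHD_bijective (K i) (hK i) U hU m).2 (s i)
  refine ⟨t, g, (HypAffine.toHD_bijective (∐ K) hK' U hU m).1 ?_⟩
  refine hs.trans ?_
  change _ = toHD (∑ i ∈ t, g i ≫ Sigma.ι K i)
  rw [toHD_sum]
  refine Finset.sum_congr rfl (fun i _ => ?_)
  rw [toHD_comp]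
  exact congrArg _ (hg i).symm

/-- Perfect complexes are compact in `D_QCoh`. -/
theorem isCompactObjRel_of_isPerfect [CompactSpace X] [QuasiSeparatedSpace X] (K : DCoh.D X)
    (hK : DCoh.IsPerfect K) :
    PerfAux.IsCompactObjRel.{u} (fun L : DCoh.D X => DCoh.IsQCohD L) K := by
  let Q : ObjectProperty (DCoh.D X) :=
    fun K => PerfAux.IsCompactObjRel.{u} (fun L : DCoh.D X => DCoh.IsQCohD L) K
  have : Q.IsTriangulated := isTriangulated_isCompactObjRel
    (fun n L hL => QCohD.isQCohD_shift hL n)
  have : Q.IsClosedUnderIsomorphisms := ⟨fun e h => isCompactObjRel_of_iso e h⟩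
  exact PerfInd.prop_of_isPerfect Q (fun U hU => isCompact_P U hU 0) K hK

end Groth.Agent.PerfA.PerfCompact
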