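import Groth.Agent.PerfA.PerfThick
import Groth.Agent.PerfA.UnitOU
import Groth.Agent.Dcoh.DerSch
import Groth.Agent.CohqB.AffIso
import Groth.Agent.S0998
import Groth.Agent.S1000

/-!
# Compact objects of `D_QCoh` are perfect

* `isCompactObjRel_restrictD`: compactness in `D_QCoh` is inherited by quasi-compact opens.
* `isPerfect_of_isAffine`: the affine case.
* `isPerfect_of_isCompactObjRel`
-/

set_option autoImplicit false
universe u
open CategoryTheory CategoryTheory.Limits AlgebraicGeometry Opposite TopologicalSpace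
open CategoryTheory.Pretriangulated
open scoped ZeroObject
attribute [local instance] HasDerivedCategory.standard

namespace Groth.Agent.PerfA.CompactPerf

open Groth.Agent.PerfA.ExtZero Groth.Agent.PerfA.PerfTri Groth.Agent.PerfA.Hyp1
open Groth.Agent.PerfA.Restrict

variable {X Y : Scheme.{u}}

/-- Coproducts in `D_QCoh` are preserved by `Rf_*`. -/
lemma preservesCoproduct_Rpush (f : Y ⟶ X) [QuasiCompact f] [QuasiSeparated f] [DCoh.HasRpush f]
    {ι : Type u} (K : ι → DCoh.D Y) (hK : ∀ i, DCoh.IsQCohD (K i)) :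
    PreservesColimit (Discrete.functor K) (DCoh.Rpush f) := by
  have : IsIso (sigmaComparison (DCoh.Rpush f) K) := Groth.Agent.S1000.result f K hK
  exact PreservesCoproduct.of_iso_comparison (DCoh.Rpush f) K

/-- A compact object of `D_QCoh(O_X)` restricts to a compact object of `D_QCoh(O_U)`. -/
theorem isCompactObjRel_restrictD (j : Y ⟶ X) [IsOpenImmersion j] [QuasiCompact j] {K : DCoh.D X}
    (hK : PerfAux.IsCompactObjRel.{u} (fun L : DCoh.D X => DCoh.IsQCohD L) K) :
    PerfAux.IsCompactObjRel.{u} (fun L : DCoh.D Y => DCoh.IsQCohD L) ((restrictD j).obj K) := by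
  have : DCoh.HasRpush j := Groth.Agent.Dcoh.DerSch.hasRpush j
  let adj : restrictD j ⊣ DCoh.Rpush j := Groth.Agent.Dcoh.DerSch.restrictAdj j
  have : (DCoh.Rpush j).Additive := adj.right_adjoint_additive
  exact CompactRel.isCompactObjRel_of_adj adj (fun L hL => Groth.Agent.S0998.result j L hL)
    (fun ι L _ hL => preservesCoproduct_Rpush j L hL) hK

/-- A quasi-coherent module with no nonzero global sections on an affine scheme is zero. -/
lemma isZero_of_gamma [IsAffine X] (M : X.Modules) (hM : Coh.IsQCoh M) (h : ∀ s : Γ(M, ⊤), s = 0) :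
    IsZero M := by
  have : Coh.IsQCoh M := hM
  have h1 := Groth.Agent.CohqB.AffIso.injective_of_affine_cover (0 : M ⟶ M) (fun x =>
    ⟨⊤, trivial, isAffineOpen_top X, fun a b _ => (h a).trans (h b).symm⟩)
  rw [IsZero.iff_id_eq_zero]
  apply Scheme.Modules.hom_ext
  intro V
  ext s
  exact h1 V rfl

/-- `O_X` generates `D_QCoh(O_X)` for `X` affine. -/
lemma isZero_of_hom_OU_top [IsAffine X] (E : DCoh.D X) (hE : DCoh.IsQCohD E)
    (h : ∀ (m : ℤ) (φ : (P 0 (⊤ : X.Opens))⟦m⟧ ⟶ E), φ = 0) : IsZero E := by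
  rw [ExactD.isZero_iff]
  intro m
  refine isZero_of_gamma _ (hE m) (fun s => ?_)
  obtain ⟨φ, rfl⟩ := (HypAffine.toHD_bijective E hE ⊤ (isAffineOpen_top X) m).2 s
  let e : (P 0 (⊤ : X.Opens))⟦-m⟧ ≅ P m (⊤ : X.Opens) :=
    ((DerivedCategory.singleFunctors X.Modules).shiftIso (-m) m 0 (by omega)).app (OU ⊤)
  have h1 : φ = 0 := by
    rw [← cancel_epi e.hom, h (-m) (e.hom ≫ φ), comp_zero]
  rw [h1]
  exact toHD_zero

/-- On an affine scheme compact objects of `D_QCoh` are perfect. -/
theorem isPerfect_of_isAffine [IsAffine X] (K : DCoh.D X) (hK : DCoh.IsQCohD K)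
    (hK' : PerfAux.IsCompactObjRel.{u} (fun L : DCoh.D X => DCoh.IsQCohD L) K) :
    DCoh.IsPerfect K := by
  have hP : DCoh.IsPerfect (P 0 (⊤ : X.Opens)) := by
    refine PerfLocal.isPerfect_of_iso ((DerivedCategory.singleFunctor X.Modules 0).mapIso
      (UnitOU.unitIsoOU X)) (PerfLocal.isPerfect_inD_of_isFinLocFree ?_)
    exact PerfLocal.isFinLocFree_of_iso (coproductUniqueIso (fun _ : Fin 1 => Coh.structureModule X))
      (PerfLocal.isFinLocFree_freeMod X 1)
  exact PerfThick.isPerfect_of_compact (J := PUnit.{u + 1}) (fun _ => P 0 (⊤ : X.Opens))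
    (fun _ => hP) (fun E hE h => isZero_of_hom_OU_top E hE (fun m φ => h PUnit.unit m φ)) K hK hK'

/-- Compact objects of `D_QCoh(O_X)` are perfect, for `X` quasi-separated. -/
theorem isPerfect_of_isCompactObjRel [QuasiSeparatedSpace X] (K : DCoh.D X) (hK : DCoh.IsQCohD K)
    (hK' : PerfAux.IsCompactObjRel.{u} (fun L : DCoh.D X => DCoh.IsQCohD L) K) :
    DCoh.IsPerfect K := by
  refine PerfLocal.isPerfect_of_restrictD_opens K (fun x => ?_)
  obtain ⟨U, hU, hx, -⟩ := exists_isAffineOpen_mem_and_subset (U := (⊤ : X.Opens)) (x := x) trivial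
  have : IsAffine U := hU
  exact ⟨U, hx, isPerfect_of_isAffine _ (QCohD.isQCohD_restrictD U.ι hK)
    (isCompactObjRel_restrictD U.ι hK')⟩

end Groth.Agent.PerfA.CompactPerf
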