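import Groth.Agent.PerfA.PerfInd
import Groth.Agent.PerfA.HypAffine

/-!
# Vanishing windows for maps out of perfect complexes
-/

set_option autoImplicit false
universe u
open CategoryTheory CategoryTheory.Limits AlgebraicGeometry Opposite TopologicalSpace
open CategoryTheory.Pretriangulated
open scoped ZeroObject
attribute [local instance] HasDerivedCategory.standard

namespace Groth.Agent.PerfA.PerfWin

open Groth.Agent.PerfA.ExtZero

variable {X : Scheme.{u}}

/-- `H^i(L[n]) ≅ H^{i+n}(L)`. -/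
noncomputable def HDshift (L : DCoh.D X) (n i j : ℤ) (h : n + i = j) :
    DCoh.HD (L⟦n⟧) i ≅ DCoh.HD L j :=
  ((DerivedCategory.homologyFunctor X.Modules 0).shiftIso n i j h).app L

/-- Every map from `A` to `L ∈ D_QCoh` vanishes as soon as `H^i(L) = 0` for `i` in `[a, b]`. -/
def Win (a b : ℤ) (A : DCoh.D X) : Prop :=
  ∀ L : DCoh.D X, DCoh.IsQCohD L → (∀ i : ℤ, a ≤ i → i ≤ b → IsZero (DCoh.HD L i)) →
    ∀ φ : A ⟶ L, φ = 0

lemma Win.mono {a b a' b' : ℤ} {A : DCoh.D X} (h : Win a b A) (ha : a' ≤ a) (hb : b ≤ b') :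
    Win a' b' A :=
  fun L hL hi φ => h L hL (fun i h1 h2 => hi i (ha.trans h1) (h2.trans hb)) φ

lemma Win.of_iso {a b : ℤ} {A B : DCoh.D X} (e : A ≅ B) (h : Win a b A) : Win a b B := by
  intro L hL hi φ
  have := h L hL hi (e.hom ≫ φ)
  rwa [← cancel_epi e.hom, comp_zero]

lemma Win.shift {a b : ℤ} {A : DCoh.D X} (h : Win a b A) (n : ℤ) : Win (a - n) (b - n) (A⟦n⟧) := by
  intro L hL hi φ
  have key : (shiftFunctor (DCoh.D X) (-n)).map φ = 0 := by
    rw [← cancel_epi ((shiftFunctorCompIsoId (DCoh.D X) n (-n) (add_neg_cancel n)).inv.app A),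
      comp_zero]
    refine h _ (QCohD.isQCohD_shift hL (-n)) (fun i h1 h2 => ?_) _
    exact (hi (-n + i) (by omega) (by omega)).of_iso (HDshift L (-n) i _ rfl)
  exact (shiftFunctor (DCoh.D X) (-n)).map_injective (key.trans (Functor.map_zero _ _ _).symm)

lemma Win.of_isZero {A : DCoh.D X} (h : IsZero A) (a b : ℤ) : Win a b A :=
  fun _ _ _ _ => h.eq_of_src _ _

lemma Win.ext₂ {a b a' b' : ℤ} (T : Triangle (DCoh.D X)) (hT : T ∈ distTriang _)
    (h₁ : Win a b T.obj₁) (h₃ : Win a' b' T.obj₃) : Win (min a a') (max b b') T.obj₂ := by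
  intro L hL hi φ
  have h1 := h₁.mono (min_le_left a a') (le_max_left b b') L hL hi (T.mor₁ ≫ φ)
  obtain ⟨g, hg⟩ := Triangle.yoneda_exact₂ T hT φ h1
  rw [hg, h₃.mono (min_le_right a a') (le_max_right b b') L hL hi g, comp_zero]

/-- The property of having a vanishing window. -/
def HasWin : ObjectProperty (DCoh.D X) := fun A => ∃ a b : ℤ, a ≤ b ∧ Win a b A

instance : (HasWin (X := X)).IsClosedUnderIsomorphisms where
  of_iso e := by
    rintro ⟨a, b, hab, h⟩
    exact ⟨a, b, hab, h.of_iso e⟩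

instance : (HasWin (X := X)).IsStableUnderShift ℤ where
  isStableUnderShiftBy n := ⟨by
    rintro A ⟨a, b, hab, h⟩
    exact ⟨a - n, b - n, by omega, h.shift n⟩⟩

instance : (HasWin (X := X)).ContainsZero where
  exists_zero := ⟨_, isZero_zero (DCoh.D X), 0, 0, le_rfl, Win.of_isZero (isZero_zero _) _ _⟩

instance : (HasWin (X := X)).IsTriangulatedClosed₂ :=
  ObjectProperty.IsTriangulatedClosed₂.mk' (by
    rintro T hT ⟨a, b, hab, h⟩ ⟨a', b', hab', h'⟩
    exact ⟨min a a', max b b', (min_le_left _ _).trans (hab.trans (le_max_left _ _)),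
      h.ext₂ T hT h'⟩)

instance : (HasWin (X := X)).IsTriangulated where

lemma win_OU (U : X.Opens) (hU : IsAffineOpen U) (m : ℤ) :
    Win m m ((DerivedCategory.singleFunctor X.Modules m).obj (OU U)) := by
  intro L hL hi φ
  rw [HypAffine.eq_zero_iff_toHD L hL U hU m φ]
  have := hi m le_rfl le_rfl
  have h0 : (𝟙 (DCoh.HD L m)) = 0 := this.eq_of_src _ _
  have h1 := congrArg (fun f : DCoh.HD L m ⟶ DCoh.HD L m => f.app U (Hyp1.toHD φ)) h0
  exact h1

/-- Perfect complexes have a vanishing window. -/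
theorem hasWin_of_isPerfect [CompactSpace X] [QuasiSeparatedSpace X] (K : DCoh.D X)
    (hK : DCoh.IsPerfect K) : HasWin K :=
  PerfInd.prop_of_isPerfect HasWin (fun U hU => ⟨0, 0, le_rfl, win_OU U hU 0⟩) K hK

lemma Win.finite {a b : ℤ} {K : DCoh.D X} (h : Win a b K) (L : DCoh.D X) (a' b' : ℤ)
    (hL : DCoh.IsQCohD L) (ha : L.IsGE a') (hb : L.IsLE b') :
    {n : ℤ | ∃ φ : K ⟶ L⟦n⟧, φ ≠ 0}.Finite := by
  refine (Set.finite_Icc (a' - b) (b' - a)).subset ?_
  rintro n ⟨φ, hφ⟩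
  rw [Set.mem_Icc]
  by_contra hn
  apply hφ
  refine h _ (QCohD.isQCohD_shift hL n) (fun i h1 h2 => ?_) φ
  refine IsZero.of_iso ?_ (HDshift L n i _ rfl)
  by_cases h3 : n + i < a'
  · exact L.isZero_of_isGE a' (n + i) h3
  · exact L.isZero_of_isLE b' (n + i) (by omega)

end Groth.Agent.PerfA.PerfWin
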