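import Groth.Agent.PerfA.Restrict
import Groth.Agent.Dcoh.DerComp
import Groth.Agent.LoccohB.RpushTri

/-!
# The adjunction `j^* ⊣ Rj_*` on unbounded derived categories for an open immersion `j`

* `derAdj`: derived adjunction `F.mapDerivedCategory ⊣ RG` for `F ⊣ G` with `F` exact, `RG` the right
  derived functor of `G` (K-injective resolutions); `isIso_counit`: its counit is invertible if the counit of
  `F ⊣ G` is.
* `restrictRpushAdj j : restrictD j ⊣ DCoh.Rpush j`, with invertible counit.
-/

set_option autoImplicit false

universe w w' v v' u' u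

open CategoryTheory CategoryTheory.Limits AlgebraicGeometry Pretriangulated

attribute [local instance] HasDerivedCategory.standard

namespace Groth.Agent.PerfA.OpenPush

open Groth.Agent.Dcoh.DerAbs Groth.Agent.Dcoh.DerHo Groth.Agent.Dcoh.DerAdj Groth.Agent.Dcoh.DerComp

section Abstract

variable {A : Type u} [Category.{v} A] [Abelian A]
  {B : Type u'} [Category.{v'} B] [Abelian B]
  {F : A ⥤ B} {G : B ⥤ A} [F.Additive] [G.Additive] [PreservesFiniteLimits F]
  [PreservesFiniteColimits F] (adj : F ⊣ G) (hB : HasKInj B)
  (RG : DerivedCategory B ⥤ DerivedCategory A)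
  (β : mapQh G ⟶ DerivedCategory.Qh ⋙ RG) [RG.IsRightDerivedFunctor β (qis B)]

/-- The derived adjunction `F ⊣ RG` when `F` is exact. -/
noncomputable def derAdj : F.mapDerivedCategory ⊣ RG :=
  haveI := isLeftDerivedFunctor_mapDerivedCategory F
  derivedAdj adj hB (leftDataExact F) F.mapDerivedCategory F.mapDerivedCategoryFactorsh.hom RG β

lemma derAdj_counit_fac (K : HomotopyCategory B (ComplexShape.up ℤ)) :
    F.mapDerivedCategory.map (β.app K) ≫ (derAdj adj hB RG β).counit.app (DerivedCategory.Qh.obj K) =
      F.mapDerivedCategoryFactorsh.hom.app ((G.mapHomotopyCategory (ComplexShape.up ℤ)).obj K) ≫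
        DerivedCategory.Qh.map ((adjHo adj (ComplexShape.up ℤ)).counit.app K) :=
  haveI := isLeftDerivedFunctor_mapDerivedCategory F
  derivedAdj_counit_fac adj hB (leftDataExact F) F.mapDerivedCategory
    F.mapDerivedCategoryFactorsh.hom RG β K

lemma derAdj_unit_fac (K : HomotopyCategory A (ComplexShape.up ℤ)) :
    (derAdj adj hB RG β).unit.app (DerivedCategory.Qh.obj K) ≫
      RG.map (F.mapDerivedCategoryFactorsh.hom.app K) =
      DerivedCategory.Qh.map ((adjHo adj (ComplexShape.up ℤ)).unit.app K) ≫
          β.app ((F.mapHomotopyCategory (ComplexShape.up ℤ)).obj K) :=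
  haveI := isLeftDerivedFunctor_mapDerivedCategory F
  derivedAdj_unit_fac adj hB (leftDataExact F) F.mapDerivedCategory
    F.mapDerivedCategoryFactorsh.hom RG β K

instance isIso_counit [IsIso adj.counit] : IsIso (derAdj adj hB RG β).counit := by
  have key : ∀ K : DerivedCategory B, IsIso ((derAdj adj hB RG β).counit.app K) := by
    intro K
    obtain ⟨I, hI, ⟨e⟩⟩ := Groth.Agent.LoccohB.RpushTri.exists_isKInjective_iso hB K
    let e' : K ≅ DerivedCategory.Qh.obj ((HomotopyCategory.quotient B (ComplexShape.up ℤ)).obj I) :=
      e ≪≫ ((DerivedCategory.quotientCompQhIso B).app I).symm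
    have h1 : IsIso (β.app ((HomotopyCategory.quotient B (ComplexShape.up ℤ)).obj I)) := by
      exact isIso_unit_app' hB RG β I hI
    have h2 : IsIso ((adjHo adj (ComplexShape.up ℤ)).counit.app
        ((HomotopyCategory.quotient B (ComplexShape.up ℤ)).obj I)) := by
      have h3 : IsIso ((adjCx adj (ComplexShape.up ℤ)).counit.app I) := by
        have : ∀ i, IsIso (((adjCx adj (ComplexShape.up ℤ)).counit.app I).f i) := by
          intro i
          rw [adjCx_counit_app_f]
          exact NatIso.isIso_app_of_isIso adj.counit (I.X i)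
        exact HomologicalComplex.Hom.isIso_of_components _
      exact inferInstanceAs (IsIso ((HomotopyCategory.quotient B (ComplexShape.up ℤ)).map
        ((adjCx adj (ComplexShape.up ℤ)).counit.app I)))
    have h4 : IsIso ((derAdj adj hB RG β).counit.app
        (DerivedCategory.Qh.obj ((HomotopyCategory.quotient B (ComplexShape.up ℤ)).obj I))) := by
      have h5 := derAdj_counit_fac adj hB RG β
        ((HomotopyCategory.quotient B (ComplexShape.up ℤ)).obj I)
      have h6 : IsIso (F.mapDerivedCategory.map
          (β.app ((HomotopyCategory.quotient B (ComplexShape.up ℤ)).obj I)) ≫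
          (derAdj adj hB RG β).counit.app
            (DerivedCategory.Qh.obj ((HomotopyCategory.quotient B (ComplexShape.up ℤ)).obj I))) := by
        rw [h5]; infer_instance
      exact IsIso.of_isIso_comp_left (F.mapDerivedCategory.map
          (β.app ((HomotopyCategory.quotient B (ComplexShape.up ℤ)).obj I))) _
    exact (NatTrans.isIso_app_iff_of_iso (derAdj adj hB RG β).counit e').2 h4
  exact NatIso.isIso_of_isIso_app _

end Abstract

section Scheme

open AlgebraicGeometry.Scheme.Modules Groth.Agent.PerfA.Restrict Groth.Agent.LoccohB.RpushTri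

variable {X Y : Scheme.{u}} (j : X ⟶ Y) [IsOpenImmersion j]

/-- `j^* ⊣ Rj_*` for an open immersion `j`. -/
noncomputable def restrictRpushAdj [DCoh.HasRpush j] : restrictD j ⊣ DCoh.Rpush j :=
  derAdj (restrictAdjunction j) (hasKInj_modules X) (DCoh.Rpush j)
    ((DCoh.pushKh j).totalRightDerivedUnit DerivedCategory.Qh
        (HomotopyCategory.quasiIso X.Modules (ComplexShape.up ℤ)))

instance isIso_restrictRpushAdj_counit [DCoh.HasRpush j] : IsIso (restrictRpushAdj j).counit :=
  isIso_counit (restrictAdjunction j) (hasKInj_modules X) (DCoh.Rpush j)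
    ((DCoh.pushKh j).totalRightDerivedUnit DerivedCategory.Qh
        (HomotopyCategory.quasiIso X.Modules (ComplexShape.up ℤ)))

end Scheme

end Groth.Agent.PerfA.OpenPush
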