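import Mathlib.CategoryTheory.Triangulated.Subcategory
import Mathlib.CategoryTheory.Triangulated.TriangleShift
import Mathlib.CategoryTheory.Linear.LinearFunctor
import Mathlib.CategoryTheory.Shift.Linear

/-!
# Factoring morphisms through iterated cones of multiplications

In a linear pretriangulated category: if every morphism `P⟦k⟧ ⟶ M` is killed by a power of each `f ∈ l`, then
every `φ : P ⟶ M` factors through an object `Q` obtained from `P` by finitely many cones on which a power of each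
`f ∈ l` acts as zero.
-/

set_option autoImplicit false

universe w v u

open CategoryTheory CategoryTheory.Limits CategoryTheory.Pretriangulated
open scoped ZeroObject

set_option linter.unusedSectionVars false

namespace Groth.Agent.PerfA.ConeKill

variable {A : Type w} [CommRing A] {D : Type u} [Category.{v} D] [Preadditive D] [HasZeroObject D]
  [HasShift D ℤ] [∀ n : ℤ, (shiftFunctor D n).Additive] [Pretriangulated D] [Linear A D]

/-- A power of `f` acts as zero on `P`. -/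
def Nilp (f : A) (P : D) : Prop := ∃ n : ℕ, f ^ n • 𝟙 P = 0

/-- All morphisms from shifts of `P` to `M` are killed by powers of `f`. -/
def KillsTo (f : A) (M : D) : ObjectProperty D := fun P =>
  ∀ (k : ℤ) (φ : P⟦k⟧ ⟶ M), ∃ n : ℕ, f ^ n • φ = 0

theorem Nilp.exists_pow_smul_eq_zero {f : A} {P Q : D} (h : Nilp f P) (φ : P ⟶ Q) :
    ∃ n : ℕ, f ^ n • φ = 0 := by
  obtain ⟨n, hn⟩ := h
  exact ⟨n, by rw [← Category.id_comp φ, ← Linear.smul_comp, hn, zero_comp]⟩

theorem nilp_of_iso {f : A} {P Q : D} (e : P ≅ Q) (h : Nilp f P) : Nilp f Q := by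
  obtain ⟨n, hn⟩ := h
  refine ⟨n, ?_⟩
  rw [← cancel_epi e.hom, comp_zero, Linear.comp_smul, Category.comp_id, ← Category.id_comp e.hom,
    ← Linear.smul_comp, hn, zero_comp]

/-- Nilpotence of the action of `f` is stable under extensions. -/
theorem nilp_ext {f : A} (T : Triangle D) (hT : T ∈ distTriang D)
    (h₁ : Nilp f T.obj₁) (h₃ : Nilp f T.obj₃) : Nilp f T.obj₂ := by
  obtain ⟨n, hn⟩ := h₁
  obtain ⟨m, hm⟩ := h₃
  have h1 : T.mor₁ ≫ (f ^ n • 𝟙 T.obj₂) = 0 := by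
    rw [Linear.comp_smul, Category.comp_id, ← Category.id_comp T.mor₁, ← Linear.smul_comp, hn, zero_comp]
  obtain ⟨ψ, hψ⟩ := Triangle.yoneda_exact₂ T hT _ h1
  refine ⟨m + n, ?_⟩
  rw [pow_add, mul_smul, hψ, ← Linear.smul_comp, ← Category.comp_id T.mor₂, ← Linear.comp_smul, hm,
    comp_zero, zero_comp]

theorem nilp_shift [∀ n : ℤ, (shiftFunctor D n).Linear A] {f : A} {P : D} (h : Nilp f P) (k : ℤ) :
    Nilp f (P⟦k⟧) := by
  obtain ⟨n, hn⟩ := h
  refine ⟨n, ?_⟩
  rw [← CategoryTheory.Functor.map_id, ← Functor.map_smul, hn, Functor.map_zero]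

/-- `f` acts nilpotently on the cone of multiplication by a power of `f`. -/
theorem nilp_cone [∀ n : ℤ, (shiftFunctor D n).Linear A] {f : A} {P Q : D} (n : ℕ) (g : P ⟶ Q)
    (h : Q ⟶ P⟦(1 : ℤ)⟧) (hT : Triangle.mk (f ^ n • 𝟙 P) g h ∈ distTriang D) : Nilp f Q := by
  have h1 : g ≫ (f ^ n • 𝟙 Q) = 0 := by
    have h0 : (f ^ n • 𝟙 P) ≫ g = 0 := comp_distTriang_mor_zero₁₂ _ hT
    rw [Linear.smul_comp, Category.id_comp] at h0
    rw [Linear.comp_smul, Category.comp_id, h0]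
  obtain ⟨ψ, hψ⟩ := Triangle.yoneda_exact₃ _ hT _ h1
  have h2 : f ^ n • h = 0 := by
    have h0 : h ≫ (shiftFunctor D (1 : ℤ)).map (f ^ n • 𝟙 P) = 0 := comp_distTriang_mor_zero₃₁ _ hT
    rwa [Functor.map_smul, CategoryTheory.Functor.map_id, Linear.comp_smul, Category.comp_id] at h0
  refine ⟨n + n, ?_⟩
  rw [pow_add, mul_smul, hψ]
  change f ^ n • (h ≫ ψ) = 0
  rw [← Linear.smul_comp, h2, zero_comp]

theorem killsTo_of_nilp_smul {f : A} {M P : D} (k : ℤ) (φ : P⟦k⟧ ⟶ M) (h : Nilp f (P⟦k⟧)) :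
    ∃ n : ℕ, f ^ n • φ = 0 := h.exists_pow_smul_eq_zero φ

instance killsTo_isClosedUnderIsomorphisms (f : A) (M : D) : (KillsTo f M).IsClosedUnderIsomorphisms where
  of_iso {P Q} e h k φ := by
    obtain ⟨n, hn⟩ := h k ((shiftFunctor D k).map e.hom ≫ φ)
    refine ⟨n, ?_⟩
    rw [← cancel_epi ((shiftFunctor D k).map e.hom), Linear.comp_smul, hn, comp_zero]

instance killsTo_isTriangulated (f : A) (M : D) : (KillsTo f M).IsTriangulated where
  exists_zero := ⟨0, isZero_zero _, fun k φ =>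
    ⟨0, ((shiftFunctor D k).map_isZero (isZero_zero D)).eq_of_src _ _⟩⟩
  isStableUnderShiftBy a :=
    { le_shift := fun P hP k φ => by
        obtain ⟨n, hn⟩ := hP (a + k) ((shiftFunctorAdd D a k).hom.app P ≫ φ)
        refine ⟨n, ?_⟩
        rw [← cancel_epi ((shiftFunctorAdd D a k).hom.app P), Linear.comp_smul, hn, comp_zero] }
  ext₂' T hT h₁ h₃ := by
    refine ObjectProperty.le_isoClosure _ _ fun k φ => ?_
    have hTk := Triangle.shift_distinguished T hT k
    obtain ⟨n, hn⟩ := h₁ k (((Triangle.shiftFunctor D k).obj T).mor₁ ≫ φ)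
    rw [← Linear.comp_smul] at hn
    obtain ⟨ψ, hψ⟩ := Triangle.yoneda_exact₂ _ hTk _ hn
    obtain ⟨m, hm⟩ := h₃ k ψ
    refine ⟨m + n, ?_⟩
    rw [pow_add, mul_smul]
    refine (congrArg (fun z => f ^ m • z) hψ).trans ?_
    change f ^ m • (((Triangle.shiftFunctor D k).obj T).mor₂ ≫ ψ) = 0
    rw [← Linear.comp_smul]
    exact (congrArg (fun z => ((Triangle.shiftFunctor D k).obj T).mor₂ ≫ z) hm).trans comp_zero

/-- Main factorization lemma. -/
theorem exists_factor [∀ n : ℤ, (shiftFunctor D n).Linear A] (l : List A) (P M : D)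
    (hP : ∀ f ∈ l, KillsTo f M P) (φ : P ⟶ M) :
    ∃ (Q : D) (a : P ⟶ Q) (b : Q ⟶ M), a ≫ b = φ ∧ (∀ f ∈ l, Nilp f Q) ∧
      ∀ 𝒯 : ObjectProperty D, 𝒯.IsTriangulated → 𝒯.IsClosedUnderIsomorphisms → 𝒯 P → 𝒯 Q := by
  induction l with
  | nil => exact ⟨P, 𝟙 P, φ, by simp, by simp, fun _ _ _ h => h⟩
  | cons f l ih =>
    obtain ⟨Q, a, b, hab, hQ, h𝒯⟩ := ih (fun f' hf' => hP f' (List.mem_cons_of_mem _ hf'))
    have hQM : KillsTo f M Q := h𝒯 _ inferInstance inferInstance (hP f List.mem_cons_self)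
    obtain ⟨n, hn⟩ : ∃ n : ℕ, f ^ n • b = 0 := by
      obtain ⟨n, hn⟩ := hQM 0 ((shiftFunctorZero D ℤ).hom.app Q ≫ b)
      refine ⟨n, ?_⟩
      rw [← Linear.comp_smul] at hn
      exact (cancel_epi ((shiftFunctorZero D ℤ).hom.app Q)).1 (hn.trans comp_zero.symm)
    obtain ⟨Q', g, h, hT⟩ := distinguished_cocone_triangle (f ^ n • 𝟙 Q)
    obtain ⟨b', hb'⟩ := Triangle.yoneda_exact₂ _ hT b (by
      change (f ^ n • 𝟙 Q) ≫ b = 0
      rw [Linear.smul_comp, Category.id_comp, hn])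
    refine ⟨Q', a ≫ g, b', ?_, ?_, ?_⟩
    · rw [Category.assoc, ← hab, hb']
      rfl
    · intro f' hf'
      rcases List.mem_cons.1 hf' with rfl | hf'
      · exact nilp_cone n g h hT
      · exact nilp_ext _ (rot_of_distTriang _ hT) (hQ f' hf') (nilp_shift (hQ f' hf') 1)
    · intro 𝒯 h1 h2 hP'
      exact 𝒯.ext_of_isTriangulatedClosed₃ _ hT (h𝒯 𝒯 h1 h2 hP') (h𝒯 𝒯 h1 h2 hP')

end Groth.Agent.PerfA.ConeKill
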