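import Mathlib.Algebra.Homology.DerivedCategory.TStructure
import Mathlib.Algebra.Homology.DerivedCategory.FullyFaithful
import Mathlib.Algebra.Homology.DerivedCategory.ShortExact
import Mathlib.CategoryTheory.Triangulated.Subcategory
import Mathlib.CategoryTheory.ObjectProperty.ClosedUnderIsomorphisms

/-!
# Dévissage of bounded complexes

A class of objects of the derived category which is closed under extensions (triangles) and contains
the single complexes on objects of a class `P` contains all bounded complexes with terms in `P`.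
-/

set_option autoImplicit false

universe w v u

open CategoryTheory CategoryTheory.Limits CategoryTheory.Pretriangulated

namespace Groth.Agent.PerfA.Devissage

variable {C : Type u} [Category.{v} C] [Abelian C]

/-- The projection of a complex which vanishes below degree `a` onto its lowest term. -/
noncomputable def toLowest (E : CochainComplex C ℤ) (a : ℤ) (h : ∀ i < a, IsZero (E.X i)) :
    E ⟶ (HomologicalComplex.single C (.up ℤ) a).obj (E.X a) :=
  HomologicalComplex.mkHomToSingle (𝟙 (E.X a)) (fun i hi => (h i (by
    simp only [ComplexShape.up_Rel] at hi; lia)).eq_of_src _ _)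

theorem toLowest_f_self (E : CochainComplex C ℤ) (a : ℤ) (h : ∀ i < a, IsZero (E.X i)) :
    (toLowest E a h).f a = (HomologicalComplex.singleObjXSelf (.up ℤ) a (E.X a)).inv := by
  simp [toLowest]

instance isIso_toLowest_f_self (E : CochainComplex C ℤ) (a : ℤ) (h : ∀ i < a, IsZero (E.X i)) :
    IsIso ((toLowest E a h).f a) := by
  rw [toLowest_f_self]; infer_instance

instance epi_toLowest (E : CochainComplex C ℤ) (a : ℤ) (h : ∀ i < a, IsZero (E.X i)) :
    Epi (toLowest E a h) := by
  have : ∀ i, Epi ((toLowest E a h).f i) := by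
    intro i
    by_cases hi : i = a
    · subst hi; infer_instance
    · exact IsZero.epi (HomologicalComplex.isZero_single_obj_X _ _ _ _ hi) _
  exact HomologicalComplex.epi_of_epi_f _ this

/-- Terms of a kernel in the category of complexes. -/
noncomputable def kernelXIso {K L : CochainComplex C ℤ} (f : K ⟶ L) (i : ℤ) :
    (kernel f).X i ≅ kernel (f.f i) :=
  PreservesKernel.iso (HomologicalComplex.eval C (.up ℤ) i) f

theorem isZero_kernel_toLowest_X_self (E : CochainComplex C ℤ) (a : ℤ)
    (h : ∀ i < a, IsZero (E.X i)) : IsZero ((kernel (toLowest E a h)).X a) :=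
  (isZero_kernel_of_mono ((toLowest E a h).f a)).of_iso (kernelXIso _ a)

noncomputable def kernelToLowestXIso (E : CochainComplex C ℤ) (a : ℤ)
    (h : ∀ i < a, IsZero (E.X i)) (i : ℤ) (hi : i ≠ a) :
    (kernel (toLowest E a h)).X i ≅ E.X i :=
  kernelXIso _ i ≪≫ kernelIsoOfEq
    ((HomologicalComplex.isZero_single_obj_X _ _ _ _ hi).eq_of_tgt _ 0) ≪≫ kernelZeroIsoSource

variable [HasDerivedCategory.{w} C]

/-- The distinguished triangle `σ_{>a} E ⟶ E ⟶ E^a[-a] ⟶` for `E` vanishing below degree `a`. -/
theorem exists_triangle (E : CochainComplex C ℤ) (a : ℤ) (h : ∀ i < a, IsZero (E.X i)) :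
    ∃ (E' : CochainComplex C ℤ) (f : E' ⟶ E)
      (g : DerivedCategory.Q.obj E ⟶ (DerivedCategory.singleFunctor C a).obj (E.X a))
      (d : (DerivedCategory.singleFunctor C a).obj (E.X a) ⟶ (DerivedCategory.Q.obj E')⟦(1 : ℤ)⟧),
      Triangle.mk (DerivedCategory.Q.map f) g d ∈ distTriang (DerivedCategory C) ∧
      (∀ i ≤ a, IsZero (E'.X i)) ∧ (∀ i, a < i → Nonempty (E'.X i ≅ E.X i)) := by
  let S : ShortComplex (CochainComplex C ℤ) :=
    ShortComplex.mk (kernel.ι (toLowest E a h)) (toLowest E a h) (kernel.condition _)
  have hS : S.ShortExact :=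
    { exact := ShortComplex.exact_of_f_is_kernel _ (kernelIsKernel _)
      mono_f := inferInstanceAs (Mono (kernel.ι _))
      epi_g := inferInstanceAs (Epi (toLowest E a h)) }
  refine ⟨kernel (toLowest E a h), kernel.ι _, DerivedCategory.Q.map (toLowest E a h),
    DerivedCategory.triangleOfSESδ hS, DerivedCategory.triangleOfSES_distinguished hS, ?_, ?_⟩
  · intro i hi
    by_cases hia : i = a
    · subst hia; exact isZero_kernel_toLowest_X_self _ _ _
    · exact (h i (by lia)).of_iso (kernelToLowestXIso E a h i hia)
  · intro i hi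
    exact ⟨kernelToLowestXIso E a h i (by lia)⟩

/-- Dévissage: a class of objects of `D(C)` closed under isomorphisms and extensions, containing zero and
the objects `P[-n]` for `P` in a class `𝒫`, contains all bounded complexes with terms in `𝒫`. -/
theorem devissage (Φ : DerivedCategory C → Prop) (hiso : ∀ {X Y : DerivedCategory C}, (X ≅ Y) → Φ X → Φ Y)
    (hext : ∀ T : Triangle (DerivedCategory C), T ∈ distTriang _ → Φ T.obj₁ → Φ T.obj₃ → Φ T.obj₂)
    (hzero : ∀ X : DerivedCategory C, IsZero X → Φ X)
    (E : CochainComplex C ℤ) (a b : ℤ) (hE : ∀ i, i < a ∨ b < i → IsZero (E.X i))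
    (hs : ∀ i, a ≤ i → i ≤ b → Φ ((DerivedCategory.singleFunctor C i).obj (E.X i))) :
    Φ (DerivedCategory.Q.obj E) := by
  obtain ⟨k, hk⟩ : ∃ k : ℕ, b < a + k := ⟨(b - a + 1).toNat, by lia⟩
  induction k generalizing a E with
  | zero =>
    refine hzero _ ?_
    have : IsZero E := by
      rw [IsZero.iff_id_eq_zero]
      ext i
      exact (hE i (by lia)).eq_of_src _ _
    exact Functor.map_isZero _ this
  | succ k ih =>
    by_cases hab : b < a
    · refine hzero _ ?_
      have : IsZero E := by
        rw [IsZero.iff_id_eq_zero]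
        ext i
        exact (hE i (by lia)).eq_of_src _ _
      exact Functor.map_isZero _ this
    · obtain ⟨E', f, g, d, hT, h1, h2⟩ := exists_triangle E a (fun i hi => hE i (Or.inl hi))
      refine hext _ hT ?_ (hs a le_rfl (by lia))
      refine ih E' (a + 1) ?_ ?_ (by push_cast at hk; lia)
      · rintro i (hi | hi)
        · exact h1 i (by lia)
        · by_cases hia : i ≤ a
          · exact h1 i hia
          · exact (hE i (Or.inr hi)).of_iso (h2 i (by lia)).some
      · intro i hi hib
        exact hiso ((DerivedCategory.singleFunctor C i).mapIso (h2 i (by lia)).some.symm)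
          (hs i (by lia) hib)

end Groth.Agent.PerfA.Devissage
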