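import Mathlib.Algebra.Homology.DerivedCategory.Linear
import Mathlib.Algebra.Homology.DerivedCategory.HomologySequence
import Mathlib.Algebra.Homology.ShortComplex.Linear

/-!
# The cohomology functors of a derived category are linear
-/

set_option autoImplicit false

universe t w v u

open CategoryTheory CategoryTheory.Limits

namespace Groth.Agent.PerfA.HomologyLinear

variable {R : Type t} [Ring R] {C : Type u} [Category.{v} C] [Abelian C] [Linear R C]

theorem homologyMap_smul {K L : CochainComplex C ℤ} (f : K ⟶ L) (r : R) (n : ℤ) :
    HomologicalComplex.homologyMap (r • f) n = r • HomologicalComplex.homologyMap f n :=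
  ShortComplex.homologyMap_smul (S₁ := K.sc n) (S₂ := L.sc n)
    ((HomologicalComplex.shortComplexFunctor C (.up ℤ) n).map f) r

variable [HasDerivedCategory.{w} C]

theorem homologyFunctor_map_smul_id (M : DerivedCategory C) (r : R) (n : ℤ) :
    (DerivedCategory.homologyFunctor C n).map (r • 𝟙 M) = r • 𝟙 _ := by
  let K := DerivedCategory.Q.objPreimage M
  let e : DerivedCategory.Q.obj K ≅ M := DerivedCategory.Q.objObjPreimageIso M
  have h1 : r • 𝟙 M = e.inv ≫ DerivedCategory.Q.map (r • 𝟙 K) ≫ e.hom := by
    rw [Functor.map_smul, CategoryTheory.Functor.map_id, Linear.smul_comp, Linear.comp_smul]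
    simp
  have h2 : (DerivedCategory.homologyFunctor C n).map (DerivedCategory.Q.map (r • 𝟙 K)) = r • 𝟙 _ := by
    have h3 := (DerivedCategory.homologyFunctorFactors C n).hom.naturality (r • 𝟙 K)
    have h4 : (HomologicalComplex.homologyFunctor C (.up ℤ) n).map (r • 𝟙 K) = r • 𝟙 _ := by
      rw [HomologicalComplex.homologyFunctor_map, homologyMap_smul, HomologicalComplex.homologyMap_id]
      rfl
    rw [h4, Linear.comp_smul, Category.comp_id, Functor.comp_map] at h3
    refine (cancel_mono ((DerivedCategory.homologyFunctorFactors C n).hom.app K)).1 (h3.trans ?_)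
    rw [Linear.smul_comp]
    congr 1
    exact (Category.id_comp _).symm
  rw [h1, Functor.map_comp, Functor.map_comp, h2, Linear.smul_comp, Linear.comp_smul, Category.id_comp,
    ← Functor.map_comp, e.inv_hom_id, CategoryTheory.Functor.map_id]

theorem homologyFunctor_map_smul {M N : DerivedCategory C} (φ : M ⟶ N) (r : R) (n : ℤ) :
    (DerivedCategory.homologyFunctor C n).map (r • φ) =
      r • (DerivedCategory.homologyFunctor C n).map φ := by
  have h : r • φ = φ ≫ (r • 𝟙 N) := by rw [Linear.comp_smul, Category.comp_id]
  rw [h, Functor.map_comp, homologyFunctor_map_smul_id, Linear.comp_smul, Category.comp_id]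

instance linear_homologyFunctor (n : ℤ) :
    Functor.Linear R (DerivedCategory.homologyFunctor C n) where
  map_smul φ r := homologyFunctor_map_smul φ r n

end Groth.Agent.PerfA.HomologyLinear
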