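import Groth.Prelude.Def_DRing2
import Groth.Agent.PerfA.ProjHom
import Groth.Agent.PerfA.Devissage
import Groth.Agent.PerfA.HomologyLinear
import Groth.Agent.PerfA.ConeKill
import Mathlib.Algebra.Category.ModuleCat.Projective
import Mathlib.CategoryTheory.Triangulated.Yoneda

/-!
# Killing morphisms out of perfect complexes of modules

If `P` is a perfect object of `D(A)`, `M` an object of `D(A)` whose cohomology modules are `f`-power torsion,
then every `φ : P ⟶ M` is killed by a power of `f`.  Hence, if the cohomology of `M` is torsion with respect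
to every element of a finite set, `φ` factors through an iterated cone of multiplications on `P`.
-/

set_option autoImplicit false

universe u

open CategoryTheory CategoryTheory.Limits CategoryTheory.Pretriangulated

attribute [local instance] HasDerivedCategory.standard

namespace Groth.Agent.PerfA.RingKill

variable {A : Type u} [CommRing A]

/-- The cohomology modules of `M` are `f`-power torsion. -/
def IsTors (f : A) (M : Dual.D A) : Prop :=
  ∀ (i : ℤ) (x : (DerivedCategory.homologyFunctor (ModuleCat.{u} A) i).obj M), ∃ n : ℕ, f ^ n • x = 0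

/-- Every morphism from `P` to an `f`-power torsion object is killed by a power of `f`. -/
def Kills (f : A) (P : Dual.D A) : Prop :=
  ∀ (M : Dual.D A), IsTors f M → ∀ φ : P ⟶ M, ∃ n : ℕ, f ^ n • φ = 0

theorem kills_of_iso {f : A} {P Q : Dual.D A} (e : P ≅ Q) (h : Kills f P) : Kills f Q := by
  intro M hM φ
  obtain ⟨n, hn⟩ := h M hM (e.hom ≫ φ)
  refine ⟨n, ?_⟩
  rw [← cancel_epi e.hom, Linear.comp_smul, hn, comp_zero]

theorem kills_of_isZero {f : A} {P : Dual.D A} (h : IsZero P) : Kills f P :=
  fun _ _ φ => ⟨0, by rw [h.eq_of_src φ 0, smul_zero]⟩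

theorem kills_ext {f : A} (T : Triangle (Dual.D A)) (hT : T ∈ distTriang _)
    (h₁ : Kills f T.obj₁) (h₃ : Kills f T.obj₃) : Kills f T.obj₂ := by
  intro M hM φ
  obtain ⟨n, hn⟩ := h₁ M hM (T.mor₁ ≫ φ)
  rw [← Linear.comp_smul] at hn
  obtain ⟨ψ, hψ⟩ := Triangle.yoneda_exact₂ T hT _ hn
  obtain ⟨m, hm⟩ := h₃ M hM ψ
  refine ⟨m + n, ?_⟩
  rw [pow_add, mul_smul, hψ, ← Linear.comp_smul, hm, comp_zero]

theorem kills_single {f : A} (N : ModuleCat.{u} A) [Module.Finite A N] [Module.Projective A N] (i : ℤ) :
    Kills f ((DerivedCategory.singleFunctor (ModuleCat.{u} A) i).obj N) := by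
  intro M hM φ
  have hN : Projective N := (IsProjective.iff_projective N).1 inferInstance
  let e := (DerivedCategory.singleFunctorCompHomologyFunctorIso (ModuleCat.{u} A) i).app N
  let ψ : N ⟶ (DerivedCategory.homologyFunctor (ModuleCat.{u} A) i).obj M :=
    e.inv ≫ (DerivedCategory.homologyFunctor (ModuleCat.{u} A) i).map φ
  obtain ⟨s, hs⟩ := Module.Finite.fg_top (R := A) (M := N)
  choose k hk using fun x : N => hM i (ψ.hom x)
  obtain ⟨n, hn⟩ : ∃ n : ℕ, ∀ x ∈ s, k x ≤ n := ⟨s.sup k, fun x hx => Finset.le_sup hx⟩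
  have hψ : f ^ n • ψ = 0 := by
    ext x
    have hx : x ∈ Submodule.span A (s : Set N) := by rw [hs]; trivial
    induction hx using Submodule.span_induction with
    | mem x hx =>
      change f ^ n • ψ.hom x = 0
      obtain ⟨m, hm⟩ := Nat.exists_eq_add_of_le (hn x hx)
      rw [hm, add_comm, pow_add, mul_smul, hk, smul_zero]
    | zero => rw [map_zero, map_zero]
    | add x y _ _ hx hy => rw [map_add, map_add, hx, hy]
    | smul a x _ hx => rw [map_smul, map_smul, hx]
  refine ⟨n, ProjHom.eq_zero_of_homology_map_eq_zero N i M _ ?_⟩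
  rw [HomologyLinear.homologyFunctor_map_smul]
  have h2 : (DerivedCategory.homologyFunctor (ModuleCat.{u} A) i).map φ = e.hom ≫ ψ := by
    rw [Iso.hom_inv_id_assoc]
  rw [h2, ← Linear.comp_smul, hψ, comp_zero]

/-- Morphisms from shifts of a perfect object to a torsion object are killed by powers of `f`. -/
theorem killsTo_of_isPerfect {f : A} {P M : Dual.D A} (hP : DRing.IsPerfect A P) (hM : IsTors f M) :
    ConeKill.KillsTo f M P := by
  obtain ⟨E, a, b, hE, hfp, ⟨e⟩⟩ := hP
  refine (ConeKill.KillsTo f M).prop_of_iso e ?_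
  refine Devissage.devissage (fun P => ConeKill.KillsTo f M P)
    (fun e h => (ConeKill.KillsTo f M).prop_of_iso e h)
    (fun T hT h1 h3 => (ConeKill.KillsTo f M).ext_of_isTriangulatedClosed₂ T hT h1 h3)
    (fun X hX => ObjectProperty.prop_of_isZero _ hX) E a b hE ?_
  intro i _ _ k φ
  have := (hfp i).1
  have := (hfp i).2
  exact kills_of_iso (((DerivedCategory.singleFunctors (ModuleCat.{u} A)).shiftIso k (i - k) i
    (by lia)).symm.app (E.X i)) (kills_single (E.X i) (i - k)) M hM φ

/-- A morphism from a perfect object `P` to an object whose cohomology is torsion with respect to each `f ∈ l`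
factors through an object built from `P` by finitely many cones and on which each `f ∈ l` acts nilpotently. -/
theorem exists_factor_of_isPerfect (l : List A) (P M : Dual.D A) (hP : DRing.IsPerfect A P)
    (hM : ∀ f ∈ l, IsTors f M) (φ : P ⟶ M) :
    ∃ (Q : Dual.D A) (a : P ⟶ Q) (b : Q ⟶ M), a ≫ b = φ ∧ (∀ f ∈ l, ConeKill.Nilp f Q) ∧
      ∀ 𝒯 : ObjectProperty (Dual.D A), 𝒯.IsTriangulated → 𝒯.IsClosedUnderIsomorphisms → 𝒯 P → 𝒯 Q :=
  ConeKill.exists_factor l P M (fun f hf => killsTo_of_isPerfect hP (hM f hf)) φ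

/-- If `f` acts nilpotently on `Q` then the cohomology modules of `Q` are `f`-power torsion. -/
theorem isTors_of_nilp {f : A} {Q : Dual.D A} (h : ConeKill.Nilp f Q) : IsTors f Q := by
  obtain ⟨n, hn⟩ := h
  intro i x
  refine ⟨n, ?_⟩
  have h1 := HomologyLinear.homologyFunctor_map_smul_id Q (f ^ n) i
  rw [hn, Functor.map_zero] at h1
  have h2 := congrArg (fun g => ModuleCat.Hom.hom g x) h1
  simpa using h2.symm

end Groth.Agent.PerfA.RingKill
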