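import Groth.Agent.PerfA.PostHom
import Groth.Agent.PerfA.ExactD
import Groth.Agent.PerfB.DQAdj
import Mathlib.Algebra.Homology.DerivedCategory.ExactFunctor

/-!
# Full faithfulness of the derived functor of an exact fully faithful left adjoint

`F : A ⥤ B` exact, fully faithful, left adjoint to `S`; `PA` a detecting class in `A` acyclic for all
objects, `PB` a detecting class in `B`, containing `F(PA)`, acyclic for `Qc`, the essential image of `F`.
Then `D(A) ⥤ D(B)` is fully faithful with essential image the complexes with cohomology in `Qc`.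
-/

set_option autoImplicit false

universe w₁ w₂ v₁ v₂ u₁ u₂

open CategoryTheory Category Limits Pretriangulated Triangulated DerivedCategory

namespace Groth.Agent.PerfA.TildeAbs

open PostAbs PostTower PostHom Groth.Agent.PerfB.DQAdj

section Generators

variable {C : Type u₁} [Category.{v₁} C] [Abelian C] [HasDerivedCategory.{w₁} C]

/-- A detecting class generates the derived category. -/
lemma isZero_of_hom_single {P : ObjectProperty C} (hP : Detects P) (K : DerivedCategory C)
    (h : ∀ (m : ℤ) (G : C), P G → ∀ φ : (singleFunctor C m).obj G ⟶ K, φ = 0) : IsZero K := by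
  rw [ExactD.isZero_iff]
  intro m
  by_contra hcon
  have hmono : ¬ Mono ((homologyFunctor C m).map (0 : K ⟶ K)) := by
    intro hm
    apply hcon
    rw [Functor.map_zero] at hm
    rw [IsZero.iff_id_eq_zero]
    rw [← cancel_mono (0 : (homologyFunctor C m).obj K ⟶ (homologyFunctor C m).obj K), comp_zero,
      comp_zero]
  obtain ⟨G, hG, φ, hφ, -⟩ := exists_single_of_not_mono hP (0 : K ⟶ K) m hmono
  exact hφ (by rw [h m G hG φ, Functor.map_zero])

/-- Maps inducing bijections on `Hom(S_m G, -)` are isomorphisms. -/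
lemma isIso_of_bijective_single {P : ObjectProperty C} (hP : Detects P) {K L : DerivedCategory C}
    (u : K ⟶ L)
    (h : ∀ (m : ℤ) (G : C), P G →
      Function.Bijective (fun φ : (singleFunctor C m).obj G ⟶ K => φ ≫ u)) : IsIso u := by
  obtain ⟨Z, a, b, hT⟩ := distinguished_cocone_triangle u
  have hZ : IsZero Z := by
    refine isZero_of_hom_single hP Z (fun m G hG φ => ?_)
    have e := ((singleFunctors C).shiftIso 1 m (m + 1) (by lia)).app G
    have h1 : φ ≫ b = 0 := by
      obtain ⟨ψ, hψ⟩ : ∃ ψ : (singleFunctor C (m + 1)).obj G ⟶ K, ψ⟦(1 : ℤ)⟧' = e.hom ≫ φ ≫ b :=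
        (shiftFunctor (DerivedCategory C) (1 : ℤ)).map_surjective _
      have h2 : ψ ≫ u = 0 := by
        apply (shiftFunctor (DerivedCategory C) (1 : ℤ)).map_injective
        have h3 : b ≫ u⟦(1 : ℤ)⟧' = 0 := comp_distTriang_mor_zero₃₁ _ hT
        rw [Functor.map_comp, hψ, assoc, assoc, h3, comp_zero, comp_zero, Functor.map_zero]
      have h4 : ψ = 0 := (h (m + 1) G hG).1 (by dsimp only; rw [h2, zero_comp])
      rw [h4, Functor.map_zero] at hψ
      rw [← cancel_epi e.hom, ← hψ, comp_zero]
    obtain ⟨g, hg⟩ : ∃ g : (singleFunctor C m).obj G ⟶ L, φ = g ≫ a :=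
      Triangle.coyoneda_exact₃ _ hT φ h1
    obtain ⟨g', hg'⟩ := (h m G hG).2 g
    dsimp only at hg'
    have h5 : u ≫ a = 0 := comp_distTriang_mor_zero₁₂ _ hT
    rw [hg, ← hg', assoc, h5, comp_zero]
  exact (Triangle.isZero₃_iff_isIso₁ _ hT).1 hZ

omit [HasDerivedCategory.{w₁} C] in
/-- Maps of `C` inducing bijections on `Hom(G, -)` are isomorphisms. -/
lemma isIso_of_bijective {P : ObjectProperty C} (hP : Detects P) {M N : C} (f : M ⟶ N)
    (h : ∀ (G : C), P G → Function.Bijective (fun φ : G ⟶ M => φ ≫ f)) : IsIso f := by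
  have h1 : Mono f := by
    refine Preadditive.mono_of_kernel_zero ?_
    by_contra hcon
    obtain ⟨G, hG, p, hp⟩ := hP _ hcon
    apply hp
    apply (h G hG).1
    simp
  have h2 : Epi f := by
    refine Preadditive.epi_of_cokernel_zero ?_
    by_contra hcon
    obtain ⟨G, hG, p, hp⟩ := hP _ hcon
    apply hp
    obtain ⟨p', hp'⟩ := (h G hG).2 p
    dsimp only at hp'
    rw [← hp', assoc, cokernel.condition, comp_zero]
  exact isIso_of_mono_of_epi f

end Generators

variable {A : Type u₁} {B : Type u₂} [Category.{v₁} A] [Category.{v₂} B] [Abelian A] [Abelian B]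
  {F : A ⥤ B} {S : B ⥤ A} (adj : F ⊣ S) [F.Additive] [S.Additive]
  [PreservesFiniteLimits F] [PreservesFiniteColimits F]
  [HasDerivedCategory.{w₁} A] [HasDerivedCategory.{w₂} B]

variable {PA QA : ObjectProperty A} {PB Qc : ObjectProperty B}

section Hom

variable (hA : Acyc PA QA) (hB : Acyc PB Qc) (hFG : ∀ ⦃G⦄, PA G → PB (F.obj G))
  (hFM : ∀ M, QA M → Qc (F.obj M))
  [HasProductsOfShape ℕ (DerivedCategory A)] [HasProductsOfShape ℕ (DerivedCategory B)]

include hFM in
omit [HasProductsOfShape ℕ (DerivedCategory A)] [HasProductsOfShape ℕ (DerivedCategory B)] in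
lemma cohIn_map (hB : Acyc PB Qc) (K : DerivedCategory A) (hK : CohIn QA K) :
    CohIn Qc (F.mapDerivedCategory.obj K) :=
  fun q => hB.iso ((ExactD.mapHomology F q).app K).symm (hFM _ (hK q))

include hB hFG in
omit [HasProductsOfShape ℕ (DerivedCategory A)] in
/-- `Hom(F S_m G, K) ≅ Hom(H^m (F S_m G), H^m K)`. -/
lemma bijective_homology_map {G : A} (hG : PA G) (m : ℤ) {K : DerivedCategory B}
    (hK : CohIn Qc K) : Function.Bijective
      (fun φ : F.mapDerivedCategory.obj ((singleFunctor A m).obj G) ⟶ K =>
        (homologyFunctor B m).map φ) := by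
  let e : F.mapDerivedCategory.obj ((singleFunctor A m).obj G) ≅
    (singleFunctor B m).obj (F.obj G) := (F.mapDerivedCategorySingleFunctor m).app G
  have h1 := hB.bijective_homology hK (hFG hG) m
  have h2 : (fun φ : F.mapDerivedCategory.obj ((singleFunctor A m).obj G) ⟶ K =>
        (homologyFunctor B m).map φ) = (fun f => (homologyFunctor B m).map e.hom ≫ f) ∘
          (fun φ : (singleFunctor B m).obj (F.obj G) ⟶ K => (homologyFunctor B m).map φ) ∘
            (fun φ => e.inv ≫ φ) := by
    funext φ
    simp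
  rw [h2]
  refine Function.Bijective.comp ?_ (h1.comp ?_)
  · exact (Iso.homFromEquiv ((homologyFunctor B m).mapIso e)).symm.bijective
  · exact (Iso.homFromEquiv e).bijective

include hA hB hFG hFM in
/-- `F` is bijective on `Hom(S_m G, K)`. -/
lemma bijective_map_single [F.Full] [F.Faithful] {G : A} (hG : PA G) (m : ℤ)
    {K : DerivedCategory A} (hK : CohIn QA K) : Function.Bijective
      (fun φ : (singleFunctor A m).obj G ⟶ K => F.mapDerivedCategory.map φ) := by
  have h1 := hA.bijective_homology hK hG m
  have h2 := bijective_homology_map hB hFG hG m (cohIn_map hFM hB K hK)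
  have h3 : Function.Bijective (fun f : (homologyFunctor A m).obj ((singleFunctor A m).obj G) ⟶
      (homologyFunctor A m).obj K => F.map f) := ⟨F.map_injective, F.map_surjective⟩
  let i := ExactD.mapHomology F m
  have h4 : Function.Bijective (fun f : F.obj ((homologyFunctor A m).obj
      ((singleFunctor A m).obj G)) ⟶ F.obj ((homologyFunctor A m).obj K) =>
        i.hom.app _ ≫ f ≫ i.inv.app K) := by
    constructor
    · intro f g hfg
      dsimp only at hfg
      rw [← cancel_mono (i.inv.app K), ← cancel_epi (i.hom.app _), hfg]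
    · intro g
      refine ⟨i.inv.app _ ≫ g ≫ i.hom.app K, ?_⟩
      simp
  have h5 : (fun φ : F.mapDerivedCategory.obj ((singleFunctor A m).obj G) ⟶
        F.mapDerivedCategory.obj K => (homologyFunctor B m).map φ) ∘
      (fun φ : (singleFunctor A m).obj G ⟶ K => F.mapDerivedCategory.map φ) =
      (fun f : F.obj ((homologyFunctor A m).obj
      ((singleFunctor A m).obj G)) ⟶ F.obj ((homologyFunctor A m).obj K) =>
        i.hom.app _ ≫ f ≫ i.inv.app K) ∘ (fun f : (homologyFunctor A m).obj
          ((singleFunctor A m).obj G) ⟶ (homologyFunctor A m).obj K => F.map f) ∘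
        (fun φ : (singleFunctor A m).obj G ⟶ K => (homologyFunctor A m).map φ) := by
    funext φ
    have := i.hom.naturality φ
    dsimp at this ⊢
    rw [← reassoc_of% this, Iso.hom_inv_id_app]
    exact (comp_id _).symm
  have h6 := h4.comp (h3.comp h1)
  rw [← h5] at h6
  exact (Function.Bijective.of_comp_iff' h2 _).1 h6

end Hom

section Main

variable [HasProductsOfShape ℕ (DerivedCategory A)] [HasProductsOfShape ℕ (DerivedCategory B)]
  (hA : Acyc PA QA) (hB : Acyc PB Qc) (hFG : ∀ ⦃G⦄, PA G → PB (F.obj G))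
  (hFM : ∀ M, QA M → Qc (F.obj M)) [F.Full] [F.Faithful]

/-- The unit map for a resolution. -/
noncomputable def uMap {G : CochainComplex A ℤ} {I : CochainComplex B ℤ}
    (s : (mapCx F).obj G ⟶ I) : Q.obj G ⟶ Q.obj ((mapCx S).obj I) :=
  Q.map (unitCx adj G ≫ (mapCx S).map s)

omit [HasProductsOfShape ℕ (DerivedCategory A)] [HasProductsOfShape ℕ (DerivedCategory B)]
  [F.Full] [F.Faithful] in
lemma theta_uMap {G : CochainComplex A ℤ} {I : CochainComplex B ℤ}
    (s : (mapCx F).obj G ⟶ I) (X : DerivedCategory A) (ψ : X ⟶ Q.obj G) :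
    theta adj X I (ψ ≫ uMap adj s) =
      F.mapDerivedCategory.map ψ ≫ F.mapDerivedCategoryFactors.hom.app G ≫ Q.map s := by
  dsimp only [theta, uMap]
  rw [Functor.map_comp Q, Functor.map_comp, Functor.map_comp, assoc, assoc, cmap_naturality]
  congr 1
  rw [← assoc]
  congr 1
  dsimp only [cmap]
  rw [Functor.mapDerivedCategoryFactors_hom_naturality_assoc, ← Functor.map_comp,
    map_unitCx_counitCx]
  simp

include hA hB hFG hFM in
lemma isIso_uMap {G : CochainComplex A ℤ} (hG : CohIn QA (Q.obj G)) {I : CochainComplex B ℤ}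
    [I.IsKInjective] (s : (mapCx F).obj G ⟶ I) [QuasiIso s] : IsIso (uMap adj s) := by
  refine isIso_of_bijective_single hA.detects _ (fun m G' hG' => ?_)
  have h1 := bijective_theta_of_isKInjective adj ((singleFunctor A m).obj G') I
  have h2 := bijective_map_single hA hB hFG hFM hG' m hG
  refine (Function.Bijective.of_comp_iff' h1 _).1 ?_
  have h3 : (theta adj ((singleFunctor A m).obj G') I ∘
      fun φ : (singleFunctor A m).obj G' ⟶ Q.obj G => φ ≫ uMap adj s) =
      (fun f => f ≫ F.mapDerivedCategoryFactors.hom.app G ≫ Q.map s) ∘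
        (fun φ : (singleFunctor A m).obj G' ⟶ Q.obj G => F.mapDerivedCategory.map φ) := by
    funext φ
    exact theta_uMap adj s _ φ
  rw [h3]
  refine Function.Bijective.comp ?_ h2
  exact (Iso.homToEquiv (asIso (F.mapDerivedCategoryFactors.hom.app G ≫ Q.map s))).bijective

variable (hres : ∀ K : CochainComplex B ℤ, ∃ (I : CochainComplex B ℤ) (s : K ⟶ I),
  I.IsKInjective ∧ QuasiIso s)

include adj hA hB hFG hFM hres in
/-- Full faithfulness on `Hom(X, K)` for `K` with cohomology in `QA`. -/
theorem bijective_map (X K : DerivedCategory A) (hK : CohIn QA K) : Function.Bijective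
      (fun φ : X ⟶ K => F.mapDerivedCategory.map φ) := by
  suffices h : ∀ (G : CochainComplex A ℤ) (hG : CohIn QA (Q.obj G)), Function.Bijective
      (fun φ : X ⟶ Q.obj G => F.mapDerivedCategory.map φ) by
    let e := Q.objObjPreimageIso K
    have h1 := h (Q.objPreimage K)
      (fun q => hA.iso ((homologyFunctor A q).mapIso e.symm) (hK q))
    have h2 : (fun φ : X ⟶ K => F.mapDerivedCategory.map φ) =
        (fun f => f ≫ F.mapDerivedCategory.map e.hom) ∘
          (fun φ : X ⟶ Q.obj (Q.objPreimage K) => F.mapDerivedCategory.map φ) ∘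
            (fun φ => φ ≫ e.inv) := by
      funext φ
      simp [← Functor.map_comp]
    rw [h2]
    refine Function.Bijective.comp ?_ (h1.comp ?_)
    · exact (Iso.homToEquiv (F.mapDerivedCategory.mapIso e)).bijective
    · exact (Iso.homToEquiv e.symm).bijective
  intro G hG
  obtain ⟨I, s, hI, hs⟩ := hres ((mapCx F).obj G)
  have h1 := bijective_theta_of_isKInjective adj X I
  have h2 := isIso_uMap adj hA hB hFG hFM hG s
  have h3 : (fun f => f ≫ F.mapDerivedCategoryFactors.hom.app G ≫ Q.map s) ∘
        (fun φ : X ⟶ Q.obj G => F.mapDerivedCategory.map φ) =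
      theta adj X I ∘ fun φ : X ⟶ Q.obj G => φ ≫ uMap adj s := by
    funext φ
    exact (theta_uMap adj s _ φ).symm
  have h4 : Function.Bijective (fun φ : X ⟶ Q.obj G => φ ≫ uMap adj s) :=
    (Iso.homToEquiv (asIso (uMap adj s))).bijective
  have h5 := h1.comp h4
  rw [← h3] at h5
  exact (Function.Bijective.of_comp_iff'
    (Iso.homToEquiv (asIso (F.mapDerivedCategoryFactors.hom.app G ≫ Q.map s))).bijective _).1 h5

include adj hA hB hFG hFM hres in
/-- The essential image. -/
theorem exists_iso_of_cohIn (hQA : ∀ M, QA M) (hQc : ∀ M, Qc M → ∃ N, Nonempty (F.obj N ≅ M))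
    (K : DerivedCategory B) (hK : CohIn Qc K) :
    ∃ N : DerivedCategory A, Nonempty (F.mapDerivedCategory.obj N ≅ K) := by
  obtain ⟨I, s, hI, hs⟩ := hres (Q.objPreimage K)
  let e : Q.obj I ≅ K := (asIso (Q.map s)).symm ≪≫ Q.objObjPreimageIso K
  have hI' : CohIn Qc (Q.obj I) :=
    fun q => hB.iso ((homologyFunctor B q).mapIso e.symm) (hK q)
  set N : DerivedCategory A := Q.obj ((mapCx S).obj I) with hN
  suffices h : IsIso (cmap adj I) from ⟨N, ⟨asIso (cmap adj I) ≪≫ e⟩⟩
  rw [DerivedCategory.isIso_iff]
  intro m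
  -- the map `H^m (F N) ⟶ H^m (Q I)`
  set g := (homologyFunctor B m).map (cmap adj I) with hg
  have hFN : CohIn Qc (F.mapDerivedCategory.obj N) := cohIn_map hFM hB N (fun q => hQA _)
  obtain ⟨M', ⟨eM⟩⟩ := hQc _ (hFN m)
  obtain ⟨N', ⟨eN⟩⟩ := hQc _ (hI' m)
  obtain ⟨g', hg'⟩ := F.map_surjective (eM.hom ≫ g ≫ eN.inv)
  suffices h : IsIso g' by
    have h1 : g = eM.inv ≫ F.map g' ≫ eN.hom := by rw [hg']; simp
    rw [h1]
    infer_instance
  refine isIso_of_bijective hA.detects g' (fun G hG => ?_)
  -- reduce to `Hom(F G, -)`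
  have h2 : Function.Bijective (fun φ : F.obj G ⟶ F.obj M' => φ ≫ F.map g') := by
    -- `Hom (F S_m G, F N) → Hom (F S_m G, Q I)` is bijective
    have h3 : Function.Bijective (fun φ : F.mapDerivedCategory.obj ((singleFunctor A m).obj G) ⟶
        F.mapDerivedCategory.obj N => φ ≫ cmap adj I) := by
      have h4 := bijective_theta_of_isKInjective adj ((singleFunctor A m).obj G) I
      have h5 := bijective_map adj hA hB hFG hFM hres ((singleFunctor A m).obj G) N (fun q => hQA _)
      have h6 : (fun φ : F.mapDerivedCategory.obj ((singleFunctor A m).obj G) ⟶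
          F.mapDerivedCategory.obj N => φ ≫ cmap adj I) ∘
          (fun φ : (singleFunctor A m).obj G ⟶ N => F.mapDerivedCategory.map φ) =
          theta adj ((singleFunctor A m).obj G) I := rfl
      rw [← h6] at h4
      exact (Function.Bijective.of_comp_iff _ h5).1 h4
    -- pass to homology
    have h7 := bijective_homology_map hB hFG hG m hFN
    have h8 := bijective_homology_map hB hFG hG m hI'
    have h9 : Function.Bijective (fun φ : (homologyFunctor B m).obj
        (F.mapDerivedCategory.obj ((singleFunctor A m).obj G)) ⟶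
        (homologyFunctor B m).obj (F.mapDerivedCategory.obj N) => φ ≫ g) := by
      refine (Function.Bijective.of_comp_iff _ h7).1 ?_
      have h10 : (fun φ : (homologyFunctor B m).obj
        (F.mapDerivedCategory.obj ((singleFunctor A m).obj G)) ⟶
        (homologyFunctor B m).obj (F.mapDerivedCategory.obj N) => φ ≫ g) ∘
        (fun φ : F.mapDerivedCategory.obj ((singleFunctor A m).obj G) ⟶
          F.mapDerivedCategory.obj N => (homologyFunctor B m).map φ) =
          (fun φ : F.mapDerivedCategory.obj ((singleFunctor A m).obj G) ⟶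
          Q.obj I => (homologyFunctor B m).map φ) ∘
          (fun φ : F.mapDerivedCategory.obj ((singleFunctor A m).obj G) ⟶
            F.mapDerivedCategory.obj N => φ ≫ cmap adj I) := by
        funext φ
        simp [hg]
      rw [h10]
      exact h8.comp h3
    -- transport
    let j : (homologyFunctor B m).obj (F.mapDerivedCategory.obj ((singleFunctor A m).obj G)) ≅
        F.obj G := (ExactD.mapHomology F m).app _ ≪≫
          F.mapIso ((singleFunctorCompHomologyFunctorIso A m).app G)
    have h11 : (fun φ : F.obj G ⟶ F.obj M' => φ ≫ F.map g') =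
        (fun φ : _ ⟶ (homologyFunctor B m).obj (Q.obj I) => j.inv ≫ φ ≫ eN.inv) ∘
        (fun φ : (homologyFunctor B m).obj
        (F.mapDerivedCategory.obj ((singleFunctor A m).obj G)) ⟶
        (homologyFunctor B m).obj (F.mapDerivedCategory.obj N) => φ ≫ g) ∘
        (fun φ : F.obj G ⟶ F.obj M' => j.hom ≫ φ ≫ eM.hom) := by
      funext φ
      simp [hg']
    rw [h11]
    refine Function.Bijective.comp ?_ (h9.comp ?_)
    · constructor
      · intro a b hab
        dsimp only at hab
        rw [← cancel_mono eN.inv, ← cancel_epi j.inv]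
        exact hab
      · intro a
        exact ⟨j.hom ≫ a ≫ eN.hom, by simp⟩
    · constructor
      · intro a b hab
        dsimp only at hab
        rw [← cancel_mono eM.hom, ← cancel_epi j.hom]
        exact hab
      · intro a
        exact ⟨j.inv ≫ a ≫ eM.inv, by simp⟩
  constructor
  · intro a b hab
    apply F.map_injective
    apply h2.1
    dsimp only at hab ⊢
    rw [← F.map_comp, ← F.map_comp, hab]
  · intro b
    obtain ⟨a, ha⟩ := h2.2 (F.map b)
    obtain ⟨a', rfl⟩ := F.map_surjective a
    refine ⟨a', F.map_injective ?_⟩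
    dsimp only at ha ⊢
    rw [F.map_comp, ha]

end Main

end Groth.Agent.PerfA.TildeAbs
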