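import Groth.Prelude.Def_DCoh2
import Groth.Agent.PerfA.QCohAcyc
import Groth.Agent.PerfA.QCohRes
import Groth.Agent.PerfA.TildeAbs
import Groth.Agent.PerfA.UnitOU

/-!
# `D(A) ≃ D_QCoh(Spec A)`
-/

set_option autoImplicit false

universe u

open CategoryTheory Category Limits AlgebraicGeometry DerivedCategory Opposite TopologicalSpace
attribute [local instance] HasDerivedCategory.standard

namespace Groth.Agent.PerfA.TildeMain

open PostAbs PostTower PostHom ExtZero QCohAcyc QCohRes TildeAbs

variable (R : CommRingCat.{u})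

instance additive_Γ : (moduleSpecΓFunctor (R := R)).Additive :=
  tilde.adjunction.right_adjoint_additive

instance preservesFiniteColimits_tilde : PreservesFiniteColimits (tilde.functor R) := inferInstance

lemma affOU_tilde ⦃G : ModuleCat.{u} R⦄ (hG : self R G) :
    affOU (Spec R) ((tilde.functor R).obj G) := by
  obtain ⟨e⟩ := hG
  exact ⟨⊤, isAffineOpen_top _, ⟨(tilde.functor R).mapIso e ≪≫ UnitOU.unitIsoOU (Spec R)⟩⟩

lemma qc_tilde (M : ModuleCat.{u} R) (_ : True) : qc (Spec R) ((tilde.functor R).obj M) :=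
  (inferInstance : ((tilde.functor R).obj M).IsQuasicoherent)

variable [PreservesFiniteLimits (tilde.functor R)]

/-- `D(A) ⥤ D(O_{Spec A})` is bijective on morphisms. -/
theorem bijective_map (M N : DerivedCategory (ModuleCat.{u} R)) :
    Function.Bijective (fun φ : M ⟶ N => (tilde.functor R).mapDerivedCategory.map φ) :=
  TildeAbs.bijective_map tilde.adjunction (acycMod R) (acyc (X := Spec R))
    (affOU_tilde R) (qc_tilde R) (exists_resolution (Spec R)) M N (fun _ => trivial)

theorem exists_iso (K : DCoh.D (Spec R)) (hK : DCoh.IsQCohD K) :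
    ∃ N : DerivedCategory (ModuleCat.{u} R),
      Nonempty ((tilde.functor R).mapDerivedCategory.obj N ≅ K) :=
  TildeAbs.exists_iso_of_cohIn tilde.adjunction (acycMod R) (acyc (X := Spec R))
    (affOU_tilde R) (qc_tilde R) (exists_resolution (Spec R)) (fun _ => trivial)
    (fun M hM => by
      have : M.IsQuasicoherent := hM
      exact ⟨moduleSpecΓFunctor.obj M, ⟨@asIso _ _ _ _ M.fromTildeΓ
        (Scheme.Modules.isIso_fromTildeΓ_of_isQuasicoherent M)⟩⟩) K hK

theorem isQCohD_map (N : DerivedCategory (ModuleCat.{u} R)) :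
    DCoh.IsQCohD ((tilde.functor R).mapDerivedCategory.obj N) :=
  TildeAbs.cohIn_map (qc_tilde R) (acyc (X := Spec R)) N (fun _ => trivial)

end Groth.Agent.PerfA.TildeMain
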