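import Groth.Agent.PerfA.ExactD

/-!
# Morphisms of the derived category which are isomorphisms on `H^i` for `i > m` and epi on `H^m`
-/

set_option autoImplicit false

universe w₁ w₂ v₁ v₂ u₁ u₂

open CategoryTheory Category Limits

namespace Groth.Agent.PerfA.PCMap

variable {A : Type u₁} [Category.{v₁} A] [Abelian A] [HasDerivedCategory.{w₁} A]
  {B : Type u₂} [Category.{v₂} B] [Abelian B] [HasDerivedCategory.{w₂} B]

/-- The morphism `α` is an isomorphism on `H^i` for `i > m` and an epimorphism on `H^m`. -/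
def PCD (m : ℤ) {K L : DerivedCategory A} (α : K ⟶ L) : Prop :=
  (∀ i : ℤ, m < i → IsIso ((DerivedCategory.homologyFunctor A i).map α)) ∧
    Epi ((DerivedCategory.homologyFunctor A m).map α)

lemma isIso_of_arrowIso {K L K' L' : A} {f : K ⟶ L} {g : K' ⟶ L'}
    (e : Arrow.mk f ≅ Arrow.mk g) (h : IsIso f) : IsIso g :=
  ((MorphismProperty.isomorphisms A).arrow_mk_iso_iff e).1 h

lemma epi_of_arrowIso {K L K' L' : A} {f : K ⟶ L} {g : K' ⟶ L'}
    (e : Arrow.mk f ≅ Arrow.mk g) (h : Epi f) : Epi g :=
  ((MorphismProperty.epimorphisms A).arrow_mk_iso_iff e).1 h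

lemma PCD.of_arrowIso {m : ℤ} {K L K' L' : DerivedCategory A} {α : K ⟶ L} {α' : K' ⟶ L'}
    (h : PCD m α) (e : Arrow.mk α ≅ Arrow.mk α') : PCD m α' :=
  ⟨fun i hi => isIso_of_arrowIso
    ((DerivedCategory.homologyFunctor A i).mapArrow.mapIso e) (h.1 i hi),
    epi_of_arrowIso ((DerivedCategory.homologyFunctor A m).mapArrow.mapIso e) h.2⟩

variable (F : A ⥤ B) [F.Additive] [PreservesFiniteLimits F] [PreservesFiniteColimits F]

/-- The image of a morphism of complexes under the derived functor of an exact functor. -/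
noncomputable def mapArrowIso {K L : CochainComplex A ℤ} (β : K ⟶ L) :
    Arrow.mk (F.mapDerivedCategory.map (DerivedCategory.Q.map β)) ≅
      Arrow.mk (DerivedCategory.Q.map
        ((F.mapHomologicalComplex (ComplexShape.up ℤ)).map β)) :=
  Arrow.isoMk (F.mapDerivedCategoryFactors.app K) (F.mapDerivedCategoryFactors.app L)
    (F.mapDerivedCategoryFactors.hom.naturality β).symm

/-- Homology of the image of a morphism under the derived functor of an exact functor. -/
noncomputable def mapHomologyArrowIso {K L : DerivedCategory A} (α : K ⟶ L) (i : ℤ) :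
    Arrow.mk ((DerivedCategory.homologyFunctor B i).map (F.mapDerivedCategory.map α)) ≅
      Arrow.mk (F.map ((DerivedCategory.homologyFunctor A i).map α)) :=
  Arrow.isoMk ((ExactD.mapHomology F i).app K) ((ExactD.mapHomology F i).app L)
    ((ExactD.mapHomology F i).hom.naturality α).symm

lemma PCD.map {m : ℤ} {K L : DerivedCategory A} {α : K ⟶ L} (h : PCD m α) :
    PCD m (F.mapDerivedCategory.map α) := by
  refine ⟨fun i hi => ?_, ?_⟩
  · have := h.1 i hi
    exact isIso_of_arrowIso (mapHomologyArrowIso F α i).symm inferInstance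
  · have := h.2
    exact epi_of_arrowIso (mapHomologyArrowIso F α m).symm inferInstance

lemma PCD.of_map [F.ReflectsIsomorphisms] [F.Faithful] {m : ℤ} {K L : DerivedCategory A}
    {α : K ⟶ L} (h : PCD m (F.mapDerivedCategory.map α)) : PCD m α := by
  refine ⟨fun i hi => ?_, ?_⟩
  · have h1 := isIso_of_arrowIso (mapHomologyArrowIso F α i) (h.1 i hi)
    exact isIso_of_reflects_iso _ F
  · have h1 := epi_of_arrowIso (mapHomologyArrowIso F α m) h.2
    exact F.epi_of_epi_map h1

end Groth.Agent.PerfA.PCMap
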