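import Groth.Agent.PerfA.TildeRes
import Groth.Agent.PerfA.PCMap
import Groth.Agent.S0944
import Groth.Prelude.Def_DRing2
import Mathlib.Data.Int.Interval

/-!
# Module-level models of morphisms from strictly perfect complexes on open subschemes of `Spec A`
-/

set_option autoImplicit false
universe u
open CategoryTheory CategoryTheory.Limits AlgebraicGeometry
attribute [local instance] HasDerivedCategory.standard

namespace Groth.Agent.PerfA.TildeModel
open AlgebraicGeometry.Scheme.Modules Groth.Agent.PerfA.Restrict Groth.Agent.PerfA.PerfLocal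
  Groth.Agent.PerfA.TildeRes

section free

variable {X : Scheme.{u}}

/-- If `M` is free on `U`, it is free on any `Z ⟶ U`. -/
lemma nonempty_iso_freeMod_restrict {U : Scheme.{u}} {j : U ⟶ X} [IsOpenImmersion j]
    {M : X.Modules} {n : ℕ} (e : M.restrict j ≅ FlatMod.freeMod U n)
    {Z : Scheme.{u}} (g : Z ⟶ X) [IsOpenImmersion g] (h : Z ⟶ U) [IsOpenImmersion h]
    (w : h ≫ j = g) : Nonempty (M.restrict g ≅ FlatMod.freeMod Z n) :=
  ⟨(restrictFunctorCongr w.symm).app M ≪≫ (restrictFunctorComp h j).app M ≪≫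
    (restrictFunctor h).mapIso e ≪≫ freeModRestrict h n⟩

/-- Finitely many finite locally free modules are simultaneously free near a point. -/
lemma exists_open_free_finset (E : ℤ → X.Modules) (hE : ∀ i, FlatMod.IsFinLocFree (E i)) (x : X)
    (s : Finset ℤ) : ∃ W : X.Opens, x ∈ W ∧ ∀ i ∈ s, ∃ n : ℕ,
      Nonempty ((E i).restrict W.ι ≅ FlatMod.freeMod W n) := by
  classical
  induction s using Finset.induction_on with
  | empty => exact ⟨⊤, trivial, by simp⟩
  | insert i s hi ih =>
    obtain ⟨W, hxW, hW⟩ := ih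
    obtain ⟨U, n, hxU, ⟨e⟩⟩ := hE i x
    refine ⟨W ⊓ U, ⟨hxW, hxU⟩, fun j hj => ?_⟩
    rcases Finset.mem_insert.1 hj with rfl | hj
    · exact ⟨n, nonempty_iso_freeMod_restrict e _ (X.homOfLE inf_le_right) (by simp)⟩
    · obtain ⟨m, ⟨e'⟩⟩ := hW j hj
      exact ⟨m, nonempty_iso_freeMod_restrict e' _ (X.homOfLE inf_le_left) (by simp)⟩

/-- Near a point all the terms of a strictly perfect complex are free of finite rank. -/
lemma exists_open_free {E : CochainComplex X.Modules ℤ} (hE : DCoh.IsStrictlyPerfect E) (x : X) :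
    ∃ W : X.Opens, x ∈ W ∧ ∀ i : ℤ, ∃ n : ℕ,
      Nonempty ((E.X i).restrict W.ι ≅ FlatMod.freeMod W n) := by
  obtain ⟨⟨a, b, hab⟩, hlf⟩ := hE
  obtain ⟨W, hxW, hW⟩ := exists_open_free_finset E.X hlf x (Finset.Icc a b)
  refine ⟨W, hxW, fun i => ?_⟩
  by_cases hi : i ∈ Finset.Icc a b
  · exact hW i hi
  · have h0 : IsZero (E.X i) := hab i (by rw [Finset.mem_Icc] at hi; omega)
    exact ⟨0, ⟨IsZero.iso ((restrictFunctor _).map_isZero h0) (isZero_freeMod_zero _)⟩⟩

end free

section lift

variable {A : Type u} [CommRing A]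

/-- The open immersion `Spec A_f ⟶ Spec A`. -/
noncomputable abbrev specAway (f : A) :
    Spec (CommRingCat.of (Localization.Away f)) ⟶ Spec (CommRingCat.of A) :=
  Spec.map (CommRingCat.ofHom (algebraMap A (Localization.Away f)))

/-- Every open neighbourhood of `x` in `Spec A` contains some `D(f) = Spec A_f` around `x`. -/
lemma exists_lift_away {U : Scheme.{u}} (j : U ⟶ Spec (CommRingCat.of A)) [IsOpenImmersion j]
    (y : U) : ∃ (f : A) (_ : f ∉ (j y).asIdeal)
      (g : Spec (CommRingCat.of (Localization.Away f)) ⟶ U) (_ : IsOpenImmersion g),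
        g ≫ j = specAway f := by
  obtain ⟨_, ⟨_, ⟨f, rfl⟩, rfl⟩, hyf, hfU⟩ :=
    PrimeSpectrum.isBasis_basic_opens.exists_subset_of_mem_open
      (show j y ∈ (j.opensRange : Set (Spec (CommRingCat.of A))) from ⟨y, rfl⟩) j.opensRange.2
  have hr : Set.range (specAway f) ⊆ Set.range j := by
    have h1 := PrimeSpectrum.localization_away_comap_range (Localization.Away f) f
    intro z hz
    have hz' : z ∈ Set.range (PrimeSpectrum.comap (algebraMap A (Localization.Away f))) := hz
    rw [h1] at hz'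
    exact hfU hz'
  have w := IsOpenImmersion.lift_fac j (specAway f) hr
  have : IsOpenImmersion (IsOpenImmersion.lift j (specAway f) hr ≫ j) := by
    rw [w]
    infer_instance
  have : IsOpenImmersion (IsOpenImmersion.lift j (specAway f) hr) := IsOpenImmersion.of_comp _ j
  exact ⟨f, hyf, IsOpenImmersion.lift j (specAway f) hr, inferInstance, w⟩

end lift

section gamma

variable {R : CommRingCat.{u}}

/-- Termwise tilde. -/
noncomputable abbrev tildeCx (R : CommRingCat.{u}) :
    CochainComplex (ModuleCat.{u} R) ℤ ⥤ CochainComplex (Spec R).Modules ℤ :=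
  (tilde.functor R).mapHomologicalComplex (ComplexShape.up ℤ)

/-- The `R`-module attached to a free module of rank `n` on `Spec R` is finite free. -/
lemma gamma_free {M : (Spec R).Modules} {n : ℕ} (e : M ≅ FlatMod.freeMod (Spec R) n) :
    ∃ (N : ModuleCat.{u} R) (_ : Module.Finite R N) (_ : Module.Free R N),
      Nonempty ((tilde.functor R).obj N ≅ M) := by
  let N : ModuleCat.{u} R := ModuleCat.of R (ULift.{u} (Fin n) →₀ R)
  exact ⟨N, inferInstanceAs (Module.Finite R (ULift.{u} (Fin n) →₀ R)),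
    inferInstanceAs (Module.Free R (ULift.{u} (Fin n) →₀ R)),
    ⟨tildeFinsupp (ULift.{u} (Fin n)) ≪≫ freeIsoFreeMod (Spec R) n ≪≫ e.symm⟩⟩

/-- A complex of modules on `Spec R` with terms free of finite rank comes from a complex of finite
free `R`-modules. -/
lemma exists_cx_of_free (E : CochainComplex (Spec R).Modules ℤ)
    (hE : ∀ i, ∃ n : ℕ, Nonempty (E.X i ≅ FlatMod.freeMod (Spec R) n)) :
    ∃ P : CochainComplex (ModuleCat.{u} R) ℤ,
      (∀ i, Module.Finite R (P.X i) ∧ Module.Free R (P.X i)) ∧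
        Nonempty ((tildeCx R).obj P ≅ E) := by
  choose n hn using hE
  choose N h1 h2 h3 using fun i => gamma_free (hn i).some
  let e (i : ℤ) : (tilde.functor R).obj (N i) ≅ E.X i := (h3 i).some
  let P : CochainComplex (ModuleCat.{u} R) ℤ :=
    { X := N
      d := fun i j => (tilde.functor R).preimage ((e i).hom ≫ E.d i j ≫ (e j).inv)
      shape := fun i j hij => by
        apply (tilde.functor R).map_injective
        rw [Functor.map_preimage, E.shape i j hij, zero_comp, comp_zero, Functor.map_zero]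
      d_comp_d' := fun i j k _ _ => by
        apply (tilde.functor R).map_injective
        rw [Functor.map_comp, Functor.map_preimage, Functor.map_preimage, Functor.map_zero]
        simp only [Category.assoc, Iso.inv_hom_id_assoc, HomologicalComplex.d_comp_d_assoc,
          zero_comp, comp_zero] }
  refine ⟨P, fun i => ⟨h1 i, h2 i⟩, ⟨HomologicalComplex.Hom.isoOfComponents e ?_⟩⟩
  intro i j _
  have h : (tilde.functor R).map (P.d i j) = (e i).hom ≫ E.d i j ≫ (e j).inv :=
    Functor.map_preimage _ _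
  change (e i).hom ≫ E.d i j = (tilde.functor R).map (P.d i j) ≫ (e j).hom
  rw [h, Category.assoc, Category.assoc, Iso.inv_hom_id, Category.comp_id]

/-- A morphism to a complex of the form `K~` from a complex of free modules of finite rank comes
from a morphism of complexes of `R`-modules. -/
lemma exists_cx_map_of_free (E : CochainComplex (Spec R).Modules ℤ)
    (hE : ∀ i, ∃ n : ℕ, Nonempty (E.X i ≅ FlatMod.freeMod (Spec R) n))
    {K : CochainComplex (ModuleCat.{u} R) ℤ} (β : E ⟶ (tildeCx R).obj K) :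
    ∃ (P : CochainComplex (ModuleCat.{u} R) ℤ) (γ : P ⟶ K),
      (∀ i, Module.Finite R (P.X i) ∧ Module.Free R (P.X i)) ∧
      (∀ i, IsZero (E.X i) → IsZero (P.X i)) ∧
      Nonempty (Arrow.mk ((tildeCx R).map γ) ≅ Arrow.mk β) := by
  obtain ⟨P, hP, ⟨e⟩⟩ := exists_cx_of_free E hE
  refine ⟨P, (tildeCx R).preimage (e.hom ≫ β), hP, fun i hi => ?_, ⟨Arrow.isoMk e (Iso.refl _) ?_⟩⟩
  · have h1 : IsZero ((tilde.functor R).obj (P.X i)) :=
      hi.of_iso ((HomologicalComplex.eval _ _ i).mapIso e)
    rw [IsZero.iff_id_eq_zero] at h1 ⊢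
    apply (tilde.functor R).map_injective
    rw [CategoryTheory.Functor.map_id, h1, Functor.map_zero]
  · simp

end gamma

section main

/-- The arrows obtained by applying two isomorphic functors are isomorphic. -/
def arrowIsoOfNatIso {C D : Type*} [Category C] [Category D] {F G : C ⥤ D} (e : F ≅ G) {X Y : C}
    (α : X ⟶ Y) : Arrow.mk (F.map α) ≅ Arrow.mk (G.map α) :=
  Arrow.isoMk (e.app X) (e.app Y) (e.hom.naturality α).symm

variable {A : Type u} [CommRing A]

/-- Termwise localization of complexes. -/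
noncomputable abbrev extCx (f : A) : CochainComplex (ModuleCat.{u} A) ℤ ⥤
    CochainComplex (ModuleCat.{u} (Localization.Away f)) ℤ :=
  (ModuleCat.extendScalars (algebraMap A (Localization.Away f))).mapHomologicalComplex
    (ComplexShape.up ℤ)

/-- The restriction of `K~` along `Spec A_f ⟶ U ⟶ Spec A` is `K_f~`. -/
noncomputable def restrictTildeCxIso (K : CochainComplex (ModuleCat.{u} A) ℤ) {U U' : Scheme.{u}}
    (j : U ⟶ Spec (CommRingCat.of A)) [IsOpenImmersion j] (j' : U' ⟶ U) [IsOpenImmersion j']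
    (f : A) (g : Spec (CommRingCat.of (Localization.Away f)) ⟶ U') [IsOpenImmersion g]
    (w : g ≫ j' ≫ j = specAway f) :
    ((restrictFunctor g).mapHomologicalComplex (ComplexShape.up ℤ)).obj
      (((restrictFunctor j').mapHomologicalComplex (ComplexShape.up ℤ)).obj
        (((restrictFunctor j).mapHomologicalComplex (ComplexShape.up ℤ)).obj
          ((tildeCx (CommRingCat.of A)).obj K))) ≅
      (tildeCx (CommRingCat.of (Localization.Away f))).obj ((extCx f).obj K) :=
  let e : ((tilde.functor (CommRingCat.of A) ⋙ restrictFunctor j) ⋙ restrictFunctor j') ⋙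
      restrictFunctor g ≅
      ModuleCat.extendScalars (algebraMap A (Localization.Away f)) ⋙
        tilde.functor (CommRingCat.of (Localization.Away f)) :=
    Functor.associator _ _ _ ≪≫ Functor.associator _ _ _ ≪≫
      Functor.isoWhiskerLeft (tilde.functor (CommRingCat.of A))
        ((Functor.associator _ _ _).symm ≪≫
          Functor.isoWhiskerRight (restrictFunctorComp j' j).symm _ ≪≫
          (restrictFunctorComp g (j' ≫ j)).symm ≪≫ restrictFunctorCongr w) ≪≫
      tildeRestrictIso (CommRingCat.ofHom (algebraMap A (Localization.Away f)))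
  HomologicalComplex.Hom.isoOfComponents (fun i => e.app (K.X i))
    (fun i i' _ => (e.hom.naturality (K.d i i')).symm)

/-- Let `V` be open in `Spec A`, `x ∈ V`, `E` strictly perfect on `V` and `α : E ⟶ (K~)|_V` a
morphism of `D(O_V)`. Near `x`, on some `D(f) = Spec A_f`, the restriction of `α` comes from a
morphism of complexes of `A_f`-modules `P ⟶ K_f`, with `P` a bounded complex of finite free modules. -/
theorem exists_model (K : CochainComplex (ModuleCat.{u} A) ℤ) {V : Scheme.{u}}
    (j : V ⟶ Spec (CommRingCat.of A)) [IsOpenImmersion j] (x : V)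
    {E : CochainComplex V.Modules ℤ} (hE : DCoh.IsStrictlyPerfect E)
    (α : DerivedCategory.Q.obj E ⟶ DerivedCategory.Q.obj
      (((restrictFunctor j).mapHomologicalComplex (ComplexShape.up ℤ)).obj
        ((tildeCx (CommRingCat.of A)).obj K))) :
    ∃ (f : A) (_ : f ∉ (j x).asIdeal)
      (g : Spec (CommRingCat.of (Localization.Away f)) ⟶ V) (_ : IsOpenImmersion g)
      (_ : g ≫ j = specAway f)
      (P : CochainComplex (ModuleCat.{u} (Localization.Away f)) ℤ) (γ : P ⟶ (extCx f).obj K),
      (∃ a b : ℤ, DRing.VanishesOutside P a b) ∧ DRing.TermwiseFiniteFree P ∧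
      Nonempty (Arrow.mk ((restrictD g).map α) ≅ Arrow.mk (DerivedCategory.Q.map
        ((tildeCx (CommRingCat.of (Localization.Away f))).map γ))) := by
  obtain ⟨W, hxW, hW⟩ := Groth.Agent.S0944.result hE α x
  obtain ⟨β, hβ⟩ := hW
  obtain ⟨W₂, hxW₂, hfree⟩ := exists_open_free hE x
  let W' : V.Opens := W ⊓ W₂
  obtain ⟨f, hf, g₀, hg₀, w₀⟩ := exists_lift_away (W'.ι ≫ j) ⟨x, hxW, hxW₂⟩
  let g : Spec (CommRingCat.of (Localization.Away f)) ⟶ V := g₀ ≫ W'.ι
  let g₁ : Spec (CommRingCat.of (Localization.Away f)) ⟶ W :=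
    g₀ ≫ V.homOfLE (inf_le_left : W' ≤ W)
  let g₂ : Spec (CommRingCat.of (Localization.Away f)) ⟶ W₂ :=
    g₀ ≫ V.homOfLE (inf_le_right : W' ≤ W₂)
  have hg₁ : g₁ ≫ W.ι = g := by simp [g₁, g]
  have hg₂ : g₂ ≫ W₂.ι = g := by simp [g₂, g]
  have w : g₁ ≫ W.ι ≫ j = specAway f := by
    rw [← Category.assoc, hg₁, Category.assoc, w₀]
  let β' := ((restrictFunctor g₁).mapHomologicalComplex (ComplexShape.up ℤ)).map β
  let eK := restrictTildeCxIso K j W.ι f g₁ w
  have hE' : ∀ i, ∃ n : ℕ, Nonempty
      ((((restrictFunctor g₁).mapHomologicalComplex (ComplexShape.up ℤ)).obj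
        ((DCoh.restrictCx W).obj E)).X i ≅ FlatMod.freeMod _ n) := by
    intro i
    obtain ⟨n, ⟨e⟩⟩ := hfree i
    obtain ⟨e'⟩ := nonempty_iso_freeMod_restrict e (g₁ ≫ W.ι) g₂ (by rw [hg₁, hg₂])
    exact ⟨n, ⟨((restrictFunctorComp g₁ W.ι).symm.app (E.X i)) ≪≫ e'⟩⟩
  obtain ⟨P, γ, hP, hP0, ⟨eγ⟩⟩ := exists_cx_map_of_free _ hE' (β' ≫ eK.hom)
  refine ⟨f, hf, g, inferInstance, by rw [← w₀]; simp [g], P, γ, ?_, hP, ⟨?_⟩⟩
  · obtain ⟨⟨a, b, hab⟩, -⟩ := hE
    exact ⟨a, b, fun i hi => hP0 i ((restrictFunctor g₁).map_isZero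
      ((restrictFunctor W.ι).map_isZero (hab i hi)))⟩
  · have e₁ : Arrow.mk ((restrictD g).map α) ≅
        Arrow.mk ((restrictD g₁).map ((restrictD W.ι).map α)) :=
      arrowIsoOfNatIso (restrictDCongr hg₁.symm ≪≫ (restrictDComp g₁ W.ι).symm) α
    have e₂ : Arrow.mk ((restrictD W.ι).map α) ≅ Arrow.mk (DerivedCategory.Q.map β) :=
      Arrow.isoMk ((restrictFunctor W.ι).mapDerivedCategoryFactors.app E)
        ((restrictFunctor W.ι).mapDerivedCategoryFactors.app _) (by
          change (restrictFunctor W.ι).mapDerivedCategoryFactors.hom.app E ≫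
              DerivedCategory.Q.map β = (restrictD W.ι).map α ≫
                (restrictFunctor W.ι).mapDerivedCategoryFactors.hom.app _
          have h := hβ
          change (restrictD W.ι).map α = _ at h
          rw [h, Category.assoc, Category.assoc, Iso.inv_hom_id_app]
          exact congrArg _ (Category.comp_id _).symm)
    have e₃ : Arrow.mk ((restrictD g₁).map (DerivedCategory.Q.map β)) ≅
        Arrow.mk (DerivedCategory.Q.map β') := PCMap.mapArrowIso (restrictFunctor g₁) β
    have e₄ : Arrow.mk β' ≅ Arrow.mk (β' ≫ eK.hom) := Arrow.isoMk (Iso.refl _) eK (by simp)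
    exact e₁ ≪≫ (restrictD g₁).mapArrow.mapIso e₂ ≪≫ e₃ ≪≫
      DerivedCategory.Q.mapArrow.mapIso (e₄ ≪≫ eγ.symm)

end main

end Groth.Agent.PerfA.TildeModel
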