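import Groth.Agent.PerfA.TildeSupp
import Groth.Agent.PerfA.PerfLocal
import Groth.Agent.S0997
import Groth.Agent.S1105
import Groth.Agent.PerfA.RingKill
import Mathlib.AlgebraicGeometry.Morphisms.QuasiCompact

/-!
# The module-theoretic model `D(Γ(X, O)) ⥤ D(O_X)` for an affine scheme `X`
-/

set_option autoImplicit false
universe u
open CategoryTheory CategoryTheory.Limits AlgebraicGeometry
attribute [local instance] HasDerivedCategory.standard

namespace Groth.Agent.PerfA.AffModel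
open AlgebraicGeometry.Scheme.Modules Groth.Agent.PerfA.Restrict Groth.Agent.PerfA.PerfLocal
  Groth.Agent.PerfA.TildeSupp Groth.Agent.PerfB.TildeExact

section Iso

variable {X Y : Scheme.{u}} (e : X ≅ Y)

/-- Restriction along an isomorphism is an equivalence of derived categories. -/
noncomputable def restrictDEquiv : DCoh.D Y ≌ DCoh.D X :=
  CategoryTheory.Equivalence.mk (restrictD e.hom) (restrictD e.inv)
    ((ExactD.mapDId Y.Modules).symm ≪≫
      ExactD.mapDIso ((restrictFunctorId (X := Y)).symm) ≪≫ restrictDCongr e.inv_hom_id.symm ≪≫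
      (restrictDComp e.inv e.hom).symm)
    (restrictDComp e.hom e.inv ≪≫ restrictDCongr e.hom_inv_id ≪≫
      ExactD.mapDIso (restrictFunctorId (X := X)) ≪≫ ExactD.mapDId X.Modules)

instance isEquivalence_restrictD_hom : (restrictD e.hom).IsEquivalence :=
  inferInstanceAs (restrictDEquiv e).functor.IsEquivalence

instance isEquivalence_restrictD_inv : (restrictD e.inv).IsEquivalence :=
  inferInstanceAs (restrictDEquiv e).inverse.IsEquivalence

/-- Restricting along `e.inv` and then along `e.hom` is the identity. -/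
noncomputable def restrictDHomInv (K : DCoh.D X) :
    (restrictD e.hom).obj ((restrictD e.inv).obj K) ≅ K :=
  (restrictDEquiv e).counitIso.app K

/-- Restricting along `e.hom` and then along `e.inv` is the identity. -/
noncomputable def restrictDInvHom (K : DCoh.D Y) :
    (restrictD e.inv).obj ((restrictD e.hom).obj K) ≅ K :=
  ((restrictDEquiv e).unitIso.app K).symm

end Iso

lemma isQCohD_of_iso {X : Scheme.{u}} {K L : DCoh.D X} (e : K ≅ L) (h : DCoh.IsQCohD K) :
    DCoh.IsQCohD L := fun i =>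
  (SheafOfModules.isQuasicoherent X.ringCatSheaf).prop_of_iso
    ((DerivedCategory.homologyFunctor X.Modules i).mapIso e) (h i)

lemma isQCohD_restrictD {X Y : Scheme.{u}} (f : X ⟶ Y) [IsOpenImmersion f] {K : DCoh.D Y}
    (h : DCoh.IsQCohD K) : DCoh.IsQCohD ((restrictD f).obj K) := fun i => by
  have h1 : Coh.IsQCoh (DCoh.HD K i) := h i
  have h2 : Coh.IsQCoh ((DCoh.HD K i).restrict f) := Scheme.Modules.isQuasicoherent_restrictFunctor f _
  exact (SheafOfModules.isQuasicoherent X.ringCatSheaf).prop_of_iso (HDrestrict f K i).symm h2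

section Model

variable (X : Scheme.{u}) [IsAffine X]

/-- The model functor `D(Γ(X, O)) ⥤ D(O_X)` of an affine scheme `X`. -/
noncomputable abbrev modelD : DerivedCategory (ModuleCat.{u} Γ(X, ⊤)) ⥤ DCoh.D X :=
  DCoh.tildeD Γ(X, ⊤) ⋙ restrictD X.isoSpec.hom

instance full_modelD : (modelD X).Full :=
  haveI : (DCoh.tildeD Γ(X, ⊤)).Full := (S0997.result Γ(X, ⊤)).1
  haveI : (restrictD X.isoSpec.hom).IsEquivalence := isEquivalence_restrictD_hom X.isoSpec
  Functor.Full.comp _ _

instance faithful_modelD : (modelD X).Faithful :=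
  haveI : (DCoh.tildeD Γ(X, ⊤)).Faithful := (S0997.result Γ(X, ⊤)).2.1
  haveI : (restrictD X.isoSpec.hom).IsEquivalence := isEquivalence_restrictD_hom X.isoSpec
  Functor.Faithful.comp _ _

lemma isQCohD_modelD (M : DerivedCategory (ModuleCat.{u} Γ(X, ⊤))) :
    DCoh.IsQCohD ((modelD X).obj M) :=
  isQCohD_restrictD _ (((S0997.result Γ(X, ⊤)).2.2 _).2 ⟨M, ⟨Iso.refl _⟩⟩)

lemma exists_iso_modelD {K : DCoh.D X} (hK : DCoh.IsQCohD K) :
    ∃ M, Nonempty ((modelD X).obj M ≅ K) := by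
  obtain ⟨M, ⟨e⟩⟩ := ((S0997.result Γ(X, ⊤)).2.2 _).1 (isQCohD_restrictD X.isoSpec.inv hK)
  exact ⟨M, ⟨(restrictD X.isoSpec.hom).mapIso e ≪≫ restrictDHomInv X.isoSpec K⟩⟩

lemma isPerfect_modelD_iff (M : DerivedCategory (ModuleCat.{u} Γ(X, ⊤))) :
    DCoh.IsPerfect ((modelD X).obj M) ↔ DRing.IsPerfect Γ(X, ⊤) M := by
  refine Iff.trans ?_ (S1105.result Γ(X, ⊤) M)
  constructor
  · intro h
    exact isPerfect_of_iso (restrictDInvHom X.isoSpec _) (isPerfect_restrictD X.isoSpec.inv h)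
  · intro h
    exact isPerfect_restrictD X.isoSpec.hom h

lemma isZero_restrictD_modelD_iff (M : DerivedCategory (ModuleCat.{u} Γ(X, ⊤)))
    {U : Scheme.{u}} (j : U ⟶ X) [IsOpenImmersion j] :
    IsZero ((restrictD j).obj ((modelD X).obj M)) ↔
      ∀ (i : ℤ) (y : U), VanAt ((DerivedCategory.homologyFunctor (ModuleCat.{u} Γ(X, ⊤)) i).obj M)
        (X.isoSpec.hom (j y)) :=
  ((restrictDComp j X.isoSpec.hom).app _).isZero_iff.trans
    (isZero_restrictD_tildeD_iff M (j ≫ X.isoSpec.hom))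

variable {X} in
lemma mem_basicOpen_iff (f : Γ(X, ⊤)) (x : X) :
    x ∈ X.basicOpen f ↔ f ∉ (X.isoSpec.hom x).asIdeal := by
  rw [← Scheme.map_PrimeSpectrum_basicOpen_of_affine X f]
  rfl

/-- `M~|_U = 0` iff the cohomology of `M` is torsion with respect to functions `f` with `U = ⋃ D(f)`. -/
theorem isZero_restrictD_modelD_iff_isTors (M : DerivedCategory (ModuleCat.{u} Γ(X, ⊤)))
    (U : X.Opens) (l : List Γ(X, ⊤)) (hU : ∀ x : X, x ∈ U ↔ ∃ f ∈ l, x ∈ X.basicOpen f) :
    IsZero ((restrictD U.ι).obj ((modelD X).obj M)) ↔ ∀ f ∈ l, RingKill.IsTors f M := by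
  rw [isZero_restrictD_modelD_iff]
  constructor
  · intro h f hf i
    refine (forall_vanAt_iff _ f).1 fun x hx => ?_
    obtain ⟨y, rfl⟩ : ∃ y : X, X.isoSpec.hom y = x :=
      ⟨X.isoSpec.inv x, by
        rw [← Scheme.Hom.comp_apply, X.isoSpec.inv_hom_id]
        rfl⟩
    exact h i ⟨y, (hU y).2 ⟨f, hf, (mem_basicOpen_iff f y).2 hx⟩⟩
  · intro h i y
    obtain ⟨f, hf, hy⟩ := (hU y.1).1 y.2
    exact (forall_vanAt_iff _ f).2 (h f hf i) _ ((mem_basicOpen_iff f y.1).1 hy)

/-- A quasi-compact open of an affine scheme is a finite union of basic opens. -/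
lemma exists_list_basicOpen (U : X.Opens) (hU : IsCompact (U : Set X)) :
    ∃ l : List Γ(X, ⊤), ∀ x : X, x ∈ U ↔ ∃ f ∈ l, x ∈ X.basicOpen f := by
  obtain ⟨s, hs, hsU⟩ := (isCompact_and_isOpen_iff_finite_and_eq_biUnion_basicOpen
    (X := X) (U := (U : Set X))).1 ⟨hU, U.isOpen⟩
  refine ⟨hs.toFinset.toList, fun x => ?_⟩
  rw [← SetLike.mem_coe, hsU]
  simp

end Model

end Groth.Agent.PerfA.AffModel
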