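import Groth.Agent.PerfA.TensDev
import Groth.Agent.S0962
import Groth.Agent.PerfA.PerfLocal

/-!
# `E ⊗^L K` is perfect if `E` and `K` are (no K-flatness of the complex `K`)
-/

set_option autoImplicit false
universe u
open CategoryTheory CategoryTheory.Limits CategoryTheory.Pretriangulated AlgebraicGeometry
attribute [local instance] HasDerivedCategory.standard

namespace Groth.Agent.PerfA.TensPerf
open Groth.Agent.PerfC.DBif Groth.Agent.PerfA.TensDev Groth.Agent.PerfA.PerfLocal

variable {X : Scheme.{u}}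

/-- `- ⊗^L K` only depends on the quasi-isomorphism class of the complex `K`. -/
theorem nonempty_iso_of_quasiIso {K L : CochainComplex X.Modules ℤ} (w : K ⟶ L) (hw : QuasiIso w)
    [DCoh.HasLTensorCx K] [DCoh.HasLTensorCx L] :
    Nonempty (DCoh.LTensorCx K ≅ DCoh.LTensorCx L) := by
  have : HasLT (DCoh.tensorCx (X := X)) := bifData.hasLT
  have h := bifData.isIso_LTmap w hw
  exact ⟨@asIso _ _ _ _ (LTmap _ w) h⟩

theorem hasLTensorCx (K : CochainComplex X.Modules ℤ) : DCoh.HasLTensorCx K :=
  bifData.hasLT.has K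

/-- `E ⊗^L K` is perfect if `E` and `K` are. -/
theorem isPerfect_LTensorCx (K : CochainComplex X.Modules ℤ)
    (hK : DCoh.IsPerfect (DerivedCategory.Q.obj K)) [DCoh.HasLTensorCx K] (E : DCoh.D X)
    (hE : DCoh.IsPerfect E) : DCoh.IsPerfect ((DCoh.LTensorCx K).obj E) := by
  obtain ⟨L, w, hL, hw⟩ := bifData.exists_res K
  have hQ : IsIso (DerivedCategory.Q.map w) := (DerivedCategory.isIso_Q_map_iff_quasiIso _ _).2 hw
  have : DCoh.HasLTensorCx L := hasLTensorCx L
  obtain ⟨e⟩ := nonempty_iso_of_quasiIso w hw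
  exact isPerfect_of_iso (e.app E) (S0962.result L hL.1
    (isPerfect_of_iso (asIso (DerivedCategory.Q.map w)).symm hK) E hE)

end Groth.Agent.PerfA.TensPerf
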