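import Groth.Agent.PerfC.DBifTri
import Groth.Agent.Dcoh.LTMod
import Groth.Agent.Dcoh.KFlatFlip
import Groth.Agent.PerfA.Devissage

/-!
# Derived tensor products with a bounded complex: dévissage in the complex

* `bifData`: `DCoh.tensorCx` and complexes K-flat in both variables satisfy `DBif.BifData`.
* `prop_of_terms`: a triangulated property of `D(O_X)` containing `E ⊗^L (K.X i)` for all `i` contains `E ⊗^L K`
  for `K` bounded.
-/

set_option autoImplicit false
universe u
open CategoryTheory CategoryTheory.Limits CategoryTheory.Pretriangulated AlgebraicGeometry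
attribute [local instance] HasDerivedCategory.standard

namespace Groth.Agent.PerfA.TensDev
open Groth.Agent.Dcoh.CxFun Groth.Agent.PerfC.DInd Groth.Agent.PerfC.DBif Groth.Agent.Dcoh.KFlatAbs
  Groth.Agent.Dcoh.KFlatFlip Groth.Agent.Dcoh

variable {X : Scheme.{u}}

/-- Complexes which are K-flat in both variables. -/
def KF₂ (P : CochainComplex X.Modules ℤ) : Prop :=
  DCoh.IsKFlat P ∧ KFl (DCoh.tensorBi (X := X)).flip P

theorem quasiIso_map_app {P Q : CochainComplex X.Modules ℤ} (w : P ⟶ Q) (hw : QuasiIso w)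
    (hP : KF₂ P) (hQ : KF₂ Q) (E : CochainComplex X.Modules ℤ) :
    QuasiIso ((DCoh.tensorCx.map w).app E) := by
  obtain ⟨E', q, hE', -, -, hq, -⟩ := exists_resolution₂ E
  have h1 : QuasiIso ((DCoh.tensorCx.obj P).map q) := quasiIso_of_kfl_flip hP.2 q
  have h2 : QuasiIso ((DCoh.tensorCx.obj Q).map q) := quasiIso_of_kfl_flip hQ.2 q
  have h3 : QuasiIso ((DCoh.tensorCx.map w).app E') := KFlat.quasiIso_tensor hE' w
  have h4 : QuasiIso ((DCoh.tensorCx.obj P).map q ≫ (DCoh.tensorCx.map w).app E) := by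
    rw [NatTrans.naturality]
    infer_instance
  exact quasiIso_of_comp_left ((DCoh.tensorCx.obj P).map q) _

theorem bifData : BifData (DCoh.tensorCx (X := X)) KF₂ where
  htpy_flip E := inferInstance
  exists_res K := by
    obtain ⟨L, w, h1, h2, -, hw, -⟩ := exists_resolution₂ K
    exact ⟨L, w, ⟨h1, h2⟩, hw⟩
  quasiIso_obj L hL {E E'} u hu := by
    have := hu
    exact quasiIso_of_kfl_flip hL.2 u
  quasiIso_map {L L'} w hL hL' hw E := quasiIso_map_app w hw hL hL' E

theorem presQis {P : CochainComplex X.Modules ℤ} (hP : KF₂ P) : PresQis (DCoh.tensorCx.obj P) where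
  quasiIso_map f hf := by
    have := hf
    exact quasiIso_of_kfl_flip hP.2 f

/-- `P ⊗^L E` for `P` K-flat in both variables. -/
theorem nonempty_isoQ (K : CochainComplex X.Modules ℤ) [DCoh.HasLTensorCx K]
    {P : CochainComplex X.Modules ℤ} (hP : KF₂ P) :
    Nonempty ((DCoh.LTensorCx K).obj (DerivedCategory.Q.obj P) ≅
      DerivedCategory.Q.obj ((DCoh.tensorCx.obj P).obj K)) := by
  have : HasLT (DCoh.tensorCx (X := X)) := bifData.hasLT
  have h := bifData.isIso_β K P hP
  exact ⟨@asIso _ _ _ _ _ h⟩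

/-- Every object of `D(O_X)` is represented by a complex K-flat in both variables. -/
theorem exists_rep (E : DCoh.D X) : ∃ P : CochainComplex X.Modules ℤ, KF₂ P ∧
    Nonempty (DerivedCategory.Q.obj P ≅ E) := by
  obtain ⟨L, w, hL, hw⟩ := bifData.exists_res (DerivedCategory.Q.objPreimage E)
  have i' : IsIso (DerivedCategory.Q.map w) := (DerivedCategory.isIso_Q_map_iff_quasiIso _ _).2 hw
  exact ⟨L, hL, ⟨asIso (DerivedCategory.Q.map w) ≪≫ DerivedCategory.Q.objObjPreimageIso E⟩⟩

/-- `P ⊗^L G[0]` is `P ⊗^L G`. -/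
theorem nonempty_single_iso (G : X.Modules) [DCoh.HasLTensorMod G]
    {P : CochainComplex X.Modules ℤ} (hP : KF₂ P) :
    Nonempty (DerivedCategory.Q.obj ((DCoh.tensorCx.obj P).obj
      ((HomologicalComplex.single X.Modules (ComplexShape.up ℤ) 0).obj G)) ≅
      (DCoh.LTensorMod G).obj (DerivedCategory.Q.obj P)) := by
  obtain ⟨s⟩ := LTMod.nonempty_singleIso' G
  exact ⟨DerivedCategory.Q.mapIso (s.app P).symm ≪≫ (LTMod.isoQ G hP.1).symm⟩

/-- A triangulated property of `D(O_X)` containing `E ⊗^L (K.X i)` for all `i` contains `E ⊗^L K`, `K` bounded. -/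
theorem prop_of_terms (S : ObjectProperty (DCoh.D X)) [S.IsTriangulated]
    [S.IsClosedUnderIsomorphisms] (K : CochainComplex X.Modules ℤ) (a b : ℤ)
    (hK : DCoh.VanishesOutside K a b) [DCoh.HasLTensorCx K] (E : DCoh.D X)
    (h : ∀ i : ℤ, ∀ [DCoh.HasLTensorMod (K.X i)], S ((DCoh.LTensorMod (K.X i)).obj E)) :
    S ((DCoh.LTensorCx K).obj E) := by
  obtain ⟨P, hP, ⟨e⟩⟩ := exists_rep E
  obtain ⟨e1⟩ := nonempty_isoQ K hP
  have := presQis hP
  let F : DCoh.D X ⥤ DCoh.D X := ind (DCoh.tensorCx.obj P)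
  have hF : F.IsTriangulated := inferInstance
  let e2 : ∀ L : CochainComplex X.Modules ℤ, F.obj (DerivedCategory.Q.obj L) ≅
      DerivedCategory.Q.obj ((DCoh.tensorCx.obj P).obj L) := fun L =>
    (indFactors (DCoh.tensorCx.obj P)).app L
  have key : S.inverseImage F (DerivedCategory.Q.obj K) := by
    refine Devissage.devissage (S.inverseImage F) ?_ ?_ ?_ K a b hK ?_
    · intro A B e hA
      exact (S.inverseImage F).prop_of_iso e hA
    · intro T hT h1 h3
      exact S.ext_of_isTriangulatedClosed₂ _ (F.map_distinguished T hT) h1 h3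
    · intro A hA
      exact S.prop_of_isZero (F.map_isZero hA)
    · intro i _ _
      have hi : DCoh.HasLTensorMod (K.X i) := LTMod.hasLTensorMod _
      obtain ⟨e3⟩ := nonempty_single_iso (K.X i) hP
      have h0 : S (F.obj ((DerivedCategory.singleFunctor X.Modules 0).obj (K.X i))) :=
        S.prop_of_iso (e2 ((HomologicalComplex.single X.Modules (ComplexShape.up ℤ) 0).obj (K.X i)) ≪≫ e3 ≪≫
          (DCoh.LTensorMod (K.X i)).mapIso e).symm (h i)
      have h1 : S ((F.obj ((DerivedCategory.singleFunctor X.Modules 0).obj (K.X i)))⟦(-i : ℤ)⟧) :=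
        S.le_shift (-i) _ h0
      exact S.prop_of_iso (((F.commShiftIso (-i)).app _).symm ≪≫
        F.mapIso (((DerivedCategory.singleFunctors X.Modules).shiftIso (-i) i 0 (by simp)).app (K.X i))) h1
  exact S.prop_of_iso (e2 K ≪≫ e1.symm ≪≫ (DCoh.LTensorCx K).mapIso e) key

end Groth.Agent.PerfA.TensDev
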