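import Groth.Agent.PerfA.HypPush
import Groth.Agent.PerfA.HypInd
import Groth.Agent.LoccohB.RpushTri

/-!
# Uniform vanishing of `Rf_*` on `D_QCoh`
-/

set_option autoImplicit false

universe u

open CategoryTheory CategoryTheory.Limits AlgebraicGeometry Opposite TopologicalSpace
open Groth.Agent.PerfA.ExtZero Groth.Agent.PerfA.Hyp0 Groth.Agent.PerfA.Hyp1 Groth.Agent.PerfA.Hyp2
open Groth.Agent.PerfA.HypBound Groth.Agent.PerfA.HypPush

attribute [local instance] HasDerivedCategory.standard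

namespace Groth.Agent.PerfA.HypPush2

variable {X S : Scheme.{u}} (f : X ⟶ S)

/-- `W ∩ f⁻¹ W'` is affine for `W ≤ f⁻¹ V` and `V`, `W' ≤ V`, `W` affine. -/
lemma isAffineOpen_inf_preimage {V W' : S.Opens} (hV : IsAffineOpen V) (hW' : IsAffineOpen W')
    (hle : W' ≤ V) {W : X.Opens} (hW : IsAffineOpen W) (hWV : W ≤ f ⁻¹ᵁ V) :
    IsAffineOpen (W ⊓ f ⁻¹ᵁ W') := by
  have : IsAffine (V : Scheme.{u}) := hV
  have : IsAffine (W : Scheme.{u}) := hW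
  have h1 : IsAffineOpen (V.ι ⁻¹ᵁ W') := by
    rw [← V.ι.isAffineOpen_iff_of_isOpenImmersion, Scheme.Hom.image_preimage_eq_opensRange_inf,
      Scheme.Opens.opensRange_ι, inf_eq_right.2 hle]
    exact hW'
  have h2 : IsAffineOpen (f.resLE V W hWV ⁻¹ᵁ (V.ι ⁻¹ᵁ W')) := h1.preimage _
  have h3 : W.ι ''ᵁ (f.resLE V W hWV ⁻¹ᵁ (V.ι ⁻¹ᵁ W')) = W ⊓ f ⁻¹ᵁ W' := by
    rw [← Scheme.Hom.comp_preimage, Scheme.Hom.resLE_comp_ι, Scheme.Hom.comp_preimage,
      Scheme.Hom.image_preimage_eq_opensRange_inf, Scheme.Opens.opensRange_ι]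
  rw [← h3]
  exact h2.image_of_isOpenImmersion W.ι

lemma forall_eq_zero_congr {K : DCoh.D X} {m : ℤ} {A B : X.Opens} (h : A = B)
    (hA : ∀ φ : P m A ⟶ K, φ = 0) : ∀ φ : P m B ⟶ K, φ = 0 := by
  subst h
  exact hA

/-- Uniform bound for `f⁻¹ W'`, `W'` affine in `V`. -/
theorem exists_bound_push [QuasiCompact f] [QuasiSeparated f] (V : S.Opens) (hV : IsAffineOpen V) :
    ∃ N : ℤ, ∀ (K : DCoh.D X), DCoh.IsQCohD K → ∀ (a : ℤ), K.IsLE a → ∀ W' : S.Opens,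
      IsAffineOpen W' → W' ≤ V → ∀ m : ℤ, a + N ≤ m → ∀ φ : P m (f ⁻¹ᵁ W') ⟶ K, φ = 0 := by
  have hU : IsCompact ((f ⁻¹ᵁ V : X.Opens) : Set X) :=
    QuasiCompact.isCompact_preimage (f := f) _ V.isOpen hV.isCompact
  have hU' : IsQuasiSeparated ((f ⁻¹ᵁ V : X.Opens) : Set X) :=
    f.isQuasiSeparated_preimage hV.isQuasiSeparated
  have key := HypInd.qcqs_induction (f ⁻¹ᵁ V) hU hU' (fun W => ∃ N : ℤ, ∀ (K : DCoh.D X),
    DCoh.IsQCohD K → ∀ (a : ℤ), K.IsLE a → ∀ W' : S.Opens, IsAffineOpen W' → W' ≤ V → ∀ m : ℤ,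
      a + N ≤ m → ∀ φ : P m (W ⊓ f ⁻¹ᵁ W') ⟶ K, φ = 0) ?_ ?_ (f ⁻¹ᵁ V) le_rfl hU
  · obtain ⟨N, hN⟩ := key
    refine ⟨N, fun K hK a ha W' hW' hle m hm => ?_⟩
    exact forall_eq_zero_congr (inf_eq_right.2 (fun x hx => hle hx)) (hN K hK a ha W' hW' hle m hm)
  · intro W hWV hW
    refine ⟨1, fun K hK a ha W' hW' hle m hm φ => ?_⟩
    refine AffBij.eq_zero_of_isZero (fun m U hU => HypAffine.toHD_bijective K hK U hU m)
      (isAffineOpen_inf_preimage f hV hW' hle hW hWV) φ ?_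
    exact DerivedCategory.isZero_of_isLE K a m (by lia)
  · intro W₁ W₂ _ _ _ _ ⟨N₁, h₁⟩ ⟨N₂, h₂⟩ ⟨N₃, h₃⟩
    refine ⟨max (max N₁ N₂) (N₃ + 1), fun K hK a ha W' hW' hle m hm => ?_⟩
    have e1 := le_max_left (max N₁ N₂) (N₃ + 1)
    have e2 := le_max_right (max N₁ N₂) (N₃ + 1)
    have e3 := le_max_left N₁ N₂
    have e4 := le_max_right N₁ N₂
    refine forall_eq_zero_congr (inf_sup_right W₁ W₂ (f ⁻¹ᵁ W')).symm fun φ => ?_
    obtain ⟨ψ, hψ⟩ := mv_exists_δ (n := m - 1) (by lia) φ (h₁ K hK a ha W' hW' hle m (by lia) _)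
      (h₂ K hK a ha W' hW' hle m (by lia) _)
    rw [hψ, forall_eq_zero_congr (inf_inf_distrib_right W₁ W₂ (f ⁻¹ᵁ W'))
      (h₃ K hK a ha W' hW' hle (m - 1) (by lia)) ψ, comp_zero]

/-- `HD (Rf_* (Q L)) m` for `L` K-injective. -/
noncomputable def HDRpushIso [DCoh.HasRpush f] (L : CochainComplex X.Modules ℤ)
    (hL : L.IsKInjective) (m : ℤ) :
    DCoh.HD ((DCoh.Rpush f).obj (DerivedCategory.Q.obj L)) m ≅ (pushC f L).homology m :=
  (DerivedCategory.homologyFunctor S.Modules m).mapIso (Dcoh.DerSch.rpushIso f L hL) ≪≫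
    (DerivedCategory.homologyFunctorFactors S.Modules m).app (pushC f L)

/-- Stacks 08D5 (2). -/
theorem exists_bound_Rpush [QuasiCompact f] [QuasiSeparated f] [CompactSpace S] [DCoh.HasRpush f] :
    ∃ N : ℤ, ∀ (E : DCoh.D X), DCoh.IsQCohD E → ∀ a : ℤ, E.IsLE a → ∀ m : ℤ, a + N ≤ m →
      IsZero (DCoh.HD ((DCoh.Rpush f).obj E) m) := by
  classical
  choose V hV hxV _ using fun x : S =>
    exists_isAffineOpen_mem_and_subset (U := (⊤ : S.Opens)) (x := x) trivial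
  choose N hN using fun x : S => exists_bound_push f (V x) (hV x)
  obtain ⟨t, ht⟩ := isCompact_univ.elim_nhds_subcover (fun x => (V x : Set S))
    (fun x _ => (V x).isOpen.mem_nhds (hxV x))
  obtain ⟨M, hM⟩ := (t.image N).bddAbove
  refine ⟨M, fun E hE a ha m hm => ?_⟩
  obtain ⟨L, hL, ⟨e⟩⟩ := LoccohB.RpushTri.exists_isKInjective_iso
    (LoccohB.RpushTri.hasKInj_modules X) E
  refine IsZero.of_iso ?_ ((DerivedCategory.homologyFunctor S.Modules m).mapIso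
    ((DCoh.Rpush f).mapIso e) ≪≫ HDRpushIso f L hL m)
  rw [← HomologicalComplex.exactAt_iff_isZero_homology]
  refine exactAt_pushC f L hL m fun W x hx => ?_
  obtain ⟨y, hy, hxy⟩ : ∃ y ∈ t, x ∈ V y := by
    have := ht.2 (Set.mem_univ x)
    simpa using this
  obtain ⟨W', hW', hxW', hle⟩ := exists_isAffineOpen_mem_and_subset (U := W ⊓ V y) ⟨hx, hxy⟩
  refine ⟨W', hle.trans inf_le_left, hxW', fun φ => ?_⟩
  have h1 : N y ≤ M := hM (by simpa using ⟨y, hy, rfl⟩)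
  have h2 := hN y E hE a ha W' hW' (hle.trans inf_le_right) m (by lia) (φ ≫ e.inv)
  rw [← cancel_mono e.inv, h2, zero_comp]

end Groth.Agent.PerfA.HypPush2
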