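import Groth.Agent.PerfA.Hyp1
import Mathlib.Algebra.Homology.DerivedCategory.ShortExact

/-!
# The Mayer-Vietoris sequence for hypercohomology on opens of a scheme

All statements are in terms of morphisms `P m U ⟶ K` in `D(O_X)`.
-/

set_option autoImplicit false

universe u

open CategoryTheory CategoryTheory.Limits AlgebraicGeometry Opposite TopologicalSpace
open Pretriangulated
open Groth.Agent.PerfA.ExtZero Groth.Agent.PerfA.Hyp0 Groth.Agent.PerfA.Hyp1

attribute [local instance] HasDerivedCategory.standard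

namespace Groth.Agent.PerfA.Hyp2

section General

variable {C : Type*} [Category* C] [Abelian C] [HasDerivedCategory C]
variable {S : ShortComplex C} (hS : S.ShortExact)

/-- The connecting map `X₃[-m] ⟶ X₁[-m][1]`. -/
noncomputable def sesδ₀ (m : ℤ) : (DerivedCategory.singleFunctor C m).obj S.X₃ ⟶
    ((DerivedCategory.singleFunctor C m).obj S.X₁)⟦(1 : ℤ)⟧ :=
  DerivedCategory.triangleOfSESδ
    (hS.map_of_exact (HomologicalComplex.single C (ComplexShape.up ℤ) m))

/-- The distinguished triangle in degree `m` attached to a short exact sequence. -/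
noncomputable abbrev sesTriangle (m : ℤ) : Triangle (DerivedCategory C) :=
  Triangle.mk ((DerivedCategory.singleFunctor C m).map S.f) ((DerivedCategory.singleFunctor C m).map S.g)
    (sesδ₀ hS m)

lemma sesTriangle_distinguished (m : ℤ) : sesTriangle hS m ∈ distTriang (DerivedCategory C) :=
  DerivedCategory.triangleOfSES_distinguished
    (hS.map_of_exact (HomologicalComplex.single C (ComplexShape.up ℤ) m))

/-- The isomorphism `G[-m][1] ≅ G[-(m-1)]`. -/
noncomputable def shiftI {m n : ℤ} (h : n + 1 = m) :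
    DerivedCategory.singleFunctor C m ⋙ shiftFunctor (DerivedCategory C) (1 : ℤ) ≅
      DerivedCategory.singleFunctor C n :=
  (DerivedCategory.singleFunctors C).shiftIso 1 n m (by lia)

variable {m n : ℤ} (h : n + 1 = m)

/-- The connecting map `X₃[-m] ⟶ X₁[-(m-1)]`. -/
noncomputable def sesδ : (DerivedCategory.singleFunctor C m).obj S.X₃ ⟶
    (DerivedCategory.singleFunctor C n).obj S.X₁ :=
  sesδ₀ hS m ≫ (shiftI h).hom.app S.X₁

include hS in
lemma ses_exact₂ {K : DerivedCategory C} (f : (DerivedCategory.singleFunctor C m).obj S.X₂ ⟶ K)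
    (hf : (DerivedCategory.singleFunctor C m).map S.f ≫ f = 0) :
    ∃ g : (DerivedCategory.singleFunctor C m).obj S.X₃ ⟶ K,
      f = (DerivedCategory.singleFunctor C m).map S.g ≫ g :=
  Triangle.yoneda_exact₂ _ (sesTriangle_distinguished hS m) f hf

lemma ses_exact₃ {K : DerivedCategory C} (f : (DerivedCategory.singleFunctor C m).obj S.X₃ ⟶ K)
    (hf : (DerivedCategory.singleFunctor C m).map S.g ≫ f = 0) :
    ∃ g : (DerivedCategory.singleFunctor C n).obj S.X₁ ⟶ K, f = sesδ hS h ≫ g := by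
  obtain ⟨g, hg⟩ := Triangle.yoneda_exact₃ _ (sesTriangle_distinguished hS m) f hf
  refine ⟨(shiftI h).inv.app S.X₁ ≫ g, ?_⟩
  rw [sesδ, Category.assoc, Iso.hom_inv_id_app_assoc]
  exact hg

lemma sesδ_map : sesδ hS h ≫ (DerivedCategory.singleFunctor C n).map S.f = 0 := by
  have h1 := comp_distTriang_mor_zero₃₁ _ (sesTriangle_distinguished hS m)
  have h2 := (shiftI h).hom.naturality S.f
  rw [sesδ, Category.assoc, ← h2, ← Category.assoc]
  exact (congrArg (· ≫ (shiftI h).hom.app S.X₂) h1).trans zero_comp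

lemma map_sesδ : (DerivedCategory.singleFunctor C m).map S.g ≫ sesδ hS h = 0 := by
  have h1 := comp_distTriang_mor_zero₂₃ _ (sesTriangle_distinguished hS m)
  rw [sesδ, ← Category.assoc]
  exact (congrArg (· ≫ (shiftI h).hom.app S.X₁) h1).trans zero_comp

lemma ses_exact₁ {K : DerivedCategory C} (f : (DerivedCategory.singleFunctor C n).obj S.X₁ ⟶ K)
    (hf : sesδ hS h ≫ f = 0) :
    ∃ g : (DerivedCategory.singleFunctor C n).obj S.X₂ ⟶ K,
      f = (DerivedCategory.singleFunctor C n).map S.f ≫ g := by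
  have hT := rot_of_distTriang _ (sesTriangle_distinguished hS m)
  obtain ⟨g, hg⟩ := Triangle.yoneda_exact₃ _ hT ((shiftI h).hom.app S.X₁ ≫ f)
    ((Category.assoc _ _ _).symm.trans hf)
  have hg' : (shiftI h).hom.app S.X₁ ≫ f =
      (- ((DerivedCategory.singleFunctor C m).map S.f)⟦(1 : ℤ)⟧') ≫ g := hg
  refine ⟨- ((shiftI h).inv.app S.X₂ ≫ g), ?_⟩
  have h2 : (DerivedCategory.singleFunctor C n).map S.f ≫ (shiftI h).inv.app S.X₂ =
      (shiftI h).inv.app S.X₁ ≫ ((DerivedCategory.singleFunctor C m).map S.f)⟦(1 : ℤ)⟧' :=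
    (shiftI h).inv.naturality S.f
  have h3 : f = (shiftI h).inv.app S.X₁ ≫ (shiftI h).hom.app S.X₁ ≫ f := by
    rw [Iso.inv_hom_id_app_assoc]
  rw [Preadditive.comp_neg, ← Category.assoc, h2, Category.assoc]
  refine h3.trans ?_
  rw [hg', Preadditive.neg_comp, Preadditive.comp_neg]

lemma sesδ_naturality {S' : ShortComplex C} (hS' : S'.ShortExact) (f : S' ⟶ S) :
    (DerivedCategory.singleFunctor C m).map f.τ₃ ≫ sesδ hS h =
      sesδ hS' h ≫ (DerivedCategory.singleFunctor C n).map f.τ₁ := by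
  have h1 : sesδ₀ hS' m ≫ ((DerivedCategory.singleFunctor C m).map f.τ₁)⟦(1 : ℤ)⟧' =
      (DerivedCategory.singleFunctor C m).map f.τ₃ ≫ sesδ₀ hS m :=
    DerivedCategory.triangleOfSESδ_naturality
      (hS'.map_of_exact (HomologicalComplex.single C (ComplexShape.up ℤ) m))
      (hS.map_of_exact (HomologicalComplex.single C (ComplexShape.up ℤ) m))
      ((HomologicalComplex.single C (ComplexShape.up ℤ) m).mapShortComplex.map f)
  have h2 : ((DerivedCategory.singleFunctor C m).map f.τ₁)⟦(1 : ℤ)⟧' ≫ (shiftI h).hom.app S.X₁ =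
      (shiftI h).hom.app S'.X₁ ≫ (DerivedCategory.singleFunctor C n).map f.τ₁ :=
    (shiftI h).hom.naturality f.τ₁
  rw [sesδ, sesδ, ← Category.assoc, ← h1, Category.assoc, Category.assoc, h2]

end General

section MV

variable {X : Scheme.{u}}

/-- The Mayer-Vietoris connecting map `P m (U ⊔ V) ⟶ P n (U ⊓ V)`, `n + 1 = m`. -/
noncomputable def mvδ {m n : ℤ} (h : n + 1 = m) (U V : X.Opens) : P m (U ⊔ V) ⟶ P n (U ⊓ V) :=
  sesδ (mvShortComplex_shortExact U V) h

lemma map_mvg (m : ℤ) (U V : X.Opens) :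
    (DerivedCategory.singleFunctor X.Modules m).map (mvg U V) =
      (DerivedCategory.singleFunctor X.Modules m).map biprod.fst ≫ Pmap m le_sup_left +
      (DerivedCategory.singleFunctor X.Modules m).map biprod.snd ≫ Pmap m le_sup_right := by
  rw [Pmap, Pmap, ← Functor.map_comp, ← Functor.map_comp, ← Functor.map_add]
  congr 1
  rw [mvg, biprod.desc_eq]

lemma map_mvf (m : ℤ) (U V : X.Opens) :
    (DerivedCategory.singleFunctor X.Modules m).map (mvf U V) =
      Pmap m inf_le_left ≫ (DerivedCategory.singleFunctor X.Modules m).map biprod.inl -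
      Pmap m inf_le_right ≫ (DerivedCategory.singleFunctor X.Modules m).map biprod.inr := by
  rw [Pmap, Pmap, ← Functor.map_comp, ← Functor.map_comp, ← Functor.map_sub]
  congr 1
  rw [mvf, biprod.lift_eq, Preadditive.neg_comp, sub_eq_add_neg]

lemma mv_exact₂ {m : ℤ} {U V : X.Opens} {K : DCoh.D X}
    (f : (DerivedCategory.singleFunctor X.Modules m).obj (OU U ⊞ OU V) ⟶ K)
    (hf : (DerivedCategory.singleFunctor X.Modules m).map (mvf U V) ≫ f = 0) :
    ∃ g : P m (U ⊔ V) ⟶ K, f = (DerivedCategory.singleFunctor X.Modules m).map (mvg U V) ≫ g :=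
  ses_exact₂ (mvShortComplex_shortExact U V) f hf

lemma mv_exact₃ {m n : ℤ} (h : n + 1 = m) {U V : X.Opens} {K : DCoh.D X} (f : P m (U ⊔ V) ⟶ K)
    (hf : (DerivedCategory.singleFunctor X.Modules m).map (mvg U V) ≫ f = 0) :
    ∃ g : P n (U ⊓ V) ⟶ K, f = mvδ h U V ≫ g :=
  ses_exact₃ (mvShortComplex_shortExact U V) h f hf

lemma mv_exact₁ {m n : ℤ} (h : n + 1 = m) {U V : X.Opens} {K : DCoh.D X} (f : P n (U ⊓ V) ⟶ K)
    (hf : mvδ h U V ≫ f = 0) :
    ∃ g : (DerivedCategory.singleFunctor X.Modules n).obj (OU U ⊞ OU V) ⟶ K,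
      f = (DerivedCategory.singleFunctor X.Modules n).map (mvf U V) ≫ g :=
  ses_exact₁ (mvShortComplex_shortExact U V) h f hf

lemma mvδ_map_mvf {m n : ℤ} (h : n + 1 = m) (U V : X.Opens) :
    mvδ h U V ≫ (DerivedCategory.singleFunctor X.Modules n).map (mvf U V) = 0 :=
  sesδ_map (mvShortComplex_shortExact U V) h

lemma map_mvg_mvδ {m n : ℤ} (h : n + 1 = m) (U V : X.Opens) :
    (DerivedCategory.singleFunctor X.Modules m).map (mvg U V) ≫ mvδ h U V = 0 :=
  map_sesδ (mvShortComplex_shortExact U V) h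

/-- Mayer-Vietoris: a class on `U ⊔ V` restricting to zero on `U` and `V` comes from `U ⊓ V`. -/
lemma mv_exists_δ {m n : ℤ} (h : n + 1 = m) {U V : X.Opens} {K : DCoh.D X} (φ : P m (U ⊔ V) ⟶ K)
    (hU : res le_sup_left φ = 0) (hV : res le_sup_right φ = 0) :
    ∃ ψ : P n (U ⊓ V) ⟶ K, φ = mvδ h U V ≫ ψ := by
  refine mv_exact₃ h φ ?_
  rw [map_mvg, Preadditive.add_comp, Category.assoc, Category.assoc]
  rw [res] at hU hV
  rw [hU, hV, comp_zero, comp_zero, add_zero]

section BiprodMaps

variable {C : Type*} [Category* C] [Preadditive C] {D : Type*} [Category* D] [Preadditive D]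
  (F : C ⥤ D) [F.Additive] (A B : C) [HasBinaryBiproduct A B]

@[reassoc]
lemma map_inl_fst : F.map (biprod.inl : A ⟶ A ⊞ B) ≫ F.map biprod.fst = 𝟙 _ := by
  rw [← F.map_comp, biprod.inl_fst, CategoryTheory.Functor.map_id]

@[reassoc]
lemma map_inl_snd : F.map (biprod.inl : A ⟶ A ⊞ B) ≫ F.map biprod.snd = 0 := by
  rw [← F.map_comp, biprod.inl_snd, Functor.map_zero]

@[reassoc]
lemma map_inr_fst : F.map (biprod.inr : B ⟶ A ⊞ B) ≫ F.map biprod.fst = 0 := by
  rw [← F.map_comp, biprod.inr_fst, Functor.map_zero]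

@[reassoc]
lemma map_inr_snd : F.map (biprod.inr : B ⟶ A ⊞ B) ≫ F.map biprod.snd = 𝟙 _ := by
  rw [← F.map_comp, biprod.inr_snd, CategoryTheory.Functor.map_id]

end BiprodMaps

/-- Mayer-Vietoris: gluing of two classes. -/
lemma mv_glue {m : ℤ} {U V : X.Opens} {K : DCoh.D X} (a : P m U ⟶ K) (b : P m V ⟶ K)
    (hab : res (inf_le_left : U ⊓ V ≤ U) a = res (inf_le_right : U ⊓ V ≤ V) b) :
    ∃ c : P m (U ⊔ V) ⟶ K, res le_sup_left c = a ∧ res le_sup_right c = b := by
  obtain ⟨c, hc⟩ := mv_exact₂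
    ((DerivedCategory.singleFunctor X.Modules m).map biprod.fst ≫ a +
      (DerivedCategory.singleFunctor X.Modules m).map biprod.snd ≫ b) (by
      rw [res, res] at hab
      rw [map_mvf, Preadditive.sub_comp, Preadditive.comp_add, Preadditive.comp_add,
        Category.assoc, Category.assoc, Category.assoc, Category.assoc,
        map_inl_fst_assoc, map_inl_snd_assoc, map_inr_fst_assoc, map_inr_snd_assoc]
      simp only [zero_comp, comp_zero, add_zero, zero_add, hab, sub_self])
  rw [map_mvg, Preadditive.add_comp, Category.assoc, Category.assoc] at hc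
  refine ⟨c, ?_, ?_⟩
  · have := congrArg ((DerivedCategory.singleFunctor X.Modules m).map biprod.inl ≫ ·) hc
    simp only [Preadditive.comp_add, map_inl_fst_assoc, map_inl_snd_assoc, zero_comp, add_zero] at this
    exact this.symm
  · have := congrArg ((DerivedCategory.singleFunctor X.Modules m).map biprod.inr ≫ ·) hc
    simp only [Preadditive.comp_add, map_inr_fst_assoc, map_inr_snd_assoc, zero_comp, zero_add] at this
    exact this.symm

/-- Mayer-Vietoris: the kernel of the connecting map. -/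
lemma mv_exists_of_δ_eq_zero {m n : ℤ} (h : n + 1 = m) {U V : X.Opens} {K : DCoh.D X}
    (ψ : P n (U ⊓ V) ⟶ K) (hψ : mvδ h U V ≫ ψ = 0) :
    ∃ (a : P n U ⟶ K) (b : P n V ⟶ K), ψ = res inf_le_left a - res inf_le_right b := by
  obtain ⟨g, hg⟩ := mv_exact₁ h ψ hψ
  rw [map_mvf, Preadditive.sub_comp, Category.assoc, Category.assoc] at hg
  exact ⟨_, _, hg⟩

/-- Mayer-Vietoris: the connecting map kills restrictions from `U`. -/
lemma mvδ_res_left {m n : ℤ} (h : n + 1 = m) {U V : X.Opens} {K : DCoh.D X} (a : P n U ⟶ K) :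
    mvδ h U V ≫ res inf_le_left a = 0 := by
  have h1 := mvδ_map_mvf h U V
  rw [map_mvf] at h1
  have h3 := congrArg (· ≫ (DerivedCategory.singleFunctor X.Modules n).map biprod.fst ≫ a) h1
  simp only [Preadditive.comp_sub, Preadditive.sub_comp, Category.assoc, map_inl_fst_assoc,
    map_inr_fst_assoc, zero_comp, comp_zero, sub_zero] at h3
  exact h3

/-- Mayer-Vietoris: the connecting map kills restrictions from `V`. -/
lemma mvδ_res_right {m n : ℤ} (h : n + 1 = m) {U V : X.Opens} {K : DCoh.D X} (b : P n V ⟶ K) :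
    mvδ h U V ≫ res inf_le_right b = 0 := by
  have h1 := mvδ_map_mvf h U V
  rw [map_mvf] at h1
  have h3 := congrArg (· ≫ (DerivedCategory.singleFunctor X.Modules n).map biprod.snd ≫ b) h1
  simp only [Preadditive.comp_sub, Preadditive.sub_comp, Category.assoc, map_inl_snd_assoc,
    map_inr_snd_assoc, zero_comp, comp_zero, zero_sub, neg_eq_zero] at h3
  exact h3

/-- The connecting map restricts to zero on `U`. -/
lemma res_left_mvδ {m n : ℤ} (h : n + 1 = m) {U V : X.Opens} {K : DCoh.D X} (ψ : P n (U ⊓ V) ⟶ K) :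
    res le_sup_left (mvδ h U V ≫ ψ) = 0 := by
  have h1 := map_mvg_mvδ h U V
  rw [map_mvg] at h1
  have h3 := congrArg (fun t => (DerivedCategory.singleFunctor X.Modules m).map biprod.inl ≫ t ≫ ψ) h1
  simp only [Preadditive.comp_add, Preadditive.add_comp, Category.assoc, map_inl_fst_assoc,
    map_inl_snd_assoc, zero_comp, comp_zero, add_zero] at h3
  exact h3

/-- The connecting map restricts to zero on `V`. -/
lemma res_right_mvδ {m n : ℤ} (h : n + 1 = m) {U V : X.Opens} {K : DCoh.D X} (ψ : P n (U ⊓ V) ⟶ K) :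
    res le_sup_right (mvδ h U V ≫ ψ) = 0 := by
  have h1 := map_mvg_mvδ h U V
  rw [map_mvg] at h1
  have h3 := congrArg (fun t => (DerivedCategory.singleFunctor X.Modules m).map biprod.inr ≫ t ≫ ψ) h1
  simp only [Preadditive.comp_add, Preadditive.add_comp, Category.assoc, map_inr_fst_assoc,
    map_inr_snd_assoc, zero_comp, comp_zero, zero_add] at h3
  exact h3

/-- Morphism of Mayer-Vietoris short complexes. -/
noncomputable def mvShortComplexMap {U V U' V' : X.Opens} (hU : U' ≤ U) (hV : V' ≤ V) :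
    mvShortComplex U' V' ⟶ mvShortComplex U V where
  τ₁ := (OUF X).map (homOfLE (inf_le_inf hU hV))
  τ₂ := biprod.map ((OUF X).map (homOfLE hU)) ((OUF X).map (homOfLE hV))
  τ₃ := (OUF X).map (homOfLE (sup_le_sup hU hV))
  comm₁₂ := by
    change _ ≫ mvf U V = mvf U' V' ≫ _
    apply biprod.hom_ext
    · simp only [mvf, Category.assoc, biprod.lift_fst, biprod.map_fst, biprod.lift_fst_assoc,
        ← Functor.map_comp]
      rfl
    · simp only [mvf, Category.assoc, biprod.lift_snd, biprod.map_snd, biprod.lift_snd_assoc,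
        ← Functor.map_comp, Preadditive.neg_comp, Preadditive.comp_neg]
      rfl
  comm₂₃ := by
    change _ ≫ mvg U V = mvg U' V' ≫ _
    apply biprod.hom_ext'
    · simp only [mvg, biprod.inl_map_assoc, biprod.inl_desc, biprod.inl_desc_assoc, ← Functor.map_comp]
      rfl
    · simp only [mvg, biprod.inr_map_assoc, biprod.inr_desc, biprod.inr_desc_assoc, ← Functor.map_comp]
      rfl

/-- Naturality of the connecting map. -/
lemma Pmap_mvδ {m n : ℤ} (h : n + 1 = m) {U V U' V' : X.Opens} (hU : U' ≤ U) (hV : V' ≤ V) :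
    Pmap m (sup_le_sup hU hV) ≫ mvδ h U V = mvδ h U' V' ≫ Pmap n (inf_le_inf hU hV) :=
  sesδ_naturality (mvShortComplex_shortExact U V) h (mvShortComplex_shortExact U' V')
    (mvShortComplexMap hU hV)

lemma res_mvδ {m n : ℤ} (h : n + 1 = m) {U V U' V' : X.Opens} (hU : U' ≤ U) (hV : V' ≤ V)
    {K : DCoh.D X} (ψ : P n (U ⊓ V) ⟶ K) :
    res (sup_le_sup hU hV) (mvδ h U V ≫ ψ) = mvδ h U' V' ≫ res (inf_le_inf hU hV) ψ := by
  have := congrArg (· ≫ ψ) (Pmap_mvδ h hU hV)
  simp only [Category.assoc] at this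
  exact this

end MV

end Groth.Agent.PerfA.Hyp2
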