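import Mathlib.Algebra.Homology.DerivedCategory.FullyFaithful
import Mathlib.Algebra.Homology.DerivedCategory.KInjective
import Mathlib.Algebra.Homology.DerivedCategory.HomologySequence
import Mathlib.Algebra.Homology.HomotopyCategory.HomComplexSingle
import Mathlib.CategoryTheory.Abelian.Refinements
import Mathlib.Algebra.Homology.Refinements

/-!
# Maps out of single complexes in the derived category of an abelian category

`toH φ : G ⟶ H^m(K)` for `φ : G[-m] ⟶ K`; cocycles `z : G ⟶ L^m` give maps `ofCocycle z : G[-m] ⟶ Q L`;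
up to an epimorphism onto `G` all maps are of this form, and `toH` is bijective up to refinements.
-/

set_option autoImplicit false

universe w v u

open CategoryTheory CategoryTheory.Limits DerivedCategory HomologicalComplex

namespace Groth.Agent.PerfA.Hyp0

variable {C : Type u} [Category.{v} C] [Abelian C] [HasDerivedCategory.{w} C]

/-- The map `G ⟶ H^m(K)` attached to `φ : G[-m] ⟶ K`. -/
noncomputable def toH {G : C} {K : DerivedCategory C} {m : ℤ} (φ : (singleFunctor C m).obj G ⟶ K) :
    G ⟶ (homologyFunctor C m).obj K :=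
  (singleFunctorCompHomologyFunctorIso C m).inv.app G ≫ (homologyFunctor C m).map φ

lemma toH_comp {G : C} {K L : DerivedCategory C} {m : ℤ} (φ : (singleFunctor C m).obj G ⟶ K) (f : K ⟶ L) :
    toH (φ ≫ f) = toH φ ≫ (homologyFunctor C m).map f := by
  simp [toH]

lemma toH_map_comp {G G' : C} {K : DerivedCategory C} {m : ℤ} (g : G' ⟶ G)
    (φ : (singleFunctor C m).obj G ⟶ K) :
    toH ((singleFunctor C m).map g ≫ φ) = g ≫ toH φ := by
  have := (singleFunctorCompHomologyFunctorIso C m).inv.naturality g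
  dsimp at this
  rw [toH, toH, Functor.map_comp, ← reassoc_of% this]

lemma toH_add {G : C} {K : DerivedCategory C} {m : ℤ} (φ ψ : (singleFunctor C m).obj G ⟶ K) :
    toH (φ + ψ) = toH φ + toH ψ := by
  simp [toH, Functor.map_add]

lemma toH_zero {G : C} {K : DerivedCategory C} {m : ℤ} :
    toH (0 : (singleFunctor C m).obj G ⟶ K) = 0 := by
  simp [toH]

/-- The map of complexes `G[-m] ⟶ L` attached to a cocycle `z : G ⟶ L^m`. -/
noncomputable def cocycleHom {G : C} {L : CochainComplex C ℤ} {m : ℤ} (z : G ⟶ L.X m)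
    (hz : z ≫ L.d m (m + 1) = 0) : (HomologicalComplex.single C (.up ℤ) m).obj G ⟶ L :=
  mkHomFromSingle z (fun k hk => by
      obtain rfl : m + 1 = k := hk
      exact hz)

omit [HasDerivedCategory.{w} C] in
@[simp]
lemma cocycleHom_f {G : C} {L : CochainComplex C ℤ} {m : ℤ} (z : G ⟶ L.X m)
    (hz : z ≫ L.d m (m + 1) = 0) :
    (cocycleHom z hz).f m = (singleObjXSelf (.up ℤ) m G).hom ≫ z :=
  mkHomFromSingle_f _ _

/-- The map `G[-m] ⟶ Q L` attached to a cocycle `z : G ⟶ L^m`. -/
noncomputable def ofCocycle {G : C} {L : CochainComplex C ℤ} {m : ℤ} (z : G ⟶ L.X m)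
    (hz : z ≫ L.d m (m + 1) = 0) : (singleFunctor C m).obj G ⟶ Q.obj L :=
  Q.map (cocycleHom z hz)

set_option backward.isDefEq.respectTransparency false in
lemma iso_inv_comp_factors (G : C) (m : ℤ) :
    (singleFunctorCompHomologyFunctorIso C m).inv.app G ≫
      (homologyFunctorFactors C m).hom.app ((HomologicalComplex.single C (.up ℤ) m).obj G) =
      (singleObjHomologySelfIso (.up ℤ) m G).inv := by
  have h : ((SingleFunctors.evaluation C (DerivedCategory C) m).map
      (singleFunctorsPostcompQIso C).inv) = 𝟙 _ := singleFunctorsPostcompQIso_inv_hom C m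
  dsimp [singleFunctorCompHomologyFunctorIso]
  rw [h, NatTrans.id_app]
  erw [CategoryTheory.Functor.map_id, Category.comp_id, Category.comp_id, Category.assoc,
    Iso.inv_hom_id_app]
  exact Category.comp_id _

omit [HasDerivedCategory.{w} C] in
lemma liftCycles_cocycleHom {G : C} {L : CochainComplex C ℤ} {m : ℤ} (z : G ⟶ L.X m)
    (hz : z ≫ L.d m (m + 1) = 0) :
    (singleObjCyclesSelfIso (.up ℤ) m G).inv ≫ cyclesMap (cocycleHom z hz) m =
      L.liftCycles z (m + 1) (by simp) hz := by
  rw [← cancel_mono (L.iCycles m), Category.assoc, cyclesMap_i, liftCycles_i,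
    singleObjCyclesSelfIso_inv_iCycles_assoc, cocycleHom_f, Iso.inv_hom_id_assoc]

omit [HasDerivedCategory.{w} C] in
lemma inv_homologyMap_cocycleHom {G : C} {L : CochainComplex C ℤ} {m : ℤ} (z : G ⟶ L.X m)
    (hz : z ≫ L.d m (m + 1) = 0) :
    (singleObjHomologySelfIso (.up ℤ) m G).inv ≫ homologyMap (cocycleHom z hz) m =
      L.liftCycles z (m + 1) (by simp) hz ≫ L.homologyπ m := by
  rw [← singleObjCyclesSelfIso_inv_homologyπ, Category.assoc, homologyπ_naturality,
    ← Category.assoc, liftCycles_cocycleHom]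

lemma toH_ofCocycle {G : C} {L : CochainComplex C ℤ} {m : ℤ} (z : G ⟶ L.X m)
    (hz : z ≫ L.d m (m + 1) = 0) :
    toH (ofCocycle z hz) ≫ (homologyFunctorFactors C m).hom.app L =
      L.liftCycles z (m + 1) (by simp) hz ≫ L.homologyπ m := by
  refine Eq.trans ?_ (inv_homologyMap_cocycleHom z hz)
  refine (Category.assoc _ _ _).trans ?_
  refine (congrArg ((singleFunctorCompHomologyFunctorIso C m).inv.app G ≫ ·)
    (homologyFunctorFactors_hom_naturality (cocycleHom z hz) m)).trans ?_
  refine (Category.assoc _ _ _).symm.trans ?_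
  exact congrArg (· ≫ homologyMap (cocycleHom z hz) m) (iso_inv_comp_factors G m)

omit [HasDerivedCategory.{w} C] in
lemma map_cocycleHom {G G' : C} {L : CochainComplex C ℤ} {m : ℤ} (z : G ⟶ L.X m)
    (hz : z ≫ L.d m (m + 1) = 0) (g : G' ⟶ G) :
    (HomologicalComplex.single C (.up ℤ) m).map g ≫ cocycleHom z hz =
      cocycleHom (g ≫ z) (by rw [Category.assoc, hz, comp_zero]) := by
  apply HomologicalComplex.from_single_hom_ext
  rw [comp_f, cocycleHom_f, cocycleHom_f, single_map_f_self]
  simp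

lemma map_ofCocycle {G G' : C} {L : CochainComplex C ℤ} {m : ℤ} (z : G ⟶ L.X m)
    (hz : z ≫ L.d m (m + 1) = 0) (g : G' ⟶ G) :
    (singleFunctor C m).map g ≫ ofCocycle z hz =
      ofCocycle (g ≫ z) (by rw [Category.assoc, hz, comp_zero]) :=
  (Q.map_comp _ _).symm.trans (congrArg Q.map (map_cocycleHom z hz g))

omit [HasDerivedCategory.{w} C] in
lemma cocycleHom_comp {G : C} {L L' : CochainComplex C ℤ} {m : ℤ} (z : G ⟶ L.X m)
    (hz : z ≫ L.d m (m + 1) = 0) (f : L ⟶ L') :
    cocycleHom z hz ≫ f =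
      cocycleHom (z ≫ f.f m) (by rw [Category.assoc, f.comm, reassoc_of% hz, zero_comp]) := by
  apply HomologicalComplex.from_single_hom_ext
  rw [comp_f, cocycleHom_f, cocycleHom_f, Category.assoc]

lemma ofCocycle_comp {G : C} {L L' : CochainComplex C ℤ} {m : ℤ} (z : G ⟶ L.X m)
    (hz : z ≫ L.d m (m + 1) = 0) (f : L ⟶ L') :
    ofCocycle z hz ≫ Q.map f =
      ofCocycle (z ≫ f.f m) (by rw [Category.assoc, f.comm, reassoc_of% hz, zero_comp]) :=
  (Q.map_comp _ _).symm.trans (congrArg Q.map (cocycleHom_comp z hz f))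

omit [HasDerivedCategory.{w} C] in
set_option backward.isDefEq.respectTransparency false in
lemma ofHom_cocycleHom {G : C} {L : CochainComplex C ℤ} {m : ℤ} (z : G ⟶ L.X m)
    (hz : z ≫ L.d m (m + 1) = 0) :
    CochainComplex.HomComplex.Cochain.ofHom (F := (CochainComplex.singleFunctor C m).obj G)
      (cocycleHom z hz) = CochainComplex.HomComplex.Cochain.fromSingleMk z (add_zero m) := by
  apply (CochainComplex.HomComplex.Cochain.fromSingleEquiv (add_zero m)).injective
  rw [CochainComplex.HomComplex.Cochain.fromSingleEquiv_fromSingleMk]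
  simp [CochainComplex.HomComplex.Cochain.fromSingleEquiv]

/-- Coboundaries are homotopic to zero. -/
noncomputable def homotopyOfCoboundary {G : C} {L : CochainComplex C ℤ} {m n : ℤ} (hn : n + 1 = m)
    (z : G ⟶ L.X m)
    (hz : z ≫ L.d m (m + 1) = 0) (y : G ⟶ L.X n) (hy : y ≫ L.d n m = z) :
    Homotopy (C := (CochainComplex.singleFunctor C m).obj G) (cocycleHom z hz) 0 :=
  (CochainComplex.HomComplex.Cochain.equivHomotopy _ _).symm
    ⟨CochainComplex.HomComplex.Cochain.fromSingleMk y (by lia), by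
      rw [CochainComplex.HomComplex.Cochain.δ_fromSingleMk y _ 0 m (by lia),
        CochainComplex.HomComplex.Cochain.ofHom_zero, add_zero, ofHom_cocycleHom, hy]⟩

/-- Coboundaries give the zero map in the derived category. -/
lemma ofCocycle_eq_zero {G : C} {L : CochainComplex C ℤ} {m n : ℤ} (hn : n + 1 = m) (z : G ⟶ L.X m)
    (hz : z ≫ L.d m (m + 1) = 0) (y : G ⟶ L.X n) (hy : y ≫ L.d n m = z) :
    ofCocycle z hz = 0 := by
  have h := homotopyOfCoboundary hn z hz y hy
  exact (Q_map_eq_of_homotopy _ h).trans (Functor.map_zero _ _ _)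

omit [HasDerivedCategory.{w} C] in
/-- Maps of complexes out of a single complex are given by cocycles. -/
lemma exists_cocycleHom {G : C} {L : CochainComplex C ℤ} {m : ℤ}
    (f : (HomologicalComplex.single C (.up ℤ) m).obj G ⟶ L) :
    ∃ (z : G ⟶ L.X m) (hz : z ≫ L.d m (m + 1) = 0), f = cocycleHom z hz := by
  refine ⟨(singleObjXSelf (.up ℤ) m G).inv ≫ f.f m, ?_, ?_⟩
  · rw [Category.assoc, f.comm, single_obj_d, zero_comp, comp_zero]
  · apply HomologicalComplex.from_single_hom_ext
    rw [cocycleHom_f, Iso.hom_inv_id_assoc]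

/-- Up to an epimorphism onto `G`, any map `G[-m] ⟶ Q L` is given by a cocycle. -/
lemma exists_epi_cocycle {G : C} {L : CochainComplex C ℤ} {m : ℤ}
    (φ : (singleFunctor C m).obj G ⟶ Q.obj L) :
    ∃ (G' : C) (p : G' ⟶ G) (_ : Epi p) (z : G' ⟶ L.X m) (hz : z ≫ L.d m (m + 1) = 0),
      (singleFunctor C m).map p ≫ φ = ofCocycle z hz := by
  obtain ⟨E, s, hs, a, ha⟩ := right_fac (X := (HomologicalComplex.single C (.up ℤ) m).obj G) φ
  have hq : QuasiIso s := (isIso_Q_map_iff_quasiIso C s).1 hs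
  let p : E.cycles m ⟶ G := E.homologyπ m ≫ homologyMap s m ≫ (singleObjHomologySelfIso (.up ℤ) m G).hom
  refine ⟨E.cycles m, p, ?_, E.iCycles m ≫ a.f m, by simp, ?_⟩
  · have : IsIso (homologyMap s m) := inferInstance
    exact epi_comp _ _
  · have h1 : (HomologicalComplex.single C (.up ℤ) m).map p =
        cocycleHom (E.iCycles m) (by simp) ≫ s := by
      apply HomologicalComplex.from_single_hom_ext
      rw [comp_f, cocycleHom_f, single_map_f_self]
      rw [← cancel_epi (singleObjXSelf (.up ℤ) m (E.cycles m)).inv]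
      simp only [Iso.inv_hom_id_assoc, Category.assoc]
      rw [← cyclesMap_i]
      simp only [p, Category.assoc]
      rw [homologyπ_naturality_assoc, homologyπ_singleObjHomologySelfIso_hom_assoc]
      rw [singleObjCyclesSelfIso_hom, Category.assoc, Iso.hom_inv_id, Category.comp_id]
    have h2 : (singleFunctor C m).map p = Q.map (cocycleHom (E.iCycles m) (by simp)) ≫ Q.map s :=
      (congrArg Q.map h1).trans (Q.map_comp _ _)
    rw [h2, ha]
    refine (Category.assoc _ _ _).trans ?_
    exact (congrArg (Q.map (cocycleHom (E.iCycles m) (by simp)) ≫ ·)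
      (IsIso.hom_inv_id_assoc (Q.map s) (Q.map a))).trans (ofCocycle_comp (E.iCycles m) (by simp) a)

/-- Any map `G[-m] ⟶ Q I` with `I` K-injective is given by a cocycle. -/
lemma exists_cocycle_of_isKInjective {G : C} {I : CochainComplex C ℤ} [I.IsKInjective] {m : ℤ}
    (φ : (singleFunctor C m).obj G ⟶ Q.obj I) :
    ∃ (z : G ⟶ I.X m) (hz : z ≫ I.d m (m + 1) = 0), φ = ofCocycle z hz := by
  obtain ⟨f, hf⟩ := (CochainComplex.IsKInjective.Qh_map_bijective
    ((HomotopyCategory.quotient C (.up ℤ)).obj ((HomologicalComplex.single C (.up ℤ) m).obj G)) I).2 φ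
  obtain ⟨f, rfl⟩ := (HomotopyCategory.quotient C (.up ℤ)).map_surjective f
  obtain ⟨z, hz, rfl⟩ := exists_cocycleHom f
  exact ⟨z, hz, hf.symm⟩

/-- A cocycle with values in a K-injective complex which is zero in the derived category is a coboundary. -/
lemma exists_of_ofCocycle_eq_zero {G : C} {I : CochainComplex C ℤ} [I.IsKInjective] {m n : ℤ}
    (hn : n + 1 = m) (z : G ⟶ I.X m) (hz : z ≫ I.d m (m + 1) = 0) (h : ofCocycle z hz = 0) :
    ∃ y : G ⟶ I.X n, y ≫ I.d n m = z := by
  have h1 : (HomotopyCategory.quotient C (.up ℤ)).map (cocycleHom z hz) = 0 := by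
    apply (CochainComplex.IsKInjective.Qh_map_bijective
      ((HomotopyCategory.quotient C (.up ℤ)).obj ((HomologicalComplex.single C (.up ℤ) m).obj G)) I).1
    exact h.trans (Functor.map_zero Qh _ _).symm
  have h2 : Homotopy (cocycleHom z hz) 0 := HomotopyCategory.homotopyOfEq _ _ (by
    rw [h1, Functor.map_zero])
  have h3 := (CochainComplex.HomComplex.Cochain.equivHomotopy
    (F := (CochainComplex.singleFunctor C m).obj G) (cocycleHom z hz) 0) h2
  obtain ⟨α, hα⟩ := h3
  obtain ⟨y, rfl⟩ := CochainComplex.HomComplex.Cochain.fromSingleMk_surjective α n (by lia)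
  refine ⟨y, ?_⟩
  rw [CochainComplex.HomComplex.Cochain.δ_fromSingleMk y _ 0 m (by lia),
    CochainComplex.HomComplex.Cochain.ofHom_zero, add_zero, ofHom_cocycleHom] at hα
  exact ((CochainComplex.HomComplex.Cochain.fromSingleEquiv (add_zero m)).symm.injective hα).symm

/-- `toH` is surjective up to refinements. -/
lemma exists_epi_toH_eq {G : C} {K : DerivedCategory C} {m : ℤ} (s : G ⟶ (homologyFunctor C m).obj K) :
    ∃ (G' : C) (p : G' ⟶ G) (_ : Epi p) (φ : (singleFunctor C m).obj G' ⟶ K), toH φ = p ≫ s := by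
  obtain ⟨L, ⟨e⟩⟩ : ∃ L : CochainComplex C ℤ, Nonempty (Q.obj L ≅ K) :=
    ⟨_, ⟨Q.objObjPreimageIso K⟩⟩
  let s' : G ⟶ L.homology m := s ≫ (homologyFunctor C m).map e.inv ≫ (homologyFunctorFactors C m).hom.app L
  obtain ⟨G', p, hp, z, hz⟩ := surjective_up_to_refinements_of_epi (L.homologyπ m) s'
  refine ⟨G', p, hp, ofCocycle (z ≫ L.iCycles m) (by simp) ≫ e.hom, ?_⟩
  rw [toH_comp, ← cancel_mono ((homologyFunctor C m).map e.inv), Category.assoc, ← Functor.map_comp,
    e.hom_inv_id, CategoryTheory.Functor.map_id, Category.comp_id,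
    ← cancel_mono ((homologyFunctorFactors C m).hom.app L), toH_ofCocycle]
  simp only [Category.assoc]
  refine Eq.trans ?_ hz.symm
  congr 1
  rw [← cancel_mono (L.iCycles m), liftCycles_i]

/-- `toH` is injective up to refinements. -/
lemma exists_epi_of_toH_eq_zero {G : C} {K : DerivedCategory C} {m : ℤ} (φ : (singleFunctor C m).obj G ⟶ K)
    (h : toH φ = 0) :
    ∃ (G' : C) (p : G' ⟶ G) (_ : Epi p), (singleFunctor C m).map p ≫ φ = 0 := by
  obtain ⟨L, ⟨e⟩⟩ : ∃ L : CochainComplex C ℤ, Nonempty (Q.obj L ≅ K) :=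
    ⟨_, ⟨Q.objObjPreimageIso K⟩⟩
  obtain ⟨G', p, hp, z, hz, hφ⟩ := exists_epi_cocycle (φ ≫ e.inv)
  have h1 : L.liftCycles z (m + 1) (by simp) hz ≫ L.homologyπ m = 0 := by
    have h0 : toH ((singleFunctor C m).map p ≫ φ ≫ e.inv) = 0 := by
      rw [toH_map_comp, toH_comp, h, zero_comp, comp_zero]
    rw [← toH_ofCocycle, ← hφ, h0]
    exact zero_comp
  obtain ⟨G'', q, hq, y, hy⟩ := (L.liftCycles_comp_homologyπ_eq_zero_iff_up_to_refinements (m - 1) m (m + 1)
    (by simp) (by simp) z hz).1 h1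
  refine ⟨G'', q ≫ p, inferInstance, ?_⟩
  rw [← cancel_mono e.inv, Functor.map_comp, Category.assoc, Category.assoc, hφ, map_ofCocycle, zero_comp]
  exact ofCocycle_eq_zero (by lia) _ _ y hy.symm

end Groth.Agent.PerfA.Hyp0
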