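import Groth.Agent.S0887
import Groth.Agent.PerfA.PerfLocal
import Mathlib.CategoryTheory.Triangulated.Subcategory

/-!
# Perfect objects form a triangulated subcategory of `D(O_X)`
-/

set_option autoImplicit false
universe u
open CategoryTheory CategoryTheory.Limits CategoryTheory.Pretriangulated AlgebraicGeometry
attribute [local instance] HasDerivedCategory.standard
open scoped ZeroObject

namespace Groth.Agent.PerfA.PerfTri
open AlgebraicGeometry.Scheme.Modules Groth.Agent.PerfA.Restrict Groth.Agent.PerfA.PerfLocal

variable (X : Scheme.{u})

/-- Perfectness as an object property of `D(O_X)`. -/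
abbrev perf : ObjectProperty (DCoh.D X) := fun K => DCoh.IsPerfect K

instance perf_isClosedUnderIsomorphisms : (perf X).IsClosedUnderIsomorphisms :=
  ⟨fun e h => isPerfect_of_iso e h⟩

instance perf_isTriangulated : (perf X).IsTriangulated where
  exists_zero := ⟨0, isZero_zero _, isPerfect_of_isZero (isZero_zero _)⟩
  isStableUnderShiftBy a := { le_shift := fun _ hP => isPerfect_shift hP a }
  ext₂' T hT h₁ h₃ := ObjectProperty.le_isoClosure _ _ ((S0887.result T hT).2.1 h₁ h₃)

end Groth.Agent.PerfA.PerfTri
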