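import Groth.Agent.PerfA.GenRing
import Groth.Agent.PerfA.AffModel
import Groth.Agent.PerfA.PerfTri
import Groth.Agent.PerfA.QCohD
import Groth.Agent.PerfC.Supp
import Groth.Agent.S1074
import Groth.Agent.S1098

/-!
# Perfect generators of `D_QCoh(O_X)` (Bondal - van den Bergh)
-/

set_option autoImplicit false
universe u
open CategoryTheory CategoryTheory.Limits CategoryTheory.Pretriangulated AlgebraicGeometry
attribute [local instance] HasDerivedCategory.standard
open scoped ZeroObject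

namespace Groth.Agent.PerfA.Generator
open Groth.Agent.PerfA.Restrict Groth.Agent.PerfA.PerfLocal Groth.Agent.PerfA.AffModel

/-- `D_QCoh(O_X)` has a perfect weak generator. -/
def Gen (X : Scheme.{u}) : Prop :=
  ∃ P : DCoh.D X, DCoh.IsPerfect P ∧ ∀ E : DCoh.D X, DCoh.IsQCohD E →
    (∀ (n : ℤ) (φ : P⟦n⟧ ⟶ E), φ = 0) → IsZero E

section Affine

lemma isPerfect_single (A : CommRingCat.{u}) :
    DRing.IsPerfect A ((DerivedCategory.singleFunctor (ModuleCat.{u} A) 0).obj (ModuleCat.of A A)) := by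
  refine ⟨(CochainComplex.singleFunctor (ModuleCat.{u} A) 0).obj (ModuleCat.of A A), 0, 0, ?_, ?_,
    ⟨(DerivedCategory.singleFunctorIsoCompQ (ModuleCat.{u} A) 0).symm.app _⟩⟩
  · intro i hi
    exact HomologicalComplex.isZero_single_obj_X _ _ _ _ (by lia)
  · intro i
    by_cases hi : i = 0
    · subst hi
      let e : ((CochainComplex.singleFunctor (ModuleCat.{u} A) 0).obj (ModuleCat.of A A)).X 0 ≅
        ModuleCat.of A A := HomologicalComplex.singleObjXSelf _ _ _
      exact ⟨Module.Finite.equiv e.toLinearEquiv.symm, Module.Projective.of_equiv e.toLinearEquiv.symm⟩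
    · have h : IsZero (((CochainComplex.singleFunctor (ModuleCat.{u} A) 0).obj (ModuleCat.of A A)).X i) :=
        HomologicalComplex.isZero_single_obj_X _ _ _ _ hi
      have := ModuleCat.subsingleton_of_isZero h
      exact ⟨inferInstance, Module.Projective.of_free⟩

lemma gen_of_isAffine (X : Scheme.{u}) [IsAffine X] : Gen X := by
  let A : ModuleCat.{u} Γ(X, ⊤) := ModuleCat.of Γ(X, ⊤) Γ(X, ⊤)
  refine ⟨(modelD X).obj ((DerivedCategory.singleFunctor (ModuleCat.{u} Γ(X, ⊤)) 0).obj A),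
    (isPerfect_modelD_iff X _).2 (isPerfect_single Γ(X, ⊤)), fun E hE h => ?_⟩
  obtain ⟨M, ⟨e⟩⟩ := exists_iso_modelD X hE
  refine IsZero.of_iso (Functor.map_isZero (modelD X) ?_) e.symm
  refine GenRing.isZero_of_forall M fun n φ => ?_
  let A0 := (DerivedCategory.singleFunctor (ModuleCat.{u} Γ(X, ⊤)) 0).obj A
  let e' : A0⟦-n⟧ ≅ (DerivedCategory.singleFunctor (ModuleCat.{u} Γ(X, ⊤)) n).obj A :=
    ((DerivedCategory.singleFunctors (ModuleCat.{u} Γ(X, ⊤))).shiftIso (-n) n 0 (by lia)).app A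
  have h1 := h (-n) (((modelD X).commShiftIso (-n)).inv.app A0 ≫ (modelD X).map (e'.hom ≫ φ) ≫ e.hom)
  have h2 : (modelD X).map (e'.hom ≫ φ) = 0 := by
    rw [← cancel_epi (((modelD X).commShiftIso (-n)).inv.app A0), ← cancel_mono e.hom,
      Category.assoc, h1]
    simp
  have h3 : e'.hom ≫ φ = 0 := (modelD X).map_injective (by rw [h2, Functor.map_zero])
  rw [← cancel_epi e'.hom, h3, comp_zero]

end Affine

section Step

variable {X : Scheme.{u}}

lemma hom_eq_zero_of_retract {D : Type*} [Category D] [Preadditive D] [HasShift D ℤ] {P R E : D}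
    (i : R ⟶ P) (p : P ⟶ R) (hip : i ≫ p = 𝟙 R) (n : ℤ) (h : ∀ φ : P⟦n⟧ ⟶ E, φ = 0)
    (φ : R⟦n⟧ ⟶ E) : φ = 0 := by
  have h1 := h (p⟦n⟧' ≫ φ)
  have h2 : i⟦n⟧' ≫ p⟦n⟧' ≫ φ = φ := by
    rw [← Category.assoc, ← Functor.map_comp, hip, CategoryTheory.Functor.map_id, Category.id_comp]
  rw [← h2, h1, comp_zero]

lemma isZero_map_shift {C D : Type*} [Category C] [Category D] [Preadditive C] [Preadditive D]
    [HasZeroObject C] [HasZeroObject D] [HasShift C ℤ] [HasShift D ℤ]
    (L : C ⥤ D) [L.CommShift ℤ] [∀ n : ℤ, (shiftFunctor D n).Additive] {K : C} (h : IsZero (L.obj K)) (n : ℤ) :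
    IsZero (L.obj (K⟦n⟧)) :=
  IsZero.of_iso (Functor.map_isZero (shiftFunctor D n) h) ((L.commShiftIso n).app K)

/-- Gluing generators: a generator for a nonempty quasi-compact open `W` gives one for `X`. -/
theorem gen_of_open [CompactSpace X] [QuasiSeparatedSpace X] (W : X.Opens)
    (hW : IsCompact (W : Set X)) (hne : (W : Set X).Nonempty)
    (R : DCoh.D (W : Scheme.{u}) ⥤ DCoh.D X) (adj : restrictD W.ι ⊣ R) [IsIso adj.counit]
    (hR : ∀ K : DCoh.D (W : Scheme.{u}), DCoh.IsQCohD K → DCoh.IsQCohD (R.obj K))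
    (h : Gen (W : Scheme.{u})) : Gen X := by
  obtain ⟨P, hP, hPgen⟩ := h
  obtain ⟨P', -, i, p, hP', -, hip, -⟩ := S1098.result X W hW Set.univ isClosed_univ
    (by rw [Set.compl_univ]; exact isCompact_empty) 0 (QCohD.isQCohD_of_isPerfect _
      (isPerfect_of_isZero (isZero_zero _))) P hP (fun _ _ _ => Set.mem_univ _) 0
  obtain ⟨Q, hQ, -, hQW, hQgen⟩ := S1074.result X (W : Set X)ᶜ W.isOpen.isClosed_compl
    (by rwa [compl_compl]) (by rwa [compl_compl])
  refine ⟨P' ⊞ Q, (S0887.result _ (binaryBiproductTriangle_distinguished P' Q)).2.1 hP' hQ,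
    fun E hE hzero => ?_⟩
  have hP0 : ∀ (n : ℤ) (φ : P'⟦n⟧ ⟶ E), φ = 0 := fun n φ =>
    hom_eq_zero_of_retract biprod.inl biprod.fst biprod.inl_fst n (hzero n) φ
  have hQ0 : ∀ (n : ℤ) (φ : Q⟦n⟧ ⟶ E), φ = 0 := fun n φ =>
    hom_eq_zero_of_retract biprod.inr biprod.snd biprod.inr_snd n (hzero n) φ
  have : R.Additive := adj.right_adjoint_additive
  let L := restrictD W.ι
  let η : E ⟶ R.obj (L.obj E) := adj.unit.app E
  have htri : L.map η ≫ adj.counit.app (L.obj E) = 𝟙 _ := adj.left_triangle_components E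
  have hη : IsIso (L.map η) := by
    have : IsIso (L.map η ≫ adj.counit.app (L.obj E)) := by rw [htri]; infer_instance
    exact IsIso.of_isIso_comp_right (L.map η) (adj.counit.app (L.obj E))
  obtain ⟨M, m, d, hT⟩ := distinguished_cocone_triangle₁ η
  have hRE : DCoh.IsQCohD (R.obj (L.obj E)) := hR _ (QCohD.isQCohD_restrictD W.ι hE)
  have hM : DCoh.IsQCohD M := QCohD.isQCohD_ext₁ _ hT hE hRE
  have hLM : IsZero (L.obj M) := by
    have h3 := L.map_distinguished _ hT
    exact (Triangle.isZero₁_iff_isIso₂ _ h3).2 hη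
  have hLQ : IsZero (L.obj Q) := by
    rw [ExactD.isZero_iff]
    intro i
    rw [← PerfC.Supp.supp_eq_empty_iff, PerfC.Supp.supp_restrictD]
    ext y
    simp only [Set.mem_preimage, Set.mem_empty_iff_false, iff_false]
    intro hy
    exact hQW i hy y.2
  have hMW : ∀ i : ℤ, CohB1.support (DCoh.HD M i) ⊆ (W : Set X)ᶜ := by
    intro i x hx hxW
    have h4 := (PerfC.Supp.supp_eq_empty_iff _ i).2 ((ExactD.isZero_iff _).1 hLM i)
    rw [PerfC.Supp.supp_restrictD] at h4
    have : (⟨x, hxW⟩ : W) ∈ (∅ : Set W) := by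
      rw [← h4]
      exact hx
    exact this
  -- `M` is zero
  have hM0 : IsZero M := by
    rw [hQgen M hM hMW]
    intro n φ
    have h5 : φ ≫ m = 0 := hQ0 n _
    obtain ⟨g, hg⟩ := Triangle.coyoneda_exact₂ _ (inv_rot_of_distTriang _ hT) φ h5
    change Q⟦n⟧ ⟶ (R.obj (L.obj E))⟦(-1 : ℤ)⟧ at g
    have hz : IsZero (L.obj (Q⟦n⟧⟦(1 : ℤ)⟧)) := isZero_map_shift L (isZero_map_shift L hLQ n) 1
    have h7 : g⟦(1 : ℤ)⟧' ≫ (shiftNegShift (R.obj (L.obj E)) (1 : ℤ)).hom = 0 :=
      (adj.homEquiv _ _).symm.injective (hz.eq_of_src _ _)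
    have h6 : g⟦(1 : ℤ)⟧' = 0 := by
      rw [← cancel_mono (shiftNegShift (R.obj (L.obj E)) (1 : ℤ)).hom, h7, zero_comp]
    have h8 : g = 0 := (shiftFunctor (DCoh.D X) (1 : ℤ)).map_injective (by rw [h6, Functor.map_zero])
    rw [hg, h8]
    exact zero_comp
  have hη' : IsIso η := (Triangle.isZero₁_iff_isIso₂ _ hT).1 hM0
  have hLE : IsZero (L.obj E) := by
    refine hPgen _ (QCohD.isQCohD_restrictD W.ι hE) ?_
    intro n ψ
    refine hom_eq_zero_of_retract i p hip n (fun χ => ?_) ψ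
    -- `χ : L(P')[n] ⟶ L E`
    have h1 : (adj.homEquiv _ _ ((L.commShiftIso n).hom.app P' ≫ χ)) ≫ inv η = 0 := hP0 n _
    have h2 : (adj.homEquiv _ _ ((L.commShiftIso n).hom.app P' ≫ χ)) = 0 := by
      rw [← cancel_mono (inv η), h1, zero_comp]
    have h3 : (L.commShiftIso n).hom.app P' ≫ χ = 0 := by
      apply (adj.homEquiv _ _).injective
      rw [h2, Adjunction.homEquiv_unit, Functor.map_zero, comp_zero]
    rw [← cancel_epi ((L.commShiftIso n).hom.app P'), h3, comp_zero]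
  have := (Functor.map_isZero R hLE)
  exact this.of_iso (asIso η)

end Step

/-- Bondal - van den Bergh, from the existence of `Rj_*` on `D_QCoh` for an open immersion. -/
theorem gen_of_pushD (X : Scheme.{u}) [CompactSpace X] [QuasiSeparatedSpace X]
    (hpush : ∀ W : X.Opens, IsCompact (W : Set X) → ∃ (R : DCoh.D (W : Scheme.{u}) ⥤ DCoh.D X)
      (adj : restrictD W.ι ⊣ R), IsIso adj.counit ∧
        ∀ K : DCoh.D (W : Scheme.{u}), DCoh.IsQCohD K → DCoh.IsQCohD (R.obj K)) : Gen X := by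
  by_cases hX : Nonempty X
  · obtain ⟨x⟩ := hX
    obtain ⟨W, hW, hxW, -⟩ := X.isBasis_affineOpens.exists_subset_of_mem_open (Set.mem_univ x) isOpen_univ
    obtain ⟨W, hW, rfl⟩ := hW
    have : IsAffine (W : Scheme.{u}) := hW
    obtain ⟨R, adj, hadj, hR⟩ := hpush W hW.isCompact
    exact gen_of_open W hW.isCompact ⟨x, hxW⟩ R adj hR (gen_of_isAffine _)
  · refine ⟨0, isPerfect_of_isZero (isZero_zero _), fun E _ _ => ?_⟩
    rw [ExactD.isZero_iff]
    intro i
    rw [← PerfC.Supp.supp_eq_empty_iff]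
    exact Set.eq_empty_of_forall_notMem fun x => (hX ⟨x⟩).elim

end Groth.Agent.PerfA.Generator
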