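import Groth.Agent.PerfA.OUTF
import Groth.Agent.PerfA.PerfLocal
import Groth.Agent.PerfB.BoundedInd
import Groth.Agent.S0923
import Groth.Agent.S0015

/-!
# An induction principle for perfect objects

On a quasi-compact and quasi-separated scheme, a triangulated property containing `j_! O_U[0]` for all affine opens
`U` contains all perfect objects.
-/

set_option autoImplicit false
universe u
open CategoryTheory CategoryTheory.Limits AlgebraicGeometry Opposite TopologicalSpace
attribute [local instance] HasDerivedCategory.standard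

namespace Groth.Agent.PerfA.PerfInd

open Groth.Agent.PerfC.ExtZero Groth.Agent.PerfA.TFMV Groth.Agent.PerfA.ExtZero
  Groth.Agent.PerfA.Restrict Groth.Agent.PerfA.PerfLocal
open AlgebraicGeometry.Scheme.Modules

section Sigma

variable {A : Type*} [Category* A] [Abelian A]
  {T : Type*} [Category* T] [HasZeroObject T] [HasShift T ℤ] [Preadditive T]
  [∀ n : ℤ, (shiftFunctor T n).Additive] [Pretriangulated T]

lemma prop_sigma (P : ObjectProperty T) [P.IsTriangulated] [P.IsClosedUnderIsomorphisms]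
    (Φ : A ⥤ T) [Φ.Additive] {n : ℕ} (M : Fin n → A) (h : ∀ i, P (Φ.obj (M i))) :
    P (Φ.obj (∐ M)) := by
  have : HasFiniteBiproducts A := Abelian.hasFiniteBiproducts
  have : HasFiniteBiproducts T := HasFiniteBiproducts.of_hasFiniteProducts
  have := Φ.preservesFiniteBiproductsOfAdditive
  refine P.prop_of_iso (Φ.mapIso (biproduct.isoCoproduct M)) ?_
  refine P.prop_of_iso (Φ.mapBiproduct M).symm ?_
  refine P.prop_of_iso (biproduct.isoProduct _).symm ?_
  exact P.prop_product h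

lemma prop_biprod (P : ObjectProperty T) [P.IsTriangulated] [P.IsClosedUnderIsomorphisms]
    (Φ : A ⥤ T) [Φ.Additive] (M N : A) (h : P (Φ.obj M)) (h' : P (Φ.obj N)) :
    P (Φ.obj (M ⊞ N)) := by
  have : HasFiniteBiproducts T := HasFiniteBiproducts.of_hasFiniteProducts
  have := Φ.preservesFiniteBiproductsOfAdditive
  have : PreservesBinaryBiproducts Φ := preservesBinaryBiproducts_of_preservesBiproducts Φ
  refine P.prop_of_iso (Φ.mapBiprod M N).symm ?_
  refine P.prop_of_iso (biprod.isoProd _ _).symm ?_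
  exact P.prop_prod _ _ h h'

/-- A triangulated property and a short exact sequence, cokernel. -/
lemma prop_X₃ {C : Type*} [Category* C] [Abelian C] [HasDerivedCategory C]
    (P : ObjectProperty (DerivedCategory C)) [P.IsTriangulated] [P.IsClosedUnderIsomorphisms]
    {S : ShortComplex C} (hS : S.ShortExact) (h₁ : P ((DerivedCategory.singleFunctor C 0).obj S.X₁))
    (h₂ : P ((DerivedCategory.singleFunctor C 0).obj S.X₂)) :
    P ((DerivedCategory.singleFunctor C 0).obj S.X₃) :=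
  P.ext_of_isTriangulatedClosed₃ _ hS.singleTriangle_distinguished h₁ h₂

end Sigma

variable {X : Scheme.{u}}

/-- `K` restricted to `V` is a bounded complex of finite free modules. -/
def Good (K : DCoh.D X) (V : X.Opens) : Prop :=
  ∃ (E : CochainComplex (V : Scheme.{u}).Modules ℤ) (a b : ℤ), DCoh.VanishesOutside E a b ∧
    (∀ i, ∃ n : ℕ, Nonempty (E.X i ≅ FlatMod.freeMod (V : Scheme.{u}) n)) ∧
    Nonempty ((restrictD V.ι).obj K ≅ DerivedCategory.Q.obj E)

lemma exists_good {K : DCoh.D X} (hK : DCoh.IsPerfect K) (x : X) :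
    ∃ V : X.Opens, x ∈ V ∧ Good K V := by
  obtain ⟨V, hx, hV⟩ := (Groth.Agent.S0923.result K).1 hK x
  obtain ⟨F, ⟨e⟩⟩ := exists_rep X K
  obtain ⟨E, a, b, hab, hE, ⟨e'⟩⟩ := hV F ⟨e⟩
  exact ⟨V, hx, E, a, b, hab, hE, ⟨(restrictD V.ι).mapIso e.symm ≪≫ restrictDQ V.ι F ≪≫ e'⟩⟩

lemma Good.mono {K : DCoh.D X} {V W : X.Opens} (h : W ≤ V) (hV : Good K V) : Good K W := by
  obtain ⟨E, a, b, hab, hE, ⟨e⟩⟩ := hV
  let g : (W : Scheme.{u}) ⟶ V := X.homOfLE h
  have hg : g ≫ V.ι = W.ι := X.homOfLE_ι h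
  refine ⟨((restrictFunctor g).mapHomologicalComplex (ComplexShape.up ℤ)).obj E, a, b,
    fun i hi => (restrictFunctor g).map_isZero (hab i hi), fun i => ?_, ⟨?_⟩⟩
  · obtain ⟨n, ⟨en⟩⟩ := hE i
    exact ⟨n, ⟨(restrictFunctor g).mapIso en ≪≫ freeModRestrict g n⟩⟩
  · exact (restrictDCongr hg).symm.app K ≪≫ (restrictDComp g V.ι).symm.app K ≪≫
      (restrictD g).mapIso e ≪≫ restrictDQ g E

/-- `TFD U K ≅ j_! (K|_U)`. -/
noncomputable def tfdIso (U : X.Opens) :
    TFD U ≅ restrictD U.ι ⋙ (jShriek U.ι).mapDerivedCategory :=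
  ExactD.mapDIso (tfOpensIso U) ≪≫ (ExactD.mapDComp (Iso.refl _)).symm

lemma Good.prop_TFD {P : ObjectProperty (DCoh.D X)} [P.IsTriangulated]
    [P.IsClosedUnderIsomorphisms] {K : DCoh.D X} {W : X.Opens} (hW : Good K W)
    (h : P (DCoh.inD X (OU W))) : P ((TFD W).obj K) := by
  obtain ⟨E, a, b, hab, hE, ⟨e⟩⟩ := hW
  refine P.prop_of_iso ((tfdIso W).app K ≪≫ (jShriek W.ι).mapDerivedCategory.mapIso e ≪≫
    (jShriek W.ι).mapDerivedCategoryFactors.app E).symm ?_
  refine PerfB.BoundedInd.bounded_induction P _ a b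
    (fun i hi => (jShriek W.ι).map_isZero (hab i hi)) (fun i => ?_)
  obtain ⟨n, ⟨en⟩⟩ := hE i
  refine P.prop_of_iso ((DerivedCategory.singleFunctor X.Modules 0).mapIso
    ((jShriek W.ι).mapIso en.symm)) ?_
  refine prop_sigma P (jShriek W.ι ⋙ DerivedCategory.singleFunctor X.Modules 0) _ (fun _ => ?_)
  exact P.prop_of_iso ((DerivedCategory.singleFunctor X.Modules 0).mapIso
    (OUTF.isoShriek' W)) h

lemma isZero_TF_bot (N : X.Modules) : IsZero ((TF (⊥ : X.Opens)).obj N) := by
  rw [IsZero.iff_id_eq_zero]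
  ext V s
  refine (?_ : s = 0)
  exact eq_zero_of_locZero ⊥ (suppIn_T ⊥ N V s) (V' := ⊥) bot_le (by simp)
    (TopCat.Sheaf.eq_of_locally_eq' ⟨((TF (⊥ : X.Opens)).obj N).presheaf,
      ((TF (⊥ : X.Opens)).obj N).isSheaf⟩
    (fun i : PEmpty.{1} => i.elim) ⊥ (fun i => i.elim) bot_le _ _ (fun i => i.elim))

lemma isZero_TFD_bot (K : DCoh.D X) : IsZero ((TFD (⊥ : X.Opens)).obj K) := by
  obtain ⟨F, ⟨e⟩⟩ := exists_rep X K
  refine IsZero.of_iso (DerivedCategory.Q.map_isZero ?_)
    ((TFD (⊥ : X.Opens)).mapIso e.symm ≪≫ (TF (⊥ : X.Opens)).mapDerivedCategoryFactors.app F)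
  rw [IsZero.iff_id_eq_zero]
  ext i : 1
  exact (isZero_TF_bot (F.X i)).eq_of_src _ _

lemma isIso_inc_top (N : X.Modules) : IsIso (inc (⊤ : X.Opens) N) := by
  rw [Scheme.Modules.Hom.isIso_iff_isIso_app]
  intro V
  rw [ConcreteCategory.isIso_iff_bijective]
  exact inc_app_bijective_of_le ⊤ N le_top

/-- `TF ⊤` is the identity. -/
noncomputable def tfTopIso : TF (⊤ : X.Opens) ≅ 𝟭 X.Modules :=
  NatIso.ofComponents (fun N => @asIso _ _ _ _ (inc ⊤ N) (isIso_inc_top N))
    (fun φ => TF_map_inc ⊤ φ)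

/-- `TFD ⊤` is the identity. -/
noncomputable def tfdTopIso : TFD (⊤ : X.Opens) ≅ 𝟭 (DCoh.D X) :=
  ExactD.mapDIso tfTopIso ≪≫ ExactD.mapDId X.Modules

/-- Dévissage from the affine opens to all quasi-compact opens, for `j_! O_U`. -/
theorem prop_OU [CompactSpace X] [QuasiSeparatedSpace X] (P : ObjectProperty (DCoh.D X))
    [P.IsTriangulated] [P.IsClosedUnderIsomorphisms]
    (hP : ∀ U : X.Opens, IsAffineOpen U → P (DCoh.inD X (OU U)))
    (U : X.Opens) (hU : IsCompact (U : Set X)) : P (DCoh.inD X (OU U)) := by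
  refine Groth.Agent.S0015.result X (fun U => P (DCoh.inD X (OU U))) hP ?_ U hU
  intro U V _ _ h1 h2 h3
  exact prop_X₃ P (mvShortComplex_shortExact U V) h3
    (prop_biprod P (DerivedCategory.singleFunctor X.Modules 0) _ _ h1 h2)

/-- Dévissage for perfect objects. -/
theorem prop_TFD [QuasiSeparatedSpace X] (P : ObjectProperty (DCoh.D X))
    [P.IsTriangulated] [P.IsClosedUnderIsomorphisms]
    (hP : ∀ U : X.Opens, IsCompact (U : Set X) → P (DCoh.inD X (OU U)))
    (K : DCoh.D X) {ι : Type*} (A : ι → X.Opens) (s : Finset ι)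
    (hA : ∀ i ∈ s, IsCompact (A i : Set X)) (hG : ∀ i ∈ s, Good K (A i)) :
    ∀ W : X.Opens, IsCompact (W : Set X) → W ≤ s.sup A → P ((TFD W).obj K) := by
  classical
  induction s using Finset.induction_on with
  | empty =>
    intro W _ hW
    rw [Finset.sup_empty, le_bot_iff] at hW
    subst hW
    exact P.prop_of_isZero (isZero_TFD_bot K)
  | insert i s hi ih =>
    intro W hW hWs
    have ih' := ih (fun k hk => hA k (Finset.mem_insert_of_mem hk))
      (fun k hk => hG k (Finset.mem_insert_of_mem hk))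
    have hs : IsCompact ((s.sup A : X.Opens) : Set X) := by
      rw [Opens.coe_finset_sup, Finset.sup_eq_iSup]
      exact s.isCompact_biUnion (fun k hk => hA k (Finset.mem_insert_of_mem hk))
    have hAi := hA i (Finset.mem_insert_self i s)
    have hgood : ∀ W' : X.Opens, IsCompact (W' : Set X) → W' ≤ A i → P ((TFD W').obj K) :=
      fun W' hW' hle => ((hG i (Finset.mem_insert_self i s)).mono hle).prop_TFD (hP W' hW')
    have e : W = (W ⊓ s.sup A) ⊔ (W ⊓ A i) := by
      rw [← inf_sup_left, sup_comm, ← Finset.sup_insert]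
      exact (inf_eq_left.2 hWs).symm
    have h1 : IsCompact ((W ⊓ s.sup A : X.Opens) : Set X) :=
      QuasiSeparatedSpace.inter_isCompact _ _ W.isOpen hW (s.sup A).isOpen hs
    have h2 : IsCompact ((W ⊓ A i : X.Opens) : Set X) :=
      QuasiSeparatedSpace.inter_isCompact _ _ W.isOpen hW (A i).isOpen hAi
    rw [e]
    refine prop_TFD_sup P K _ _ (hgood _ ?_ (inf_le_right.trans inf_le_right))
      (ih' _ h1 inf_le_right) (hgood _ h2 inf_le_right)
    exact QuasiSeparatedSpace.inter_isCompact _ _ (W ⊓ s.sup A).isOpen h1 (W ⊓ A i).isOpen h2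

/-- The induction principle for perfect objects. -/
theorem prop_of_isPerfect [CompactSpace X] [QuasiSeparatedSpace X] (P : ObjectProperty (DCoh.D X))
    [P.IsTriangulated] [P.IsClosedUnderIsomorphisms]
    (hP : ∀ U : X.Opens, IsAffineOpen U → P (DCoh.inD X (OU U)))
    (K : DCoh.D X) (hK : DCoh.IsPerfect K) : P K := by
  have key : ∀ x : X, ∃ V : X.Opens, IsAffineOpen V ∧ x ∈ V ∧ Good K V := by
    intro x
    obtain ⟨V, hx, hV⟩ := exists_good hK x
    obtain ⟨W, hW, hxW, hWV⟩ := exists_isAffineOpen_mem_and_subset hx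
    exact ⟨W, hW, hxW, hV.mono hWV⟩
  choose V hV hxV hG using key
  obtain ⟨t, ht⟩ := CompactSpace.elim_nhds_subcover (fun x => (V x : Set X))
    (fun x => (V x).isOpen.mem_nhds (hxV x))
  have h := prop_TFD P (fun U hU => prop_OU P hP U hU) K V t (fun i _ => (hV i).isCompact)
    (fun i _ => hG i) ⊤ isCompact_univ ?_
  · exact P.prop_of_iso (tfdTopIso.app K) h
  · intro x _
    have hx : x ∈ (⊤ : Set X) := trivial
    rw [← ht] at hx
    obtain ⟨i, hi, hxi⟩ : ∃ i ∈ t, x ∈ V i := by simpa using hx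
    exact (Finset.le_sup (f := V) hi) hxi

end Groth.Agent.PerfA.PerfInd
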