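import Groth.Agent.PerfA.CohExtAff
import Groth.Agent.PerfC.ExtZeroD2

/-!
# Extension of bounded coherent complexes across one more affine open
-/

set_option autoImplicit false
universe u v w
open CategoryTheory CategoryTheory.Limits AlgebraicGeometry Pretriangulated
attribute [local instance] HasDerivedCategory.standard

namespace Groth.Agent.PerfA.CohExtGlue

open Restrict QCohD DerivedCategory QCohSerre CohSerre CohomIn BdCohAbs

section Trunc

variable {A : Type*} [Category A] [Abelian A] {B : Type*} [Category B] [Abelian B]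
  (F : A ⥤ B) [F.Additive] [PreservesFiniteLimits F] [PreservesFiniteColimits F]

lemma isIso_map_truncGEπ (K : DerivedCategory A) (a : ℤ) (h : (F.mapDerivedCategory.obj K).IsGE a) :
    IsIso (F.mapDerivedCategory.map ((TStructure.t.truncGEπ a).app K)) := by
  rw [isIso_mapDerivedCategory_iff]
  intro i
  by_cases hi : a ≤ i
  · have := CohtopB.DTrunc.isIso_homology_map_truncGEπ K a i hi
    infer_instance
  · have h1 : IsZero (F.obj ((homologyFunctor A i).obj K)) :=
      ((F.mapDerivedCategory.obj K).isZero_of_isGE a i (by lia)).of_iso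
        ((ExactD.mapHomology F i).app K).symm
    have h2 : IsZero ((homologyFunctor A i).obj ((TStructure.t.truncGE a).obj K)) :=
      isZero_of_isGE _ a i (by lia)
    exact isIso_of_source_target_iso_zero _ h1.isoZero (F.map_isZero h2).isoZero

lemma isIso_map_truncLTι (K : DerivedCategory A) (b : ℤ) (h : (F.mapDerivedCategory.obj K).IsLE b) :
    IsIso (F.mapDerivedCategory.map ((TStructure.t.truncLTι (b + 1)).app K)) := by
  rw [isIso_mapDerivedCategory_iff]
  intro i
  by_cases hi : i < b + 1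
  · have := CohtopB.DTrunc.isIso_homology_map_truncLTι K (b + 1) i hi
    infer_instance
  · have h1 : IsZero (F.obj ((homologyFunctor A i).obj K)) :=
      ((F.mapDerivedCategory.obj K).isZero_of_isLE b i (by lia)).of_iso
        ((ExactD.mapHomology F i).app K).symm
    have h2 : IsZero ((homologyFunctor A i).obj ((TStructure.t.truncLT (b + 1)).obj K)) := by
      have : ((TStructure.t.truncLT (b + 1)).obj K).IsLE b := by
        have h := TStructure.t.isLE_truncLT_obj K (b + 1) b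
        exact h
      exact isZero_of_isLE _ b i (by lia)
    exact isIso_of_source_target_iso_zero _ (F.map_isZero h2).isoZero h1.isoZero

end Trunc

section Local

variable {X : Scheme.{u}}

lemma isCoh_of_restrict_gen (M : X.Modules)
    (h : ∀ x : X, ∃ (U : Scheme.{u}) (j : U ⟶ X) (_ : IsOpenImmersion j) (y : U), j y = x ∧
      Coh.IsCoh (M.restrict j)) : Coh.IsCoh M := by
  refine isCoh_of_restrict M fun x => ?_
  obtain ⟨U, j, hj, y, rfl, hM⟩ := h x
  refine ⟨j.opensRange, ⟨y, rfl⟩, ?_⟩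
  refine isCoh_of_iso ?_ (isCoh_restrict j.isoOpensRange.inv hM)
  exact ((Scheme.Modules.restrictFunctorComp j.isoOpensRange.inv j).symm ≪≫
    Scheme.Modules.restrictFunctorCongr (by simp)).app M

/-- Having coherent cohomology is local. -/
lemma isCohD_of_restrictD (K : DCoh.D X)
    (h : ∀ x : X, ∃ (U : Scheme.{u}) (j : U ⟶ X) (_ : IsOpenImmersion j) (y : U), j y = x ∧
      DCoh.IsCohD ((restrictD j).obj K)) : DCoh.IsCohD K :=
  fun i => isCoh_of_restrict_gen _ fun x => by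
    obtain ⟨U, j, hj, y, hy, hK⟩ := h x
    exact ⟨U, j, hj, y, hy, isCoh_of_iso (HDrestrict j K i) (hK i)⟩

lemma isLE_of_restrictD (K : DCoh.D X) (n : ℤ)
    (h : ∀ x : X, ∃ (U : Scheme.{u}) (j : U ⟶ X) (_ : IsOpenImmersion j) (y : U), j y = x ∧
      ((restrictD j).obj K).IsLE n) : K.IsLE n := by
  rw [DerivedCategory.isLE_iff]
  intro i hi
  refine isZero_of_restrict _ fun x => ?_
  obtain ⟨U, j, hj, y, hy, hK⟩ := h x
  exact ⟨U, j, hj, y, hy, (((restrictD j).obj K).isZero_of_isLE n i hi).of_iso (HDrestrict j K i).symm⟩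

lemma isGE_of_restrictD (K : DCoh.D X) (n : ℤ)
    (h : ∀ x : X, ∃ (U : Scheme.{u}) (j : U ⟶ X) (_ : IsOpenImmersion j) (y : U), j y = x ∧
      ((restrictD j).obj K).IsGE n) : K.IsGE n := by
  rw [DerivedCategory.isGE_iff]
  intro i hi
  refine isZero_of_restrict _ fun x => ?_
  obtain ⟨U, j, hj, y, hy, hK⟩ := h x
  exact ⟨U, j, hj, y, hy, (((restrictD j).obj K).isZero_of_isGE n i hi).of_iso (HDrestrict j K i).symm⟩

end Local

section Step

variable {X U V : Scheme.{u}} (j : U ⟶ X) (k : V ⟶ X) [IsOpenImmersion j] [IsOpenImmersion k]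

/-- Bounded coherent objects. -/
def BdCoh {X : Scheme.{u}} (K : DCoh.D X) : Prop := DCoh.IsCohD K ∧ ∃ a b : ℤ, K.IsGE a ∧ K.IsLE b

lemma BdCoh.of_iso {X : Scheme.{u}} {K L : DCoh.D X} (h : BdCoh K) (e : K ≅ L) : BdCoh L := by
  obtain ⟨h1, a, b, h2, h3⟩ := h
  exact ⟨isCohD_of_iso e h1, a, b, TStructure.t.isGE_of_iso e a, TStructure.t.isLE_of_iso e b⟩

lemma BdCoh.of_jointly {K : DCoh.D X} (hUV : ∀ x : X, x ∈ Set.range j ∨ x ∈ Set.range k)
    (h₁ : BdCoh ((restrictD j).obj K)) (h₂ : BdCoh ((restrictD k).obj K)) : BdCoh K := by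
  obtain ⟨h₁, a₁, b₁, ha₁, hb₁⟩ := h₁
  obtain ⟨h₂, a₂, b₂, ha₂, hb₂⟩ := h₂
  refine ⟨isCohD_of_restrictD K fun x => ?_, min a₁ a₂, max b₁ b₂, isGE_of_restrictD K _ fun x => ?_,
    isLE_of_restrictD K _ fun x => ?_⟩
  · rcases hUV x with ⟨y, hy⟩ | ⟨y, hy⟩
    · exact ⟨U, j, inferInstance, y, hy, h₁⟩
    · exact ⟨V, k, inferInstance, y, hy, h₂⟩
  · rcases hUV x with ⟨y, hy⟩ | ⟨y, hy⟩
    · exact ⟨U, j, inferInstance, y, hy, TStructure.t.isGE_of_ge _ _ a₁ (min_le_left _ _)⟩
    · exact ⟨V, k, inferInstance, y, hy, TStructure.t.isGE_of_ge _ _ a₂ (min_le_right _ _)⟩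
  · rcases hUV x with ⟨y, hy⟩ | ⟨y, hy⟩
    · exact ⟨U, j, inferInstance, y, hy, TStructure.t.isLE_of_le _ b₁ _ (le_max_left _ _)⟩
    · exact ⟨V, k, inferInstance, y, hy, TStructure.t.isLE_of_le _ b₂ _ (le_max_right _ _)⟩

/-- Gluing a modification over `V` which is an isomorphism over `U ∩ V`. -/
theorem exists_modification (Rk : DCoh.D V ⥤ DCoh.D X) (adjk : restrictD k ⊣ Rk) [IsIso adjk.counit]
    {W : Scheme.{u}} (wV : W ⟶ V) [IsOpenImmersion wV] (hW : k ⁻¹' (Set.range j) ⊆ Set.range wV)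
    (K : DCoh.D X) (L : DCoh.D V) (φ : L ⟶ (restrictD k).obj K) (hφ : IsIso ((restrictD wV).map φ)) :
    ∃ (G : DCoh.D X) (ψ : G ⟶ K), IsIso ((restrictD j).map ψ) ∧
      Nonempty ((restrictD k).obj G ≅ L) := by
  obtain ⟨C, p, δ, hT⟩ := distinguished_cocone_triangle φ
  have hC : IsZero ((restrictD wV).obj C) :=
    Triangle.isZero₃_of_isIso₁ _ ((restrictD wV).map_distinguished _ hT) hφ
  have hsupp : ∀ i, Disjoint (PerfC.Supp.supp C i) (k ⁻¹' (Set.range j)) := by
    intro i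
    rw [Set.disjoint_left]
    rintro x hx hx'
    obtain ⟨w, rfl⟩ := hW hx'
    have h1 : w ∈ PerfC.Supp.supp ((restrictD wV).obj C) i := by
      rw [PerfC.Supp.supp_restrictD]
      exact hx
    have h2 : PerfC.Supp.supp ((restrictD wV).obj C) i = ∅ := by
      rw [PerfC.Supp.supp_eq_empty_iff]
      exact Functor.map_isZero (homologyFunctor _ i) hC
    rw [h2] at h1
    exact h1
  have hz : IsZero ((restrictD j).obj (Rk.obj C)) :=
    PerfC.ExtZeroD.isZero_restrictD_of_supp j k Rk adjk C hsupp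
  let q : K ⟶ Rk.obj C := adjk.homEquiv _ _ p
  have hq : (restrictD k).map q ≫ adjk.counit.app C = p := by
    exact (adjk.homEquiv_counit (g := q)).symm.trans ((adjk.homEquiv _ _).symm_apply_apply p)
  obtain ⟨G, ψ, ε, hT'⟩ := distinguished_cocone_triangle₁ q
  refine ⟨G, ψ, ?_, ?_⟩
  · exact (Triangle.isZero₃_iff_isIso₁ _ ((restrictD j).map_distinguished _ hT')).1 hz
  · have hT'' := (restrictD k).map_distinguished _ hT'
    obtain ⟨a, ha₁, ha₂⟩ := complete_distinguished_triangle_morphism₁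
      ((restrictD k).mapTriangle.obj (Triangle.mk ψ q ε)) (Triangle.mk φ p δ) hT'' hT
      (𝟙 ((restrictD k).obj K)) (adjk.counit.app C) (hq.trans (Category.id_comp p).symm)
    have : IsIso a := isIso₁_of_isIso₂₃ (Triangle.homMk ((restrictD k).mapTriangle.obj (Triangle.mk ψ q ε))
      (Triangle.mk φ p δ) a (𝟙 ((restrictD k).obj K)) (adjk.counit.app C) ha₁
      (hq.trans (Category.id_comp p).symm) ha₂) hT'' hT (inferInstanceAs (IsIso (𝟙 ((restrictD k).obj K))))
      (inferInstanceAs (IsIso (adjk.counit.app C)))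
    exact ⟨@asIso _ _ _ _ a this⟩

/-- Bounded coherent objects extend across one more affine open. -/
theorem exists_extension_step [IsNoetherian X] [IsAffine V]
    (Rj : DCoh.D U ⥤ DCoh.D X) (adjj : restrictD j ⊣ Rj) [IsIso adjj.counit]
    (hRj : ∀ K : DCoh.D U, DCoh.IsQCohD K → DCoh.IsQCohD (Rj.obj K))
    (Rk : DCoh.D V ⥤ DCoh.D X) (adjk : restrictD k ⊣ Rk) [IsIso adjk.counit]
    (hUV : ∀ x : X, x ∈ Set.range j ∨ x ∈ Set.range k) (F : DCoh.D U) (hF : BdCoh F) :
    ∃ G : DCoh.D X, BdCoh G ∧ Nonempty ((restrictD j).obj G ≅ F) := by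
  obtain ⟨hFC, a, b, hFa, hFb⟩ := id hF
  have hG₀ : DCoh.IsQCohD (Rj.obj F) := hRj F (isQCohD_of_isCohD hFC)
  have e₀ : (restrictD j).obj (Rj.obj F) ≅ F := asIso (adjj.counit.app F)
  have hb₀ : ((restrictD j).obj (Rj.obj F)).IsLE b := TStructure.t.isLE_of_iso e₀.symm b
  let G₁ := (TStructure.t.truncLT (b + 1)).obj (Rj.obj F)
  have h1 := isIso_map_truncLTι (Scheme.Modules.restrictFunctor j) (Rj.obj F) b hb₀
  have e₁ : (restrictD j).obj G₁ ≅ F := (@asIso _ _ _ _ _ h1) ≪≫ e₀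
  have ha₁ : ((restrictD j).obj G₁).IsGE a := TStructure.t.isGE_of_iso e₁.symm a
  let K := (TStructure.t.truncGE a).obj G₁
  have h2 := isIso_map_truncGEπ (Scheme.Modules.restrictFunctor j) G₁ a ha₁
  have e₂ : (restrictD j).obj K ≅ F := (@asIso _ _ _ _ _ h2).symm ≪≫ e₁
  have hKQ : DCoh.IsQCohD K := isQCohD_truncGE (isQCohD_truncLT hG₀ (b + 1)) a
  have hG₁LE : G₁.IsLE b := by
    have h := TStructure.t.isLE_truncLT_obj (Rj.obj F) (b + 1) b
    exact h
  have hKLE : K.IsLE b := by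
    rw [DerivedCategory.isLE_iff]
    intro i hi
    by_cases hai : a ≤ i
    · have := CohtopB.DTrunc.isIso_homology_map_truncGEπ G₁ a i hai
      exact (G₁.isZero_of_isLE b i hi).of_iso
        (asIso ((homologyFunctor _ i).map ((TStructure.t.truncGEπ a).app G₁))).symm
    · exact isZero_of_isGE _ a i (by lia)
  have hKGE : K.IsGE a := inferInstance
  have := CohExtAff.isNoetherian_of_isOpenImmersion k
  have hKU : DCoh.IsCohD ((restrictD (pullback.snd j k)).obj ((restrictD k).obj K)) := by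
    refine isCohD_of_iso ?_ (isCohD_restrictD (pullback.fst j k) hFC)
    exact (restrictD (pullback.fst j k)).mapIso e₂.symm ≪≫
      (PerfC.PcLocal.restrictDSquare (pullback.condition (f := j) (g := k))).app K
  obtain ⟨L, φ, hL, ⟨c, d, hc, hd⟩, hφ⟩ := CohExtAff.exists_approx (pullback.snd j k) ((restrictD k).obj K)
    (isQCohD_restrictD k hKQ) hKU a b (ExactD.isGE_map _ K a) (ExactD.isLE_map _ K b)
  obtain ⟨G, ψ, hψ, ⟨eL⟩⟩ := exists_modification j k Rk adjk (pullback.snd j k) (by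
    rw [IsOpenImmersion.range_pullbackSnd]
    rintro x ⟨y, hy⟩
    exact ⟨y, hy⟩) K L φ hφ
  have eF : (restrictD j).obj G ≅ F := (@asIso _ _ _ _ _ hψ) ≪≫ e₂
  exact ⟨G, BdCoh.of_jointly j k hUV (hF.of_iso eF.symm) (BdCoh.of_iso ⟨hL, c, d, hc, hd⟩ eL.symm), ⟨eF⟩⟩

end Step

end Groth.Agent.PerfA.CohExtGlue
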