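import Mathlib.AlgebraicGeometry.IdealSheaf.Functorial
import Mathlib.AlgebraicGeometry.Morphisms.Affine
import Mathlib.AlgebraicGeometry.Morphisms.QuasiSeparated
import Mathlib.RingTheory.Localization.Finiteness

/-!
# Finite type quasi-coherent ideal sheaves on quasi-compact quasi-separated schemes

For `X` quasi-compact and quasi-separated, `W` a quasi-compact open and `I` an ideal sheaf which is of finite
type on `W`, there is an ideal sheaf `J ≤ I` of finite type on all of `X` with the same restriction to `W`.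
-/

set_option autoImplicit false
universe u
open CategoryTheory AlgebraicGeometry Opposite TopologicalSpace

namespace Groth.Agent.PerfA.FGIdeal

variable {X Y : Scheme.{u}}

lemma mem_ideal_map_of_forall (K : X.IdealSheafData) (f : X ⟶ Y) [QuasiCompact f]
    (A : Y.affineOpens) (x : Γ(Y, A.1))
    (h : ∀ (B : X.affineOpens) (e : B.1 ≤ f ⁻¹ᵁ A.1), (f.appLE A.1 B.1 e).hom x ∈ K.ideal B) :
    x ∈ (K.map f).ideal A := by
  rw [Scheme.IdealSheafData.map, Scheme.Hom.ker_apply, RingHom.mem_ker]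
  let ι := {B : X.affineOpens // B.1 ≤ f ⁻¹ᵁ A.1}
  refine TopCat.Sheaf.eq_of_locally_eq' K.subscheme.sheaf (fun i : ι => K.subschemeι ⁻¹ᵁ i.1.1)
    ((K.subschemeι ≫ f) ⁻¹ᵁ A.1) (fun i => homOfLE (by
      intro z hz
      exact i.2 hz)) ?_ _ _ ?_
  · intro z hz
    obtain ⟨_, ⟨B, hB, rfl⟩, hzB, hBA⟩ := X.isBasis_affineOpens.exists_subset_of_mem_open
      (show K.subschemeι z ∈ ((f ⁻¹ᵁ A.1 : X.Opens) : Set X) from hz) (f ⁻¹ᵁ A.1).2
    exact Opens.mem_iSup.mpr ⟨⟨⟨B, hB⟩, hBA⟩, hzB⟩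
  · intro i
    have h1 := h i.1 i.2
    rw [← K.ker_subschemeι_app, RingHom.mem_ker] at h1
    refine Eq.trans ?_ (Eq.trans h1 (map_zero (K.subscheme.presheaf.map _).hom).symm)
    change (((K.subschemeι ≫ f).app A.1) ≫ K.subscheme.presheaf.map _).hom x =
      ((f.appLE A.1 i.1.1 i.2) ≫ K.subschemeι.app i.1.1).hom x
    congr 2
    simp only [Scheme.Hom.app_eq_appLE, Scheme.Hom.appLE_map, Scheme.Hom.appLE_comp_appLE]

/-- Finite generation of the sections of an ideal sheaf over an affine open is local. -/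
lemma ideal_fg_of_local (I : X.IdealSheafData) (A : X.affineOpens)
    (h : ∀ x ∈ A.1, ∃ f : Γ(X, A.1), x ∈ X.basicOpen f ∧ (I.ideal (X.affineBasicOpen f)).FG) :
    (I.ideal A).FG := by
  choose f hf h using fun x : A.1 => h x.1 x.2
  have hs : Ideal.span (Set.range f) = ⊤ := by
    rw [← A.2.self_le_iSup_basicOpen_iff]
    exact fun x hxV ↦ Opens.mem_iSup.mpr ⟨⟨_, ⟨_, rfl⟩⟩, hf ⟨x, hxV⟩⟩
  apply Module.Finite.iff_fg.mp
  have inst := A.2.isLocalization_basicOpen
  refine Module.Finite.of_localizationSpan' (Set.range f) hs (Rₚ := fun g => Γ(X, X.basicOpen g.1))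
    (Mₚ := fun g => ((I.ideal A).map (algebraMap Γ(X, A.1) Γ(X, X.basicOpen g.1))))
    (fun g => Algebra.idealMap (I.ideal A) (S := Γ(X, X.basicOpen g.1))) ?_
  rintro ⟨_, x, rfl⟩
  rw [Module.Finite.iff_fg]
  have h1 := h x
  rwa [← I.map_ideal_basicOpen A (f x)] at h1

/-- `I` is of finite type on the open `W`. -/
def FGOn (I : X.IdealSheafData) (W : X.Opens) : Prop :=
  ∀ A : X.affineOpens, A.1 ≤ W → (I.ideal A).FG

lemma FGOn.sup {I : X.IdealSheafData} {W : X.Opens} (h : FGOn I W) (U : X.affineOpens)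
    (hU : (I.ideal U).FG) : FGOn I (W ⊔ U.1) := by
  intro A hA
  refine ideal_fg_of_local I A fun x hx => ?_
  rcases hA hx with hxW | hxU
  · obtain ⟨f, hfW, hxf⟩ := A.2.exists_basicOpen_le (V := W) ⟨x, hxW⟩ hx
    exact ⟨f, hxf, h _ hfW⟩
  · obtain ⟨f, g, hfg, hxf⟩ := exists_basicOpen_le_affine_inter A.2 U.2 x ⟨hx, hxU⟩
    refine ⟨f, hxf, ?_⟩
    have : X.affineBasicOpen f = X.affineBasicOpen g := Subtype.ext hfg
    rw [this, ← I.map_ideal_basicOpen]
    exact hU.map _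

/-- The ideal sheaf on `X` of sections which on an affine open `U` lie in a given ideal `b` of `Γ(X, U)`. -/
noncomputable def extendIdeal (U : X.affineOpens) (b : Ideal Γ(X, U.1)) : X.IdealSheafData :=
  (Scheme.IdealSheafData.ofIdealTop (X := Spec Γ(X, U.1))
    (b.map (Scheme.ΓSpecIso Γ(X, U.1)).inv.hom)).map U.2.fromSpec

lemma extendIdeal_ideal_self [QuasiSeparatedSpace X] (U : X.affineOpens) (b : Ideal Γ(X, U.1)) :
    (extendIdeal U b).ideal U = b := by
  have H : IsAffineOpen (U.2.fromSpec ⁻¹ᵁ U.1) := by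
    rw [U.2.fromSpec_preimage_self]; exact isAffineOpen_top _
  rw [extendIdeal, Scheme.IdealSheafData.ideal_map _ _ _ H, Scheme.IdealSheafData.ofIdealTop_ideal,
    Ideal.map_map, ← CommRingCat.hom_comp]
  have h1 : (Scheme.ΓSpecIso Γ(X, U.1)).inv ≫ (Spec Γ(X, U.1)).presheaf.map
      (homOfLE (le_top : U.2.fromSpec ⁻¹ᵁ U.1 ≤ ⊤)).op = U.2.fromSpec.app U.1 := by
    rw [U.2.fromSpec_app_self]; rfl
  rw [h1]
  have h2 : IsIso (U.2.fromSpec.app U.1) := by
    rw [U.2.fromSpec_app_self]; infer_instance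
  exact Ideal.comap_map_of_bijective _ (ConcreteCategory.bijective_of_isIso (U.2.fromSpec.app U.1))

/-- A section over an affine `A` lies in the extension of `b` as soon as its restriction to every affine
open of `A ⊓ U` lies in the ideal generated by `b`. -/
lemma mem_extendIdeal [QuasiSeparatedSpace X] (U : X.affineOpens) (b : Ideal Γ(X, U.1))
    (A : X.affineOpens) (x : Γ(X, A.1))
    (h : ∀ p (hpA : p ∈ A.1) (hpU : p ∈ U.1),
      (X.presheaf.germ A.1 p hpA).hom x ∈ b.map (X.presheaf.germ U.1 p hpU).hom) :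
    x ∈ (extendIdeal U b).ideal A := by
  refine mem_ideal_map_of_forall _ _ _ _ fun B e => ?_
  rw [Scheme.IdealSheafData.ofIdealTop_ideal, Ideal.map_map, ← CommRingCat.hom_comp]
  rw [B.2.mem_ideal_iff]
  intro q hq
  have hqU : U.2.fromSpec q ∈ U.1 := by
    have : U.2.fromSpec q ∈ U.2.fromSpec.opensRange := ⟨q, rfl⟩
    exact U.2.opensRange_fromSpec.le this
  have h1 := h (U.2.fromSpec q) (e hq) hqU
  have h2 := Ideal.mem_map_of_mem (U.2.fromSpec.stalkMap q).hom h1
  rw [Ideal.map_map, ← CommRingCat.hom_comp, ← CommRingCat.comp_apply, Scheme.Hom.germ_stalkMap,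
    Scheme.Hom.germ_stalkMap] at h2
  rw [Ideal.map_map, ← CommRingCat.hom_comp, ← CommRingCat.comp_apply]
  have e1 : U.2.fromSpec.appLE A.1 B.1 e ≫ (Spec Γ(X, U.1)).presheaf.germ B.1 q hq =
      U.2.fromSpec.app A.1 ≫ (Spec Γ(X, U.1)).presheaf.germ (U.2.fromSpec ⁻¹ᵁ A.1) q (e hq) := by
    simp only [Scheme.Hom.appLE, Category.assoc, TopCat.Presheaf.germ_res']
  have e2 : ((Scheme.ΓSpecIso Γ(X, U.1)).inv ≫ (Spec Γ(X, U.1)).presheaf.map
      (homOfLE (le_top : B.1 ≤ ⊤)).op) ≫ (Spec Γ(X, U.1)).presheaf.germ B.1 q hq =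
      U.2.fromSpec.app U.1 ≫ (Spec Γ(X, U.1)).presheaf.germ (U.2.fromSpec ⁻¹ᵁ U.1) q hqU := by
    rw [U.2.fromSpec_app_self]
    simp only [Category.assoc, TopCat.Presheaf.germ_res']
  rw [e1, e2]
  exact h2

/-- Restriction between affine opens. -/
noncomputable def res (U V : X.affineOpens) (h : V.1 ≤ U.1) : Γ(X, U.1) →+* Γ(X, V.1) :=
  (X.presheaf.map (homOfLE h).op).hom

lemma ideal_map_res (I : X.IdealSheafData) (U V : X.affineOpens) (h : V.1 ≤ U.1) :
    (I.ideal U).map (res U V h) = I.ideal V := I.map_ideal h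

lemma germ_comp_res (U V : X.affineOpens) (h : V.1 ≤ U.1) (p : X) (hV : p ∈ V.1) (hU : p ∈ U.1) :
    (X.presheaf.germ V.1 p hV).hom.comp (res U V h) = (X.presheaf.germ U.1 p hU).hom := by
  have := X.presheaf.germ_res (homOfLE h) p hV
  rw [← this]
  rfl

lemma ideal_map_germ_of_le (I : X.IdealSheafData) {U V : X.affineOpens} (h : U ≤ V) (p : X)
    (hU : p ∈ U.1) (hV : p ∈ V.1) : (I.ideal V).map (X.presheaf.germ V.1 p hV).hom =
      (I.ideal U).map (X.presheaf.germ U.1 p hU).hom := by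
  rw [← I.map_ideal h, Ideal.map_map, ← CommRingCat.hom_comp]
  have : X.presheaf.map (homOfLE h).op ≫ X.presheaf.germ U.1 p hU = X.presheaf.germ V.1 p hV :=
    X.presheaf.germ_res (homOfLE (show U.1 ≤ V.1 from h)) p hU
  rw [this]

lemma ideal_map_germ (I : X.IdealSheafData) {U V : X.affineOpens} (p : X) (hU : p ∈ U.1)
    (hV : p ∈ V.1) : (I.ideal U).map (X.presheaf.germ U.1 p hU).hom =
      (I.ideal V).map (X.presheaf.germ V.1 p hV).hom := by
  obtain ⟨f, g, hfg, hxf⟩ := exists_basicOpen_le_affine_inter U.2 V.2 p ⟨hU, hV⟩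
  rw [ideal_map_germ_of_le I (U := X.affineBasicOpen f) (X.affineBasicOpen_le f) p hxf hU,
    ideal_map_germ_of_le I (U := X.affineBasicOpen f) (V := V)
      (show X.basicOpen f ≤ V.1 from hfg ▸ X.basicOpen_le g) p hxf hV]

lemma exists_finset_of_map_fg {R S : Type*} [CommRing R] [CommRing S] (φ : R →+* S) (J : Ideal R)
    (h : (J.map φ).FG) : ∃ s : Finset R, (s : Set R) ⊆ (J : Set R) ∧
      J.map φ ≤ (Ideal.span (s : Set R)).map φ := by
  rw [Ideal.map] at h
  obtain ⟨s', hs', hs''⟩ := (Submodule.fg_span_iff_fg_span_finset_subset _).mp h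
  classical
  obtain ⟨s, hs, hss'⟩ := Finset.subset_set_image_iff.mp hs'
  refine ⟨s, hs, ?_⟩
  rw [Ideal.map_span]
  change Submodule.span _ _ ≤ _
  rw [hs'', ← hss']
  simp only [Finset.coe_image]
  exact le_rfl

/-- Key step: an ideal sheaf of finite type on a quasi-compact open `W` contains one of finite type on
`W ⊔ U`, `U` affine, with the same restriction to `W`. -/
lemma step [QuasiSeparatedSpace X] (J : X.IdealSheafData) (W : X.Opens) (hW : IsCompact (W : Set X))
    (hJ : FGOn J W) (U : X.affineOpens) :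
    ∃ J' : X.IdealSheafData, J' ≤ J ∧ (∀ A : X.affineOpens, A.1 ≤ W → J'.ideal A = J.ideal A) ∧
      FGOn J' (W ⊔ U.1) := by
  -- finitely many basic opens of `U` covering `U ⊓ W`
  have hUW : IsCompact ((U.1 ⊓ W : X.Opens) : Set X) :=
    QuasiSeparatedSpace.inter_isCompact (U.1 : Set X) (W : Set X) U.1.2 U.2.isCompact W.2 hW
  obtain ⟨t, htW, ht⟩ : ∃ t : Finset Γ(X, U.1), (∀ g ∈ t, X.basicOpen g ≤ W) ∧
      ∀ x ∈ (U.1 ⊓ W : X.Opens), ∃ g ∈ t, x ∈ X.basicOpen g := by
    let ι := {g : Γ(X, U.1) // X.basicOpen g ≤ W}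
    obtain ⟨t, ht⟩ := hUW.elim_finite_subcover (fun g : ι => (X.basicOpen g.1 : Set X))
      (fun g => (X.basicOpen g.1).2) (by
        intro x hx
        obtain ⟨g, hg, hxg⟩ := U.2.exists_basicOpen_le (V := W) ⟨x, hx.2⟩ hx.1
        exact Set.mem_iUnion.mpr ⟨⟨g, hg⟩, hxg⟩)
    classical
    refine ⟨t.image Subtype.val, ?_, ?_⟩
    · intro g hg
      obtain ⟨g', -, rfl⟩ := Finset.mem_image.mp hg
      exact g'.2
    · intro x hx
      obtain ⟨g, hg, hxg⟩ := Set.mem_iUnion₂.mp (ht hx)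
      exact ⟨g.1, Finset.mem_image_of_mem _ hg, hxg⟩
  -- a finitely generated ideal `b` contained in `J(U)` with the same image over each of them
  obtain ⟨b, hbJ, hbfg, hb⟩ : ∃ b : Ideal Γ(X, U.1), b ≤ J.ideal U ∧ b.FG ∧
      ∀ g ∈ t, J.ideal (X.affineBasicOpen g) ≤
        b.map (res U (X.affineBasicOpen g) (X.basicOpen_le g)) := by
    have key : ∀ g ∈ t, ∃ s : Finset Γ(X, U.1), (s : Set Γ(X, U.1)) ⊆ (J.ideal U : Set Γ(X, U.1)) ∧
        J.ideal (X.affineBasicOpen g) ≤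
          (Ideal.span (s : Set _)).map (res U (X.affineBasicOpen g) (X.basicOpen_le g)) := by
      intro g hg
      have h1 : (J.ideal (X.affineBasicOpen g)).FG := hJ _ (htW g hg)
      rw [← ideal_map_res J U (X.affineBasicOpen g) (X.basicOpen_le g)] at h1 ⊢
      exact exists_finset_of_map_fg _ _ h1
    choose! s hs hs' using key
    classical
    refine ⟨Ideal.span ((t.biUnion s : Finset _) : Set _), ?_, ⟨_, rfl⟩, ?_⟩
    · rw [Ideal.span_le]
      intro x hx
      simp only [Finset.coe_biUnion, Set.mem_iUnion] at hx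
      obtain ⟨g, hg, hx⟩ := hx
      exact hs g hg hx
    · intro g hg
      refine (hs' g hg).trans (Ideal.map_mono (Ideal.span_mono ?_))
      intro x hx
      simp only [Finset.coe_biUnion, Set.mem_iUnion]
      exact ⟨g, hg, hx⟩
  -- the germs of `b` and of `J` agree on `U ⊓ W`
  have hgerm : ∀ p (hpU : p ∈ U.1), p ∈ W → (J.ideal U).map (X.presheaf.germ U.1 p hpU).hom ≤
      b.map (X.presheaf.germ U.1 p hpU).hom := by
    intro p hpU hpW
    obtain ⟨g, hg, hpg⟩ := ht p ⟨hpU, hpW⟩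
    have hpg' : p ∈ (X.affineBasicOpen g).1 := hpg
    rw [ideal_map_germ J p hpU (V := X.affineBasicOpen g) hpg']
    refine (Ideal.map_mono (hb g hg)).trans ?_
    rw [Ideal.map_map, germ_comp_res U (X.affineBasicOpen g) (X.basicOpen_le g) p hpg' hpU]
  have hle : ∀ A : X.affineOpens, A.1 ≤ W → J.ideal A ≤ (J ⊓ extendIdeal U b).ideal A := by
    intro A hA x hx
    refine ⟨hx, mem_extendIdeal U b A x fun p hpA hpU => hgerm p hpU (hA hpA) ?_⟩
    rw [ideal_map_germ J p hpU hpA]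
    exact Ideal.mem_map_of_mem _ hx
  refine ⟨J ⊓ extendIdeal U b, inf_le_left, fun A hA =>
    le_antisymm (inf_le_left (a := J) (b := extendIdeal U b) A) (hle A hA), ?_⟩
  · refine FGOn.sup ?_ U ?_
    · intro A hA
      have h1 : (J ⊓ extendIdeal U b).ideal A = J.ideal A :=
        le_antisymm (inf_le_left (a := J) (b := extendIdeal U b) A) (hle A hA)
      rw [h1]
      exact hJ A hA
    · rw [Scheme.IdealSheafData.ideal_inf]
      change ((J.ideal U) ⊓ (extendIdeal U b).ideal U).FG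
      rw [extendIdeal_ideal_self, inf_eq_right.mpr hbJ]
      exact hbfg

/-- **Extension of finite type ideal sheaves.** -/
theorem exists_fg_extension [CompactSpace X] [QuasiSeparatedSpace X] (I : X.IdealSheafData)
    (W : X.Opens) (hW : IsCompact (W : Set X)) (hI : FGOn I W) :
    ∃ J : X.IdealSheafData, J ≤ I ∧ (∀ A : X.affineOpens, A.1 ≤ W → J.ideal A = I.ideal A) ∧
      ∀ A : X.affineOpens, (J.ideal A).FG := by
  suffices h : ∀ S : X.Opens, IsCompact (S : Set X) → ∃ J : X.IdealSheafData, J ≤ I ∧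
      (∀ A : X.affineOpens, A.1 ≤ W → J.ideal A = I.ideal A) ∧ FGOn J (W ⊔ S) by
    obtain ⟨J, h1, h2, h3⟩ := h ⊤ CompactSpace.isCompact_univ
    exact ⟨J, h1, h2, fun A => h3 A (by simp)⟩
  intro S hS
  refine compact_open_induction_on S hS ⟨I, le_rfl, fun _ _ => rfl, by simpa using hI⟩ ?_
  rintro S hS U ⟨J, h1, h2, h3⟩
  obtain ⟨J', h1', h2', h3'⟩ := step J (W ⊔ S) (hW.union hS) h3 U
  refine ⟨J', h1'.trans h1, fun A hA => (h2' A (hA.trans le_sup_left)).trans (h2 A hA), ?_⟩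
  rw [← sup_assoc]
  exact h3'

/-- On a quasi-compact quasi-separated scheme, the complement of a quasi-compact open is cut out by an
ideal sheaf of finite type. -/
theorem exists_fg_of_isCompact [CompactSpace X] [QuasiSeparatedSpace X]
    (W : X.Opens) (hW : IsCompact (W : Set X)) :
    ∃ J : X.IdealSheafData, (∀ A : X.affineOpens, (J.ideal A).FG) ∧
      (∀ A : X.affineOpens, A.1 ≤ W → J.ideal A = ⊤) ∧
      (∀ A : X.affineOpens, ∀ x ∈ J.ideal A, X.basicOpen x ≤ W) ∧
      ((J.support : Set X) = (W : Set X)ᶜ) := by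
  let Z : Closeds X := ⟨(W : Set X)ᶜ, W.2.isClosed_compl⟩
  let I := Scheme.IdealSheafData.vanishingIdeal Z
  have hIW : ∀ A : X.affineOpens, A.1 ≤ W → I.ideal A = ⊤ := by
    intro A hA
    rw [A.2.ideal_ext_iff]
    intro x hx
    have hxs : x ∉ I.support := by
      intro h
      have h2 : x ∈ ((I.support : Closeds X) : Set X) := h
      rw [Scheme.IdealSheafData.coe_support_vanishingIdeal] at h2
      exact h2 (hA hx)
    rw [Scheme.IdealSheafData.mem_support_iff_of_mem hx] at hxs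
    rw [Scheme.mem_zeroLocus_iff] at hxs
    push Not at hxs
    obtain ⟨s, hs, hxs⟩ := hxs
    rw [Ideal.map_top]
    exact Ideal.eq_top_of_isUnit_mem _ (Ideal.mem_map_of_mem _ hs) ((X.mem_basicOpen _ _ hx).mp hxs)
  obtain ⟨J, h1, h2, h3⟩ := exists_fg_extension I W hW (fun A hA => by
    rw [hIW A hA]; exact ⟨{1}, by simp⟩)
  have h4 : ∀ A : X.affineOpens, ∀ x ∈ J.ideal A, X.basicOpen x ≤ W := by
    intro A x hx y hy
    by_contra hyW
    have hyZ : y ∈ ((I.support : Closeds X) : Set X) := by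
      rw [Scheme.IdealSheafData.coe_support_vanishingIdeal]
      exact hyW
    have hyA : y ∈ A.1 := X.basicOpen_le x hy
    have := (Scheme.IdealSheafData.mem_support_iff_of_mem (I := I) hyA).mp hyZ
    rw [Scheme.mem_zeroLocus_iff] at this
    exact this x (h1 A hx) hy
  refine ⟨J, h3, fun A hA => (h2 A hA).trans (hIW A hA), h4, ?_⟩
  ext y
  constructor
  · intro hy hyW
    obtain ⟨_, ⟨A, hA, rfl⟩, hyA, hAW⟩ := X.isBasis_affineOpens.exists_subset_of_mem_open
      hyW W.2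
    have := (Scheme.IdealSheafData.mem_support_iff_of_mem (I := J) (U := ⟨A, hA⟩) hyA).mp hy
    rw [Scheme.mem_zeroLocus_iff, h2 ⟨A, hA⟩ hAW, hIW ⟨A, hA⟩ hAW] at this
    refine this 1 (by simp) ?_
    rw [Scheme.basicOpen_one]
    exact hyA
  · intro hy
    obtain ⟨_, ⟨A, hA, rfl⟩, hyA, -⟩ := X.isBasis_affineOpens.exists_subset_of_mem_open
      (Set.mem_univ y) isOpen_univ
    refine (Scheme.IdealSheafData.mem_support_iff_of_mem (I := J) (U := ⟨A, hA⟩) hyA).mpr ?_
    rw [Scheme.mem_zeroLocus_iff]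
    exact fun f hf hyf => hy (h4 ⟨A, hA⟩ f hf hyf)

end Groth.Agent.PerfA.FGIdeal
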