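import Groth.Agent.PerfA.TFMV
import Groth.Agent.PerfA.ExtZero
import Groth.Agent.Dcoh.Restrict

/-!
# `j_! O_U` as `TF U O_X`
-/

set_option autoImplicit false
universe u
open CategoryTheory CategoryTheory.Limits AlgebraicGeometry Opposite TopologicalSpace

namespace Groth.Agent.PerfA.OUTF

open Groth.Agent.PerfC.ExtZero Groth.Agent.PerfA.TFMV Groth.Agent.PerfA.ExtZero
open Groth.Agent.Dcoh.Restrict (one map_one unitHom unitHom_app_one)

variable {X : Scheme.{u}} (U : X.Opens)

lemma exists_s₀ : ∃ s : Γ((TF U).obj (Coh.structureModule X), U),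
    (inc U (Coh.structureModule X)).app U s = one U :=
  (inc_app_bijective_of_le U (Coh.structureModule X) le_rfl).2 _

/-- The section of `TF U O_X` over `U` corresponding to `1`. -/
noncomputable def s₀ : Γ((TF U).obj (Coh.structureModule X), U) := (exists_s₀ U).choose

@[simp]
lemma inc_s₀ : (inc U (Coh.structureModule X)).app U (s₀ U) = one U := (exists_s₀ U).choose_spec

/-- The comparison map. -/
noncomputable def toTF : OU U ⟶ (TF U).obj (Coh.structureModule X) := desc (s₀ U)

lemma mono_desc_one_top : Mono (desc (one (X := X) ⊤)) := by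
  have : desc (one (X := X) ⊤) ≫ unitHom (gen (⊤ : X.Opens)) = 𝟙 _ := by
    rw [desc_comp, unitHom_app_one]
    apply hom_ext
    rw [desc_app_gen]
    rfl
  exact mono_of_mono_fac this

lemma toTF_inc : toTF U ≫ inc U (Coh.structureModule X) =
    (OUF X).map (homOfLE le_top) ≫ desc (one (X := X) ⊤) := by
  rw [toTF, desc_comp, inc_s₀, map_desc, map_one]

instance mono_toTF : Mono (toTF U) := by
  have : Mono (toTF U ≫ inc U (Coh.structureModule X)) := by
    rw [toTF_inc]
    have := mono_desc_one_top (X := X)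
    infer_instance
  exact mono_of_mono _ (inc U (Coh.structureModule X))

lemma eq_smul_s₀ {W : X.Opens} (hW : W ≤ U) (s : Γ((TF U).obj (Coh.structureModule X), W)) :
    ∃ r : Γ(X, W), s = r • (((TF U).obj (Coh.structureModule X)).presheaf.map (homOfLE hW).op (s₀ U)) := by
  refine ⟨(inc U (Coh.structureModule X)).app W s, ?_⟩
  apply inc_app_injective U _ W
  rw [Scheme.Modules.Hom.app_smul, ← app_map, inc_s₀, map_one]
  exact (mul_one (M := Γ(X, W)) _).symm

lemma hom_ext_TF {M : X.Modules} (h : (TF U).obj (Coh.structureModule X) ⟶ M)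
    (h0 : h.app U (s₀ U) = 0) : h = 0 := by
  ext V s
  refine eq_zero_of_locZero U (LocZero.app h (suppIn_T U _ V s)) (inf_le_left : V ⊓ U ≤ V) le_rfl ?_
  rw [app_map]
  obtain ⟨r, hr⟩ := eq_smul_s₀ U (inf_le_right : V ⊓ U ≤ U)
    (((TF U).obj (Coh.structureModule X)).presheaf.map (homOfLE (inf_le_left : V ⊓ U ≤ V)).op s)
  have : h.app (V ⊓ U) (((TF U).obj (Coh.structureModule X)).presheaf.map
      (homOfLE (inf_le_left : V ⊓ U ≤ V)).op s) =
      h.app (V ⊓ U) (r • (((TF U).obj (Coh.structureModule X)).presheaf.map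
        (homOfLE (inf_le_right : V ⊓ U ≤ U)).op (s₀ U))) := congrArg _ hr
  refine this.trans ?_
  rw [Scheme.Modules.Hom.app_smul, ← app_map, h0, map_zero, smul_zero]

instance epi_toTF : Epi (toTF U) := by
  refine Preadditive.epi_of_cancel_zero _ (fun {M} h hh => hom_ext_TF U h ?_)
  rw [toTF, desc_comp] at hh
  exact desc_injective (hh.trans desc_zero.symm)

instance isIso_toTF : IsIso (toTF U) := isIso_of_mono_of_epi _

/-- `j_! O_U` is `TF U O_X`. -/
noncomputable def iso : OU U ≅ (TF U).obj (Coh.structureModule X) := asIso (toTF U)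

/-- `j_! O_U` is `j_! j^* O_X` for the inclusion `j` of `U`. -/
noncomputable def isoShriek : OU U ≅ (jShriek U.ι).obj ((Coh.structureModule X).restrict U.ι) :=
  iso U ≪≫ (tfOpensIso U).app _

/-- `j_! O_U` is `j_! O_U`. -/
noncomputable def isoShriek' : OU U ≅ (jShriek U.ι).obj (Coh.structureModule U.toScheme) :=
  isoShriek U ≪≫ (jShriek U.ι).mapIso (Groth.Agent.Dcoh.Restrict.restrictUnit U.ι)

/-- `j_! O_Y` is `OU` of the range of `j`. -/
noncomputable def isoShriekOfOpenImmersion {Y : Scheme.{u}} (j : Y ⟶ X) [IsOpenImmersion j] :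
    OU j.opensRange ≅ (jShriek j).obj (Coh.structureModule Y) :=
  iso j.opensRange ≪≫ (tfIso j).app _ ≪≫
    (jShriek j).mapIso (Groth.Agent.Dcoh.Restrict.restrictUnit j)

end Groth.Agent.PerfA.OUTF
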