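import Groth.Agent.CohqB.FiniteType2
import Groth.Agent.CohqB.AffIso
import Groth.Agent.PerfA.QCohEpi
import Groth.Agent.PerfA.QCohSerre
import Groth.Agent.PerfA.CohSerre
import Groth.Agent.Dcoh.FinLocFree

/-!
# Finitely many global sections generating a quasi-coherent module over an open where it is of finite type

`X` affine, `j : U ⟶ X` an open immersion with `U` quasi-compact, `M` quasi-coherent on `X` with `M|_U` of finite type:
there is `φ : O_X^n ⟶ M` whose restriction to `U` is an epimorphism.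
-/

set_option autoImplicit false
universe u
open CategoryTheory CategoryTheory.Limits AlgebraicGeometry Opposite TopologicalSpace

namespace Groth.Agent.PerfA.GenOpen

open Groth.Agent.CohqB.QC2 Groth.Agent.CohqB.FiniteType Groth.Agent.CohqB.FiniteType2
  Groth.Agent.Dcoh.FinLocFree

variable {X U : Scheme.{u}}

theorem exists_basicOpen [IsAffine X] (j : U ⟶ X) [IsOpenImmersion j] (M : X.Modules) [Coh.IsQCoh M]
    (hM : CohB1.IsFT (M.restrict j)) (y : U) :
    ∃ f : Γ(X, ⊤), j y ∈ X.basicOpen f ∧ X.basicOpen f ≤ j.opensRange ∧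
      Module.Finite Γ(X, X.basicOpen f) Γ(M, X.basicOpen f) := by
  obtain ⟨U', hy, hU'⟩ := (isFT_iff_hasFinGen (M.restrict j)).1 hM y
  have h1 : HasFinGen (M.restrict (U'.ι ≫ j)) :=
    hU'.of_iso ((Scheme.Modules.restrictFunctorComp U'.ι j).symm.app M)
  have hmem : j y ∈ (U'.ι ≫ j).opensRange := ⟨⟨y, hy⟩, rfl⟩
  obtain ⟨f, hf, hyf⟩ := (isAffineOpen_top X).exists_basicOpen_le ⟨j y, hmem⟩ trivial
  have haff : IsAffineOpen (X.basicOpen f) := (isAffineOpen_top X).basicOpen f
  refine ⟨f, hyf, ?_, ?_⟩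
  · refine hf.trans ?_
    rintro _ ⟨z, rfl⟩
    exact ⟨U'.ι z, rfl⟩
  · rw [← hasFinGen_restrict_iff_finite M haff]
    have hle : Set.range (X.basicOpen f).ι ⊆ Set.range (U'.ι ≫ j) := by
      rw [Scheme.Opens.range_ι]
      exact hf
    exact h1.restrict_of_fac (X.basicOpen f).ι (IsOpenImmersion.lift (U'.ι ≫ j) (X.basicOpen f).ι hle)
      (IsOpenImmersion.lift_fac _ _ _)

theorem exists_finset [IsAffine X] (M : X.Modules) [Coh.IsQCoh M] (f : Γ(X, ⊤))
    (h : Module.Finite Γ(X, X.basicOpen f) Γ(M, X.basicOpen f)) :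
    ∃ T : Finset Γ(M, (⊤ : X.Opens)),
      Submodule.span Γ(X, X.basicOpen f) ((res M (X.basicOpen_le f)) '' T) = ⊤ := by
  classical
  obtain ⟨S, hS⟩ := h.fg_top
  have hLoc := loc_of_isQuasicoherent M (isAffineOpen_top X)
  choose n t ht using hLoc.exists_lift f
  refine ⟨S.image t, ?_⟩
  rw [eq_top_iff, ← hS, Submodule.span_le]
  intro s hs
  have hu : IsUnit (resR (X.basicOpen_le f) f) := RingedSpace.isUnit_res_basicOpen _ f
  obtain ⟨v, hv⟩ := (hu.pow (n s))
  have hs' : s = (↑v⁻¹ : Γ(X, X.basicOpen f)) • res M (X.basicOpen_le f) (t s) := by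
    rw [ht, ← hv, smul_smul, Units.inv_mul, one_smul]
  rw [SetLike.mem_coe, hs']
  refine Submodule.smul_mem _ _ (Submodule.subset_span ⟨t s, ?_, rfl⟩)
  exact Finset.mem_coe.2 (Finset.mem_image_of_mem t hs)

/-- `M` quasi-coherent on an affine `X`, of finite type on a quasi-compact open `U`: finitely many global sections
generate `M` over `U`. -/
theorem exists_sections [IsAffine X] [CompactSpace U] (j : U ⟶ X) [IsOpenImmersion j] (M : X.Modules)
    [Coh.IsQCoh M] (hM : CohB1.IsFT (M.restrict j)) :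
    ∃ (n : ℕ) (t : Fin n → Γ(M, (⊤ : X.Opens))), ∀ y : U, ∃ f : Γ(X, ⊤), j y ∈ X.basicOpen f ∧
      X.basicOpen f ≤ j.opensRange ∧
      Submodule.span Γ(X, X.basicOpen f) (Set.range fun i => res M (X.basicOpen_le f) (t i)) = ⊤ := by
  classical
  choose f hf₁ hf₂ hf₃ using exists_basicOpen j M hM
  choose T hT using fun y => exists_finset M (f y) (hf₃ y)
  obtain ⟨Y, hY⟩ := CompactSpace.elim_nhds_subcover (X := U) (fun y => ((j ⁻¹ᵁ (X.basicOpen (f y)) : U.Opens) : Set U))
    (fun y => (j ⁻¹ᵁ (X.basicOpen (f y))).isOpen.mem_nhds (hf₁ y))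
  let T' : Finset Γ(M, (⊤ : X.Opens)) := Y.biUnion T
  refine ⟨T'.card, fun i => (T'.equivFin.symm i : Γ(M, (⊤ : X.Opens))), fun y => ?_⟩
  have hy : y ∈ (⊤ : Set U) := trivial
  rw [← hY] at hy
  simp only [Set.mem_iUnion] at hy
  obtain ⟨y', hy', hyy'⟩ := hy
  refine ⟨f y', hyy', hf₂ y', ?_⟩
  rw [eq_top_iff, ← hT y']
  apply Submodule.span_mono
  rintro _ ⟨t, ht, rfl⟩
  have htT : t ∈ T' := Finset.mem_biUnion.2 ⟨y', hy', ht⟩
  refine ⟨T'.equivFin ⟨t, htT⟩, ?_⟩
  simp

theorem isZero_of_sections {Q : U.Modules} [Coh.IsQCoh Q]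
    (h : ∀ y : U, ∃ V : U.Opens, y ∈ V ∧ IsAffineOpen V ∧ Subsingleton Γ(Q, V)) : IsZero Q := by
  have h1 := Groth.Agent.CohqB.AffIso.injective_of_affine_cover (0 : Q ⟶ Q) (fun x => by
    obtain ⟨V, hx, hV, hs⟩ := h x
    exact ⟨V, hx, hV, fun a b _ => Subsingleton.elim a b⟩)
  rw [IsZero.iff_id_eq_zero]
  apply Scheme.Modules.hom_ext
  intro V
  ext s
  exact h1 V rfl

/-- `M` quasi-coherent on an affine `X`, of finite type on a quasi-compact open `U`: there is a morphism
`O_X^n ⟶ M` which is an epimorphism over `U`. -/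
theorem exists_epi_restrict [IsAffine X] [CompactSpace U] (j : U ⟶ X) [IsOpenImmersion j] (M : X.Modules)
    (hQ : Coh.IsQCoh M) (hM : CohB1.IsFT (M.restrict j)) :
    ∃ (n : ℕ) (φ : FlatMod.freeMod X n ⟶ M), Epi ((Scheme.Modules.restrictFunctor j).map φ) := by
  obtain ⟨n, t, ht⟩ := exists_sections j M hM
  refine ⟨n, freeDesc t, ?_⟩
  have hfree : Coh.IsQCoh (FlatMod.freeMod X n) := (CohSerre.isCoh_freeMod n).1
  have hcok : Coh.IsQCoh (cokernel (freeDesc t)) := QCohSerre.isQCoh_cokernel _ hfree hQ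
  apply Preadditive.epi_of_isZero_cokernel
  refine IsZero.of_iso ?_ (PreservesCokernel.iso (Scheme.Modules.restrictFunctor j) (freeDesc t)).symm
  have hcok' : Coh.IsQCoh ((Scheme.Modules.restrictFunctor j).obj (cokernel (freeDesc t))) :=
    QCohSerre.isQCoh_restrict j hcok
  refine isZero_of_sections fun y => ?_
  obtain ⟨f, hf₁, hf₂, hf₃⟩ := ht y
  have haff : IsAffineOpen (X.basicOpen f) := (isAffineOpen_top X).basicOpen f
  refine ⟨j ⁻¹ᵁ (X.basicOpen f), hf₁, haff.preimage_of_isOpenImmersion j hf₂, ?_⟩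
  have hsub : Subsingleton Γ(cokernel (freeDesc t), X.basicOpen f) := by
    have hsurj : Function.Surjective ((cokernel.π (freeDesc t)).app (X.basicOpen f)) :=
      QCohEpi.app_surjective_of_epi (cokernel.π (freeDesc t)) haff
    have hzero : ∀ s : Γ(cokernel (freeDesc t), X.basicOpen f), s = 0 := by
      intro s
      obtain ⟨m, rfl⟩ := hsurj s
      have hm : m ∈ Submodule.span Γ(X, X.basicOpen f) (Set.range fun i => res M (X.basicOpen_le f) (t i)) := by
        rw [hf₃]; trivial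
      induction hm using Submodule.span_induction with
      | mem x hx =>
        obtain ⟨i, rfl⟩ := hx
        dsimp only
        rw [app_res]
        have h1 : (cokernel.π (freeDesc t)).app ⊤ (t i) = 0 := by
          have h2 := freeSec_comp (freeDesc t) (cokernel.π (freeDesc t)) i
          rw [freeSec_freeDesc, cokernel.condition] at h2
          exact h2.symm
        rw [h1, map_zero]
      | zero => exact map_zero _
      | add x y _ _ hx hy => rw [map_add, hx, hy, add_zero]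
      | smul a x _ hx =>
        rw [Scheme.Modules.Hom.app_smul, hx, smul_zero]
    exact ⟨fun a b => (hzero a).trans (hzero b).symm⟩
  have himg : j ''ᵁ (j ⁻¹ᵁ (X.basicOpen f)) = X.basicOpen f := by
    rw [Scheme.Hom.image_preimage_eq_opensRange_inf]
    exact inf_eq_right.2 hf₂
  have : Γ((cokernel (freeDesc t)).restrict j, j ⁻¹ᵁ (X.basicOpen f)) =
      Γ(cokernel (freeDesc t), j ''ᵁ (j ⁻¹ᵁ (X.basicOpen f))) := rfl
  change Subsingleton Γ(cokernel (freeDesc t), j ''ᵁ (j ⁻¹ᵁ (X.basicOpen f)))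
  rw [himg]
  exact hsub

end Groth.Agent.PerfA.GenOpen
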