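import Groth.Agent.PerfA.HypQC
import Groth.Agent.PerfA.HypAffine

/-!
# `H^m(f⁻¹V, K) = H^m(V, Rf_*K)` for `V` affine

For `f : X ⟶ S` quasi-compact and quasi-separated, `K ∈ D_QCoh(O_X)` and `V ⊆ S` affine, the natural map
`adjP f : (P m (f ⁻¹ᵁ V) ⟶ K) → (P m V ⟶ Rf_*K)` is bijective.
-/

set_option autoImplicit false

universe u

open CategoryTheory CategoryTheory.Limits AlgebraicGeometry Opposite TopologicalSpace
open Groth.Agent.PerfA.ExtZero Groth.Agent.PerfA.Hyp0 Groth.Agent.PerfA.Hyp1 Groth.Agent.PerfA.Hyp2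
open Groth.Agent.PerfA.HypAct
open Groth.Agent.PerfA.HypBound Groth.Agent.PerfA.HypLoc Groth.Agent.PerfA.HypTheta

attribute [local instance] HasDerivedCategory.standard

namespace Groth.Agent.PerfA.HypAdj

/-- `K ∈ D_QCoh` satisfies `AffBij`. -/
theorem affBij {X : Scheme.{u}} {K : DCoh.D X} (hK : DCoh.IsQCohD K) : AffBij K :=
  fun m U hU => HypAffine.toHD_bijective K hK U hU m

variable {X S : Scheme.{u}} (f : X ⟶ S) [QuasiCompact f] [QuasiSeparated f] [DCoh.HasRpush f]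
  {K : DCoh.D X} (hK : DCoh.IsQCohD K) (m : ℤ)

include hK

theorem isQCohD_Rpush : DCoh.IsQCohD ((DCoh.Rpush f).obj K) :=
  fun m => HypQC.isQCoh_HD f (affBij hK) hK m

theorem θ_bijective {V : S.Opens} (hV : IsAffineOpen V) :
    Function.Bijective (θ f : (P m (f ⁻¹ᵁ V) ⟶ K) → _) :=
  HypQC.θ_bijective f (affBij hK) hK hV

/-- `H^m(f⁻¹V, K) = H^m(V, Rf_*K)` for `V` affine. -/
theorem adjP_bijective {V : S.Opens} (hV : IsAffineOpen V) :
    Function.Bijective (adjP f : (P m (f ⁻¹ᵁ V) ⟶ K) → (P m V ⟶ (DCoh.Rpush f).obj K)) := by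
  have h1 := θ_bijective f hK m hV
  have h2 := affBij (isQCohD_Rpush f hK) m V hV
  have h3 : (θ f : (P m (f ⁻¹ᵁ V) ⟶ K) → _) = toHD ∘ adjP f := rfl
  rw [h3] at h1
  exact (Function.Bijective.of_comp_iff' h2 _).1 h1

end Groth.Agent.PerfA.HypAdj
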