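import Groth.Agent.PerfA.CohomIn

/-!
# Dévissage of bounded objects of the derived category
-/

set_option autoImplicit false

universe w v u

open CategoryTheory Category Limits Pretriangulated DerivedCategory

namespace Groth.Agent.PerfA.BddDev

variable {A : Type u} [Category.{v} A] [Abelian A] [HasDerivedCategory.{w} A]

lemma isLE_truncGE (K : DerivedCategory A) (n b : ℤ) [K.IsLE b] :
    ((TStructure.t.truncGE n).obj K).IsLE b := by
  rw [isLE_iff]
  intro i hi
  by_cases h : n ≤ i
  · have := CohtopB.DTrunc.isIso_homology_map_truncGEπ K n i h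
    exact (isZero_of_isLE K b i hi).of_iso
      (asIso ((homologyFunctor A i).map ((TStructure.t.truncGEπ n).app K))).symm
  · exact isZero_of_isGE _ n i (by omega)

lemma isGE_truncLT (K : DerivedCategory A) (n a : ℤ) [K.IsGE a] :
    ((TStructure.t.truncLT n).obj K).IsGE a := by
  rw [isGE_iff]
  intro i hi
  by_cases h : i < n
  · have := CohtopB.DTrunc.isIso_homology_map_truncLTι K n i h
    exact (isZero_of_isGE K a i hi).of_iso
      (asIso ((homologyFunctor A i).map ((TStructure.t.truncLTι n).app K)))
  · exact isZero_of_isLE _ (n - 1) i (by omega)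

/-- Dévissage: a property `Q` of objects of the derived category which is stable under isomorphisms
and extensions and holds for `M[-n]`, for all `M` satisfying `P`, holds for all bounded objects with
cohomology in `P`. -/
theorem devissage (P : ObjectProperty A) [P.IsClosedUnderIsomorphisms] [P.ContainsZero]
    (Q : DerivedCategory A → Prop)
    (hiso : ∀ {K L : DerivedCategory A}, (K ≅ L) → Q K → Q L)
    (hsingle : ∀ (M : A) (n : ℤ), P M → Q ((singleFunctor A n).obj M))
    (htri : ∀ T : Triangle (DerivedCategory A), T ∈ distinguishedTriangles → Q T.obj₁ →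
      Q T.obj₃ → Q T.obj₂)
    (K : DerivedCategory A) (a b : ℤ) [hKa : K.IsGE a] [hKb : K.IsLE b]
    (hK : CohomIn.coh P K) : Q K := by
  have key : ∀ (n : ℕ) (a : ℤ) (K : DerivedCategory A), K.IsGE a → K.IsLE (a + n) →
      CohomIn.coh P K → Q K := by
    intro n
    induction n with
    | zero =>
      intro a K h1 h2 hK
      have : K.IsLE a := by simpa using h2
      obtain ⟨e⟩ := CohtopB.DTrunc.exists_iso_single K a
      exact hiso e.symm (hsingle _ _ (hK a))
    | succ n ih =>
      intro a K h1 h2 hK
      refine htri _ (TStructure.t.triangleLTGE_distinguished (a + 1) K) ?_ ?_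
      · have h3 : ((TStructure.t.truncLT (a + 1)).obj K).IsGE a := isGE_truncLT K (a + 1) a
        have h4 : ((TStructure.t.truncLT (a + 1)).obj K).IsLE a :=
          TStructure.t.isLE_truncLT_obj K (a + 1) a
        obtain ⟨e⟩ := CohtopB.DTrunc.exists_iso_single ((TStructure.t.truncLT (a + 1)).obj K) a
        exact hiso e.symm (hsingle _ _ (CohomIn.coh_truncLT P K (a + 1) hK a))
      · have h5 : ((TStructure.t.truncGE (a + 1)).obj K).IsLE (a + (n + 1 : ℕ)) :=
          isLE_truncGE K (a + 1) _
        have h6 : ((TStructure.t.truncGE (a + 1)).obj K).IsGE (a + 1) := inferInstance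
        have h7 : ((TStructure.t.truncGE (a + 1)).obj K).IsLE (a + 1 + n) :=
          TStructure.t.isLE_of_le _ (a + (n + 1 : ℕ)) _ (by push_cast; omega)
        exact ih (a + 1) _ h6 h7 (CohomIn.coh_truncGE P K (a + 1) hK)
  refine key (b - a).toNat a K hKa ?_ hK
  exact TStructure.t.isLE_of_le K b _ (by omega)

end Groth.Agent.PerfA.BddDev
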