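import Groth.Agent.PerfA.GenPull
import Groth.Agent.Dcoh.DerPull

/-!
# `Lp^*` of a generator is a generator, for `p` affine
-/

set_option autoImplicit false

universe u

open CategoryTheory CategoryTheory.Limits AlgebraicGeometry

attribute [local instance] HasDerivedCategory.standard

namespace Groth.Agent.PerfA.GenPull2

/-- `Lp^*` of a generator of `D_QCoh(X0)` is a generator of `D_QCoh(X)` for `p : X ⟶ X0` affine. -/
theorem generator_Lpull {X X0 : Scheme.{u}} (p : X ⟶ X0) [IsAffineHom p] [DCoh.HasLpull p] (P : DCoh.D X0)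
    (hgen : ∀ E : DCoh.D X0, DCoh.IsQCohD E → (∀ (n : ℤ) (φ : P⟦n⟧ ⟶ E), φ = 0) → IsZero E)
    (E : DCoh.D X) (hE : DCoh.IsQCohD E)
    (h : ∀ (n : ℤ) (φ : ((DCoh.Lpull p).obj P)⟦n⟧ ⟶ E), φ = 0) : IsZero E := by
  have := Dcoh.DerSch.hasRpush p
  exact GenPull.generator_of_adj p (DCoh.Lpull p) (Dcoh.DerPull.lpullAdj p) P hgen E hE h

end Groth.Agent.PerfA.GenPull2
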