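import Groth.Agent.PerfA.CompactRel
import Mathlib.CategoryTheory.Triangulated.Generators
import Mathlib.CategoryTheory.Limits.Shapes.Countable

/-!
# Compact objects are reachable from compact generators (relative, universe-flexible version)

`T` is a pretriangulated category with coproducts indexed by `w`-small types, `Q` a triangulated
property of objects closed under these coproducts, `G j` (`j : J`, `J : Type w`) objects satisfying
`Q`, compact relative to `Q`, generating `Q`, with `w`-small sets of morphisms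
`G j⟦m⟧ ⟶ X`. Then any `C` satisfying `Q` and compact relative to `Q` is a retract of an object
of any triangulated property containing the `G j`.
-/

set_option autoImplicit false

universe w v u

open CategoryTheory CategoryTheory.Limits CategoryTheory.Pretriangulated ZeroObject

namespace Groth.Agent.PerfA.Neeman

open Groth.Agent.CohtopA.Compact Groth.Agent.PerfA.CompactRel

section Reindex

variable {D : Type u} [Category.{v} D] [Preadditive D] {P : D → Prop}

/-- Reindexing a cofan indexed by a small type. -/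
noncomputable def shrinkCofan {ι : Type*} [Small.{w} ι] {X : ι → D} (c : Cofan X) :
    Cofan (fun i : Shrink.{w} ι => X ((equivShrink ι).symm i)) :=
  Cofan.mk c.pt (fun i => c.inj ((equivShrink ι).symm i))

/-- Reindexing a colimit cofan indexed by a small type. -/
noncomputable def isColimitShrinkCofan {ι : Type*} [Small.{w} ι] {X : ι → D} {c : Cofan X}
    (hc : IsColimit c) : IsColimit (shrinkCofan.{w} c) :=
  Cofan.IsColimit.mk _ (fun s => Cofan.IsColimit.desc hc
      (fun i => eqToHom (by simp) ≫ s.inj (equivShrink ι i)))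
    (by
      intro s j
      have : ∀ (i : ι) (j : Shrink.{w} ι) (h : (equivShrink ι).symm j = i),
          c.inj i ≫ Cofan.IsColimit.desc hc
            (fun i => eqToHom (by simp) ≫ s.inj (equivShrink ι i)) =
            eqToHom (by rw [h]) ≫ s.inj j := by
        rintro _ j rfl
        rw [Cofan.IsColimit.fac]
        have : ∀ (k : Shrink.{w} ι) (hk : k = j), eqToHom (by rw [hk]) ≫ s.inj k = s.inj j := by
          rintro _ rfl
          simp
        simpa using this _ ((equivShrink ι).apply_symm_apply j)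
      simpa [shrinkCofan] using this _ j rfl)
    (by
      intro s m hm
      refine Cofan.IsColimit.hom_ext hc _ _ (fun i => ?_)
      rw [Cofan.IsColimit.fac]
      have : ∀ (j : Shrink.{w} ι) (h : (equivShrink ι).symm j = i),
          c.inj i ≫ m = eqToHom (by rw [h]) ≫ s.inj j := by
        rintro j rfl
        simpa [shrinkCofan] using hm j
      exact this _ ((equivShrink ι).symm_apply_apply i))

/-- Relative compactness against coproducts indexed by arbitrary `w`-small types. -/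
lemma isFiniteSum_of_small {K : D} (hK : PerfAux.IsCompactObjRel.{w} P K) {ι : Type*}
    [Small.{w} ι] {X : ι → D} (hX : ∀ i, P (X i)) {c : Cofan X} (hc : IsColimit c)
    (f : K ⟶ c.pt) : IsFiniteSum c f := by
  classical
  obtain ⟨s, g, hg⟩ := isFiniteSum_of_isColimit hK
    (fun i => hX ((equivShrink.{w} ι).symm i)) (isColimitShrinkCofan.{w} hc) f
  rw [hg]
  clear hg
  induction s using Finset.induction_on with
  | empty =>
    rw [Finset.sum_empty]
    exact IsFiniteSum.zero c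
  | insert a s ha ih =>
    rw [Finset.sum_insert ha]
    exact (IsFiniteSum.single c ((equivShrink.{w} ι).symm a) (g a)).add ih

end Reindex

variable {T : Type u} [Category.{v} T] [Preadditive T] [HasZeroObject T] [HasShift T ℤ]
  [∀ n : ℤ, (shiftFunctor T n).Additive] [Pretriangulated T]

lemma coyo₂ {X Y Z : T} {f : X ⟶ Y} {g : Y ⟶ Z} {h : Z ⟶ X⟦(1 : ℤ)⟧}
    (hT : Triangle.mk f g h ∈ distTriang T) {K : T} (x : K ⟶ Y) (hx : x ≫ g = 0) :
    ∃ d : K ⟶ X, x = d ≫ f := Triangle.coyoneda_exact₂ _ hT x hx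

lemma coyo₃ {X Y Z : T} {f : X ⟶ Y} {g : Y ⟶ Z} {h : Z ⟶ X⟦(1 : ℤ)⟧}
    (hT : Triangle.mk f g h ∈ distTriang T) {K : T} (x : K ⟶ Z) (hx : x ≫ h = 0) :
    ∃ d : K ⟶ Y, x = d ≫ g := Triangle.coyoneda_exact₃ _ hT x hx

lemma yo₂ {X Y Z : T} {f : X ⟶ Y} {g : Y ⟶ Z} {h : Z ⟶ X⟦(1 : ℤ)⟧}
    (hT : Triangle.mk f g h ∈ distTriang T) {K : T} (x : Y ⟶ K) (hx : f ≫ x = 0) :
    ∃ d : Z ⟶ K, x = g ≫ d := Triangle.yoneda_exact₂ _ hT x hx

lemma yo₃ {X Y Z : T} {f : X ⟶ Y} {g : Y ⟶ Z} {h : Z ⟶ X⟦(1 : ℤ)⟧}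
    (hT : Triangle.mk f g h ∈ distTriang T) {K : T} (x : Z ⟶ K) (hx : g ≫ x = 0) :
    ∃ d : X⟦(1 : ℤ)⟧ ⟶ K, x = h ≫ d := Triangle.yoneda_exact₃ _ hT x hx

/-- `φ` factors through an object satisfying `P`. -/
def FactorsThru (P : ObjectProperty T) {K L : T} (φ : K ⟶ L) : Prop :=
  ∃ (Z : T) (_ : P Z) (a : K ⟶ Z) (b : Z ⟶ L), a ≫ b = φ

lemma FactorsThru.add {P : ObjectProperty T} [P.IsTriangulated] [P.IsClosedUnderIsomorphisms]
    {K L : T} {φ ψ : K ⟶ L} (hφ : FactorsThru P φ) (hψ : FactorsThru P ψ) :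
    FactorsThru P (φ + ψ) := by
  obtain ⟨Z, hZ, a, b, rfl⟩ := hφ
  obtain ⟨Z', hZ', a', b', rfl⟩ := hψ
  refine ⟨Z ⊞ Z', ?_, biprod.lift a a', biprod.desc b b', by simp⟩
  exact P.ext_of_isTriangulatedClosed₂ _ (binaryBiproductTriangle_distinguished Z Z') hZ hZ'

lemma FactorsThru.zero (P : ObjectProperty T) [P.IsTriangulated] [P.IsClosedUnderIsomorphisms]
    (K L : T) : FactorsThru P (0 : K ⟶ L) :=
  ⟨0, P.prop_zero, 0, 0, by simp⟩

/-- A finite partial sum of a coproduct as a retract. -/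
lemma exists_finite_part {P : ObjectProperty T} [P.IsTriangulated] [P.IsClosedUnderIsomorphisms]
    {κ : Type*} {G : κ → T} (hG : ∀ k, P (G k)) {c : Cofan G} (hc : IsColimit c)
    (s : Finset κ) :
    ∃ (W : T) (_ : P W) (w : W ⟶ c.pt) (r : c.pt ⟶ W), w ≫ r = 𝟙 W ∧
      (∀ k ∈ s, c.inj k ≫ r ≫ w = c.inj k) ∧ (∀ k, k ∉ s → c.inj k ≫ r = 0) ∧
      (∀ k, k ∉ s → w ≫ proj hc k = 0) := by
  classical
  induction s using Finset.induction_on with
  | empty =>
    exact ⟨0, P.prop_zero, 0, 0, by simp, by simp, by simp, by simp⟩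
  | insert a s ha ih =>
    obtain ⟨W, hW, w, r, h1, h2, h3, h4⟩ := ih
    refine ⟨W ⊞ G a, P.ext_of_isTriangulatedClosed₂ _
      (binaryBiproductTriangle_distinguished W (G a)) hW (hG a),
      biprod.desc w (c.inj a), biprod.lift r (proj hc a), ?_, ?_, ?_, ?_⟩
    · ext <;> simp [h1, h4 a ha, h3 a ha, inj_proj_self]
    · intro k hk
      rw [Finset.mem_insert] at hk
      rw [biprod.lift_desc, Preadditive.comp_add]
      by_cases hka : k = a
      · subst hka
        have h3' := congrArg (· ≫ w) (h3 k ha)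
        simp only [Category.assoc, zero_comp] at h3'
        rw [h3', zero_add, ← Category.assoc, inj_proj_self, Category.id_comp]
      · rw [h2 k (hk.resolve_left hka), ← Category.assoc, inj_proj_of_ne hc k a hka, zero_comp,
          add_zero]
    · intro k hk
      rw [Finset.mem_insert, not_or] at hk
      ext <;> simp [h3 k hk.2, inj_proj_of_ne hc k a hk.1]
    · intro k hk
      rw [Finset.mem_insert, not_or] at hk
      ext <;> simp [h4 k hk.2, inj_proj_of_ne hc a k (Ne.symm hk.1)]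

/-- A morphism to a coproduct which is a finite sum factors through a finite part. -/
lemma exists_finite_part_of_isFiniteSum {P : ObjectProperty T} [P.IsTriangulated]
    [P.IsClosedUnderIsomorphisms]
    {κ : Type*} {G : κ → T} (hG : ∀ k, P (G k)) {c : Cofan G} (hc : IsColimit c)
    {K : T} (d : K ⟶ c.pt) (hd : IsFiniteSum c d) :
    ∃ (W : T) (_ : P W) (w : W ⟶ c.pt) (r : c.pt ⟶ W), w ≫ r = 𝟙 W ∧ d ≫ r ≫ w = d := by
  obtain ⟨s, g, rfl⟩ := hd
  obtain ⟨W, hW, w, r, h1, h2, -, -⟩ := exists_finite_part hG hc s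
  refine ⟨W, hW, w, r, h1, ?_⟩
  rw [Preadditive.sum_comp]
  refine Finset.sum_congr rfl (fun i hi => ?_)
  rw [Category.assoc, h2 i hi]

section Step

variable {P : ObjectProperty T} [P.IsTriangulated] [P.IsClosedUnderIsomorphisms]
  {Q : ObjectProperty T} [Q.IsStableUnderShift ℤ]

/-- The key step: if `Y ⟶ X ⟶ X' ⟶ Y⟦1⟧` is distinguished with `Y` a coproduct of objects
satisfying `P` (and `Q`), objects satisfying `P` are compact relative to `Q`, `K` is compact
relative to `Q` and `K ⟶ X ⟶ X'` factors through an object satisfying `P`, then so does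
`K ⟶ X`. -/
lemma factorsThru_of_comp (hP : ∀ Z, P Z → PerfAux.IsCompactObjRel.{w} Q Z)
    {κ : Type w} {G : κ → T} (hG : ∀ k, P (G k)) (hG' : ∀ k, Q (G k)) {c : Cofan G}
    (hc : IsColimit c) {X X' : T} (y : c.pt ⟶ X) (f : X ⟶ X') (z : X' ⟶ c.pt⟦(1 : ℤ)⟧)
    (hT : Triangle.mk y f z ∈ distTriang T) {K : T} (hK : PerfAux.IsCompactObjRel.{w} Q K)
    (φ : K ⟶ X) (h : FactorsThru P (φ ≫ f)) : FactorsThru P φ := by
  obtain ⟨Z, hZ, a, b, hab⟩ := h
  -- the shifted coproduct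
  let G1 : κ → T := fun k => (G k)⟦(1 : ℤ)⟧
  let c1 : Cofan G1 := Cofan.mk (c.pt⟦(1 : ℤ)⟧) (fun k => (c.inj k)⟦(1 : ℤ)⟧')
  have hc1 : IsColimit c1 :=
    isColimitCofanMkObjOfIsColimit (shiftFunctor T (1 : ℤ)) G _ hc
  obtain ⟨s, g, hg⟩ := isFiniteSum_of_isColimit (hP Z hZ) (X := G1)
    (fun k => Q.le_shift (1 : ℤ) _ (hG' k)) hc1 (b ≫ z)
  obtain ⟨W, hW, w, r, h1, h2, -, -⟩ := exists_finite_part hG hc s
  have h3 : (b ≫ z) ≫ (r ≫ w)⟦(1 : ℤ)⟧' = b ≫ z := by
    rw [hg, Preadditive.sum_comp]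
    refine Finset.sum_congr rfl (fun i hi => ?_)
    rw [Category.assoc]
    congr 1
    simp only [c1, Cofan.inj, Cofan.mk_ι_app]
    rw [← Functor.map_comp]
    exact congrArg _ (h2 i hi)
  -- the fibre of `Z ⟶ W⟦1⟧`
  obtain ⟨Z', i, p, hT'⟩ := distinguished_cocone_triangle₂ (b ≫ z ≫ r⟦(1 : ℤ)⟧')
  have hZ' : P Z' := P.ext_of_isTriangulatedClosed₂ _ hT' hW hZ
  obtain ⟨q, hq1, hq2⟩ : ∃ q : Z' ⟶ X, i ≫ q = w ≫ y ∧ p ≫ b = q ≫ f :=
    complete_distinguished_triangle_morphism₂ _ _ hT' hT w b (by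
      change (b ≫ z ≫ r⟦(1 : ℤ)⟧') ≫ w⟦(1 : ℤ)⟧' = b ≫ z
      rw [Category.assoc, Category.assoc, ← Functor.map_comp, ← Category.assoc]
      exact h3)
  have hfz : f ≫ z = 0 := comp_distTriang_mor_zero₂₃ _ hT
  have hz0 : φ ≫ f ≫ z ≫ r⟦(1 : ℤ)⟧' = 0 := by
    rw [← Category.assoc f, hfz, zero_comp, comp_zero]
  obtain ⟨a', ha'⟩ := coyo₃ hT' a (by
    rw [← Category.assoc, hab, Category.assoc, hz0])
  obtain ⟨d, hd⟩ := coyo₂ hT (φ - a' ≫ q) (by
      rw [Preadditive.sub_comp, Category.assoc, ← hq2, ← Category.assoc a', ← ha', hab, sub_self])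
  have hφ : φ = a' ≫ q + d ≫ y := by rw [← hd]; abel
  obtain ⟨W', hW', w', r', -, h4⟩ := exists_finite_part_of_isFiniteSum hG hc d
    (isFiniteSum_of_isColimit hK hG' hc d)
  rw [hφ]
  refine FactorsThru.add ⟨Z', hZ', a', q, rfl⟩ ⟨W', hW', d ≫ r', w' ≫ y, ?_⟩
  conv_rhs => rw [← h4]
  simp only [Category.assoc]

end Step

section Telescope

variable {X : ℕ → T} {F : ∀ n, X n ⟶ X (n + 1)} {c : Cofan X}

omit [HasZeroObject T] [HasShift T ℤ] [∀ n : ℤ, (shiftFunctor T n).Additive]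
  [Pretriangulated T] in
lemma shift_proj_zero (hc : IsColimit c) {S : c.pt ⟶ c.pt}
    (hS : ∀ n, c.inj n ≫ S = F n ≫ c.inj (n + 1)) : S ≫ proj hc 0 = 0 := by
  refine Cofan.IsColimit.hom_ext hc _ _ (fun n => ?_)
  rw [← Category.assoc, hS, Category.assoc, inj_proj_of_ne hc _ _ (Nat.succ_ne_zero n)]
  simp

omit [HasZeroObject T] [HasShift T ℤ] [∀ n : ℤ, (shiftFunctor T n).Additive]
  [Pretriangulated T] in
lemma shift_proj_succ (hc : IsColimit c) {S : c.pt ⟶ c.pt}
    (hS : ∀ n, c.inj n ≫ S = F n ≫ c.inj (n + 1)) (j : ℕ) :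
    S ≫ proj hc (j + 1) = proj hc j ≫ F j := by
  refine Cofan.IsColimit.hom_ext hc _ _ (fun n => ?_)
  rw [← Category.assoc, hS, Category.assoc]
  by_cases h : n = j
  · subst h
    rw [inj_proj_self, ← Category.assoc, inj_proj_self]
    simp
  · rw [inj_proj_of_ne hc _ _ (fun h' => h (Nat.succ_injective h')), ← Category.assoc,
      inj_proj_of_ne hc _ _ h]
    simp

omit [HasZeroObject T] [HasShift T ℤ] [∀ n : ℤ, (shiftFunctor T n).Additive]
  [Pretriangulated T] in
/-- `1 - shift` is injective on finite sums. -/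
lemma eq_zero_of_comp_shift_eq (hc : IsColimit c) {S : c.pt ⟶ c.pt}
    (hS : ∀ n, c.inj n ≫ S = F n ≫ c.inj (n + 1)) {K : T} (x : K ⟶ c.pt)
    (hx : IsFiniteSum c x) (h : x ≫ S = x) : x = 0 := by
  have hz : ∀ j, x ≫ proj hc j = 0 := by
    intro j
    induction j with
    | zero => rw [← h, Category.assoc, shift_proj_zero hc hS, comp_zero]
    | succ j ih =>
      rw [← h, Category.assoc, shift_proj_succ hc hS, ← Category.assoc, ih, zero_comp]
  obtain ⟨s, -, hs⟩ := hx.eq_sum_proj hc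
  rw [hs]
  exact Finset.sum_eq_zero (fun i _ => by rw [hz, zero_comp])

end Telescope

section Main

variable {Q : ObjectProperty T} [Q.IsTriangulated] [Q.IsClosedUnderIsomorphisms]

omit [Q.IsTriangulated] in
lemma exists_next [HasCoproducts.{w} T] [Q.IsTriangulated]
    (hQ : ∀ (ι : Type w) (X : ι → T), (∀ i, Q (X i)) → Q (∐ X))
    {J : Type w} (G : J → T) (hG : ∀ j, Q (G j))
    (hsmall : ∀ (j : J) (m : ℤ) (X : T), Q X → Small.{w} ((G j)⟦m⟧ ⟶ X))
    (X : T) (hX : Q X) :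
    ∃ (X' : T) (_ : Q X') (f : X ⟶ X') (κ : Type w) (a : κ → J) (m : κ → ℤ)
      (y : (∐ fun k => (G (a k))⟦m k⟧) ⟶ X)
      (z : X' ⟶ (∐ fun k => (G (a k))⟦m k⟧)⟦(1 : ℤ)⟧),
      Triangle.mk y f z ∈ distTriang T ∧ ∀ (j : J) (m : ℤ) (φ : (G j)⟦m⟧ ⟶ X), φ ≫ f = 0 := by
  have := fun (j : J) (m : ℤ) => hsmall j m X hX
  let κ : Type w := Σ (j : J) (m : ULift.{w} ℤ), Shrink.{w} ((G j)⟦m.down⟧ ⟶ X)
  let a : κ → J := fun k => k.1
  let m : κ → ℤ := fun k => k.2.1.down
  let y : (∐ fun k => (G (a k))⟦m k⟧) ⟶ X :=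
    Sigma.desc (fun k => (equivShrink _).symm k.2.2)
  obtain ⟨X', f, z, hT⟩ := distinguished_cocone_triangle y
  refine ⟨X', ?_, f, κ, a, m, y, z, hT, ?_⟩
  · exact Q.ext_of_isTriangulatedClosed₃ _ hT
      (hQ _ _ (fun k => Q.le_shift _ _ (hG _))) hX
  · intro j n φ
    let k : κ := ⟨j, ⟨n⟩, equivShrink _ φ⟩
    have h1 : Sigma.ι (fun k => (G (a k))⟦m k⟧) k ≫ y = φ := by
      simp only [y, colimit.ι_desc, Cofan.mk_ι_app]
      exact (equivShrink _).symm_apply_apply φ
    have h2 : y ≫ f = 0 := comp_distTriang_mor_zero₁₂ _ hT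
    rw [← h1, Category.assoc, h2, comp_zero]

variable {P : ObjectProperty T} [P.IsTriangulated] [P.IsClosedUnderIsomorphisms]

/-- Relative Neeman theorem: the identity of a compact object factors through an object reachable
from the generators. -/
theorem factorsThru_id [HasCoproducts.{w} T]
    (hQ : ∀ (ι : Type w) (X : ι → T), (∀ i, Q (X i)) → Q (∐ X))
    {J : Type w} (G : J → T) (hG : ∀ j, Q (G j))
    (hsmall : ∀ (j : J) (m : ℤ) (X : T), Q X → Small.{w} ((G j)⟦m⟧ ⟶ X))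
    (hgen : ∀ X, Q X → (∀ (j : J) (m : ℤ) (φ : (G j)⟦m⟧ ⟶ X), φ = 0) → IsZero X)
    (hP : ∀ Z, P Z → PerfAux.IsCompactObjRel.{w} Q Z) (hGP : ∀ j, P (G j))
    (C : T) (hC : Q C) (hC' : PerfAux.IsCompactObjRel.{w} Q C) : FactorsThru P (𝟙 C) := by
  choose next hnext f κ a m y z hT h0 using
    exists_next.{w} hQ G hG hsmall
  let X : ℕ → {X : T // Q X} := fun n =>
    Nat.rec ⟨C, hC⟩ (fun _ X => ⟨next X.1 X.2, hnext X.1 X.2⟩) n
  let F : ∀ n, (X n).1 ⟶ (X (n + 1)).1 := fun n => f (X n).1 (X n).2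
  have : HasCoproducts.{0} T := hasCoproducts_shrink.{0, w}
  let c : Cofan (fun n => (X n).1) := Cofan.mk _ (Sigma.ι (fun n => (X n).1))
  let hc : IsColimit c := coproductIsCoproduct _
  have hQc : Q c.pt := by
    have e : c.pt ≅ ∐ (fun i : Shrink.{w} ℕ => (X ((equivShrink.{w} ℕ).symm i)).1) :=
      (isColimitShrinkCofan.{w} hc).coconePointUniqueUpToIso (coproductIsCoproduct _)
    exact Q.prop_of_iso e.symm (hQ _ _ (fun i => (X _).2))
  let S : c.pt ⟶ c.pt := Cofan.IsColimit.desc hc (fun n => F n ≫ c.inj (n + 1))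
  have hS : ∀ n, c.inj n ≫ S = F n ≫ c.inj (n + 1) := fun n => by
    simp only [S, Cofan.IsColimit.fac]
  obtain ⟨L, q, δ, hL⟩ := distinguished_cocone_triangle (𝟙 c.pt - S)
  have hQL : Q L := Q.ext_of_isTriangulatedClosed₃ _ hL hQc hQc
  have hSq : (𝟙 c.pt - S) ≫ q = 0 := comp_distTriang_mor_zero₁₂ _ hL
  have hSq' : S ≫ q = q := by
    rw [Preadditive.sub_comp, Category.id_comp, sub_eq_zero] at hSq
    exact hSq.symm
  have hcG : ∀ (j : J) (m : ℤ), PerfAux.IsCompactObjRel.{w} Q ((G j)⟦m⟧) := fun j m =>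
    hP _ (P.le_shift m _ (hGP j))
  -- the homotopy colimit vanishes
  have hLz : IsZero L := by
    refine hgen L hQL (fun j m ψ => ?_)
    -- first, `ψ ≫ δ = 0`
    have hδ : ψ ≫ δ = 0 := by
      let c1 : Cofan (fun n => ((X n).1)⟦(1 : ℤ)⟧) :=
        Cofan.mk (c.pt⟦(1 : ℤ)⟧) (fun n => (c.inj n)⟦(1 : ℤ)⟧')
      have hc1 : IsColimit c1 :=
        isColimitCofanMkObjOfIsColimit (shiftFunctor T (1 : ℤ)) _ _ hc
      have hS1 : ∀ n, c1.inj n ≫ S⟦(1 : ℤ)⟧' = (F n)⟦(1 : ℤ)⟧' ≫ c1.inj (n + 1) := by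
        intro n
        have := congrArg (fun t => t⟦(1 : ℤ)⟧') (hS n)
        simpa [c1] using this
      refine eq_zero_of_comp_shift_eq (F := fun n => (F n)⟦(1 : ℤ)⟧') hc1 hS1 (ψ ≫ δ)
        (isFiniteSum_of_small (hcG j m) (fun n => Q.le_shift (1 : ℤ) _ (X n).2) hc1 _) ?_
      have h1 : δ ≫ (𝟙 c.pt - S)⟦(1 : ℤ)⟧' = 0 := comp_distTriang_mor_zero₃₁ _ hL
      rw [Functor.map_sub, CategoryTheory.Functor.map_id, Preadditive.comp_sub,
        Category.comp_id, sub_eq_zero] at h1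
      exact (Category.assoc _ _ _).trans (congrArg (fun t => ψ ≫ t) h1.symm)
    obtain ⟨θ, rfl⟩ := coyo₃ hL ψ hδ
    obtain ⟨s, g, rfl⟩ := isFiniteSum_of_small (hcG j m) (fun n => (X n).2) hc θ
    rw [Preadditive.sum_comp]
    refine Finset.sum_eq_zero (fun i _ => ?_)
    rw [← hSq', ← Category.assoc, Category.assoc (g i), hS i, ← Category.assoc (g i)]
    have : g i ≫ F i = 0 := h0 (X i).1 (X i).2 j m (g i)
    rw [this, zero_comp, zero_comp]
  -- hence `1 - S` is an isomorphism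
  have hiso : IsIso (𝟙 c.pt - S) := (Triangle.isZero₃_iff_isIso₁ _ hL).1 hLz
  obtain ⟨x, hx⟩ : ∃ x : C ⟶ c.pt, x ≫ (𝟙 c.pt - S) = c.inj 0 :=
    ⟨c.inj 0 ≫ inv (𝟙 c.pt - S), by rw [Category.assoc, IsIso.inv_hom_id, Category.comp_id]⟩
  rw [Preadditive.comp_sub, Category.comp_id] at hx
  have hx0 : x ≫ proj hc 0 = 𝟙 C := by
    have := congrArg (fun t => t ≫ proj hc 0) hx
    simp only [Preadditive.sub_comp, Category.assoc, shift_proj_zero hc hS, comp_zero,
      sub_zero] at this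
    exact this.trans (inj_proj_self hc 0)
  have hxs : ∀ n, x ≫ proj hc (n + 1) = (x ≫ proj hc n) ≫ F n := by
    intro n
    have := congrArg (fun t => t ≫ proj hc (n + 1)) hx
    simp only [Preadditive.sub_comp, Category.assoc, shift_proj_succ hc hS] at this
    rw [Category.assoc, ← sub_eq_zero]
    exact this.trans (inj_proj_of_ne hc _ _ (Nat.succ_ne_zero n).symm)
  obtain ⟨s, hs, -⟩ := (isFiniteSum_of_small hC' (fun n => (X n).2) hc x).eq_sum_proj hc
  obtain ⟨N, hN⟩ : ∃ N, N ∉ s := Infinite.exists_notMem_finset s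
  -- descending induction
  have key : ∀ k n, n + k = N → FactorsThru P (x ≫ proj hc n) := by
    intro k
    induction k with
    | zero =>
      intro n hn
      obtain rfl : n = N := by omega
      rw [hs n hN]
      exact FactorsThru.zero _ _ _
    | succ k ih =>
      intro n hn
      have h1 := ih (n + 1) (by omega)
      rw [hxs] at h1
      exact factorsThru_of_comp hP
        (G := fun k => (G (a (X n).1 (X n).2 k))⟦m (X n).1 (X n).2 k⟧)
        (fun k => P.le_shift _ _ (hGP _)) (fun k => Q.le_shift _ _ (hG _))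
        (coproductIsCoproduct _) _ _ _ (hT (X n).1 (X n).2) hC' _ h1
  have := key N 0 (by omega)
  rw [hx0] at this
  exact this

/-- Relative Neeman theorem: a thick property containing the compact generators contains all
compact objects. -/
theorem prop_of_isCompactObjRel [HasCoproducts.{w} T]
    (hQ : ∀ (ι : Type w) (X : ι → T), (∀ i, Q (X i)) → Q (∐ X))
    {J : Type w} (G : J → T) (hG : ∀ j, Q (G j))
    (hsmall : ∀ (j : J) (m : ℤ) (X : T), Q X → Small.{w} ((G j)⟦m⟧ ⟶ X))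
    (hgen : ∀ X, Q X → (∀ (j : J) (m : ℤ) (φ : (G j)⟦m⟧ ⟶ X), φ = 0) → IsZero X)
    (hcomp : ∀ j, PerfAux.IsCompactObjRel.{w} Q (G j))
    (P : ObjectProperty T) [P.IsTriangulated] [P.IsStableUnderRetracts]
    (hGP : ∀ j, P (G j))
    (C : T) (hC : Q C) (hC' : PerfAux.IsCompactObjRel.{w} Q C) : P C := by
  let R : ObjectProperty T := fun K => PerfAux.IsCompactObjRel.{w} Q K
  have hR : R.IsTriangulated :=
    isTriangulated_isCompactObjRel (P := Q) (fun n X hX => Q.le_shift n X hX)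
  have : R.IsClosedUnderIsomorphisms := ⟨fun e h => isCompactObjRel_of_iso e h⟩
  obtain ⟨Z, hZ, a, b, hab⟩ := factorsThru_id (P := P ⊓ R) hQ G hG hsmall hgen
    (fun Z hZ => hZ.2) (fun j => ⟨hGP j, hcomp j⟩) C hC hC'
  exact P.prop_of_retract ⟨a, b, hab⟩ hZ.1

end Main

end Groth.Agent.PerfA.Neeman
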