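import Groth.Agent.PerfA.PerfCompact
import Groth.Agent.PerfA.PerfTri
import Groth.Agent.PerfA.Neeman
import Groth.Agent.S0924

/-!
# Perfect complexes and thick subcategories

* perfect objects form a thick subcategory of `D(O_X)`;
* `Hom(E, L)` is small for `E` perfect and `L ∈ D_QCoh`;
* a thick subcategory containing perfect (weak) generators of `D_QCoh` contains all compact objects of `D_QCoh`,
  in particular all perfect objects.
-/

set_option autoImplicit false
universe u
open CategoryTheory CategoryTheory.Limits AlgebraicGeometry Opposite TopologicalSpace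
open CategoryTheory.Pretriangulated
open scoped ZeroObject
attribute [local instance] HasDerivedCategory.standard

namespace Groth.Agent.PerfA.PerfThick

open Groth.Agent.PerfA.ExtZero Groth.Agent.PerfA.PerfTri Groth.Agent.PerfA.Hyp1

variable {X : Scheme.{u}}

lemma isPerfect_of_retract {K L : DCoh.D X} (i : K ⟶ L) (r : L ⟶ K) (h : i ≫ r = 𝟙 K)
    (hL : DCoh.IsPerfect L) : DCoh.IsPerfect K := by
  obtain ⟨C, g, d, hT⟩ := distinguished_cocone_triangle i
  have h0 : d = 0 := by
    have h1 : d ≫ i⟦(1 : ℤ)⟧' = 0 := comp_distTriang_mor_zero₃₁ _ hT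
    have h2 := congrArg (fun t => t ≫ r⟦(1 : ℤ)⟧') h1
    have h3 : i⟦(1 : ℤ)⟧' ≫ r⟦(1 : ℤ)⟧' = 𝟙 _ := by
      rw [← Functor.map_comp, h, CategoryTheory.Functor.map_id]
    rw [Category.assoc, h3, Category.comp_id, zero_comp] at h2
    exact h2
  obtain ⟨e, -, -⟩ := exists_iso_binaryBiproduct_of_distTriang _ hT h0
  exact (Groth.Agent.S0924.result K C (PerfLocal.isPerfect_of_iso e hL)).1

instance perf_isStableUnderRetracts : (perf X).IsStableUnderRetracts :=
  ⟨fun r h => isPerfect_of_retract r.i r.r r.retract h⟩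

/-- Objects with small `Hom` groups to `D_QCoh`. -/
def SmallHom : ObjectProperty (DCoh.D X) :=
  fun A => ∀ L : DCoh.D X, DCoh.IsQCohD L → Small.{u} (A ⟶ L)

instance : (SmallHom (X := X)).IsClosedUnderIsomorphisms where
  of_iso e h := fun L hL => by
    have := h L hL
    exact small_map ⟨fun f => e.hom ≫ f, fun f => e.inv ≫ f, fun f => by simp, fun f => by simp⟩

instance : (SmallHom (X := X)).IsTriangulated where
  exists_zero := ⟨0, isZero_zero _, fun L _ => by
    have : Subsingleton ((0 : DCoh.D X) ⟶ L) := ⟨fun a b => (isZero_zero _).eq_of_src _ _⟩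
    infer_instance⟩
  isStableUnderShiftBy n := ⟨fun A hA L hL => by
    have : Small.{u} (A ⟶ (shiftEquiv' (DCoh.D X) n (-n) (add_neg_cancel n)).inverse.obj L) :=
      hA _ (QCohD.isQCohD_shift hL (-n))
    exact small_map ((shiftEquiv' (DCoh.D X) n (-n) (add_neg_cancel n)).toAdjunction.homEquiv A L)⟩
  ext₂' T hT h₁ h₃ := ObjectProperty.le_isoClosure _ _ (fun L hL => by
    classical
    have := h₁ L hL
    have := h₃ L hL
    let ℓ : (T.obj₁ ⟶ L) → (T.obj₂ ⟶ L) := fun a =>
      if h : ∃ f : T.obj₂ ⟶ L, T.mor₁ ≫ f = a then h.choose else 0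
    refine small_of_surjective (α := (T.obj₁ ⟶ L) × (T.obj₃ ⟶ L))
      (f := fun p => ℓ p.1 + T.mor₂ ≫ p.2) (fun f => ?_)
    have hex : ∃ f' : T.obj₂ ⟶ L, T.mor₁ ≫ f' = T.mor₁ ≫ f := ⟨f, rfl⟩
    have hℓ : T.mor₁ ≫ ℓ (T.mor₁ ≫ f) = T.mor₁ ≫ f := by
      simp only [ℓ, dif_pos hex]
      exact hex.choose_spec
    obtain ⟨g, hg⟩ := Triangle.yoneda_exact₂ T hT (f - ℓ (T.mor₁ ≫ f)) (by
      rw [Preadditive.comp_sub, hℓ, sub_self])
    exact ⟨(T.mor₁ ≫ f, g), by
      change ℓ (T.mor₁ ≫ f) + T.mor₂ ≫ g = f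
      rw [← hg]; abel⟩)

lemma smallHom_P (U : X.Opens) (hU : IsAffineOpen U) (m : ℤ) : SmallHom (P m U) := fun L hL =>
  small_of_injective (HypAffine.toHD_bijective L hL U hU m).1

/-- `Hom(K, L)` is small for `K` perfect and `L ∈ D_QCoh(O_X)`. -/
theorem small_hom [CompactSpace X] [QuasiSeparatedSpace X] (K : DCoh.D X) (hK : DCoh.IsPerfect K)
    (L : DCoh.D X) (hL : DCoh.IsQCohD L) : Small.{u} (K ⟶ L) :=
  PerfInd.prop_of_isPerfect SmallHom (fun U hU => smallHom_P U hU 0) K hK L hL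

/-- A thick subcategory of `D(O_X)` containing a family of perfect objects which generates `D_QCoh(O_X)` contains all
compact objects of `D_QCoh(O_X)`. -/
theorem prop_of_compact [CompactSpace X] [QuasiSeparatedSpace X] {J : Type u} (G : J → DCoh.D X)
    (hG : ∀ j, DCoh.IsPerfect (G j))
    (hgen : ∀ E : DCoh.D X, DCoh.IsQCohD E →
      (∀ (j : J) (n : ℤ) (φ : (G j)⟦n⟧ ⟶ E), φ = 0) → IsZero E)
    (T : ObjectProperty (DCoh.D X)) [T.IsTriangulated] [T.IsStableUnderRetracts]
    (hT : ∀ j, T (G j)) (K : DCoh.D X) (hK : DCoh.IsQCohD K)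
    (hK' : PerfAux.IsCompactObjRel.{u} (fun L : DCoh.D X => DCoh.IsQCohD L) K) : T K := by
  have : HasCoproducts.{u} (DCoh.D X) := fun J => inferInstance
  exact Neeman.prop_of_isCompactObjRel (Q := DCoh.IsQCohD (X := X))
    (fun ι L hL => Groth.Agent.S1040.result X L hL) G
    (fun j => QCohD.isQCohD_of_isPerfect _ (hG j))
    (fun j m L hL => small_hom _ (PerfLocal.isPerfect_shift (hG j) m) L hL)
    hgen (fun j => PerfCompact.isCompactObjRel_of_isPerfect _ (hG j)) T hT K hK hK'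

/-- A thick subcategory of `D(O_X)` containing a perfect generator of `D_QCoh(O_X)` contains all perfect objects. -/
theorem prop_of_isPerfect [CompactSpace X] [QuasiSeparatedSpace X] (P : DCoh.D X)
    (hP : DCoh.IsPerfect P)
    (hgen : ∀ E : DCoh.D X, DCoh.IsQCohD E → (∀ (n : ℤ) (φ : P⟦n⟧ ⟶ E), φ = 0) → IsZero E)
    (T : ObjectProperty (DCoh.D X)) [T.IsTriangulated] [T.IsStableUnderRetracts]
    (hT : T P) (E : DCoh.D X) (hE : DCoh.IsPerfect E) : T E :=
  prop_of_compact (J := PUnit.{u + 1}) (fun _ => P) (fun _ => hP)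
    (fun E hE h => hgen E hE (fun n φ => h PUnit.unit n φ)) T (fun _ => hT) E
    (QCohD.isQCohD_of_isPerfect _ hE) (PerfCompact.isCompactObjRel_of_isPerfect _ hE)

/-- If `D_QCoh(O_X)` is generated by perfect objects, then its compact objects are perfect. -/
theorem isPerfect_of_compact [CompactSpace X] [QuasiSeparatedSpace X] {J : Type u}
    (G : J → DCoh.D X) (hG : ∀ j, DCoh.IsPerfect (G j))
    (hgen : ∀ E : DCoh.D X, DCoh.IsQCohD E →
      (∀ (j : J) (n : ℤ) (φ : (G j)⟦n⟧ ⟶ E), φ = 0) → IsZero E)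
    (K : DCoh.D X) (hK : DCoh.IsQCohD K)
    (hK' : PerfAux.IsCompactObjRel.{u} (fun L : DCoh.D X => DCoh.IsQCohD L) K) :
    DCoh.IsPerfect K :=
  prop_of_compact G hG hgen (perf X) hG K hK hK'

end Groth.Agent.PerfA.PerfThick
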