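import Groth.Agent.PerfA.IdealModule
import Groth.Agent.PerfA.QCohEpi
import Groth.Agent.PerfA.FGIdeal
import Groth.Prelude.Def_PerfAux

/-!
# Schemes with the resolution property have affine diagonal (Stacks 0F8C)
-/

set_option autoImplicit false
universe u
open CategoryTheory CategoryTheory.Limits AlgebraicGeometry Opposite TopologicalSpace

namespace Groth.Agent.PerfA.AffDiag

open Groth.Agent.Dcoh.FinLocFree

variable {Y : Scheme.{u}}

/-- the coordinates of `O^n` -/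
noncomputable def coord (n : ℕ) (i : Fin n) : FlatMod.freeMod Y n ⟶ Coh.structureModule Y :=
  Sigma.desc (fun j => if j = i then 𝟙 _ else 0)

theorem sum_coord (n : ℕ) : ∑ i : Fin n, coord (Y := Y) n i ≫
    Sigma.ι (fun _ : Fin n => Coh.structureModule Y) i = 𝟙 (FlatMod.freeMod Y n) := by
  refine Sigma.hom_ext _ _ fun j => ?_
  rw [Preadditive.comp_sum, Finset.sum_eq_single j]
  · simp [coord]
  · intro b _ hb
    rw [coord, ← Category.assoc, Sigma.ι_desc, if_neg hb.symm, zero_comp]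
  · simp

theorem sum_app {M N : Y.Modules} {ι : Type*} (s : Finset ι) (φ : ι → (M ⟶ N)) (W : Y.Opens)
    (x : Γ(M, W)) : (∑ i ∈ s, φ i).app W x = ∑ i ∈ s, (φ i).app W x := by
  classical
  induction s using Finset.induction_on with
  | empty => simp
  | insert a s ha ih => rw [Finset.sum_insert ha, Finset.sum_insert ha, ← ih]; rfl

theorem isAffineOpen_of_freeMod [IsAffine Y] (W : Y.Opens) (n : ℕ)
    (c : FlatMod.freeMod Y n ⟶ Coh.structureModule Y) (φ : Γ(FlatMod.freeMod Y n, W))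
    (hφ : c.app W φ = fn W 1) (hc : ∀ i, Y.basicOpen ((fn ⊤).symm (freeSec c i)) ≤ W) :
    IsAffineOpen W := by
  let f : Fin n → Γ(Y, ⊤) := fun i => (fn ⊤).symm (freeSec c i)
  let r : Γ(Y, ⊤) →+* Γ(Y, W) := (Y.presheaf.map (homOfLE (le_top (a := W))).op).hom
  let a : Fin n → Γ(Y, W) := fun i => (fn W).symm ((coord n i).app W φ)
  have h1 : ∑ i, a i * r (f i) = 1 := by
    apply (fn W).injective
    rw [← hφ]
    have h2 : c.app W φ = c.app W ((𝟙 (FlatMod.freeMod Y n) :).app W φ) := rfl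
    rw [h2, ← sum_coord, sum_app, map_sum, map_sum]
    refine Finset.sum_congr rfl fun i _ => ?_
    have h3 : c.app W ((coord n i ≫ Sigma.ι (fun _ : Fin n => Coh.structureModule Y) i).app W φ) =
        (Sigma.ι (fun _ : Fin n => Coh.structureModule Y) i ≫ c).app W (fn W (a i)) := by
      rw [LinearEquiv.apply_symm_apply]
      rfl
    rw [h3, app_eq_smul]
    change fn W (a i • r (f i)) = _
    rw [map_smul]
    rfl
  refine isAffineOpen_of_isAffineOpen_basicOpen W (Set.range fun i => r (f i)) ?_ ?_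
  · rw [Ideal.eq_top_iff_one, ← h1]
    exact Ideal.sum_mem _ fun i _ => Ideal.mul_mem_left _ _ (Ideal.subset_span ⟨i, rfl⟩)
  · rintro _ ⟨i, rfl⟩
    have h4 : Y.basicOpen (r (f i)) = Y.basicOpen (f i) := by
      change Y.basicOpen ((Y.presheaf.map (homOfLE (le_top (a := W))).op) (f i)) = _
      rw [Scheme.basicOpen_res]
      exact inf_eq_right.mpr (hc i)
    rw [h4]
    exact (isAffineOpen_top Y).basicOpen (f i)

/-- The key local statement: if `E|_U` is free on the affine open `U` and a linear form `c : E ⟶ J ⊂ O_X`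
(`J` an ideal sheaf with `V(J) = X - V`) takes the value `1` at a section of `E` over `V`, then `V ⊓ U` is
affine. -/
theorem isAffineOpen_preimage {X : Scheme.{u}} (V : X.Opens) (J : X.IdealSheafData)
    (hJ : ∀ A : X.affineOpens, ∀ x ∈ J.ideal A, X.basicOpen x ≤ V)
    {E : X.Modules} (π : E ⟶ ClSub.idealMod J) (φ : Γ(E, V))
    (hφ : (π ≫ ClSub.idealModι J).app V φ = fn V 1)
    (U : X.Opens) (hU : IsAffineOpen U) (n : ℕ)
    (e : E.restrict U.ι ≅ FlatMod.freeMod (U : Scheme.{u}) n) :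
    IsAffineOpen (U.ι ⁻¹ᵁ V) := by
  have : IsAffine (U : Scheme.{u}) := hU
  set c := π ≫ ClSub.idealModι J with hc
  let c' : FlatMod.freeMod (U : Scheme.{u}) n ⟶ Coh.structureModule (U : Scheme.{u}) :=
    e.inv ≫ (Scheme.Modules.restrictFunctor U.ι).map c ≫ (unitRes U.ι).inv
  let φ' : Γ(E.restrict U.ι, U.ι ⁻¹ᵁ V) :=
    E.presheaf.map (homOfLE (U.ι.image_preimage_le V)).op φ
  refine isAffineOpen_of_freeMod (U.ι ⁻¹ᵁ V) n c' (e.hom.app _ φ') ?_ ?_
  · have h1 : c'.app (U.ι ⁻¹ᵁ V) (e.hom.app _ φ') =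
        (unitRes U.ι).inv.app (U.ι ⁻¹ᵁ V) (c.app (U.ι ''ᵁ (U.ι ⁻¹ᵁ V)) φ') := by
      change (unitRes U.ι).inv.app (U.ι ⁻¹ᵁ V) (c.app (U.ι ''ᵁ (U.ι ⁻¹ᵁ V))
        ((e.hom ≫ e.inv).app (U.ι ⁻¹ᵁ V) φ')) = _
      rw [e.hom_inv_id]
      rfl
    have h2 : c.app (U.ι ''ᵁ (U.ι ⁻¹ᵁ V)) φ' = fn _ 1 := by
      rw [naturality_apply, hφ, fn_map_one]
    rw [h1, h2]
    change fn _ ((U.ι.appIso (U.ι ⁻¹ᵁ V)).hom.hom 1) = _
    rw [map_one]
  · intro i
    let y : Γ(E, U.ι ''ᵁ ⊤) := e.inv.app ⊤ ((Sigma.ι (fun _ : Fin n =>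
      Coh.structureModule (U : Scheme.{u})) i).app ⊤ (fn ⊤ 1))
    let z : Γ(X, U.ι ''ᵁ ⊤) := IdealModule.val J (π.app _ y)
    have h1 : (fn ⊤).symm (freeSec c' i) = (U.ι.appIso ⊤).hom.hom z := rfl
    have hA : IsAffineOpen (U.ι ''ᵁ ⊤) := (isAffineOpen_top _).image_of_isOpenImmersion _
    have h2 : X.basicOpen z ≤ V := hJ ⟨_, hA⟩ z (IdealModule.val_mem J ⟨_, hA⟩ _)
    rw [h1]
    have h3 : U.ι ''ᵁ ((U : Scheme.{u}).basicOpen ((U.ι.appIso ⊤).hom.hom z)) = X.basicOpen z := by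
      rw [Scheme.image_basicOpen U.ι ((U.ι.appIso ⊤).hom.hom z)]
      congr 1
      exact ConcreteCategory.congr_hom (U.ι.appIso ⊤).hom_inv_id z
    intro p hp
    have h4 : U.ι p ∈ U.ι ''ᵁ ((U : Scheme.{u}).basicOpen ((U.ι.appIso ⊤).hom.hom z)) := ⟨p, hp, rfl⟩
    rw [h3] at h4
    exact h2 h4

/-- **Stacks 0F8C.** A quasi-compact quasi-separated scheme with the resolution property has affine
diagonal. -/
theorem isAffineOpen_inf (X : Scheme.{u}) [CompactSpace ↥X] [QuasiSeparatedSpace ↥X]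
    (hX : PerfAux.HasResolutionProperty X) (U V : X.Opens) (hU : IsAffineOpen U)
    (hV : IsAffineOpen V) : IsAffineOpen (U ⊓ V) := by
  obtain ⟨J, hJfg, hJV, hJ, -⟩ := FGIdeal.exists_fg_of_isCompact V hV.isCompact
  obtain ⟨E, π, hE, hπ⟩ := hX (ClSub.idealMod J) inferInstance
    ((IdealModule.isFT_idealMod_iff J).mpr hJfg)
  have hEq : Coh.IsQCoh E := QCohEpi.isQCoh_of_isFinLocFree hE
  obtain ⟨m, hm⟩ := IdealModule.exists_val_eq J ⟨V, hV⟩ (a := 1) (by rw [hJV ⟨V, hV⟩ le_rfl]; trivial)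
  obtain ⟨φ, rfl⟩ := QCohEpi.app_surjective_of_epi π hV m
  have haff : IsAffineHom V.ι := by
    apply isAffineHom_of_forall_exists_isAffineOpen
    intro x
    obtain ⟨W, n, hx, hW⟩ := exists_triv hE x
    obtain ⟨A, hA, hxA, hAW⟩ := exists_isAffineOpen_mem_and_subset hx
    obtain ⟨e⟩ := hW A hAW
    refine ⟨A, hxA, hA, ?_⟩
    have h1 := isAffineOpen_preimage V J hJ π φ hm A hA n e
    have h2 : IsAffineOpen (A ⊓ V) := by
      have := h1.image_of_isOpenImmersion A.ι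
      rwa [Scheme.Hom.image_preimage_eq_opensRange_inf, Scheme.Opens.opensRange_ι] at this
    rw [← Scheme.Hom.isAffineOpen_iff_of_isOpenImmersion V.ι]
    rw [Scheme.Hom.image_preimage_eq_opensRange_inf, Scheme.Opens.opensRange_ι, inf_comm]
    exact h2
  have h3 : IsAffineOpen (V.ι ⁻¹ᵁ U) := hU.preimage V.ι
  have h4 := h3.image_of_isOpenImmersion V.ι
  rwa [Scheme.Hom.image_preimage_eq_opensRange_inf, Scheme.Opens.opensRange_ι, inf_comm] at h4

end Groth.Agent.PerfA.AffDiag
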