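import Groth.Prelude.Def_DerLim
import Groth.Agent.Cohder.Telescope
import Mathlib.CategoryTheory.Triangulated.Pretriangulated
import Mathlib.CategoryTheory.Functor.OfSequence
import Mathlib.CategoryTheory.Triangulated.Triangulated
import Mathlib.Algebra.BigOperators.Fin

/-!
# Homotopy colimits of sequences in pretriangulated categories

Existence, transport along isomorphisms, maps from objects which are compact with respect to the
countable direct sum, and a recognition criterion through a set of test objects.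
-/

set_option autoImplicit false
universe w v u
open CategoryTheory CategoryTheory.Limits CategoryTheory.Pretriangulated

namespace Groth.Agent.PerfA.Hocolim

open Groth.Agent.Cohder.Telescope

section Pre

variable {D : Type u} [Category.{v} D]

/-- The transition maps of a sequence. -/
abbrev tr (F : ℕ ⥤ D) (n : ℕ) : F.obj n ⟶ F.obj (n + 1) := F.map (homOfLE (Nat.le_succ n))

lemma map_comp_of_tr (F : ℕ ⥤ D) {L : D} (j : ∀ n, F.obj n ⟶ L)
    (hj : ∀ n, tr F n ≫ j (n + 1) = j n) (n m : ℕ) (h : n ≤ m) :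
    F.map (homOfLE h) ≫ j m = j n := by
  induction m, h using Nat.le_induction with
  | base =>
    have : homOfLE (le_refl n) = 𝟙 n := rfl
    rw [this, F.map_id, Category.id_comp]
  | succ m hm ih =>
    have : homOfLE (Nat.le_succ_of_le hm) = homOfLE hm ≫ homOfLE (Nat.le_succ m) := rfl
    rw [this, F.map_comp, Category.assoc, hj, ih]

variable [Preadditive D]

/-- A morphism to a countable direct sum which is a finite sum of morphisms to the summands. -/
def IsFinSum (E : ℕ → D) [HasCoproduct E] {C : D} (x : C ⟶ ∐ E) : Prop :=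
  ∃ (N : ℕ) (g : ∀ k, C ⟶ E k), x = ∑ k ∈ Finset.range N, g k ≫ Sigma.ι E k

lemma IsFinSum.exists_trunc {E : ℕ → D} [HasCoproduct E] {C : D} {x : C ⟶ ∐ E}
    (hx : IsFinSum E x) : ∃ N, ∀ M, N ≤ M → x ≫ trunc E M = x := by
  obtain ⟨N, g, rfl⟩ := hx
  refine ⟨N, fun M hM => ?_⟩
  rw [Preadditive.sum_comp]
  refine Finset.sum_congr rfl fun k hk => ?_
  rw [Category.assoc, ι_trunc_of_lt E (lt_of_lt_of_le (Finset.mem_range.1 hk) hM)]

/-- The projection to a summand. -/
noncomputable def proj (E : ℕ → D) [HasCoproduct E] (l : ℕ) : (∐ E) ⟶ E l :=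
  Sigma.desc (fun m => if h : m = l then eqToHom (by rw [h]) else 0)

@[reassoc]
lemma ι_proj_self (E : ℕ → D) [HasCoproduct E] (l : ℕ) : Sigma.ι E l ≫ proj E l = 𝟙 _ := by
  simp [proj]

@[reassoc]
lemma ι_proj_of_ne (E : ℕ → D) [HasCoproduct E] {l m : ℕ} (h : m ≠ l) :
    Sigma.ι E m ≫ proj E l = 0 := by
  simp [proj, h]

lemma trunc_proj (E : ℕ → D) [HasCoproduct E] {l N : ℕ} (h : N ≤ l) :
    trunc E N ≫ proj E l = 0 := by
  apply Sigma.hom_ext
  intro m
  rw [comp_zero]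
  by_cases hm : m < N
  · rw [ι_trunc_of_lt_assoc E hm, ι_proj_of_ne E (by omega)]
  · rw [ι_trunc_of_not_lt_assoc E hm, zero_comp]

variable (F : ℕ ⥤ D) [HasCoproduct F.obj]

/-- The morphism from the direct sum to the `l`-th term given by the transition maps. -/
noncomputable def tau (l : ℕ) : (∐ F.obj) ⟶ F.obj l :=
  Sigma.desc (fun m => if h : m ≤ l then F.map (homOfLE h) else 0)

lemma ι_tau {l m : ℕ} (h : m ≤ l) : Sigma.ι F.obj m ≫ tau F l = F.map (homOfLE h) := by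
  simp [tau, h]

lemma ι_tau_of_not_le {l m : ℕ} (h : ¬ m ≤ l) : Sigma.ι F.obj m ≫ tau F l = 0 := by
  simp [tau, h]

lemma id_sub_shiftMap_tau (l : ℕ) :
    (𝟙 (∐ F.obj) - DerLim.shiftMap F.obj (tr F)) ≫ tau F l = proj F.obj l := by
  apply Sigma.hom_ext
  intro m
  rw [Preadditive.sub_comp, Category.id_comp, Preadditive.comp_sub, DerLim.shiftMap,
    Sigma.ι_desc_assoc, Category.assoc]
  rcases lt_trichotomy m l with h | h | h
  · rw [ι_tau F (le_of_lt h), ι_tau F (Nat.succ_le_of_lt h), ι_proj_of_ne F.obj (by omega),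
      sub_eq_zero, ← F.map_comp]
    rfl
  · subst h
    rw [ι_tau F le_rfl, ι_tau_of_not_le F (by omega), ι_proj_self, comp_zero, sub_zero]
    exact F.map_id _
  · rw [ι_tau_of_not_le F (by omega), ι_tau_of_not_le F (by omega), ι_proj_of_ne F.obj (by omega),
      comp_zero, sub_zero]

lemma id_sub_shiftMap_desc {L : D} (j : ∀ n, F.obj n ⟶ L) (hj : ∀ n, tr F n ≫ j (n + 1) = j n) :
    (𝟙 (∐ F.obj) - DerLim.shiftMap F.obj (tr F)) ≫ Sigma.desc j = 0 := by
  apply Sigma.hom_ext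
  intro n
  rw [Preadditive.sub_comp, Category.id_comp, Preadditive.comp_sub, comp_zero, sub_eq_zero,
    Sigma.ι_desc, DerLim.shiftMap, Sigma.ι_desc_assoc, Category.assoc, Sigma.ι_desc, hj]

lemma tr_comp_of_id_sub_shiftMap_desc {L : D} (j : ∀ n, F.obj n ⟶ L)
    (h : (𝟙 (∐ F.obj) - DerLim.shiftMap F.obj (tr F)) ≫ Sigma.desc j = 0) (n : ℕ) :
    tr F n ≫ j (n + 1) = j n := by
  have h' := Sigma.ι F.obj n ≫= h
  rw [Preadditive.sub_comp, Category.id_comp, Preadditive.comp_sub, comp_zero, sub_eq_zero,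
    Sigma.ι_desc, DerLim.shiftMap, Sigma.ι_desc_assoc, Category.assoc, Sigma.ι_desc] at h'
  exact h'.symm

end Pre

section Tri

variable {D : Type u} [Category.{v} D] [Preadditive D] [HasZeroObject D] [HasShift D ℤ]
  [∀ n : ℤ, (shiftFunctor D n).Additive] [Pretriangulated D]

/-- Transport of a homotopy colimit along an isomorphism. -/
lemma isHocolim_of_iso {E : ℕ → D} {f : ∀ n, E n ⟶ E (n + 1)} [HasCoproduct E] {L K : D}
    {j : ∀ n, E n ⟶ L} (h : DerLim.IsHocolim E f L j) (φ : L ⟶ K) [IsIso φ]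
    (i : ∀ n, E n ⟶ K) (hi : ∀ n, j n ≫ φ = i n) : DerLim.IsHocolim E f K i := by
  obtain ⟨c, hc⟩ := h
  refine ⟨inv φ ≫ c, isomorphic_distinguished _ hc _ ?_⟩
  refine Triangle.isoMk _ _ (Iso.refl _) (Iso.refl _) (asIso φ).symm ?_ ?_ ?_
  · change (𝟙 (∐ E) - DerLim.shiftMap E f) ≫ 𝟙 (∐ E) = 𝟙 (∐ E) ≫ (𝟙 (∐ E) - DerLim.shiftMap E f)
    rw [Category.comp_id, Category.id_comp]
  · change Sigma.desc i ≫ inv φ = 𝟙 (∐ E) ≫ Sigma.desc j
    apply Sigma.hom_ext
    intro n
    rw [Sigma.ι_desc_assoc, Category.id_comp, Sigma.ι_desc, ← hi, Category.assoc, IsIso.hom_inv_id,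
      Category.comp_id]
  · change (inv φ ≫ c) ≫ (shiftFunctor D (1 : ℤ)).map (𝟙 (∐ E)) = inv φ ≫ c
    rw [CategoryTheory.Functor.map_id, Category.comp_id]

variable (F : ℕ ⥤ D) [HasCoproduct F.obj]

/-- Existence of the homotopy colimit of a sequence, with a map to any cocone. -/
lemma exists_hocolim_map {K : D} (i : ∀ n, F.obj n ⟶ K) (hi : ∀ n, tr F n ≫ i (n + 1) = i n) :
    ∃ (L : D) (j : ∀ n, F.obj n ⟶ L) (φ : L ⟶ K), DerLim.IsHocolim F.obj (tr F) L j ∧
      ∀ n, j n ≫ φ = i n := by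
  obtain ⟨L, p, c, hc⟩ := distinguished_cocone_triangle
    (𝟙 (∐ F.obj) - DerLim.shiftMap F.obj (tr F))
  obtain ⟨φ, hφ⟩ := Triangle.yoneda_exact₂ _ hc (Sigma.desc i) (id_sub_shiftMap_desc F i hi)
  change L ⟶ K at φ
  change Sigma.desc i = p ≫ φ at hφ
  refine ⟨L, fun n => Sigma.ι _ n ≫ p, φ, ⟨c, ?_⟩, fun n => ?_⟩
  · have : Sigma.desc (fun n => Sigma.ι F.obj n ≫ p) = p := by
      apply Sigma.hom_ext
      intro n
      rw [Sigma.ι_desc]
    rw [this]
    exact hc
  · rw [Category.assoc, ← hφ, Sigma.ι_desc]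

variable {F}

lemma tr_comp_of_isHocolim {L : D} {j : ∀ n, F.obj n ⟶ L}
    (h : DerLim.IsHocolim F.obj (tr F) L j) (n : ℕ) : tr F n ≫ j (n + 1) = j n := by
  obtain ⟨c, hc⟩ := h
  exact tr_comp_of_id_sub_shiftMap_desc F j (comp_distTriang_mor_zero₁₂ _ hc) n

/-- A morphism from an object whose maps to the direct sum (also after a shift) are finite sums
factors through a finite stage of a homotopy colimit. -/
lemma exists_factor_of_isHocolim {L : D} {j : ∀ n, F.obj n ⟶ L}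
    (h : DerLim.IsHocolim F.obj (tr F) L j) {C C' : D} (e : C'⟦(1 : ℤ)⟧ ≅ C)
    (hC : ∀ x : C ⟶ ∐ F.obj, IsFinSum F.obj x) (hC' : ∀ x : C' ⟶ ∐ F.obj, IsFinSum F.obj x)
    (x : C ⟶ L) : ∃ (n : ℕ) (y : C ⟶ F.obj n), y ≫ j n = x := by
  have hj := tr_comp_of_isHocolim h
  obtain ⟨c, hc⟩ := h
  have hxc : x ≫ c = 0 := by
    obtain ⟨u, hu⟩ := (shiftFunctor D (1 : ℤ)).map_surjective (e.hom ≫ x ≫ c)
    have h1 : u ≫ (𝟙 (∐ F.obj) - DerLim.shiftMap F.obj (tr F)) = 0 := by
      apply (shiftFunctor D (1 : ℤ)).map_injective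
      rw [Functor.map_comp, hu, Functor.map_zero, Category.assoc, Category.assoc]
      have : c ≫ (shiftFunctor D (1 : ℤ)).map (𝟙 (∐ F.obj) - DerLim.shiftMap F.obj (tr F)) = 0 :=
        comp_distTriang_mor_zero₃₁ _ hc
      rw [this, comp_zero, comp_zero]
    have h2 : u ≫ DerLim.shiftMap F.obj (tr F) = u := by
      rw [Preadditive.comp_sub, Category.comp_id, sub_eq_zero] at h1
      exact h1.symm
    obtain ⟨N, hN⟩ := (hC' u).exists_trunc
    have h3 : u = 0 := by
      rw [← hN N le_rfl]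
      exact comp_trunc_eq_zero F.obj _ u h2 N
    rw [h3, Functor.map_zero] at hu
    rw [← cancel_epi e.hom, ← hu, comp_zero]
  obtain ⟨z, hz⟩ := Triangle.coyoneda_exact₃ _ hc x hxc
  change C ⟶ ∐ F.obj at z
  change x = z ≫ Sigma.desc j at hz
  obtain ⟨N, g, rfl⟩ := hC z
  refine ⟨N, ∑ k : Fin N, g k ≫ F.map (homOfLE k.2.le), ?_⟩
  rw [hz, Preadditive.sum_comp, Preadditive.sum_comp, Finset.sum_range]
  refine Finset.sum_congr rfl fun k _ => ?_
  rw [Category.assoc, Category.assoc, map_comp_of_tr F j hj k N k.2.le, Sigma.ι_desc]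

/-- A morphism to a stage vanishing in the homotopy colimit vanishes at a later stage. -/
lemma exists_eq_zero_of_isHocolim {L : D} {j : ∀ n, F.obj n ⟶ L}
    (h : DerLim.IsHocolim F.obj (tr F) L j) {C : D}
    (hC : ∀ x : C ⟶ ∐ F.obj, IsFinSum F.obj x) {k : ℕ} (x : C ⟶ F.obj k) (hx : x ≫ j k = 0) :
    ∃ (l : ℕ) (hl : k ≤ l), x ≫ F.map (homOfLE hl) = 0 := by
  obtain ⟨c, hc⟩ := h
  obtain ⟨z, hz⟩ := Triangle.coyoneda_exact₂ _ hc (x ≫ Sigma.ι F.obj k) (by
    change (x ≫ Sigma.ι F.obj k) ≫ Sigma.desc j = 0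
    rw [Category.assoc, Sigma.ι_desc, hx])
  change C ⟶ ∐ F.obj at z
  change x ≫ Sigma.ι F.obj k = z ≫ (𝟙 (∐ F.obj) - DerLim.shiftMap F.obj (tr F)) at hz
  obtain ⟨N, hN⟩ := (hC z).exists_trunc
  refine ⟨max k N, le_max_left _ _, ?_⟩
  rw [← ι_tau F (le_max_left k N), ← Category.assoc, hz, Category.assoc, id_sub_shiftMap_tau,
    ← hN N le_rfl, Category.assoc, trunc_proj F.obj (le_max_right k N), comp_zero]

/-- Recognition of a homotopy colimit through a class `𝒢` of test objects, compact with respect to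
the relevant direct sum. -/
theorem isHocolim_of_test {K : D} (i : ∀ n, F.obj n ⟶ K) (hi : ∀ n, tr F n ≫ i (n + 1) = i n)
    (𝒢 : ObjectProperty D) (h𝒢 : ∀ C, 𝒢 C → ∃ C', 𝒢 C' ∧ Nonempty (C'⟦(1 : ℤ)⟧ ≅ C))
    (hfin : ∀ C, 𝒢 C → ∀ x : C ⟶ ∐ F.obj, IsFinSum F.obj x)
    (hsurj : ∀ C, 𝒢 C → ∀ x : C ⟶ K, ∃ (n : ℕ) (y : C ⟶ F.obj n), y ≫ i n = x)
    (hinj : ∀ C, 𝒢 C → ∀ (n : ℕ) (y : C ⟶ F.obj n), y ≫ i n = 0 →
      ∃ (m : ℕ) (h : n ≤ m), y ≫ F.map (homOfLE h) = 0)
    (P : ObjectProperty D)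
    (hP : ∀ T : Triangle D, T ∈ distTriang D → P T.obj₁ → P T.obj₂ → P T.obj₃)
    (hPK : P K) (hPS : P (∐ F.obj))
    (hdet : ∀ Z, P Z → (∀ C, 𝒢 C → ∀ x : C ⟶ Z, x = 0) → IsZero Z) :
    DerLim.IsHocolim F.obj (tr F) K i := by
  obtain ⟨L, j, φ, hL, hφ⟩ := exists_hocolim_map F i hi
  have hj := tr_comp_of_isHocolim hL
  suffices h : IsIso φ from isHocolim_of_iso hL φ i hφ
  have hPL : P L := by
    obtain ⟨c, hc⟩ := hL
    exact hP _ hc hPS hPS
  obtain ⟨Z, π, δ, hT⟩ := distinguished_cocone_triangle φ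
  have hPZ : P Z := hP _ hT hPL hPK
  refine (Triangle.isZero₃_iff_isIso₁ _ hT).1 ?_
  refine hdet Z hPZ fun C hC x => ?_
  have hxδ : x ≫ δ = 0 := by
    obtain ⟨C', hC', ⟨e⟩⟩ := h𝒢 C hC
    obtain ⟨w, hw⟩ := (shiftFunctor D (1 : ℤ)).map_surjective (e.hom ≫ x ≫ δ)
    have h1 : w ≫ φ = 0 := by
      apply (shiftFunctor D (1 : ℤ)).map_injective
      rw [Functor.map_comp, hw, Functor.map_zero, Category.assoc, Category.assoc]
      have : δ ≫ (shiftFunctor D (1 : ℤ)).map φ = 0 := comp_distTriang_mor_zero₃₁ _ hT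
      rw [this, comp_zero, comp_zero]
    obtain ⟨C'', hC'', ⟨e'⟩⟩ := h𝒢 C' hC'
    obtain ⟨n, y, hy⟩ := exists_factor_of_isHocolim hL e' (hfin C' hC') (hfin C'' hC'') w
    obtain ⟨m, hm, hy'⟩ := hinj C' hC' n y (by rw [← hφ, ← Category.assoc, hy, h1])
    have h3 : w = 0 := by
      rw [← hy, ← map_comp_of_tr F j hj n m hm, ← Category.assoc, hy', zero_comp]
    rw [h3, Functor.map_zero] at hw
    rw [← cancel_epi e.hom, ← hw, comp_zero]
  obtain ⟨v, hv⟩ := Triangle.coyoneda_exact₃ _ hT x hxδ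
  change C ⟶ K at v
  change x = v ≫ π at hv
  obtain ⟨n, y, hy⟩ := hsurj C hC v
  have : φ ≫ π = 0 := comp_distTriang_mor_zero₁₂ _ hT
  rw [hv, ← hy, ← hφ, Category.assoc, Category.assoc, this, comp_zero, comp_zero]

end Tri

section Seq

/-- A sequence along which all requests are fulfilled: in a category with countably many
requests at every object, each of which can be fulfilled by moving on. -/
theorem exists_sequence {S : Type u} [Category.{v} S] (R : S ⥤ Type w)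
    [∀ s, Countable (R.obj s)] [∀ s, Nonempty (R.obj s)] (Dead : ∀ s, R.obj s → Prop)
    (hk : ∀ (s : S) (r : R.obj s), ∃ (s' : S) (f : s ⟶ s'), Dead s' (R.map f r)) (s₀ : S) :
    ∃ F : ℕ ⥤ S, ∀ (k : ℕ) (r : R.obj (F.obj k)), ∃ (l : ℕ) (h : k ≤ l),
      Dead (F.obj l) (R.map (F.map (homOfLE h)) r) := by
  choose nxt f hf using hk
  choose enum henum using fun s : S => exists_surjective_nat (R.obj s)
  let req (n : ℕ) (st : Σ s : S, ℕ → ℕ → R.obj s) : R.obj st.1 :=
    st.2 (Nat.unpair n).1 (Nat.unpair n).2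
  let step (n : ℕ) (st : Σ s : S, ℕ → ℕ → R.obj s) : Σ s : S, ℕ → ℕ → R.obj s :=
    ⟨nxt st.1 (req n st), fun j m => if j ≤ n then R.map (f st.1 (req n st)) (st.2 j m)
      else enum (nxt st.1 (req n st)) m⟩
  let st (n : ℕ) : Σ s : S, ℕ → ℕ → R.obj s :=
    Nat.rec ⟨s₀, fun _ m => enum s₀ m⟩ (fun n s => step n s) n
  let F : ℕ ⥤ S := Functor.ofSequence (X := fun n => (st n).1) (fun n => f (st n).1 (req n (st n)))
  have hF : ∀ n, F.map (homOfLE (Nat.le_add_right n 1)) = f (st n).1 (req n (st n)) :=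
    fun n => Functor.ofSequence_map_homOfLE_succ _ n
  have hself : ∀ j m, (st j).2 j m = enum (st j).1 m := by
    intro j m
    cases j with
    | zero => rfl
    | succ j =>
      change (if j + 1 ≤ j then _ else _) = _
      rw [if_neg (by omega)]
  have key : ∀ (j m n : ℕ) (h : j ≤ n), (st n).2 j m = R.map (F.map (homOfLE h)) (enum (st j).1 m) := by
    intro j m n h
    induction n, h using Nat.le_induction with
    | base =>
      have : homOfLE (le_refl j) = 𝟙 j := rfl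
      rw [this, F.map_id]
      erw [R.map_id]
      exact hself j m
    | succ n hn ih =>
      have h1 : (st (n + 1)).2 j m = R.map (f (st n).1 (req n (st n))) ((st n).2 j m) := by
        change (if j ≤ n then _ else _) = _
        rw [if_pos hn]
      have h2 : homOfLE (Nat.le_succ_of_le hn) = homOfLE hn ≫ homOfLE (Nat.le_add_right n 1) := rfl
      rw [h1, ih, h2, F.map_comp, R.map_comp, ← hF n]
      rfl
  refine ⟨F, fun k r => ?_⟩
  obtain ⟨m, rfl⟩ := henum (st k).1 r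
  refine ⟨Nat.pair k m + 1, (Nat.left_le_pair k m).trans (Nat.le_succ _), ?_⟩
  have h1 := hf (st (Nat.pair k m)).1 (req (Nat.pair k m) (st (Nat.pair k m)))
  have h2 : req (Nat.pair k m) (st (Nat.pair k m)) = (st (Nat.pair k m)).2 k m := by
    simp only [req, Nat.unpair_pair]
  have h3 := key k m (Nat.pair k m) (Nat.left_le_pair k m)
  have h4 : homOfLE ((Nat.left_le_pair k m).trans (Nat.le_succ _)) =
    homOfLE (Nat.left_le_pair k m) ≫ homOfLE (Nat.le_add_right (Nat.pair k m) 1) := rfl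
  have h5 : R.map (F.map (homOfLE ((Nat.left_le_pair k m).trans (Nat.le_succ _)))) (enum (st k).1 m)
      = R.map (f (st (Nat.pair k m)).1 (req (Nat.pair k m) (st (Nat.pair k m))))
        (req (Nat.pair k m) (st (Nat.pair k m))) := by
    rw [h4, F.map_comp, R.map_comp, ← hF]
    exact (congrArg (fun t => R.map (F.map (homOfLE (Nat.le_add_right (Nat.pair k m) 1))) t)
      (h2.trans h3)).symm
  rw [h5]
  exact h1

end Seq

end Groth.Agent.PerfA.Hocolim
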