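import Groth.Agent.PerfA.TriFive
import Groth.Agent.PerfA.Hocolim
import Groth.Agent.S1034
import Mathlib.CategoryTheory.Limits.Constructions.EventuallyConstant
import Mathlib.Algebra.Homology.DerivedCategory.Basic

/-!
# Towers of approximations in a derived category and their homotopy colimits
-/

set_option autoImplicit false
universe w v u
open CategoryTheory CategoryTheory.Limits CategoryTheory.Pretriangulated DerivedCategory

namespace Groth.Agent.PerfA.ApproxTower

open Groth.Agent.PerfA.Hocolim Groth.Agent.PerfA.TriFive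

variable {A : Type u} [Category.{v} A] [Abelian A] [HasDerivedCategory.{w} A]

section tower

variable (Perf PC : ObjectProperty (DerivedCategory A))
  (hPerf : ∀ T : Triangle (DerivedCategory A), T ∈ distTriang _ → Perf T.obj₁ → Perf T.obj₃ →
    Perf T.obj₂)
  (hPC : ∀ T : Triangle (DerivedCategory A), T ∈ distTriang _ → Perf T.obj₁ → PC T.obj₂ →
    PC T.obj₃)
  (happ : ∀ (m : ℤ) (E : DerivedCategory A), PC E → ∃ (P : DerivedCategory A) (α : P ⟶ E),
    Perf P ∧ (∀ i : ℤ, m < i → IsIso ((homologyFunctor A i).map α)) ∧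
      Epi ((homologyFunctor A m).map α))

include hPerf hPC happ

/-- One step in the construction of the tower: an approximation of `K` is improved. -/
lemma exists_step {K : DerivedCategory A} (hK : PC K) (n : ℤ) {E : DerivedCategory A}
    (hE : Perf E) (i : E ⟶ K) :
    ∃ (E' : DerivedCategory A) (f : E ⟶ E') (i' : E' ⟶ K), Perf E' ∧ f ≫ i' = i ∧
      ∀ m : ℤ, n ≤ m → IsIso ((homologyFunctor A m).map i') := by
  obtain ⟨C, π, δ, hT'⟩ := distinguished_cocone_triangle i
  obtain ⟨P, α, hP, hα, hα'⟩ := happ (n - 1) C (hPC _ hT' hE hK)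
  obtain ⟨E', f, g, hT⟩ := distinguished_cocone_triangle₂ (α ≫ δ)
  obtain ⟨i', h1, h2⟩ := complete_distinguished_triangle_morphism₂ _ _ hT hT' (𝟙 E) α
    (by
      change (α ≫ δ) ≫ (shiftFunctor (DerivedCategory A) (1 : ℤ)).map (𝟙 E) = α ≫ δ
      rw [CategoryTheory.Functor.map_id, Category.comp_id])
  change E' ⟶ K at i'
  change f ≫ i' = 𝟙 E ≫ i at h1
  rw [Category.id_comp] at h1
  refine ⟨E', f, i', hPerf _ hT hE hP, h1, fun m hm => ?_⟩
  let φ : Triangle.mk f g (α ≫ δ) ⟶ Triangle.mk i π δ :=
    { hom₁ := 𝟙 E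
      hom₂ := i'
      hom₃ := α
      comm₁ := by
        change f ≫ i' = 𝟙 E ≫ i
        rw [Category.id_comp, h1]
      comm₂ := h2
      comm₃ := by
        change (α ≫ δ) ≫ (shiftFunctor (DerivedCategory A) (1 : ℤ)).map (𝟙 E) = α ≫ δ
        rw [CategoryTheory.Functor.map_id, Category.comp_id] }
  have hid : ∀ k : ℤ, IsIso ((homologyFunctor A k).map φ.hom₁) := fun k => by
    change IsIso ((homologyFunctor A k).map (𝟙 E))
    infer_instance
  have h3 : Epi ((homologyFunctor A (m - 1)).map α) := by
    rcases eq_or_lt_of_le (show n - 1 ≤ m - 1 by lia) with h | h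
    · rw [← h]
      exact hα'
    · have := hα (m - 1) h
      infer_instance
  exact isIso_homology_hom₂ hT hT' φ (m - 1) m (m + 1) (by lia) rfl h3 (hid m)
    (hα m (by lia)) (by have := hid (m + 1); infer_instance)

/-- The tower of approximations of a pseudo-coherent object. -/
theorem exists_tower {K : DerivedCategory A} (hK : PC K) :
    ∃ (F : ℕ ⥤ DerivedCategory A) (i : ∀ n, F.obj n ⟶ K), (∀ n, Perf (F.obj n)) ∧
      (∀ n, tr F n ≫ i (n + 1) = i n) ∧
      ∀ (n : ℕ) (m : ℤ), -(n : ℤ) ≤ m → IsIso ((homologyFunctor A m).map (i n)) := by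
  obtain ⟨P₀, α₀, hP₀, hα₀, -⟩ := happ (-1) K hK
  let S := Σ' (E : DerivedCategory A) (_ : E ⟶ K), Perf E
  have step : ∀ (n : ℕ) (s : S), ∃ (s' : S) (f : s.1 ⟶ s'.1), f ≫ s'.2.1 = s.2.1 ∧
      ∀ m : ℤ, -((n + 1 : ℕ) : ℤ) ≤ m → IsIso ((homologyFunctor A m).map s'.2.1) := by
    intro n s
    obtain ⟨E', f, i', h1, h2, h3⟩ := exists_step Perf PC hPerf hPC happ hK (-((n + 1 : ℕ) : ℤ))
      s.2.2 s.2.1
    exact ⟨⟨E', i', h1⟩, f, h2, h3⟩
  choose nxt f hf hf' using step
  let st : ℕ → S := fun n => Nat.rec ⟨P₀, α₀, hP₀⟩ (fun n s => nxt n s) n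
  let F : ℕ ⥤ DerivedCategory A := Functor.ofSequence (X := fun n => (st n).1)
    (fun n => f n (st n))
  refine ⟨F, fun n => (st n).2.1, fun n => (st n).2.2, fun n => ?_, fun n m hm => ?_⟩
  · have : tr F n = f n (st n) := Functor.ofSequence_map_homOfLE_succ _ n
    rw [this]
    exact hf n (st n)
  · cases n with
    | zero => exact hα₀ m (by lia)
    | succ n => exact hf' n (st n) m hm

end tower

/-- Recognition of a homotopy colimit through cohomology objects: on each of them the maps are
eventually isomorphisms. -/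
theorem isHocolim_of_eventually_isIso [HasColimitsOfShape ℕ A] [HasExactColimitsOfShape ℕ A]
    [HasColimitsOfShape (Discrete ℕ) (DerivedCategory A)]
    [∀ m : ℤ, PreservesColimitsOfShape (Discrete ℕ) (homologyFunctor A m)]
    (F : ℕ ⥤ DerivedCategory A) {K : DerivedCategory A}
    (i : ∀ n, F.obj n ⟶ K) (hi : ∀ n, tr F n ≫ i (n + 1) = i n)
    (hev : ∀ m : ℤ, ∃ N : ℕ, ∀ n, N ≤ n → IsIso ((homologyFunctor A m).map (i n))) :
    DerLim.IsHocolim F.obj (tr F) K i := by
  obtain ⟨L, j, φ, hL, hφ⟩ := exists_hocolim_map F i hi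
  suffices h : IsIso φ from isHocolim_of_iso hL φ i hφ
  rw [DerivedCategory.isIso_iff]
  intro m
  obtain ⟨N, hN⟩ := hev m
  obtain ⟨e, he⟩ := Groth.Agent.S1034.result (homologyFunctor A m) F.obj (tr F) L j hL
  let G : ℕ ⥤ A := Functor.ofSequence (fun n => (homologyFunctor A m).map (tr F n))
  have hG : G.IsEventuallyConstantFrom N := by
    intro k g
    have key : ∀ (k : ℕ) (h : N ≤ k), IsIso (G.map (homOfLE h)) := by
      intro k h
      induction k, h using Nat.le_induction with
      | base =>
        have : homOfLE (le_refl N) = 𝟙 N := rfl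
        rw [this, G.map_id]
        infer_instance
      | succ k hk ih =>
        have : homOfLE (Nat.le_succ_of_le hk) = homOfLE hk ≫ homOfLE (Nat.le_add_right k 1) := rfl
        rw [this, G.map_comp]
        have h1 : G.map (homOfLE (Nat.le_add_right k 1)) = (homologyFunctor A m).map (tr F k) :=
          Functor.ofSequence_map_homOfLE_succ _ k
        have h2 : IsIso ((homologyFunctor A m).map (tr F k)) := by
          have a1 := hN k hk
          have a2 := hN (k + 1) (by lia)
          have a3 : IsIso ((homologyFunctor A m).map (tr F k) ≫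
              (homologyFunctor A m).map (i (k + 1))) := by
            rw [← Functor.map_comp, hi]
            exact a1
          exact IsIso.of_isIso_comp_right _ ((homologyFunctor A m).map (i (k + 1)))
        have h3 : IsIso (G.map (homOfLE (Nat.le_add_right k 1))) := by
          rw [h1]
          exact h2
        infer_instance
    exact key k (leOfHom g)
  have hι : IsIso (colimit.ι G N) := hG.isIso_ι_of_isColimit (colimit.isColimit G)
  have hj : IsIso ((homologyFunctor A m).map (j N)) := by
    rw [← he N]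
    exact IsIso.comp_isIso' hι inferInstance
  have h4 : IsIso ((homologyFunctor A m).map (j N) ≫ (homologyFunctor A m).map φ) := by
    rw [← Functor.map_comp, hφ]
    exact hN N le_rfl
  exact IsIso.of_isIso_comp_left ((homologyFunctor A m).map (j N)) _

end Groth.Agent.PerfA.ApproxTower
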