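import Mathlib.Algebra.Homology.DerivedCategory.TStructure
import Mathlib.Algebra.Homology.DerivedCategory.FullyFaithful
import Mathlib.Algebra.Homology.DerivedCategory.HomologySequence
import Mathlib.CategoryTheory.Triangulated.TStructure.TruncLTGE
import Mathlib.CategoryTheory.Triangulated.Yoneda

/-!
# Postnikov towers in the derived category of an abelian category (basic lemmas)

For `C` abelian, `K : DerivedCategory C`:
* homology of the canonical truncations;
* `exists_single_epi`: some `S_m Z ⟶ K` is epi on `H^m`;
* `exists_single_of_not_mono`: if `H^m(f)` is not mono there is `P` in the separating family and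
  `S_m P ⟶ K` detecting it;
* `hom_eq_zero_of_bounded`: devissage for bounded complexes.
-/

set_option autoImplicit false

universe w v u

open CategoryTheory Category Limits Pretriangulated Triangulated DerivedCategory

namespace Groth.Agent.PerfA.PostAbs

variable {C : Type u} [Category.{v} C] [Abelian C] [HasDerivedCategory.{w} C]

/-- The canonical t-structure. -/
noncomputable abbrev tt : TStructure (DerivedCategory C) := DerivedCategory.TStructure.t

lemma isIso_homology_truncGEπ (K : DerivedCategory C) (a q : ℤ) (h : a ≤ q) :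
    IsIso ((homologyFunctor C q).map ((tt.truncGEπ a).app K)) := by
  have hT := tt.triangleLTGE_distinguished a K
  have h1 : IsZero ((homologyFunctor C q).obj ((tt.truncLT a).obj K)) :=
    isZero_of_isLE _ (a - 1) q (by lia)
  have h2 : IsZero ((homologyFunctor C (q + 1)).obj ((tt.truncLT a).obj K)) :=
    isZero_of_isLE _ (a - 1) (q + 1) (by lia)
  have : Mono ((homologyFunctor C q).map ((tt.triangleLTGE a).obj K).mor₂) := by
    rw [HomologySequence.mono_homologyMap_mor₂_iff _ hT]
    exact h1.eq_of_src _ _
  have : Epi ((homologyFunctor C q).map ((tt.triangleLTGE a).obj K).mor₂) := by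
    rw [HomologySequence.epi_homologyMap_mor₂_iff _ hT q (q + 1)]
    exact h2.eq_of_tgt _ _
  exact isIso_of_mono_of_epi ((homologyFunctor C q).map ((tt.triangleLTGE a).obj K).mor₂)

lemma isIso_homology_truncLTι (K : DerivedCategory C) (a q : ℤ) (h : q < a) :
    IsIso ((homologyFunctor C q).map ((tt.truncLTι a).app K)) := by
  have hT := tt.triangleLTGE_distinguished a K
  have h1 : IsZero ((homologyFunctor C q).obj ((tt.truncGE a).obj K)) :=
    isZero_of_isGE _ a q (by lia)
  have h2 : IsZero ((homologyFunctor C (q - 1)).obj ((tt.truncGE a).obj K)) :=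
    isZero_of_isGE _ a (q - 1) (by lia)
  have : Epi ((homologyFunctor C q).map ((tt.triangleLTGE a).obj K).mor₁) := by
    rw [HomologySequence.epi_homologyMap_mor₁_iff _ hT]
    exact h1.eq_of_tgt _ _
  have : Mono ((homologyFunctor C q).map ((tt.triangleLTGE a).obj K).mor₁) := by
    rw [HomologySequence.mono_homologyMap_mor₁_iff _ hT (q - 1) q]
    exact h2.eq_of_src _ _
  exact isIso_of_mono_of_epi ((homologyFunctor C q).map ((tt.triangleLTGE a).obj K).mor₁)

/-- Some `S_m Z ⟶ K` is an epimorphism on `H^m`. -/
lemma exists_single_epi (K : DerivedCategory C) (m : ℤ) :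
    ∃ (Z : C) (ζ : (singleFunctor C m).obj Z ⟶ K), Epi ((homologyFunctor C m).map ζ) := by
  obtain ⟨K', ⟨e⟩⟩ : ∃ K' : CochainComplex C ℤ, Nonempty (Q.obj K' ≅ K) :=
    ⟨_, ⟨Q.objObjPreimageIso K⟩⟩
  let z : (HomologicalComplex.single C (ComplexShape.up ℤ) m).obj (K'.cycles m) ⟶ K' :=
    HomologicalComplex.mkHomFromSingle (K'.iCycles m) (fun k _ => by simp)
  have hz : HomologicalComplex.cyclesMap z m =
      (HomologicalComplex.singleObjCyclesSelfIso _ _ _).hom := by
    rw [← cancel_mono (K'.iCycles m), HomologicalComplex.cyclesMap_i,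
      HomologicalComplex.singleObjCyclesSelfIso_hom, HomologicalComplex.mkHomFromSingle_f, assoc]
  have hepi : Epi (HomologicalComplex.homologyMap z m) := by
    have : Epi (HomologicalComplex.homologyπ _ m ≫ HomologicalComplex.homologyMap z m) := by
      rw [HomologicalComplex.homologyπ_naturality, hz]
      infer_instance
    exact epi_of_epi (HomologicalComplex.homologyπ _ m) _
  refine ⟨K'.cycles m, Q.map z ≫ e.hom, ?_⟩
  rw [Functor.map_comp]
  have : Epi ((homologyFunctor C m).map (Q.map z)) := by
    have : Epi ((homologyFunctor C m).map (Q.map z) ≫ (homologyFunctorFactors C m).hom.app K') := by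
      rw [homologyFunctorFactors_hom_naturality]
      exact @epi_comp _ _ _ _ _ _ inferInstance _ hepi
    have h2 : (homologyFunctor C m).map (Q.map z) =
        ((homologyFunctor C m).map (Q.map z) ≫ (homologyFunctorFactors C m).hom.app K') ≫
          (homologyFunctorFactors C m).inv.app K' := by simp
    rw [h2]
    exact epi_comp _ _
  exact @epi_comp _ _ _ _ _ _ this _ inferInstance

/-- A class of objects which detects nonzero morphisms. -/
def Detects (P : ObjectProperty C) : Prop :=
  ∀ ⦃A B : C⦄ (f : A ⟶ B), f ≠ 0 → ∃ (G : C) (_ : P G) (p : G ⟶ A), p ≫ f ≠ 0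

/-- If `H^m(f)` is not mono, this is detected by a morphism from a shifted object of a
detecting class. -/
lemma exists_single_of_not_mono {P : ObjectProperty C} (hP : Detects P)
    {K L : DerivedCategory C} (f : K ⟶ L) (m : ℤ)
    (hf : ¬ Mono ((homologyFunctor C m).map f)) :
    ∃ (G : C) (_ : P G) (φ : (singleFunctor C m).obj G ⟶ K),
      (homologyFunctor C m).map φ ≠ 0 ∧ (homologyFunctor C m).map (φ ≫ f) = 0 := by
  obtain ⟨Z, ζ, hζ⟩ := exists_single_epi K m
  set g := (homologyFunctor C m).map f with hg
  have hk : kernel.ι g ≠ 0 := by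
    intro h
    exact hf (Preadditive.mono_of_isZero_kernel _
      ((IsZero.iff_id_eq_zero _).2 (by rw [← cancel_mono (kernel.ι g)]; simp [h])))
  let W := pullback ((homologyFunctor C m).map ζ) (kernel.ι g)
  have h1 : pullback.fst ((homologyFunctor C m).map ζ) (kernel.ι g) ≫
      (homologyFunctor C m).map ζ ≠ 0 := by
    rw [pullback.condition]
    intro h
    apply hk
    rw [← cancel_epi (pullback.snd ((homologyFunctor C m).map ζ) (kernel.ι g)), h, comp_zero]
  obtain ⟨G, hG, p, hp⟩ := hP _ h1
  let iso := (singleFunctorCompHomologyFunctorIso C m)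
  let p' : G ⟶ Z := p ≫ pullback.fst ((homologyFunctor C m).map ζ) (kernel.ι g) ≫ iso.hom.app Z
  have hp' : (homologyFunctor C m).map ((singleFunctor C m).map p') =
      iso.hom.app G ≫ p ≫ pullback.fst ((homologyFunctor C m).map ζ) (kernel.ι g) := by
    have := iso.hom.naturality p'
    dsimp at this
    rw [← cancel_mono (iso.hom.app Z), this]
    simp [p']
  have hφ : (homologyFunctor C m).map ((singleFunctor C m).map p' ≫ ζ) =
      iso.hom.app G ≫ p ≫ pullback.fst ((homologyFunctor C m).map ζ) (kernel.ι g) ≫
        (homologyFunctor C m).map ζ := by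
    rw [Functor.map_comp, hp']
    simp
  refine ⟨G, hG, (singleFunctor C m).map p' ≫ ζ, ?_, ?_⟩
  · rw [hφ]
    intro h
    apply hp
    rw [← cancel_epi (iso.hom.app G), h, comp_zero]
  · rw [Functor.map_comp, hφ, assoc, assoc, assoc, ← hg]
    rw [reassoc_of% (pullback.condition (f := (homologyFunctor C m).map ζ) (g := kernel.ι g))]
    simp

/-- Devissage: maps from `X` to a bounded complex `K` vanish if all maps from `X` to the shifted
cohomology objects do. -/
lemma hom_eq_zero_of_bounded (X : DerivedCategory C) (n : ℕ) :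
    ∀ (a b : ℤ) (_ : b + 1 - a ≤ n) (K : DerivedCategory C) (_ : K.IsGE a) (_ : K.IsLE b)
    (_ : ∀ (q : ℤ) (φ : X ⟶ (singleFunctor C q).obj ((homologyFunctor C q).obj K)), φ = 0)
    (φ : X ⟶ K), φ = 0 := by
  induction n with
  | zero =>
    intro a b hab K _ _ _ φ
    have : IsZero K := tt.isZero K b a (by lia)
    exact this.eq_of_tgt _ _
  | succ n ih =>
    intro a b hab K hK₁ hK₂ h φ
    have hT := tt.triangleLTGE_distinguished (a + 1) K
    -- the upper part
    have hup : φ ≫ (tt.truncGEπ (a + 1)).app K = 0 := by
      refine ih (a + 1) b (by lia) ((tt.truncGE (a + 1)).obj K) inferInstance inferInstance ?_ _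
      intro q ψ
      by_cases hq : a + 1 ≤ q
      · have := isIso_homology_truncGEπ K (a + 1) q hq
        have e := (singleFunctor C q).mapIso (asIso ((homologyFunctor C q).map
          ((tt.truncGEπ (a + 1)).app K)))
        have := h q (ψ ≫ e.inv)
        rw [← cancel_mono e.inv, this, zero_comp]
      · have hz : IsZero ((homologyFunctor C q).obj ((tt.truncGE (a + 1)).obj K)) :=
          isZero_of_isGE _ (a + 1) q (by lia)
        exact ((singleFunctor C q).map_isZero hz).eq_of_tgt _ _
    obtain ⟨g, hg⟩ : ∃ g : X ⟶ (tt.truncLT (a + 1)).obj K,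
        φ = g ≫ (tt.truncLTι (a + 1)).app K := Triangle.coyoneda_exact₂ _ hT φ hup
    have hlow : g = 0 := by
      have hLE : ((tt.truncLT (a + 1)).obj K).IsLE a := inferInstance
      have hGE : ((tt.truncLT (a + 1)).obj K).IsGE a := by
        rw [isGE_iff]
        intro i hi
        have := isIso_homology_truncLTι K (a + 1) i (by lia)
        exact (isZero_of_isGE K a i hi).of_iso
          (asIso ((homologyFunctor C i).map ((tt.truncLTι (a + 1)).app K)))
      obtain ⟨Y, ⟨e⟩⟩ := exists_iso_singleFunctor_obj_of_isGE_of_isLE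
        ((tt.truncLT (a + 1)).obj K) a
      have := isIso_homology_truncLTι K (a + 1) a (by lia)
      let e' : Y ≅ (homologyFunctor C a).obj K :=
        (singleFunctorCompHomologyFunctorIso C a).symm.app Y ≪≫
          (homologyFunctor C a).mapIso e.symm ≪≫
          asIso ((homologyFunctor C a).map ((tt.truncLTι (a + 1)).app K))
      have h0 := h a (g ≫ e.hom ≫ (singleFunctor C a).map e'.hom)
      rw [← cancel_mono (e.hom ≫ (singleFunctor C a).map e'.hom), h0, zero_comp]
    rw [hg, hlow, zero_comp]

end Groth.Agent.PerfA.PostAbs
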