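import Groth.Agent.PerfA.CohomIn
import Groth.Agent.PerfA.PostAbs
import Mathlib.CategoryTheory.Triangulated.Functor

/-!
# Approximating bounded complexes with quasi-coherent cohomology by complexes with coherent cohomology
(abstract form)

`A`, `B` abelian categories, `F : A ⥤ B` exact, `QC` ("quasi-coherent"), `CO` ("coherent") classes of objects of
`A` and `COB` a class of objects in `B`.  If every quasi-coherent `M` with `F M` coherent receives a map from a coherent
`QC`-acyclic `E` which becomes an epimorphism after applying `F`, then every bounded `G` with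
quasi-coherent cohomology and such that `F G` has coherent cohomology receives a map from an `L` bounded with
coherent cohomology which becomes an isomorphism after applying `F`.
-/

set_option autoImplicit false

universe w v u w' v' u'

open CategoryTheory Category Limits Pretriangulated DerivedCategory
open scoped ZeroObject

namespace Groth.Agent.PerfA.BdCohAbs

open Groth.Agent.PerfA.CohomIn Groth.Agent.PerfA.PostAbs

variable {A : Type u} [Category.{v} A] [Abelian A] [HasDerivedCategory.{w} A]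
  {B : Type u'} [Category.{v'} B] [Abelian B] [HasDerivedCategory.{w'} B]

/-- Lifting a map `E ⟶ H^b(K)` to `S_b E ⟶ K` if `K` is bounded, `≤ b`, with quasi-coherent cohomology and
`E` is acyclic for quasi-coherent objects. -/
theorem exists_lift (QC : ObjectProperty A) [QC.IsClosedUnderIsomorphisms] [QC.ContainsZero] (E : A)
    (hE : ∀ (N : A), QC N → ∀ m n : ℤ, n < m →
      ∀ φ : (singleFunctor A m).obj E ⟶ (singleFunctor A n).obj N, φ = 0)
    (K : DerivedCategory A) (hK : coh QC K) (a b : ℤ) [K.IsGE a] [K.IsLE b]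
    (g : E ⟶ (homologyFunctor A b).obj K) :
    ∃ φ : (singleFunctor A b).obj E ⟶ K,
      (homologyFunctor A b).map φ = (singleFunctorCompHomologyFunctorIso A b).hom.app E ≫ g := by
  have hT := tt.triangleLTGE_distinguished b K
  have h1 := isIso_homology_truncGEπ K b b le_rfl
  have hLE : ((tt.truncGE b).obj K).IsLE b := by
    rw [isLE_iff]
    intro i hi
    have := isIso_homology_truncGEπ K b i (by lia)
    exact (isZero_of_isLE K b i hi).of_iso
      (asIso ((homologyFunctor A i).map ((tt.truncGEπ b).app K))).symm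
  obtain ⟨Y, ⟨e⟩⟩ := exists_iso_singleFunctor_obj_of_isGE_of_isLE ((tt.truncGE b).obj K) b
  let i := singleFunctorCompHomologyFunctorIso A b
  have hnat : ∀ {Z : A} (g : E ⟶ Z), (homologyFunctor A b).map ((singleFunctor A b).map g) =
      i.hom.app E ≫ g ≫ i.inv.app Z := by
    intro Z g
    have := i.hom.naturality g
    dsimp at this
    rw [← cancel_mono (i.hom.app Z), this]
    simp
  let g' : E ⟶ Y := g ≫ (homologyFunctor A b).map ((tt.truncGEπ b).app K) ≫
    (homologyFunctor A b).map e.hom ≫ i.hom.app Y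
  let ψ : (singleFunctor A b).obj E ⟶ (tt.truncGE b).obj K := (singleFunctor A b).map g' ≫ e.inv
  have hψ : (homologyFunctor A b).map ψ = i.hom.app E ≫ g ≫
      (homologyFunctor A b).map ((tt.truncGEπ b).app K) := by
    dsimp only [ψ]
    rw [Functor.map_comp, hnat]
    simp [g', ← Functor.map_comp]
  have hzero : ψ ≫ ((tt.triangleLTGE b).obj K).mor₃ = 0 := by
    have hLT : ((tt.truncLT b).obj K).IsLE (b - 1) := inferInstance
    have hGE : ((tt.truncLT b).obj K).IsGE a := by
      rw [isGE_iff]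
      intro i hi
      by_cases hib : i < b
      · have := isIso_homology_truncLTι K b i hib
        exact (isZero_of_isGE K a i hi).of_iso
          (asIso ((homologyFunctor A i).map ((tt.truncLTι b).app K)))
      · exact isZero_of_isLE _ (b - 1) i (by lia)
    have hLT' : (((tt.truncLT b).obj K)⟦(1 : ℤ)⟧).IsLE (b - 2) :=
      tt.isLE_shift _ (b - 1) 1 (b - 2) (by lia)
    have hGE' : (((tt.truncLT b).obj K)⟦(1 : ℤ)⟧).IsGE (a - 1) :=
      tt.isGE_shift _ a 1 (a - 1) (by lia)
    refine hom_eq_zero_of_bounded ((singleFunctor A b).obj E) (b - 2 + 1 - (a - 1)).toNat (a - 1) (b - 2)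
      (Int.self_le_toNat _) _ hGE' hLT' ?_ _
    intro q φ
    by_cases hq : q < b
    · refine hE _ ?_ b q hq φ
      exact (coh QC).le_shift (1 : ℤ) _ (coh_truncLT QC K b hK) q
    · have hz : IsZero ((homologyFunctor A q).obj (((tt.truncLT b).obj K)⟦(1 : ℤ)⟧)) :=
        isZero_of_isLE _ (b - 2) q (by lia)
      exact ((singleFunctor A q).map_isZero hz).eq_of_tgt _ _
  obtain ⟨φ, hφ⟩ : ∃ φ : (singleFunctor A b).obj E ⟶ K, ψ = φ ≫ (tt.truncGEπ b).app K :=
    Triangle.coyoneda_exact₃ _ hT ψ hzero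
  refine ⟨φ, ?_⟩
  rw [← cancel_mono ((homologyFunctor A b).map ((tt.truncGEπ b).app K)), ← Functor.map_comp,
    ← hφ, hψ, Category.assoc]

omit [HasDerivedCategory A] in
/-- Variant of `prop_middle`: the class need not contain the fifth term, only the kernel of the last map. -/
theorem prop_middle_kernel (P : ObjectProperty A) [P.IsClosedUnderIsomorphisms]
    [P.IsClosedUnderCokernels] [P.IsClosedUnderExtensions]
    {X₁ X₂ X₃ X₄ X₅ : A} (f : X₁ ⟶ X₂) (g : X₂ ⟶ X₃) (h : X₃ ⟶ X₄) (k : X₄ ⟶ X₅)
    (w₁ : f ≫ g = 0) (w₂ : g ≫ h = 0) (w₃ : h ≫ k = 0) (e₁ : (ShortComplex.mk f g w₁).Exact)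
    (e₂ : (ShortComplex.mk g h w₂).Exact) (e₃ : (ShortComplex.mk h k w₃).Exact)
    (h₁ : P X₁) (h₂ : P X₂) (h₄ : P (kernel k)) : P X₃ := by
  let S : ShortComplex A := ShortComplex.mk (cokernel.desc f g w₁) (kernel.lift k h w₃) (by
    rw [← cancel_mono (kernel.ι k), ← cancel_epi (cokernel.π f)]
    simp [w₂])
  have hm : Mono S.f := e₁.mono_cokernelDesc
  have he : Epi S.g := e₃.epi_kernelLift
  have hS : S.Exact := by
    let S' : ShortComplex A := ShortComplex.mk g (kernel.lift k h w₃) (by
      rw [← cancel_mono (kernel.ι k)]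
      simp [w₂])
    let φ : S' ⟶ ShortComplex.mk g h w₂ :=
      { τ₁ := 𝟙 _, τ₂ := 𝟙 _, τ₃ := kernel.ι k }
    let ψ : S' ⟶ S :=
      { τ₁ := cokernel.π f, τ₂ := 𝟙 _, τ₃ := 𝟙 _ }
    have : Epi φ.τ₁ := by dsimp [φ]; infer_instance
    have : IsIso φ.τ₂ := by dsimp [φ]; infer_instance
    have : Mono φ.τ₃ := by dsimp [φ]; infer_instance
    have : Epi ψ.τ₁ := by dsimp [ψ]; infer_instance
    have : IsIso ψ.τ₂ := by dsimp [ψ]; infer_instance
    have : Mono ψ.τ₃ := by dsimp [ψ]; infer_instance
    rw [← ShortComplex.exact_iff_of_epi_of_isIso_of_mono ψ,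
      ShortComplex.exact_iff_of_epi_of_isIso_of_mono φ]
    exact e₂
  exact P.prop_X₂_of_shortExact (ShortComplex.ShortExact.mk' hS hm he)
    (P.prop_cokernel f h₁ h₂) h₄

section Functor

variable (F : A ⥤ B) [F.Additive] [PreservesFiniteLimits F] [PreservesFiniteColimits F]

lemma isIso_mapDerivedCategory_iff {K L : DerivedCategory A} (φ : K ⟶ L) :
    IsIso (F.mapDerivedCategory.map φ) ↔ ∀ i : ℤ, IsIso (F.map ((homologyFunctor A i).map φ)) := by
  rw [DerivedCategory.isIso_iff]
  refine forall_congr' fun i => ?_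
  exact NatIso.isIso_map_iff (ExactD.mapHomology F i) φ

lemma coh_map_iff (P : ObjectProperty B) [P.IsClosedUnderIsomorphisms] (K : DerivedCategory A) :
    coh P (F.mapDerivedCategory.obj K) ↔ ∀ i : ℤ, P (F.obj ((homologyFunctor A i).obj K)) :=
  forall_congr' fun i => P.prop_iff_of_iso ((ExactD.mapHomology F i).app K)

end Functor

/-- A map with cone computed in low degrees: bounds for the third vertex of a triangle `X ⟶ K ⟶ C ⟶ X[1]`. -/
lemma isGE₃ (T : Triangle (DerivedCategory A)) (hT : T ∈ distTriang (DerivedCategory A)) (n : ℤ)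
    (h₁ : T.obj₁.IsGE (n + 1)) (h₂ : T.obj₂.IsGE n) : T.obj₃.IsGE n :=
  tt.isGE₂ T.rotate (rot_of_distTriang _ hT) n h₂ (tt.isGE_shift _ (n + 1) 1 n (by lia))

lemma isLE₃ (T : Triangle (DerivedCategory A)) (hT : T ∈ distTriang (DerivedCategory A)) (n : ℤ)
    (h₁ : T.obj₁.IsLE (n + 1)) (h₂ : T.obj₂.IsLE n) : T.obj₃.IsLE n :=
  tt.isLE₂ T.rotate (rot_of_distTriang _ hT) n h₂ (tt.isLE_shift _ (n + 1) 1 n (by lia))

section Main

variable (F : A ⥤ B) [F.Additive] [PreservesFiniteLimits F] [PreservesFiniteColimits F]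
  (QC CO : ObjectProperty A) (COB : ObjectProperty B)
  [QC.IsClosedUnderIsomorphisms] [QC.ContainsZero] [QC.IsClosedUnderKernels]
  [QC.IsClosedUnderCokernels] [QC.IsClosedUnderExtensions]
  [CO.IsClosedUnderIsomorphisms] [CO.ContainsZero] [CO.IsClosedUnderKernels]
  [CO.IsClosedUnderCokernels] [CO.IsClosedUnderExtensions]
  [COB.IsClosedUnderIsomorphisms] [COB.ContainsZero] [COB.IsClosedUnderKernels]
  [COB.IsClosedUnderCokernels] [COB.IsClosedUnderExtensions]

theorem exists_approx_aux
    (hCQ : ∀ M : A, CO M → QC M)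
    (hsub : ∀ (K E : A) (i : K ⟶ E), Mono i → QC K → CO E → CO K)
    (hCOF : ∀ M : A, CO M → COB (F.obj M))
    (hgen : ∀ M : A, QC M → COB (F.obj M) → ∃ (E : A) (g : E ⟶ M), CO E ∧ Epi (F.map g) ∧
      ∀ (N : A), QC N → ∀ m n : ℤ, n < m →
        ∀ φ : (singleFunctor A m).obj E ⟶ (singleFunctor A n).obj N, φ = 0)
    (a : ℤ) (n : ℕ) : ∀ (b : ℤ) (_ : b - a + 1 ≤ n) (K : DerivedCategory A) (a' : ℤ)
      (_ : K.IsGE a') (_ : K.IsLE b) (_ : coh QC K) (_ : coh COB (F.mapDerivedCategory.obj K))
      (_ : ∀ i : ℤ, i < a → CO ((homologyFunctor A i).obj K)),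
      ∃ (L : DerivedCategory A) (φ : L ⟶ K), coh CO L ∧ (∃ c d : ℤ, L.IsGE c ∧ L.IsLE d) ∧
        IsIso (F.mapDerivedCategory.map φ) := by
  induction n with
  | zero =>
    intro b hb K a' hK₁ hK₂ hK hFK hlow
    refine ⟨K, 𝟙 K, ?_, ⟨a', b, hK₁, hK₂⟩, inferInstance⟩
    intro i
    by_cases hi : i < a
    · exact hlow i hi
    · exact CO.prop_of_isZero (isZero_of_isLE K b i (by push_cast at hb; lia))
  | succ n ih =>
    intro b hb K a' hK₁ hK₂ hK hFK hlow
    obtain ⟨E, g, hE, hg, hEac⟩ := hgen _ (hK b) ((coh_map_iff F COB K).1 hFK b)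
    obtain ⟨φ₀, hφ₀⟩ := exists_lift QC E hEac K hK a' b g
    obtain ⟨C, p, δ, hT⟩ := distinguished_cocone_triangle φ₀
    have hSE : coh CO ((singleFunctor A b).obj E) := coh_single CO E hE b
    have hSEQ : coh QC ((singleFunctor A b).obj E) := coh_single QC E (hCQ E hE) b
    have hCQC : coh QC C := (coh QC).ext_of_isTriangulatedClosed₃ _ hT hSEQ hK
    have hCLE : C.IsLE b := isLE₃ _ hT b
      (tt.isLE_of_le ((singleFunctor A b).obj E) b (b + 1) (by lia)) hK₂
    let a₁ := min a' (b - 1)
    have hCGE : C.IsGE a₁ := isGE₃ _ hT a₁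
      (tt.isGE_of_ge ((singleFunctor A b).obj E) (a₁ + 1) b (by have := min_le_right a' (b - 1); lia))
      (tt.isGE_of_ge K a₁ a' (min_le_left _ _))
    -- the exact sequence
    have hex₂ := fun i => HomologySequence.exact₂ _ hT i
    have hex₃ := fun i => HomologySequence.exact₃ _ hT i (i + 1) rfl
    have hex₁ := fun i => HomologySequence.exact₁ _ hT i (i + 1) rfl
    have hCOC : ∀ i : ℤ, i < a → CO ((homologyFunctor A i).obj C) := by
      intro i hi
      refine prop_middle_kernel CO _ _ _ _ _ _ _ (hex₂ i) (hex₃ i) (hex₁ i) (hSE i) (hlow i hi) ?_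
      exact hsub _ _ (kernel.ι _) inferInstance (QC.prop_kernel _ (hSEQ _) (hK _)) (hSE _)
    let C' := (tt.truncLT b).obj C
    let ι : C' ⟶ C := (tt.truncLTι b).app C
    have hC'LE : C'.IsLE (b - 1) := inferInstanceAs (((tt.truncLT b).obj C).IsLE (b - 1))
    have hC'GE : C'.IsGE a₁ := by
      rw [isGE_iff]
      intro i hi
      by_cases hib : i < b
      · have := isIso_homology_truncLTι C b i hib
        exact (isZero_of_isGE C a₁ i hi).of_iso
          (asIso ((homologyFunctor A i).map ((tt.truncLTι b).app C)))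
      · exact isZero_of_isLE _ (b - 1) i (by lia)
    have hFSE : coh COB (F.mapDerivedCategory.obj ((singleFunctor A b).obj E)) :=
      (coh_map_iff F COB _).2 fun i => hCOF _ (hSE i)
    have hFT := F.mapDerivedCategory.map_distinguished _ hT
    have hFC : coh COB (F.mapDerivedCategory.obj C) :=
      (coh COB).ext_of_isTriangulatedClosed₃ _ hFT hFSE hFK
    have hzero : IsZero (F.obj ((homologyFunctor A b).obj C)) := by
      have he : Epi ((homologyFunctor A b).map p) := by
        refine (HomologySequence.epi_homologyMap_mor₂_iff _ hT b (b + 1) rfl).2 ?_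
        exact (isZero_of_isLE ((singleFunctor A b).obj E) b (b + 1) (by lia)).eq_of_tgt _ _
      have hz : (homologyFunctor A b).map φ₀ ≫ (homologyFunctor A b).map p = 0 := by
        rw [← Functor.map_comp]
        have : φ₀ ≫ p = 0 := comp_distTriang_mor_zero₁₂ _ hT
        rw [this, Functor.map_zero]
      have he' : Epi (F.map ((homologyFunctor A b).map φ₀)) := by
        rw [hφ₀, Functor.map_comp]
        exact epi_comp _ _
      have hz' : F.map ((homologyFunctor A b).map p) = 0 := by
        rw [← cancel_epi (F.map ((homologyFunctor A b).map φ₀)), ← Functor.map_comp, hz, Functor.map_zero,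
          comp_zero]
      have he'' : Epi (F.map ((homologyFunctor A b).map p)) := inferInstance
      rw [IsZero.iff_id_eq_zero, ← cancel_epi (F.map ((homologyFunctor A b).map p)), hz', zero_comp, zero_comp]
    have hιiso : IsIso (F.mapDerivedCategory.map ι) := by
      rw [isIso_mapDerivedCategory_iff]
      intro i
      by_cases hi : i < b
      · have : IsIso ((homologyFunctor A i).map ι) := isIso_homology_truncLTι C b i hi
        infer_instance
      · have h1 : IsZero ((homologyFunctor A i).obj C') := isZero_of_isLE _ (b - 1) i (by lia)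
        have h2 : IsZero (F.obj ((homologyFunctor A i).obj C)) := by
          by_cases hi' : i = b
          · subst hi'; exact hzero
          · exact F.map_isZero (isZero_of_isLE C b i (by lia))
        exact isIso_of_source_target_iso_zero _ (F.map_isZero h1).isoZero h2.isoZero
    obtain ⟨L', φ', hL', ⟨c, d, hc, hd⟩, hφ'⟩ := ih (b - 1) (by push_cast at hb; lia) C' a₁ hC'GE hC'LE
      (coh_truncLT QC C b hCQC)
      ((coh COB).prop_of_iso (@asIso _ _ _ _ _ hιiso).symm hFC)
      (fun i hi => by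
        by_cases hib : i < b
        · have := isIso_homology_truncLTι C b i hib
          exact CO.prop_of_iso (asIso ((homologyFunctor A i).map ((tt.truncLTι b).app C))).symm (hCOC i hi)
        · exact CO.prop_of_isZero (isZero_of_isLE _ (b - 1) i (by lia)))
    obtain ⟨L, f, q, hT'⟩ := distinguished_cocone_triangle₂ (φ' ≫ ι ≫ δ)
    have hcomm : (φ' ≫ ι ≫ δ) ≫ (𝟙 ((singleFunctor A b).obj E))⟦(1 : ℤ)⟧' = (φ' ≫ ι) ≫ δ := by
      rw [CategoryTheory.Functor.map_id, Category.comp_id, Category.assoc]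
    obtain ⟨φ, hφ₁, hφ₂⟩ := complete_distinguished_triangle_morphism₂ (Triangle.mk f q (φ' ≫ ι ≫ δ))
      (Triangle.mk φ₀ p δ) hT' hT (𝟙 ((singleFunctor A b).obj E)) (φ' ≫ ι) hcomm
    refine ⟨L, φ, (coh CO).ext_of_isTriangulatedClosed₂ _ hT' hSE hL', ?_, ?_⟩
    · refine ⟨min b c, max b d, ?_, ?_⟩
      · exact tt.isGE₂ _ hT' _ (tt.isGE_of_ge ((singleFunctor A b).obj E) _ b (min_le_left _ _))
          (tt.isGE_of_ge L' _ c (min_le_right _ _))
      · exact tt.isLE₂ _ hT' _ (tt.isLE_of_le ((singleFunctor A b).obj E) b _ (le_max_left _ _))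
          (tt.isLE_of_le L' d _ (le_max_right _ _))
    · let Φ : Triangle.mk f q (φ' ≫ ι ≫ δ) ⟶ Triangle.mk φ₀ p δ :=
        Triangle.homMk _ _ (𝟙 ((singleFunctor A b).obj E)) φ (φ' ≫ ι) hφ₁ hφ₂ hcomm
      exact isIso₂_of_isIso₁₃ (F.mapDerivedCategory.mapTriangle.map Φ)
        (F.mapDerivedCategory.map_distinguished _ hT') hFT
        (inferInstanceAs (IsIso (F.mapDerivedCategory.map (𝟙 _))))
        (by
          change IsIso (F.mapDerivedCategory.map (φ' ≫ ι))
          rw [Functor.map_comp]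
          infer_instance)

end Main

end Groth.Agent.PerfA.BdCohAbs
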