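import Groth.Agent.LoccohB.FlatDual
import Groth.Agent.S0366
import Groth.Agent.Ega4C.SupportLoc
import Mathlib.RingTheory.KrullDimension.Module

/-!
# Dualizing complexes normalized at a maximal ideal: bounds for the cohomology modules
-/

set_option autoImplicit false
universe u
open CategoryTheory Limits DerivedCategory
open Groth.Agent.LoccohB.HomBC Groth.Agent.LoccohB.FlatLBC Groth.Agent.LoccohB.FlatDual
open scoped TensorProduct

namespace Groth.Agent.PerfA.DualLoc

attribute [local instance] HasDerivedCategory.standard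

variable {A : Type u} [CommRing A] [IsNoetherianRing A] (ω : Dual.D A)
  (hω : Dual.IsDualizing A ω) (m : Ideal A) [m.IsMaximal]
  (hm : ∀ i : ℤ, i ≠ 0 → Subsingleton (Dual.inD A (A ⧸ m) ⟶ ω⟦i⟧))

include hω hm

/-- The localization at `m` of a dualizing complex normalized at `m`. -/
theorem exists_localization : ∃ ω' : Dual.D (Localization.AtPrime m),
    Dual.IsDualizing _ ω' ∧ Dual.IsNormalized _ ω' ∧
    ∀ i, Nonempty (Localization.AtPrime m ⊗[A] Dual.HD A ω i ≃ₗ[Localization.AtPrime m]
      Dual.HD (Localization.AtPrime m) ω' i) := by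
  let B := Localization.AtPrime m
  have h : (algebraMap A B).Flat :=
    (RingHom.flat_algebraMap_iff).2 (IsLocalization.flat _ m.primeCompl)
  have hmax : m.map (algebraMap A B) = IsLocalRing.maximalIdeal B :=
    Localization.AtPrime.map_eq_maximalIdeal
  obtain ⟨a, b, _, _, hab⟩ := exists_bounds_of_isDualizing hω
  refine ⟨(flatBC (algebraMap A B) h).obj ω, ?_, ?_, ?_⟩
  · refine isDualizing_flatBC_of_maximal h ω hω fun J hJ => ⟨m, ?_⟩
    rw [hmax, IsLocalRing.eq_maximalIdeal hJ]
  · intro i hi
    have h1 := subsingleton_quot h ω a m i (hm i hi)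
    rw [hmax] at h1
    exact h1
  · intro i
    exact ⟨flatHDEquiv B h ω i⟩

omit hm hω in
omit [IsNoetherianRing A] in
/-- Bounds for a normalized dualizing complex of a local ring. -/
theorem local_bounds {B : Type u} [CommRing B] [IsLocalRing B] [IsNoetherianRing B] (ω' : Dual.D B)
    (h1 : Dual.IsDualizing B ω') (h2 : Dual.IsNormalized B ω') (d : ℕ) (hd : ringKrullDim B = d)
    (i : ℤ) : (Nontrivial (Dual.HD B ω' i) → -(d : ℤ) ≤ i ∧ i ≤ 0) ∧
      Module.supportDim B (Dual.HD B ω' i) ≤ ((-i).toNat : WithBot ℕ∞) := by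
  obtain ⟨h3, h4⟩ := S0366.result B ω' h1 h2 B d
    ((Module.supportDim_self_eq_ringKrullDim B).trans hd) i
  let e : (Dual.inD B B ⟶ ω'⟦i⟧) ≃ₗ[B] Dual.HD B ω' i := homShiftEquivHD i ω'
  constructor
  · intro h
    exact h3 (e.toEquiv.nontrivial_congr.2 h)
  · rwa [Module.supportDim, ← e.support_eq]

omit hω hm in
omit [IsNoetherianRing A] in
/-- Localizing a chain of primes in the support of a module at its top element. -/
theorem exists_localized_chain (M : Type u) [AddCommGroup M] [Module A M]
    (M' : Type u) [AddCommGroup M'] [Module (Localization.AtPrime m) M']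
    (e : Localization.AtPrime m ⊗[A] M ≃ₗ[Localization.AtPrime m] M')
    (s : LTSeries (PrimeSpectrum A)) (hs : s.last.asIdeal = m) (hmem : s.head ∈ Module.support A M) :
    ∃ t : LTSeries (Module.support (Localization.AtPrime m) M'), t.length = s.length := by
  let B := Localization.AtPrime m
  have hle : ∀ j, s j ≤ ⟨m, inferInstance⟩ := fun j => by
    change (s j).asIdeal ≤ m
    rw [← hs]; exact s.monotone (Fin.le_last j)
  let q : Fin (s.length + 1) → PrimeSpectrum B :=
    fun j => (IsLocalization.AtPrime.primeSpectrumOrderIso B m).symm ⟨s j, hle j⟩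
  have hq : StrictMono q := fun j k hjk =>
    (IsLocalization.AtPrime.primeSpectrumOrderIso B m).symm.strictMono (s.strictMono hjk)
  have hc : ∀ j, PrimeSpectrum.comap (algebraMap A B) (q j) = s j := fun j => by
    have := congrArg Subtype.val
      ((IsLocalization.AtPrime.primeSpectrumOrderIso B m).apply_symm_apply ⟨s j, hle j⟩)
    exact this
  have hq0 : q 0 ∈ Module.support B M' := by
    rw [← ((LocalizedModule.equivTensorProduct m.primeCompl M).trans e).support_eq]
    rw [Ega4C.SupportLoc.mem_support_localizedModule_iff]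
    erw [hc 0]
    exact hmem
  have hqj : ∀ j, q j ∈ Module.support B M' := fun j =>
    Module.mem_support_mono (hq.monotone (Fin.zero_le j)) hq0
  exact ⟨{ length := s.length, toFun := fun j => ⟨q j, hqj j⟩,
           step := fun j => hq (Fin.castSucc_lt_succ) }, rfl⟩

/-- Bounds along chains of primes ending at `m`. -/
theorem length_le (i : ℤ) (s : LTSeries (PrimeSpectrum A)) (hs : s.last.asIdeal = m)
    (hmem : s.head ∈ Module.support A (Dual.HD A ω i)) : (s.length : ℤ) ≤ -i := by
  obtain ⟨ω', h1, h2, h3⟩ := exists_localization ω hω m hm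
  obtain ⟨e⟩ := h3 i
  obtain ⟨t, ht⟩ := exists_localized_chain m _ _ e s hs hmem
  obtain ⟨d, hd⟩ : ∃ d : ℕ, ringKrullDim (Localization.AtPrime m) = d :=
    ⟨_, (Order.krullDim_eq_length_of_finiteDimensionalOrder (α := PrimeSpectrum _))⟩
  obtain ⟨h5, h6⟩ := local_bounds ω' h1 h2 d hd i
  have hnt : Nontrivial (Dual.HD (Localization.AtPrime m) ω' i) := by
    rw [← not_subsingleton_iff_nontrivial, ← Module.support_eq_empty_iff
      (R := Localization.AtPrime m)]
    intro h
    exact Set.eq_empty_iff_forall_notMem.1 h _ (t 0).2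
  obtain ⟨h7, h8⟩ := h5 hnt
  have h9 : (t.length : WithBot ℕ∞) ≤ ((-i).toNat : WithBot ℕ∞) :=
    (Order.LTSeries.length_le_krullDim t).trans h6
  rw [ht] at h9
  have h10 : s.length ≤ (-i).toNat := by exact_mod_cast h9
  omega

/-- The lower bound. -/
theorem neg_le (i : ℤ) (d : ℕ) (hd : ringKrullDim (Localization.AtPrime m) ≤ d)
    (hmem : (⟨m, inferInstance⟩ : PrimeSpectrum A) ∈ Module.support A (Dual.HD A ω i)) :
    -(d : ℤ) ≤ i := by
  obtain ⟨ω', h1, h2, h3⟩ := exists_localization ω hω m hm
  obtain ⟨e⟩ := h3 i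
  obtain ⟨t, ht⟩ := exists_localized_chain m _ _ e (RelSeries.singleton _ ⟨m, inferInstance⟩) rfl hmem
  obtain ⟨d', hd'⟩ : ∃ d : ℕ, ringKrullDim (Localization.AtPrime m) = d :=
    ⟨_, (Order.krullDim_eq_length_of_finiteDimensionalOrder (α := PrimeSpectrum _))⟩
  obtain ⟨h5, h6⟩ := local_bounds ω' h1 h2 d' hd' i
  have hnt : Nontrivial (Dual.HD (Localization.AtPrime m) ω' i) := by
    rw [← not_subsingleton_iff_nontrivial, ← Module.support_eq_empty_iff
      (R := Localization.AtPrime m)]
    intro h
    exact Set.eq_empty_iff_forall_notMem.1 h _ (t 0).2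
  have h10 : d' ≤ d := by
    rw [hd'] at hd
    exact_mod_cast hd
  have := (h5 hnt).1
  omega

end Groth.Agent.PerfA.DualLoc
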