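import Mathlib.CategoryTheory.Preadditive.AdditiveFunctor
import Mathlib.CategoryTheory.Adjunction.Basic

/-!
# Natural additive identifications `Hom(F V, Y) ≃ Hom(F' V, Y')`
-/

set_option autoImplicit false
universe v₀ v₁ v₂ v₃ u₀ u₁ u₂ u₃

open CategoryTheory

namespace Groth.Agent.PerfA

variable {C : Type u₀} [Category.{v₀} C] {T₁ : Type u₁} [Category.{v₁} T₁] [Preadditive T₁]
  {T₂ : Type u₂} [Category.{v₂} T₂] [Preadditive T₂]
  {T₃ : Type u₃} [Category.{v₃} T₃] [Preadditive T₃]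

/-- An additive isomorphism `Hom(F V, Y) ≃ Hom(F' V, Y')`, natural in `V`. -/
structure NatHom (F : C ⥤ T₁) (Y : T₁) (F' : C ⥤ T₂) (Y' : T₂) where
  /-- the isomorphism. -/
  equiv : ∀ V : C, (F.obj V ⟶ Y) ≃+ (F'.obj V ⟶ Y')
  naturality : ∀ {V W : C} (g : V ⟶ W) (x : F.obj W ⟶ Y),
    equiv V (F.map g ≫ x) = F'.map g ≫ equiv W x

namespace NatHom

/-- Inverse. -/
def symm {F : C ⥤ T₁} {Y : T₁} {F' : C ⥤ T₂} {Y' : T₂} (h : NatHom F Y F' Y') :
    NatHom F' Y' F Y where
  equiv V := (h.equiv V).symm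
  naturality g x := by
    rw [AddEquiv.symm_apply_eq, h.naturality, AddEquiv.apply_symm_apply]

/-- Composition. -/
def trans {F : C ⥤ T₁} {Y : T₁} {F' : C ⥤ T₂} {Y' : T₂} {F'' : C ⥤ T₃} {Y'' : T₃}
    (h : NatHom F Y F' Y') (h' : NatHom F' Y' F'' Y'') : NatHom F Y F'' Y'' where
  equiv V := (h.equiv V).trans (h'.equiv V)
  naturality g x := by
    change h'.equiv _ (h.equiv _ _) = _ ≫ h'.equiv _ (h.equiv _ _)
    rw [h.naturality, h'.naturality]

/-- Isomorphic functors and objects. -/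
def ofIso {F F' : C ⥤ T₁} (e : F ≅ F') {Y Y' : T₁} (i : Y ≅ Y') : NatHom F Y F' Y' where
  equiv V :=
    { toFun := fun x => e.inv.app V ≫ x ≫ i.hom
      invFun := fun x => e.hom.app V ≫ x ≫ i.inv
      left_inv := fun x => by simp
      right_inv := fun x => by simp
      map_add' := fun x y => by simp }
  naturality g x := by simp

/-- A functor which is bijective on the relevant Hom groups. -/
noncomputable def ofFunctor (F : C ⥤ T₁) (Y : T₁) (G : T₁ ⥤ T₂) [G.Additive]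
    (h : ∀ V : C, Function.Bijective (fun f : F.obj V ⟶ Y => G.map f)) :
    NatHom F Y (F ⋙ G) (G.obj Y) where
  equiv V := { Equiv.ofBijective (fun f : F.obj V ⟶ Y => G.map f) (h V) with
    map_add' := fun _ _ => G.map_add }
  naturality g x := G.map_comp _ _

/-- Fully faithful functors. -/
noncomputable def ofFullyFaithful (F : C ⥤ T₁) (Y : T₁) (G : T₁ ⥤ T₂) [G.Additive] [G.Full]
    [G.Faithful] : NatHom F Y (F ⋙ G) (G.obj Y) :=
  ofFunctor F Y G fun _ => ⟨G.map_injective, G.map_surjective⟩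

/-- Adjunctions. -/
noncomputable def ofAdj (F : C ⥤ T₁) {L : T₁ ⥤ T₂} {R : T₂ ⥤ T₁} [L.Additive] (adj : L ⊣ R)
    (Y : T₂) : NatHom F (R.obj Y) (F ⋙ L) Y where
  equiv V :=
    { (adj.homEquiv (F.obj V) Y).symm with
      map_add' := fun x y => by
        change (adj.homEquiv (F.obj V) Y).symm (x + y) =
          (adj.homEquiv (F.obj V) Y).symm x + (adj.homEquiv (F.obj V) Y).symm y
        simp [Adjunction.homEquiv_counit] }
  naturality g x := adj.homEquiv_naturality_left_symm _ _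

/-- Precomposition with a functor. -/
def precomp {D : Type*} [Category* D] (G : D ⥤ C) {F : C ⥤ T₁} {Y : T₁} {F' : C ⥤ T₂} {Y' : T₂}
    (h : NatHom F Y F' Y') : NatHom (G ⋙ F) Y (G ⋙ F') Y' where
  equiv V := h.equiv (G.obj V)
  naturality g x := h.naturality (G.map g) x

lemma subsingleton_iff {F : C ⥤ T₁} {Y : T₁} {F' : C ⥤ T₂} {Y' : T₂} (h : NatHom F Y F' Y')
    (V : C) : Subsingleton (F.obj V ⟶ Y) ↔ Subsingleton (F'.obj V ⟶ Y') :=
  (h.equiv V).toEquiv.subsingleton_congr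

end NatHom

end Groth.Agent.PerfA
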