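import Groth.Agent.PerfA.PointMod
import Groth.Agent.PerfA.NatHom
import Groth.Agent.S0997
import Groth.Agent.S0922
import Groth.Agent.PerfC.ExtZeroD
import Groth.Agent.Dcoh.DerSch
import Groth.Agent.LoccohB.AdjD
import Groth.Agent.PerfA.QCohD

/-!
# Morphisms out of skyscrapers at closed points
-/

set_option autoImplicit false
universe u v₀ u₀
open CategoryTheory CategoryTheory.Limits AlgebraicGeometry TopologicalSpace Opposite

namespace Groth.Agent.PerfA.PointHom
open AlgebraicGeometry.Scheme.Modules Groth.Agent.PerfA.QCohSerre Groth.Agent.PerfA.QCohExt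
  Groth.Agent.PerfA.PointMod Groth.Agent.PerfA.Restrict DerivedCategory

attribute [local instance] HasDerivedCategory.standard

section Rpush

variable {X Y : Scheme.{u}} (g : Y ⟶ X) [DCoh.HasRpush g] {C : Type (u + 1)} [Category.{u} C]
  (F : C ⥤ Y.Modules) (m : ℤ)

/-- Step 1 of `rpushSingleIso`. -/
noncomputable def step1 : (F ⋙ singleFunctor Y.Modules m) ⋙ DCoh.Rpush g ≅
    (F ⋙ CochainComplex.singleFunctor Y.Modules m ⋙ Q) ⋙ DCoh.Rpush g :=
  Functor.isoWhiskerRight (Functor.isoWhiskerLeft F (singleFunctorIsoCompQ Y.Modules m)) _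

/-- Step 2 of `rpushSingleIso`. -/
noncomputable def step2
    (hF : ∀ V, CochainComplex.IsKInjective ((CochainComplex.singleFunctor Y.Modules m).obj (F.obj V))) :
    (F ⋙ CochainComplex.singleFunctor Y.Modules m) ⋙ (Q ⋙ DCoh.Rpush g) ≅
      (F ⋙ CochainComplex.singleFunctor Y.Modules m) ⋙
        ((Scheme.Modules.pushforward g).mapHomologicalComplex (ComplexShape.up ℤ) ⋙ Q) :=
  have h : IsIso (Functor.whiskerLeft (F ⋙ CochainComplex.singleFunctor Y.Modules m)
      (Dcoh.DerSch.rpushUnitQ g)) := by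
    rw [NatTrans.isIso_iff_isIso_app]
    intro V
    exact Dcoh.DerSch.isIso_rpushUnitQ_app g _ (hF V)
  (asIso (Functor.whiskerLeft (F ⋙ CochainComplex.singleFunctor Y.Modules m)
      (Dcoh.DerSch.rpushUnitQ g))).symm

/-- Step 3 of `rpushSingleIso`. -/
noncomputable def step3 : CochainComplex.singleFunctor Y.Modules m ⋙
      (Scheme.Modules.pushforward g).mapHomologicalComplex (ComplexShape.up ℤ) ⋙ Q ≅
    Scheme.Modules.pushforward g ⋙ singleFunctor X.Modules m :=
  (Functor.isoWhiskerRight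
    (HomologicalComplex.singleMapHomologicalComplex (Scheme.Modules.pushforward g)
      (ComplexShape.up ℤ) m) Q) ≪≫
  Functor.isoWhiskerLeft (Scheme.Modules.pushforward g)
    (singleFunctorIsoCompQ X.Modules m).symm

/-- `Rg_*` of modules placed in degree `m` which are K-injective is computed by `g_*`. -/
noncomputable def rpushSingleIso
    (hF : ∀ V, CochainComplex.IsKInjective ((CochainComplex.singleFunctor Y.Modules m).obj (F.obj V))) :
    (F ⋙ singleFunctor Y.Modules m) ⋙ DCoh.Rpush g ≅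
      F ⋙ (Scheme.Modules.pushforward g ⋙ singleFunctor X.Modules m) :=
  step1 g F m ≪≫ (step2 g F m hF : _) ≪≫ Functor.isoWhiskerLeft F (step3 g m)

end Rpush

section Affine

theorem additive_tilde (R : CommRingCat.{u}) : (tilde.functor R).Additive := inferInstance
theorem preservesFiniteColimits_tilde (R : CommRingCat.{u}) :
    PreservesFiniteColimits (tilde.functor R) := inferInstance

variable {A : Type u} [CommRing A] {κ : Type u} [CommRing κ]
  (φ : CommRingCat.of A ⟶ CommRingCat.of κ)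

instance additive_tilde_of : (tilde.functor (CommRingCat.of A)).Additive := additive_tilde _
instance preservesFiniteLimits_tilde_of : PreservesFiniteLimits (tilde.functor (CommRingCat.of A)) :=
  Groth.Agent.PerfB.TildeExact.preservesFiniteLimits_tilde (CommRingCat.of A)
instance preservesFiniteColimits_tilde_of :
    PreservesFiniteColimits (tilde.functor (CommRingCat.of A)) := preservesFiniteColimits_tilde _

/-- The functor `V ↦ V` from `κ`-modules to complexes of `A`-modules concentrated in degree `m`. -/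
noncomputable abbrev resSingle (m : ℤ) : ModuleCat.{u} κ ⥤ Dual.D A :=
  ModuleCat.restrictScalars.{u} φ.hom ⋙ singleFunctor (ModuleCat.{u} A) m

/-- The functor `V ↦ e_* V~` to complexes of modules concentrated in degree `m`. -/
noncomputable abbrev skySingle {X : Scheme.{u}} (e : Spec (CommRingCat.of κ) ⟶ X) (m : ℤ) :
    ModuleCat.{u} κ ⥤ DCoh.D X :=
  tilde.functor (CommRingCat.of κ) ⋙ (Scheme.Modules.pushforward e ⋙ singleFunctor X.Modules m)

/-- Step 1 of `resSingleTildeIso`. -/
noncomputable def tstep1 (m : ℤ) : singleFunctor (ModuleCat.{u} A) m ⋙ DCoh.tildeD (CommRingCat.of A) ≅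
    tilde.functor (CommRingCat.of A) ⋙ singleFunctor (Spec (CommRingCat.of A)).Modules m :=
  ((tilde.functor (CommRingCat.of A)).mapDerivedCategorySingleFunctor m)

/-- Step 2 of `resSingleTildeIso`. -/
noncomputable def tstep2 : ModuleCat.restrictScalars.{u} φ.hom ⋙ tilde.functor (CommRingCat.of A) ≅
    tilde.functor (CommRingCat.of κ) ⋙ Scheme.Modules.pushforward (Spec.map φ) :=
  (tildePushIso φ).symm

/-- `tildeD` of `V` is `φ_* (V~)`. -/
noncomputable def resSingleTildeIso (m : ℤ) :
    resSingle φ m ⋙ DCoh.tildeD (CommRingCat.of A) ≅ skySingle (Spec.map φ) m :=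
  Functor.associator _ _ _ ≪≫
    Functor.isoWhiskerLeft (ModuleCat.restrictScalars.{u} φ.hom) (tstep1 m) ≪≫
    (Functor.associator _ _ _).symm ≪≫
    Functor.isoWhiskerRight (tstep2 φ) (singleFunctor (Spec (CommRingCat.of A)).Modules m) ≪≫
    Functor.associator _ _ _

/-- `(j_* M)|_U ≅ M`. -/
noncomputable def pushRestrictIso {X Y Z : Scheme.{u}} (g : Z ⟶ Y) (i : Y ⟶ X) [IsOpenImmersion i] :
    Scheme.Modules.pushforward (g ≫ i) ⋙ restrictFunctor i ≅ Scheme.Modules.pushforward g :=
  Functor.isoWhiskerRight (pushforwardComp g i).symm _ ≪≫ Functor.associator _ _ _ ≪≫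
    Functor.isoWhiskerLeft (Scheme.Modules.pushforward g) (asIso (restrictAdjunction i).counit) ≪≫
    Functor.rightUnitor _

/-- Step 1 of `skySingleRestrictIso`. -/
noncomputable def rstep1 {X Y : Scheme.{u}} (i : Y ⟶ X) [IsOpenImmersion i] (m : ℤ) :
    singleFunctor X.Modules m ⋙ restrictD i ≅ restrictFunctor i ⋙ singleFunctor Y.Modules m :=
  (restrictFunctor i).mapDerivedCategorySingleFunctor m

/-- Step 2 of `skySingleRestrictIso`. -/
noncomputable def rstep2 {X Y Z : Scheme.{u}} (g : Z ⟶ Y) (i : Y ⟶ X) [IsOpenImmersion i] (m : ℤ) :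
    (Scheme.Modules.pushforward (g ≫ i) ⋙ singleFunctor X.Modules m) ⋙ restrictD i ≅
      Scheme.Modules.pushforward g ⋙ singleFunctor Y.Modules m :=
  Functor.associator _ _ _ ≪≫
    Functor.isoWhiskerLeft (Scheme.Modules.pushforward (g ≫ i)) (rstep1 i m) ≪≫
    (Functor.associator _ _ _).symm ≪≫
    Functor.isoWhiskerRight (pushRestrictIso g i) (singleFunctor Y.Modules m)

/-- Restriction of `skySingle`. -/
noncomputable def skySingleRestrictIso {X Y : Scheme.{u}} (g : Spec (CommRingCat.of κ) ⟶ Y)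
    (i : Y ⟶ X) [IsOpenImmersion i] (m : ℤ) : skySingle (g ≫ i) m ⋙ restrictD i ≅ skySingle g m :=
  Functor.associator _ _ _ ≪≫
    Functor.isoWhiskerLeft (tilde.functor (CommRingCat.of κ)) (rstep2 g i m)

end Affine

section Support

open Groth.Agent.PerfC.Supp Groth.Agent.CohqB

variable {X Y : Scheme.{u}}

/-- Supports of push-forwards along morphisms with closed range. -/
lemma support_push_subset (e : Y ⟶ X) (hc : IsClosed (Set.range e)) (M : Y.Modules) :
    CohB1.support ((Scheme.Modules.pushforward e).obj M) ⊆ Set.range e := by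
  intro x hx
  by_contra h
  refine DevSupport.not_mem_support_of_sections _ ⟨(Set.range e)ᶜ, hc.isOpen_compl⟩
    (fun V hV => ?_) x h hx
  have hb : e ⁻¹ᵁ V = ⊥ := by
    rw [eq_bot_iff]
    intro y hy
    exact hV hy ⟨y, rfl⟩
  change Subsingleton Γ(M, e ⁻¹ᵁ V)
  rw [hb]
  exact (DevSupport.subsingleton_iff_isZero _).2 (isZero_sections_bot M)

/-- Supports of modules placed in one degree. -/
lemma supp_single_subset (M : X.Modules) (m i : ℤ) :
    supp ((singleFunctor X.Modules m).obj M) i ⊆ CohB1.support M := by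
  by_cases h : i = m
  · subst h
    exact (DevSupport.support_congr
      ((singleFunctorCompHomologyFunctorIso X.Modules i).app M)).le
  · have h0 : IsZero (DCoh.HD ((singleFunctor X.Modules m).obj M) i) := by
      by_cases h' : i < m
      · exact isZero_of_isGE _ m i h'
      · exact isZero_of_isLE _ m i (by omega)
    rw [supp, DevSupport.support_eq_empty_of_isZero h0]
    exact Set.empty_subset _

lemma supp_push_single_subset (e : Y ⟶ X) (hc : IsClosed (Set.range e)) (M : Y.Modules)
    (m i : ℤ) : supp ((singleFunctor X.Modules m).obj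
      ((Scheme.Modules.pushforward e).obj M)) i ⊆ Set.range e :=
  (supp_single_subset _ m i).trans (support_push_subset e hc M)

end Support

section Main

variable {A : Type u} [CommRing A] {κ : Type u} [CommRing κ]
  (φ : CommRingCat.of A ⟶ CommRingCat.of κ)

instance additive_tildeD : (DCoh.tildeD (CommRingCat.of A)).Additive := inferInstance

theorem full_tildeD : (DCoh.tildeD (CommRingCat.of A)).Full :=
  (S0997.result (CommRingCat.of A)).1
theorem faithful_tildeD : (DCoh.tildeD (CommRingCat.of A)).Faithful :=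
  (S0997.result (CommRingCat.of A)).2.1

/-- Morphisms out of the skyscraper `e_* V~`, `e : Spec κ ⟶ Spec A ⟶ X` with closed image, in
terms of the affine open `Spec A`. -/
noncomputable def natHomLocal {X : Scheme.{u}} (j : Spec (CommRingCat.of A) ⟶ X)
    [IsOpenImmersion j] (hc : IsClosed (Set.range (Spec.map φ ≫ j))) (K : DCoh.D X)
    (ω : Dual.D A) (e : (restrictD j).obj K ≅ (DCoh.tildeD (CommRingCat.of A)).obj ω) (m : ℤ) :
    NatHom (skySingle (Spec.map φ ≫ j) m) K (resSingle φ m) ω :=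
  have := full_tildeD (A := A)
  have := faithful_tildeD (A := A)
  (NatHom.ofFunctor (skySingle (Spec.map φ ≫ j) m) K (restrictD j) (fun V =>
    PerfC.ExtZeroD.bijective_restrictD_map j _ K (fun i =>
      (supp_push_single_subset (Spec.map φ ≫ j) hc _ m i).trans (by
        rintro _ ⟨y, rfl⟩
        exact ⟨Spec.map φ y, rfl⟩)))).trans
  ((NatHom.ofIso (skySingleRestrictIso (Spec.map φ) j m) e).trans
  ((NatHom.ofIso (resSingleTildeIso φ m).symm (Iso.refl _)).trans
    (NatHom.ofFullyFaithful (resSingle φ m) ω (DCoh.tildeD (CommRingCat.of A))).symm))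

end Main

section Adj

variable {X S : Scheme.{u}} (f : X ⟶ S) [DCoh.HasRpush f]

theorem additive_rpush : (DCoh.Rpush f).Additive := by
  let _ := Dcoh.DerSch.rpushCommShift f
  have := Dcoh.DerSch.rpush_isTriangulated f
  infer_instance

variable {C : Type (u + 1)} [Category.{u} C]
  (h : ∀ K : DCoh.D X, DCoh.IsQCohD K → DCoh.IsQCohD ((DCoh.Rpush f).obj K))
  (a : DCoh.DQCoh S ⥤ DCoh.DQCoh X)
  (adj : (ObjectProperty.lift DCoh.IsQCohD (ObjectProperty.ι DCoh.IsQCohD ⋙ DCoh.Rpush f)
    (fun K => h K.obj K.property)) ⊣ a)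

/-- The adjunction `Rf_* ⊣ a` on underlying objects. -/
noncomputable def natHomAdj (F : C ⥤ DCoh.D X) (hF : ∀ V, DCoh.IsQCohD (F.obj V))
    (K : DCoh.DQCoh S) : NatHom F (a.obj K).obj (F ⋙ DCoh.Rpush f) K.obj :=
  have := additive_rpush f
  { equiv := fun V =>
      { (LoccohB.AdjD.adjHom adj ⟨F.obj V, hF V⟩ K).symm with
        map_add' := fun x y => by
          have key : ∀ z : F.obj V ⟶ (a.obj K).obj,
              (LoccohB.AdjD.adjHom adj ⟨F.obj V, hF V⟩ K).symm z =
                (DCoh.Rpush f).map z ≫ (adj.counit.app K).hom := by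
            intro z
            let z' : (⟨F.obj V, hF V⟩ : DCoh.DQCoh X) ⟶ a.obj K := ObjectProperty.homMk z
            change ((adj.homEquiv _ K).symm z').hom = _
            rw [Adjunction.homEquiv_counit]
            rfl
          change (LoccohB.AdjD.adjHom adj ⟨F.obj V, hF V⟩ K).symm _ =
            (LoccohB.AdjD.adjHom adj ⟨F.obj V, hF V⟩ K).symm _ +
            (LoccohB.AdjD.adjHom adj ⟨F.obj V, hF V⟩ K).symm _
          rw [key, key, key, Functor.map_add, Preadditive.add_comp] }
    naturality := fun {V W} g x =>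
      LoccohB.AdjD.adjHom_symm_naturality_left adj (K' := ⟨F.obj V, hF V⟩)
        (K := ⟨F.obj W, hF W⟩) K (F.map g) x }

end Adj

section QCoh

theorem isQCoh_sky {κ : Type u} [CommRing κ] {A : Type u} [CommRing A]
    (φ : CommRingCat.of A ⟶ CommRingCat.of κ)
    {X : Scheme.{u}} (j : Spec (CommRingCat.of A) ⟶ X) [IsOpenImmersion j]
    (hc : IsClosed (Set.range (Spec.map φ ≫ j))) (V : ModuleCat.{u} κ) :
    Coh.IsQCoh ((Scheme.Modules.pushforward (Spec.map φ ≫ j)).obj
      ((tilde.functor (CommRingCat.of κ)).obj V)) := by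
  refine isQCoh_of_restrict _ fun x => ?_
  by_cases hx : x ∈ Set.range j
  · obtain ⟨y, rfl⟩ := hx
    refine ⟨_, j, inferInstance, y, rfl, ?_⟩
    refine isQCoh_of_iso ((pushRestrictIso (Spec.map φ) j).app _).symm ?_
    refine isQCoh_of_iso ((tstep2 φ).app V) ?_
    exact (spec_iff _ _).2 ⟨_, ⟨Iso.refl _⟩⟩
  · let U : X.Opens := ⟨(Set.range (Spec.map φ ≫ j))ᶜ, hc.isOpen_compl⟩
    have hxU : x ∈ U := by
      rintro ⟨y, hy⟩
      exact hx ⟨Spec.map φ y, hy⟩
    refine ⟨U, U.ι, inferInstance, ⟨x, hxU⟩, rfl, isQCoh_of_isZero ?_⟩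
    apply CohqB.DevSupport.isZero_of_support_eq_empty
    rw [PerfC.Supp.support_restrict, Set.eq_empty_iff_forall_notMem]
    intro y hy
    exact y.2 (support_push_subset (Spec.map φ ≫ j) hc _ hy)

theorem isQCohD_sky {κ : Type u} [CommRing κ] {A : Type u} [CommRing A]
    (φ : CommRingCat.of A ⟶ CommRingCat.of κ)
    {X : Scheme.{u}} (j : Spec (CommRingCat.of A) ⟶ X) [IsOpenImmersion j]
    (hc : IsClosed (Set.range (Spec.map φ ≫ j))) (V : ModuleCat.{u} κ) (m : ℤ) :
    DCoh.IsQCohD ((skySingle (Spec.map φ ≫ j) m).obj V) :=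
  QCohD.isQCohD_single _ (isQCoh_sky φ j hc V) m

end QCoh

section Final

variable {κ : Type u} [Field κ]

/-- `Rf_*` of a skyscraper `e_* V~`, `e : Spec κ ⟶ X`, `κ` a field. -/
noncomputable def skyRpushIso {X S : Scheme.{u}} (e : Spec (CommRingCat.of κ) ⟶ X) (f : X ⟶ S)
    [DCoh.HasRpush f] (m : ℤ) : skySingle e m ⋙ DCoh.Rpush f ≅ skySingle (e ≫ f) m :=
  have := Dcoh.DerSch.hasRpush e
  have := Dcoh.DerSch.hasRpush (e ≫ f)
  Functor.isoWhiskerRight (rpushSingleIso e (tilde.functor (CommRingCat.of κ)) m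
    (fun _ => isKInjective_single κ _ m)).symm _ ≪≫
  Functor.associator _ _ _ ≪≫
  Functor.isoWhiskerLeft _ (S0922.result e f).some ≪≫
  rpushSingleIso (e ≫ f) (tilde.functor (CommRingCat.of κ)) m
    (fun _ => isKInjective_single κ _ m)

variable {X S : Scheme.{u}} (f : X ⟶ S) [DCoh.HasRpush f]
  (h : ∀ K : DCoh.D X, DCoh.IsQCohD K → DCoh.IsQCohD ((DCoh.Rpush f).obj K))
  (a : DCoh.DQCoh S ⥤ DCoh.DQCoh X)
  (adj : (ObjectProperty.lift DCoh.IsQCohD (ObjectProperty.ι DCoh.IsQCohD ⋙ DCoh.Rpush f)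
    (fun K => h K.obj K.property)) ⊣ a)
  {A B : Type u} [CommRing A] [CommRing B]
  (j : Spec (CommRingCat.of A) ⟶ X) [IsOpenImmersion j]
  (i : Spec (CommRingCat.of B) ⟶ S) [IsOpenImmersion i]
  (φ : CommRingCat.of A ⟶ CommRingCat.of κ) (ψ : CommRingCat.of B ⟶ CommRingCat.of κ)
  (hfe : (Spec.map φ ≫ j) ≫ f = Spec.map ψ ≫ i)
  (hc : IsClosed (Set.range (Spec.map φ ≫ j))) (hc' : IsClosed (Set.range (Spec.map ψ ≫ i)))
  (K : DCoh.DQCoh S) (ω : Dual.D B) (ω' : Dual.D A)
  (e : (restrictD i).obj K.obj ≅ (DCoh.tildeD (CommRingCat.of B)).obj ω)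
  (e' : (restrictD j).obj (a.obj K).obj ≅ (DCoh.tildeD (CommRingCat.of A)).obj ω') (m : ℤ)

/-- Duality at a closed point: if `a` is right adjoint to `Rf_*` on `D_QCoh`, `x : Spec κ ⟶ Spec A ⊆ X`
a point (with closed image) over `y : Spec κ ⟶ Spec B ⊆ S` (with closed image), `K ∈ D_QCoh(S)` given
by `ω` on `Spec B` and `a(K)` given by `ω'` on `Spec A`, then `Hom_A(V[-m], ω') = Hom_B(V[-m], ω)`,
naturally in the `κ`-vector space `V`. -/
noncomputable def natHomPoint : NatHom (resSingle φ m) ω' (resSingle ψ m) ω :=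
  (natHomLocal φ j hc (a.obj K).obj ω' e' m).symm.trans
  ((natHomAdj f h a adj (skySingle (Spec.map φ ≫ j) m) (fun V => isQCohD_sky φ j hc V m) K).trans
  ((NatHom.ofIso (skyRpushIso (Spec.map φ ≫ j) f m ≪≫ eqToIso (by rw [hfe])) (Iso.refl _)).trans
    (natHomLocal ψ i hc' K.obj ω e m)))

end Final

end Groth.Agent.PerfA.PointHom
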