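import Groth.Agent.PerfA.TopDim
import Groth.Agent.PerfA.TildeSupp
import Groth.Agent.PerfA.DualLoc
import Groth.Agent.PerfA.PointHom
import Groth.Agent.PerfC.Supp
import Mathlib.RingTheory.Spectrum.Prime.Module

/-!
# Dimensions of supports of the cohomology sheaves of dualizing complexes normalized at all
closed points
-/

set_option autoImplicit false
universe u
open CategoryTheory CategoryTheory.Limits AlgebraicGeometry TopologicalSpace Opposite Topology

namespace Groth.Agent.PerfA.CohDim
open AlgebraicGeometry.Scheme.Modules Groth.Agent.PerfA.Restrict Groth.Agent.PerfA.TildeSupp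
  Groth.Agent.PerfA.PointHom Groth.Agent.PerfC.Supp Groth.Agent.CohqB DerivedCategory

attribute [local instance] HasDerivedCategory.standard

section Stalk

variable {A : Type u} [CommRing A]

theorem mem_support_tilde_iff (M : ModuleCat.{u} A) (y : PrimeSpectrum A) :
    (show Spec (CommRingCat.of A) from y) ∈ CohB1.support (tilde (R := CommRingCat.of A) M) ↔
      y ∈ Module.support A M := by
  rw [← not_iff_not, Module.notMem_support_iff']
  refine Iff.trans ?_ (isZero_stalk_tilde_iff (R := CommRingCat.of A) M y)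
  change ¬ ¬ _ ↔ _
  rw [not_not]
  constructor
  · intro h
    exact @AddCommGrpCat.isZero_of_subsingleton _ h
  · intro h
    exact AddCommGrpCat.subsingleton_of_isZero h

variable {X : Scheme.{u}} (K : DCoh.D X) (j : Spec (CommRingCat.of A) ⟶ X) [IsOpenImmersion j]
  (ω : Dual.D A) (e : (restrictD j).obj K ≅ (DCoh.tildeD (CommRingCat.of A)).obj ω)

include e

theorem mem_supp_iff (i : ℤ) (y : PrimeSpectrum A) :
    j (show Spec (CommRingCat.of A) from y) ∈ supp K i ↔ y ∈ Module.support A (Dual.HD A ω i) := by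
  have h1 : supp ((restrictD j).obj K) i = j ⁻¹' supp K i := supp_restrictD j K i
  have h2 : j (show Spec (CommRingCat.of A) from y) ∈ supp K i ↔
    (show Spec (CommRingCat.of A) from y) ∈ supp ((restrictD j).obj K) i := by rw [h1]; rfl
  rw [h2, ← mem_support_tilde_iff]
  have e2 : DCoh.HD ((restrictD j).obj K) i ≅
      tilde (R := CommRingCat.of A) ((homologyFunctor (ModuleCat.{u} A) i).obj ω) :=
    (homologyFunctor _ i).mapIso e ≪≫ HDtilde (R := CommRingCat.of A) ω i
  rw [← DevSupport.support_congr e2]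

end Stalk

section Main

variable {X : Scheme.{u}} (K : DCoh.D X)

/-- `K` is locally given by dualizing complexes, normalized at all closed points. -/
structure Hyp : Prop where
  exists_dual : ∀ (A : Type u) [CommRing A] (j : Spec (CommRingCat.of A) ⟶ X) [IsOpenImmersion j],
    ∃ ω : Dual.D A, Dual.IsDualizing A ω ∧
      Nonempty ((restrictD j).obj K ≅ (DCoh.tildeD (CommRingCat.of A)).obj ω)
  point : ∀ (A : Type u) [CommRing A] (j : Spec (CommRingCat.of A) ⟶ X) [IsOpenImmersion j]
    (ω : Dual.D A) (_ : (restrictD j).obj K ≅ (DCoh.tildeD (CommRingCat.of A)).obj ω)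
    (m : Ideal A) [m.IsMaximal] (y : Spec (CommRingCat.of A)) (_ : y.asIdeal = m)
    (_ : IsClosed ({j y} : Set X)) (i : ℤ) (_ : i ≠ 0),
    Subsingleton (Dual.inD A (A ⧸ m) ⟶ ω⟦i⟧)

variable {K}

/-- Charts at closed points. -/
theorem Hyp.exists_chart (hK : Hyp K) (z : X) (hz : IsClosed ({z} : Set X)) :
    ∃ (A : Type u) (_ : CommRing A) (_ : IsNoetherianRing A) (j : Spec (CommRingCat.of A) ⟶ X)
      (_ : IsOpenImmersion j) (ω : Dual.D A) (_ : Dual.IsDualizing A ω) (m : Ideal A)
      (_ : m.IsMaximal) (y : PrimeSpectrum A), y.asIdeal = m ∧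
      j (show Spec (CommRingCat.of A) from y) = z ∧
      (∀ i : ℤ, i ≠ 0 → Subsingleton (Dual.inD A (A ⧸ m) ⟶ ω⟦i⟧)) ∧
      ∀ (i : ℤ) (x : PrimeSpectrum A), j (show Spec (CommRingCat.of A) from x) ∈ supp K i ↔
        x ∈ Module.support A (Dual.HD A ω i) := by
  obtain ⟨R, j, hj, y, hy⟩ := Scheme.exists_Spec_apply_eq z
  change Spec (CommRingCat.of R) ⟶ X at j
  change PrimeSpectrum R at y
  obtain ⟨ω, hω, ⟨e⟩⟩ := hK.exists_dual R j
  have hcl : IsClosed ({y} : Set (PrimeSpectrum R)) := by
    have h1 : ({y} : Set (PrimeSpectrum R)) =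
        (j.base : Spec (CommRingCat.of R) → X) ⁻¹' ({z} : Set X) := by
      ext w
      constructor
      · rintro rfl
        exact hy
      · intro hw
        exact j.isOpenEmbedding.injective (hw.trans hy.symm)
    rw [h1]
    exact hz.preimage j.continuous
  have hm : y.asIdeal.IsMaximal := (PrimeSpectrum.isClosed_singleton_iff_isMaximal y).1 hcl
  refine ⟨R, inferInstance, hω.isNoetherianRing, j, hj, ω, hω, y.asIdeal, hm, y, rfl, hy, ?_, ?_⟩
  · exact hK.point R j ω e y.asIdeal y rfl (by
      have : j (show Spec (CommRingCat.of R) from y) = z := hy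
      erw [this]
      exact hz)
  · exact fun i x => mem_supp_iff K j ω e i x

/-- Chains of specializations in the support of `H^i` have length at most `-i`. -/
theorem Hyp.chain_le (hK : Hyp K) (i : ℤ) (z : X) (hz : IsClosed ({z} : Set X)) (l : ℕ)
    (p : Fin (l + 1) → X) (hp : ∀ a b, a < b → p a ⤳ p b ∧ p a ≠ p b)
    (hpz : p (Fin.last l) ⤳ z) (h0 : p 0 ∈ supp K i) : (l : ℤ) ≤ -i := by
  obtain ⟨A, _, _, j, _, ω, hω, m, hm, y, hym, hyz, hpt, hsupp⟩ := hK.exists_chart z hz
  have hpz' : ∀ a, p a ⤳ z := fun a => by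
    rcases (Fin.le_last a).lt_or_eq with h | h
    · exact (hp a _ h).1.trans hpz
    · rw [h]; exact hpz
  have hr : ∀ a, ∃ q : PrimeSpectrum A, j (show Spec (CommRingCat.of A) from q) = p a := fun a =>
    (hpz' a).mem_open j.isOpenEmbedding.isOpen_range ⟨y, hyz⟩
  choose q hq using hr
  have hsp : ∀ x x' : PrimeSpectrum A, j (show Spec (CommRingCat.of A) from x) ⤳
      j (show Spec (CommRingCat.of A) from x') → x ≤ x' := fun x x' h => by
    rw [PrimeSpectrum.le_iff_specializes]
    exact j.isOpenEmbedding.isInducing.specializes_iff.1 h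
  have hmono : StrictMono q := fun a b hab => by
    refine lt_of_le_of_ne (hsp _ _ (by rw [hq, hq]; exact (hp a b hab).1)) fun h => ?_
    exact (hp a b hab).2 (by rw [← hq, ← hq, h])
  have hlast : q (Fin.last l) ≤ y := hsp _ _ (by rw [hq, hyz]; exact hpz)
  have hmem : q 0 ∈ Module.support A (Dual.HD A ω i) := by
    rw [← hsupp, hq]
    exact h0
  let s : LTSeries (PrimeSpectrum A) :=
    { length := l, toFun := q, step := fun a => hmono Fin.castSucc_lt_succ }
  rcases hlast.lt_or_eq with h | h
  · have h1 := DualLoc.length_le ω hω m hpt i (s.snoc y h) (by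
      rw [RelSeries.last_snoc]; exact hym) (by rw [RelSeries.head_snoc]; exact hmem)
    have h2 : ((s.snoc y h).length : ℤ) = l + 1 := by
      rw [RelSeries.snoc_length]; rfl
    omega
  · exact DualLoc.length_le ω hω m hpt i s (by change (q (Fin.last l)).asIdeal = m; rw [h, hym]) hmem

/-- The lower bound. -/
theorem Hyp.neg_le [CompactSpace X] (hK : Hyp K) (d : ℕ) (hd : topologicalKrullDim X ≤ d) (i : ℤ)
    (x : X) (hx : x ∈ supp K i) : -(d : ℤ) ≤ i := by
  obtain ⟨z, hz, hxz⟩ := TopDim.exists_closed_specializes x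
  obtain ⟨A, _, _, j, _, ω, hω, m, hm, y, hym, hyz, hpt, hsupp⟩ := hK.exists_chart z hz
  obtain ⟨q, hq⟩ : ∃ q : PrimeSpectrum A, j (show Spec (CommRingCat.of A) from q) = x :=
    hxz.mem_open j.isOpenEmbedding.isOpen_range ⟨y, hyz⟩
  have hqy : q ≤ y := by
    rw [PrimeSpectrum.le_iff_specializes]
    refine j.isOpenEmbedding.isInducing.specializes_iff.1 ?_
    change j (show Spec (CommRingCat.of A) from q) ⤳ j (show Spec (CommRingCat.of A) from y)
    rw [hq, hyz]
    exact hxz
  have hmem : y ∈ Module.support A (Dual.HD A ω i) :=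
    Module.mem_support_mono hqy (by rw [← hsupp, hq]; exact hx)
  obtain rfl := hym
  refine DualLoc.neg_le ω hω y.asIdeal hpt i d ?_ hmem
  have h1 : topologicalKrullDim (PrimeSpectrum A) ≤ topologicalKrullDim X :=
    j.isOpenEmbedding.isInducing.topologicalKrullDim_le
  have h2 : topologicalKrullDim (PrimeSpectrum (Localization.AtPrime y.asIdeal)) ≤
      topologicalKrullDim (PrimeSpectrum A) :=
    (PrimeSpectrum.localization_comap_isInducing (Localization.AtPrime y.asIdeal)
      y.asIdeal.primeCompl).topologicalKrullDim_le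
  rw [← PrimeSpectrum.topologicalKrullDim_eq_ringKrullDim]
  exact h2.trans (h1.trans hd)

/-- Supports of the cohomology sheaves are closed. -/
theorem Hyp.isClosed_supp (hK : Hyp K) (i : ℤ) : IsClosed (supp K i) := by
  rw [← isOpen_compl_iff, isOpen_iff_forall_mem_open]
  intro x hx
  obtain ⟨R, j, hj, y, hy⟩ := Scheme.exists_Spec_apply_eq x
  change Spec (CommRingCat.of R) ⟶ X at j
  change PrimeSpectrum R at y
  obtain ⟨ω, hω, ⟨e⟩⟩ := hK.exists_dual R j
  have := hω.finite_cohomology i
  have hcl : IsClosed (Module.support R (Dual.HD R ω i)) := Module.isClosed_support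
  refine ⟨(j.base : Spec (CommRingCat.of R) → X) '' (Module.support R (Dual.HD R ω i))ᶜ, ?_,
    j.isOpenEmbedding.isOpenMap _ hcl.isOpen_compl, ⟨y, ?_, hy⟩⟩
  · rintro _ ⟨w, hw, rfl⟩
    exact fun h => hw ((mem_supp_iff K j ω e i w).1 h)
  · intro h
    exact hx (hy ▸ (mem_supp_iff K j ω e i y).2 h)

/-- The main bounds. -/
theorem Hyp.bounds [CompactSpace X] (hK : Hyp K) (d : ℕ) (hd : topologicalKrullDim X ≤ d) :
    (∀ i : ℤ, (i < -(d : ℤ) ∨ 0 < i) → IsZero (DCoh.HD K i)) ∧
    ∀ (i : ℤ) (n : ℕ), (n : ℤ) = -i →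
      topologicalKrullDim {x : X | Nontrivial ((DCoh.HD K i).presheaf.stalk x)} ≤
        (n : WithBot ℕ∞) := by
  constructor
  · intro i hi
    rw [← supp_eq_empty_iff, Set.eq_empty_iff_forall_notMem]
    intro x hx
    rcases hi with hi | hi
    · have := hK.neg_le d hd i x hx
      omega
    · obtain ⟨z, hz, hxz⟩ := TopDim.exists_closed_specializes x
      have := hK.chain_le i z hz 0 (fun _ => x) (fun a b hab => by omega) hxz hx
      omega
  · intro i n hn
    have h1 : {x : X | Nontrivial ((DCoh.HD K i).presheaf.stalk x)} = supp K i := by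
      ext x
      exact not_subsingleton_iff_nontrivial.symm
    rw [h1]
    refine TopDim.topologicalKrullDim_le _ (hK.isClosed_supp i) n fun z hz l p hp hpz h0 => ?_
    have := hK.chain_le i z hz l p hp hpz h0
    omega

end Main

end Groth.Agent.PerfA.CohDim
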