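import Groth.Agent.PerfA.BdCohAbs
import Groth.Agent.PerfA.GenOpen
import Groth.Agent.PerfA.AffVan
import Groth.Agent.PerfA.UnitOU
import Groth.Agent.PerfA.Restrict
import Groth.Agent.PerfA.QCohD
import Groth.Agent.CohqB.FiniteType2

/-!
# Bounded coherent approximation on a Noetherian affine scheme

`X` affine Noetherian, `j : U ⟶ X` an open immersion, `K ∈ D_QCoh(X)` bounded with `K|_U` coherent: there
is `L ⟶ K` with `L ∈ D^b_Coh(X)` which is an isomorphism over `U`.
-/

set_option autoImplicit false
universe u v w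
open CategoryTheory CategoryTheory.Limits AlgebraicGeometry
attribute [local instance] HasDerivedCategory.standard

namespace Groth.Agent.PerfA.CohExtAff

open Restrict QCohD DerivedCategory QCohSerre CohSerre

theorem isNoetherian_of_isOpenImmersion {X Y : Scheme.{u}} (j : Y ⟶ X) [IsOpenImmersion j]
    [IsNoetherian X] : IsNoetherian Y := by
  have : TopologicalSpace.NoetherianSpace X := inferInstance
  have : TopologicalSpace.NoetherianSpace Y := j.isOpenEmbedding.isInducing.noetherianSpace
  have := isLocallyNoetherian_of_isOpenImmersion j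
  exact {}

/-- Vanishing of a morphism out of `G (∐ E)` is checked on the summands, `G` additive. -/
lemma eq_zero_of_sigma {A : Type u} [Category.{v} A] [Abelian A]
    {B : Type*} [Category B] [Preadditive B] (G : A ⥤ B) [G.Additive] {n : ℕ} (E : Fin n → A)
    {Z : B} (φ : G.obj (∐ E) ⟶ Z) (h : ∀ i, G.map (Sigma.ι E i) ≫ φ = 0) : φ = 0 := by
  haveI : HasFiniteBiproducts A := Abelian.hasFiniteBiproducts
  have h1 : (biproduct.isoCoproduct E).hom = biproduct.desc (Sigma.ι E) := by
    apply biproduct.hom_ext'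
    intro i
    simp
  rw [← cancel_epi (G.map (biproduct.isoCoproduct E).hom), comp_zero]
  have h2 : 𝟙 (⨁ E) = ∑ i, biproduct.π E i ≫ biproduct.ι E i := biproduct.total.symm
  have h3 : G.map (biproduct.isoCoproduct E).hom = ∑ i, G.map (biproduct.π E i) ≫ G.map (Sigma.ι E i) := by
    rw [h1, ← Category.id_comp (biproduct.desc (Sigma.ι E)), h2, Preadditive.sum_comp, Functor.map_sum]
    refine Finset.sum_congr rfl fun i _ => ?_
    rw [← G.map_comp, Category.assoc, biproduct.ι_desc]
  rw [h3, Preadditive.sum_comp]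
  refine Finset.sum_eq_zero fun i _ => ?_
  rw [Category.assoc, h i, comp_zero]

variable {X U : Scheme.{u}}

/-- `Ext^i(O_X^n, N) = 0` for `i > 0`, `X` affine and `N` quasi-coherent. -/
theorem hom_single_freeMod_eq_zero [IsAffine X] (r : ℕ) (N : X.Modules) (hN : Coh.IsQCoh N)
    (m n : ℤ) (h : n < m) (φ : (singleFunctor X.Modules m).obj (FlatMod.freeMod X r) ⟶
      (singleFunctor X.Modules n).obj N) : φ = 0 := by
  refine eq_zero_of_sigma (singleFunctor X.Modules m) (fun _ : Fin r => Coh.structureModule X) φ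
    fun i => ?_
  have h1 := AffVan.hom_single_OU_eq_zero N hN ⊤ (isAffineOpen_top X) m n h
    ((singleFunctor X.Modules m).map (UnitOU.unitIsoOU X).inv ≫
      (singleFunctor X.Modules m).map (Sigma.ι (fun _ : Fin r => Coh.structureModule X) i) ≫ φ)
  rw [← cancel_epi ((singleFunctor X.Modules m).map (UnitOU.unitIsoOU X).inv), h1, comp_zero]

/-- **Bounded coherent approximation**. -/
theorem exists_approx [IsAffine X] [IsNoetherian X] (j : U ⟶ X) [IsOpenImmersion j]
    (K : DCoh.D X) (hK : DCoh.IsQCohD K) (hKU : DCoh.IsCohD ((restrictD j).obj K)) (a b : ℤ)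
    (ha : K.IsGE a) (hb : K.IsLE b) :
    ∃ (L : DCoh.D X) (φ : L ⟶ K), DCoh.IsCohD L ∧ (∃ c d : ℤ, L.IsGE c ∧ L.IsLE d) ∧
      IsIso ((restrictD j).map φ) := by
  have : IsNoetherian U := isNoetherian_of_isOpenImmersion j
  have : CompactSpace U := inferInstance
  exact BdCohAbs.exists_approx_aux (Scheme.Modules.restrictFunctor j) (qcoh X) (cohp X) (cohp U)
    (fun M hM => hM.1) (fun M E i _ hM hE => isCoh_of_mono i hM hE)
    (fun M hM => isCoh_restrict j hM)
    (fun M hM hMU => by
      obtain ⟨n, φ, hφ⟩ := GenOpen.exists_epi_restrict j M hM hMU.2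
      exact ⟨_, φ, isCoh_freeMod n, hφ, fun N hN m n' h ψ => hom_single_freeMod_eq_zero n N hN m n' h ψ⟩)
    a (b - a + 1).toNat b (by lia) K a ha hb hK hKU
    (fun i hi => isCoh_of_isZero (K.isZero_of_isGE a i hi))

end Groth.Agent.PerfA.CohExtAff
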