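import Groth.Agent.PerfA.TildeRes
import Groth.Agent.CohqB.FiniteType2
import Mathlib.RingTheory.RegularLocalRing.Defs
import Mathlib.AlgebraicGeometry.Noetherian

/-!
# Coherent modules are perfect near points with regular local ring
-/

set_option autoImplicit false
universe u
open CategoryTheory CategoryTheory.Limits AlgebraicGeometry
attribute [local instance] HasDerivedCategory.standard

namespace Groth.Agent.PerfA.CohPerfNear
open AlgebraicGeometry.Scheme.Modules Groth.Agent.PerfA.Restrict Groth.Agent.PerfA.PerfLocal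
  Groth.Agent.PerfA.TildeRes

/-- If `x` lies in the affine open `V` and `O_{X,x}` is regular, the localization of `Γ(X, V)` at the
prime of `x` is regular. -/
lemma isRegularLocalRing_atPrime {X : Scheme.{u}} {V : X.Opens} (hV : IsAffineOpen V) (x : X)
    (hx : x ∈ V) [IsRegularLocalRing (X.presheaf.stalk x)] :
    IsRegularLocalRing (Localization.AtPrime (hV.primeIdealOf ⟨x, hx⟩).asIdeal) := by
  let : Algebra Γ(X, V) (X.presheaf.stalk x) :=
    TopCat.Presheaf.algebra_section_stalk X.presheaf (⟨x, hx⟩ : V)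
  have := hV.isLocalization_stalk ⟨x, hx⟩
  let e := IsLocalization.algEquiv (hV.primeIdealOf ⟨x, hx⟩).asIdeal.primeCompl
    (X.presheaf.stalk x) (Localization.AtPrime (hV.primeIdealOf ⟨x, hx⟩).asIdeal)
  exact IsRegularLocalRing.of_ringEquiv e.toRingEquiv

/-- A coherent module on a locally Noetherian scheme is perfect near a point with regular local
ring; conditional on the two-out-of-three property of perfect objects and on the finite global
dimension of regular local rings. -/
lemma exists_isPerfect_of_isCoh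
    (two : ∀ {X : Scheme.{u}} (T : Pretriangulated.Triangle (DCoh.D X)),
      T ∈ Pretriangulated.distinguishedTriangles → DCoh.IsPerfect T.obj₁ →
        DCoh.IsPerfect T.obj₂ → DCoh.IsPerfect T.obj₃)
    (gl : ∀ (R : Type u) [CommRing R] [IsRegularLocalRing R] (d : ℕ), ringKrullDim R = d →
      ∀ (M : Type u) [AddCommGroup M] [Module R M],
        HasProjectiveDimensionLT (ModuleCat.of R M) (d + 1))
    {X : Scheme.{u}} [IsLocallyNoetherian X] (M : X.Modules) (hM : Coh.IsCoh M) (x : X)
    (hx : IsRegularLocalRing (X.presheaf.stalk x)) :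
    ∃ (U : Scheme.{u}) (j : U ⟶ X) (_ : IsOpenImmersion j) (y : U),
      j y = x ∧ DCoh.IsPerfect (DCoh.inD U (M.restrict j)) := by
  obtain ⟨V, hV, hxV, -⟩ := exists_isAffineOpen_mem_and_subset (x := x) (U := ⊤) trivial
  have hN : IsNoetherianRing Γ(X, V) := IsLocallyNoetherian.component_noetherian ⟨V, hV⟩
  let p := hV.primeIdealOf ⟨x, hxV⟩
  have hreg := isRegularLocalRing_atPrime hV x hxV
  have hq : Coh.IsQCoh M := hM.1
  have hq' : Coh.IsQCoh (M.restrict hV.fromSpec) := inferInstance
  let N : ModuleCat.{u} Γ(X, V) :=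
    (modulesSpecToSheaf.obj (M.restrict hV.fromSpec)).presheaf.obj (Opposite.op ⊤)
  have hfin : Module.Finite Γ(X, V) N :=
    CohqB.FiniteType2.finite_of_isFT (M.restrict hV.fromSpec)
      (CohqB.FiniteType.IsFT.restrict hM.2 hV.fromSpec)
  obtain ⟨d, hd⟩ : ∃ d : ℕ, ringKrullDim (Localization.AtPrime p.asIdeal) = d :=
    ⟨_, (isRegularLocalRing_iff _).1 hreg |>.symm⟩
  obtain ⟨U, j, hj, y, hy, h⟩ := exists_restrict_isPerfect two p d N (gl _ d hd _)
  refine ⟨U, j ≫ hV.fromSpec, inferInstance, y, ?_, ?_⟩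
  · rw [Scheme.Hom.comp_apply, hy]
    exact hV.fromSpec_primeIdealOf ⟨x, hxV⟩
  · let e : tilde (R := CommRingCat.of Γ(X, V)) N ≅ M.restrict hV.fromSpec :=
      asIso (M.restrict hV.fromSpec).fromTildeΓ
    exact isPerfect_of_iso ((DerivedCategory.singleFunctor _ 0).mapIso
      ((restrictFunctor j).mapIso e ≪≫ (restrictFunctorComp j hV.fromSpec).symm.app M)) h

/-- Every coherent module on a locally Noetherian scheme with regular local rings is perfect. -/
lemma isPerfect_inD_of_isCoh
    (two : ∀ {X : Scheme.{u}} (T : Pretriangulated.Triangle (DCoh.D X)),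
      T ∈ Pretriangulated.distinguishedTriangles → DCoh.IsPerfect T.obj₁ →
        DCoh.IsPerfect T.obj₂ → DCoh.IsPerfect T.obj₃)
    (gl : ∀ (R : Type u) [CommRing R] [IsRegularLocalRing R] (d : ℕ), ringKrullDim R = d →
      ∀ (M : Type u) [AddCommGroup M] [Module R M],
        HasProjectiveDimensionLT (ModuleCat.of R M) (d + 1))
    {X : Scheme.{u}} [IsLocallyNoetherian X] (M : X.Modules) (hM : Coh.IsCoh M)
    (hX : ∀ x : X, IsRegularLocalRing (X.presheaf.stalk x)) :
    DCoh.IsPerfect (DCoh.inD X M) := by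
  refine isPerfect_of_restrictD _ fun x => ?_
  obtain ⟨U, j, hj, y, hy, h⟩ := exists_isPerfect_of_isCoh two gl M hM x (hX x)
  exact ⟨U, j, hj, y, hy, isPerfect_of_iso (restrictInD j M).symm h⟩

end Groth.Agent.PerfA.CohPerfNear
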