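import Groth.Agent.PerfA.CohPerfNear
import Groth.Agent.S0887
import Groth.Agent.S0563

/-!
# Coherent modules are perfect near points with regular local ring (unconditional form)
-/

set_option autoImplicit false
universe u
open CategoryTheory CategoryTheory.Limits AlgebraicGeometry
attribute [local instance] HasDerivedCategory.standard

namespace Groth.Agent.PerfA.CohPerfNear2
open Groth.Agent.PerfA.Restrict Groth.Agent.PerfA.PerfLocal

/-- On a locally Noetherian scheme a coherent module, placed in degree `0`, is perfect on a
neighbourhood of any point whose local ring is regular. -/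
theorem exists_opens_isPerfect {X : Scheme.{u}} [IsLocallyNoetherian X] (M : X.Modules)
    (hM : Coh.IsCoh M) (x : X) (hx : IsRegularLocalRing (X.presheaf.stalk x)) :
    ∃ V : X.Opens, x ∈ V ∧ DCoh.IsPerfect ((restrictD V.ι).obj (DCoh.inD X M)) := by
  obtain ⟨U, j, hj, y, rfl, h⟩ := CohPerfNear.exists_isPerfect_of_isCoh
    (fun T hT h1 h2 => (Groth.Agent.S0887.result T hT).1 h1 h2)
    (fun R _ _ d hd M _ _ => Groth.Agent.S0563.result R d hd M) M hM x hx
  have hg : (j.isoOpensRange).inv ≫ j = j.opensRange.ι := by simp
  refine ⟨j.opensRange, ⟨y, rfl⟩, ?_⟩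
  exact isPerfect_of_iso
    ((restrictD (j.isoOpensRange).inv).mapIso (restrictInD j M).symm ≪≫
      (restrictDComp (j.isoOpensRange).inv j ≪≫ restrictDCongr hg).app (DCoh.inD X M))
    (isPerfect_restrictD (j.isoOpensRange).inv h)

end Groth.Agent.PerfA.CohPerfNear2
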