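import Groth.Agent.CohqB.FiniteType2
import Groth.Agent.CohqB.QC2
import Mathlib.CategoryTheory.ObjectProperty.ContainsZero

/-!
# The zero module is coherent; coherent modules as an object property
-/

set_option autoImplicit false
universe u
open CategoryTheory CategoryTheory.Limits AlgebraicGeometry

namespace Groth.Agent.PerfA.CohZero

open scoped ZeroObject

variable {X : Scheme.{u}}

lemma subsingleton_sections {M : X.Modules} (h : IsZero M) (U : X.Opens) :
    Subsingleton Γ(M, U) :=
  AddCommGrpCat.subsingleton_of_isZero
    ((CohqB.FiniteType2.sectionsFunctor U).map_isZero h)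

lemma isQCoh_of_isZero {M : X.Modules} (h : IsZero M) : Coh.IsQCoh M := by
  refine (CohqB.QC2.isQuasicoherent_iff_loc M).2 fun U _ => ?_
  have h1 := subsingleton_sections h
  exact ⟨fun f s => ⟨0, 0, Subsingleton.elim _ _⟩, fun f t _ => ⟨0, Subsingleton.elim _ _⟩⟩

lemma isCoh_of_isZero {M : X.Modules} (h : IsZero M) : Coh.IsCoh M := by
  have hq := isQCoh_of_isZero h
  refine ⟨hq, (CohqB.FiniteType2.isFT_iff_finite_sections M).2 fun V _ => ?_⟩
  have h1 := subsingleton_sections h
  infer_instance

variable (X)

/-- Coherent modules, as an object property. -/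
def cohP : ObjectProperty X.Modules := fun M => Coh.IsCoh M

instance : (cohP X).IsClosedUnderIsomorphisms where
  of_iso e h := ⟨(SheafOfModules.isQuasicoherent X.ringCatSheaf).prop_of_iso e h.1,
    CohqB.FiniteType.IsFT.of_iso h.2 e⟩

instance : (cohP X).ContainsZero where
  exists_zero := ⟨0, isZero_zero _, isCoh_of_isZero (isZero_zero _)⟩

/-- Quasi-coherent modules, as an object property. -/
def qcohP : ObjectProperty X.Modules := fun M => Coh.IsQCoh M

instance : (qcohP X).IsClosedUnderIsomorphisms where
  of_iso e h := (SheafOfModules.isQuasicoherent X.ringCatSheaf).prop_of_iso e h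

instance : (qcohP X).ContainsZero where
  exists_zero := ⟨0, isZero_zero _, isQCoh_of_isZero (isZero_zero _)⟩

end Groth.Agent.PerfA.CohZero
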