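import Groth.Agent.Dcoh.DerSch
import Groth.Agent.PerfA.QCohD

/-!
# `j^* ⊣ Rj_*` on derived categories for an open immersion `j`: the counit is an isomorphism

The adjunction itself is `Dcoh.DerSch.restrictAdj`.
-/

set_option autoImplicit false
universe u
open CategoryTheory CategoryTheory.Limits AlgebraicGeometry

namespace Groth.Agent.PerfA.PushD

open Dcoh.DerAbs Dcoh.DerHo Dcoh.DerAdj Dcoh.DerSch Dcoh.DerComp

attribute [local instance] HasDerivedCategory.standard

section

variable {U X : Scheme.{u}} (j : U ⟶ X) [IsOpenImmersion j]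

lemma isIso_adjHo_counit (K : HomotopyCategory U.Modules (ComplexShape.up ℤ)) :
    IsIso ((adjHo (Scheme.Modules.restrictAdjunction j) (ComplexShape.up ℤ)).counit.app K) := by
  have : IsIso ((adjCx (Scheme.Modules.restrictAdjunction j) (ComplexShape.up ℤ)).counit.app K.as) := by
    have : ∀ i, IsIso (((adjCx (Scheme.Modules.restrictAdjunction j)
        (ComplexShape.up ℤ)).counit.app K.as).f i) := fun i =>
      inferInstanceAs (IsIso ((Scheme.Modules.restrictAdjunction j).counit.app (K.as.X i)))
    exact HomologicalComplex.Hom.isIso_of_components _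
  exact inferInstanceAs (IsIso ((HomotopyCategory.quotient U.Modules (ComplexShape.up ℤ)).map
    ((adjCx (Scheme.Modules.restrictAdjunction j) (ComplexShape.up ℤ)).counit.app K.as)))

end

variable {U X : Scheme.{u}} (j : U ⟶ X) [IsOpenImmersion j] [DCoh.HasRpush j]

/-- The counit `j^* Rj_* K ⟶ K` is an isomorphism. -/
instance isIso_counit_app (K : DCoh.D U) : IsIso ((restrictAdj j).counit.app K) := by
  obtain ⟨L, ⟨e⟩⟩ : ∃ L : CochainComplex U.Modules ℤ, Nonempty (DerivedCategory.Q.obj L ≅ K) :=
    ⟨DerivedCategory.Q.objPreimage K, ⟨DerivedCategory.Q.objObjPreimageIso K⟩⟩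
  obtain ⟨I, i, h1, h2⟩ := hasKInj U L
  have e' : DerivedCategory.Q.obj I ≅ K := (asIso (DerivedCategory.Q.map i)).symm ≪≫ e
  suffices h : IsIso ((restrictAdj j).counit.app (DerivedCategory.Q.obj I)) from
    (NatTrans.isIso_app_iff_of_iso _ e').1 h
  have h3 := derivedAdj_counit_fac (Scheme.Modules.restrictAdjunction j) (hasKInj U)
    (leftDataExact _)
    (DCoh.restrictD j) (Scheme.Modules.restrictFunctor j).mapDerivedCategoryFactorsh.hom
    (DCoh.Rpush j) (rpushUnit j) ((HomotopyCategory.quotient _ _).obj I)
  have h4 := isIso_rpushUnit_app j I h1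
  have h5 := isIso_adjHo_counit j ((HomotopyCategory.quotient _ _).obj I)
  have h6 : IsIso (((DCoh.restrictD j).map ((rpushUnit j).app
      ((HomotopyCategory.quotient _ _).obj I))) ≫ (restrictAdj j).counit.app
        (DerivedCategory.Qh.obj ((HomotopyCategory.quotient _ _).obj I))) := by
    have h7 : IsIso ((Scheme.Modules.restrictFunctor j).mapDerivedCategoryFactorsh.hom.app
        (((Scheme.Modules.pushforward j).mapHomotopyCategory (ComplexShape.up ℤ)).obj
          ((HomotopyCategory.quotient _ _).obj I)) ≫ DerivedCategory.Qh.map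
            ((adjHo (Scheme.Modules.restrictAdjunction j) (ComplexShape.up ℤ)).counit.app
              ((HomotopyCategory.quotient _ _).obj I))) := inferInstance
    rw [← h3] at h7
    exact h7
  have h8 : IsIso ((restrictAdj j).counit.app
      (DerivedCategory.Qh.obj ((HomotopyCategory.quotient _ _).obj I))) :=
    IsIso.of_isIso_comp_left ((DCoh.restrictD j).map ((rpushUnit j).app
      ((HomotopyCategory.quotient _ _).obj I))) _
  exact h8

instance isIso_counit : IsIso (restrictAdj j).counit := NatIso.isIso_of_isIso_app _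

instance : (DCoh.Rpush j).Full := (restrictAdj j).fullyFaithfulROfIsIsoCounit.full
instance : (DCoh.Rpush j).Faithful := (restrictAdj j).fullyFaithfulROfIsIsoCounit.faithful

/-- `j^* Rj_* ≅ id`. -/
noncomputable def rpushRestrictIso : DCoh.Rpush j ⋙ DCoh.restrictD j ≅ 𝟭 (DCoh.D U) :=
  asIso (restrictAdj j).counit

/-- The unit `K ⟶ Rj_* j^* K` restricts to an isomorphism. -/
instance isIso_restrict_unit_app (K : DCoh.D X) :
    IsIso ((DCoh.restrictD j).map ((restrictAdj j).unit.app K)) := by
  have h2 : IsIso ((DCoh.restrictD j).map ((restrictAdj j).unit.app K) ≫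
      (restrictAdj j).counit.app ((DCoh.restrictD j).obj K)) := by
    rw [(restrictAdj j).left_triangle_components K]
    exact IsIso.id _
  exact IsIso.of_isIso_comp_right _ ((restrictAdj j).counit.app ((DCoh.restrictD j).obj K))

end Groth.Agent.PerfA.PushD
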