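import Groth.Agent.PerfA.CompactPerf
import Groth.Agent.PerfC.Supp
import Groth.Agent.CohtopB.BrownCore
import Groth.Agent.PerfA.PushD

/-!
# Compact objects of `D_{QCoh, T}` are perfect
-/

set_option autoImplicit false
universe u
open CategoryTheory CategoryTheory.Limits AlgebraicGeometry Opposite TopologicalSpace
open CategoryTheory.Pretriangulated
open scoped ZeroObject
attribute [local instance] HasDerivedCategory.standard

namespace Groth.Agent.PerfA.CompactSupp

open Groth.Agent.PerfA.Restrict

variable {X : Scheme.{u}}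

/-- The cohomology sheaves are supported in the complement of `U` iff the restriction to `U` is zero. -/
lemma supp_subset_iff (U : X.Opens) (K : DCoh.D X) :
    (∀ i : ℤ, CohB1.support (DCoh.HD K i) ⊆ ((U : Set X)ᶜ)) ↔ IsZero ((restrictD U.ι).obj K) := by
  rw [ExactD.isZero_iff]
  refine forall_congr' fun i => ?_
  rw [← PerfC.Supp.supp_eq_empty_iff, PerfC.Supp.supp_restrictD]
  constructor
  · intro h
    ext y
    simp only [Set.mem_preimage, Set.mem_empty_iff_false, iff_false]
    intro hy
    exact h hy y.2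
  · intro h x hx hxU
    have : (⟨x, hxU⟩ : U) ∈ (∅ : Set U) := by
      rw [← h]
      exact hx
    exact this

/-- Objects compact in `D_{QCoh, T}` are compact in `D_QCoh`. -/
theorem isCompactObjRel_of_supp [QuasiSeparatedSpace X] (U : X.Opens)
    (hU : IsCompact (U : Set X)) (K : DCoh.D X) (hKU : IsZero ((restrictD U.ι).obj K))
    (h : PerfAux.IsCompactObjRel.{u} (fun L : DCoh.D X => DCoh.IsQCohD L ∧
      ∀ i : ℤ, CohB1.support (DCoh.HD L i) ⊆ ((U : Set X)ᶜ)) K) :
    PerfAux.IsCompactObjRel.{u} (fun L : DCoh.D X => DCoh.IsQCohD L) K := by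
  have : CompactSpace U := isCompact_iff_compactSpace.1 hU
  have : QuasiCompact U.ι := inferInstance
  have : DCoh.HasRpush U.ι := Groth.Agent.Dcoh.DerSch.hasRpush U.ι
  let R := DCoh.Rpush U.ι
  let L := restrictD U.ι
  let adj : L ⊣ R := Groth.Agent.Dcoh.DerSch.restrictAdj U.ι
  have : R.Additive := adj.right_adjoint_additive
  rw [CompactRel.isCompactObjRel_iff]
  intro ι A _ hA f
  choose M m d hT using fun k => distinguished_cocone_triangle₁ (adj.unit.app (A k))
  have hRA : ∀ k, DCoh.IsQCohD (R.obj (L.obj (A k))) := fun k =>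
    Groth.Agent.S0998.result U.ι _ (QCohD.isQCohD_restrictD U.ι (hA k))
  have hM : ∀ k, DCoh.IsQCohD (M k) := fun k => QCohD.isQCohD_ext₁ _ (hT k) (hA k) (hRA k)
  have hMU : ∀ k, IsZero (L.obj (M k)) := by
    intro k
    have h3 := L.map_distinguished _ (hT k)
    exact (Triangle.isZero₁_iff_isIso₂ _ h3).2 (PushD.isIso_restrict_unit_app U.ι (A k))
  have hf : f ≫ Limits.Sigma.map (fun k => adj.unit.app (A k)) = 0 := by
    have hp : PreservesColimit (Discrete.functor (fun k => L.obj (A k))) R :=
      CompactPerf.preservesCoproduct_Rpush U.ι (fun k => L.obj (A k))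
        (fun k => QCohD.isQCohD_restrictD U.ι (hA k))
    let c := (PreservesCoproduct.iso R (fun k => L.obj (A k))).symm
    rw [← cancel_mono c.hom, zero_comp]
    apply (adj.homEquiv _ _).symm.injective
    exact hKU.eq_of_src _ _
  obtain ⟨g, hg⟩ := Groth.Agent.CohtopB.BrownCore.coprod_factor m (fun k => adj.unit.app (A k)) d hT f hf
  obtain ⟨s, a, ha⟩ := (CompactRel.isCompactObjRel_iff _ K).1 h ι M
    (fun k => ⟨hM k, (supp_subset_iff U _).2 (hMU k)⟩) g
  refine ⟨s, fun k => a k ≫ m k, ?_⟩
  rw [← hg, ha, Preadditive.sum_comp]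
  refine Finset.sum_congr rfl (fun k _ => ?_)
  simp [Cofan.inj]

end Groth.Agent.PerfA.CompactSupp
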