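import Groth.Agent.PerfA.Hocolim
import Mathlib.CategoryTheory.Triangulated.Subcategory

/-!
# Homotopy colimits of sequences of objects of a class `Pf`, from countability of maps
-/

set_option autoImplicit false
universe w v u
open CategoryTheory CategoryTheory.Limits CategoryTheory.Pretriangulated

namespace Groth.Agent.PerfA.HocolimCount

open Hocolim

section Stage

variable {D : Type u} [Category.{v} D]

/-- An object of a class with a map to `K`. -/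
structure Stage (Pf : ObjectProperty D) (K : D) where
  /-- the object -/
  E : D
  /-- the map -/
  i : E ⟶ K
  prop : Pf E

/-- Morphisms of stages. -/
@[ext]
structure Stage.Hom {Pf : ObjectProperty D} {K : D} (s t : Stage Pf K) where
  /-- the map -/
  f : s.E ⟶ t.E
  w : f ≫ t.i = s.i

instance (Pf : ObjectProperty D) (K : D) : Category (Stage Pf K) where
  Hom := Stage.Hom
  id s := ⟨𝟙 _, Category.id_comp _⟩
  comp a b := ⟨a.f ≫ b.f, by rw [Category.assoc, b.w, a.w]⟩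
  id_comp a := Stage.Hom.ext (Category.id_comp _)
  comp_id a := Stage.Hom.ext (Category.comp_id _)
  assoc a b c := Stage.Hom.ext (Category.assoc _ _ _)

variable {Pf : ObjectProperty D} {K : D}

/-- The underlying object. -/
def forget (Pf : ObjectProperty D) (K : D) : Stage Pf K ⥤ D where
  obj s := s.E
  map f := f.f
  map_id _ := rfl
  map_comp _ _ := rfl

/-- The requests: maps from the test objects to the stage and to `K`. -/
def req (Pf : ObjectProperty D) (K : D) (G : ℤ → D) : Stage Pf K ⥤ Type v where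
  obj s := (Σ n : ℤ, (G n ⟶ s.E)) ⊕ (Σ n : ℤ, (G n ⟶ K))
  map f := TypeCat.ofHom (Sum.map (fun p => ⟨p.1, p.2 ≫ f.f⟩) id)
  map_id s := by
    ext x
    rcases x with ⟨n, x⟩ | x
    · change Sum.inl _ = Sum.inl _
      exact congrArg Sum.inl (Sigma.ext rfl (heq_of_eq (Category.comp_id _)))
    · rfl
  map_comp f g := by
    ext x
    rcases x with ⟨n, x⟩ | x
    · change Sum.inl _ = Sum.inl _
      exact congrArg Sum.inl (Sigma.ext rfl (heq_of_eq (Category.assoc _ _ _).symm))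
    · rfl

end Stage

variable {D : Type u} [Category.{v} D] [Preadditive D] [HasZeroObject D] [HasShift D ℤ]
  [∀ n : ℤ, (shiftFunctor D n).Additive] [Pretriangulated D]

/-- Fulfilled requests. -/
def Dead {Pf : ObjectProperty D} {K : D} (G : ℤ → D) (s : Stage Pf K) :
    (Σ n : ℤ, (G n ⟶ s.E)) ⊕ (Σ n : ℤ, (G n ⟶ K)) → Prop
  | Sum.inl p => p.2 ≫ s.i = 0 → p.2 = 0
  | Sum.inr p => ∃ y : G p.1 ⟶ s.E, y ≫ s.i = p.2

/-- Every object `K` of `Q` is a homotopy colimit of a sequence of objects of `Pf` if there are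
countably many maps from the shifts of a generator `G` of `Q` to `K` and to the objects of
`Pf`. -/
theorem exists_isHocolim [HasColimitsOfShape (Discrete ℕ) D] (Pf : ObjectProperty D)
    (hsh : ∀ (n : ℤ) (E : D), Pf E → Pf (E⟦n⟧))
    (hcone : ∀ T : Triangle D, T ∈ distTriang D → Pf T.obj₁ → Pf T.obj₂ → Pf T.obj₃)
    (hsum : ∀ (A B : D), Pf A → Pf B → ∃ (C : D) (a : A ⟶ C) (b : B ⟶ C), Pf C ∧
      ∀ {Z : D} (f : A ⟶ Z) (g : B ⟶ Z), ∃ h : C ⟶ Z, a ≫ h = f ∧ b ≫ h = g)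
    (Q : ObjectProperty D)
    (hQ : ∀ T : Triangle D, T ∈ distTriang D → Q T.obj₁ → Q T.obj₂ → Q T.obj₃)
    (hQsum : ∀ E : ℕ → D, (∀ n, Pf (E n)) → Q (∐ E))
    {K : D} (hK : Q K) (G : D) (hG : Pf G)
    (hfin : ∀ E : ℕ → D, (∀ n, Pf (E n)) → ∀ (m : ℤ) (x : G⟦m⟧ ⟶ ∐ E), IsFinSum E x)
    (hc1 : ∀ (E : D) (n : ℤ), Pf E → Countable (G⟦n⟧ ⟶ E))
    (hc2 : ∀ n : ℤ, Countable (G⟦n⟧ ⟶ K))
    (hdet : ∀ Z, Q Z → (∀ (n : ℤ) (x : G⟦n⟧ ⟶ Z), x = 0) → IsZero Z) :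
    ∃ (E : ℕ → D) (f : ∀ n, E n ⟶ E (n + 1)) (i : ∀ n, E n ⟶ K),
      (∀ n, Pf (E n)) ∧ DerLim.IsHocolim E f K i := by
  let G' : ℤ → D := fun n => G⟦n⟧
  have hcount : ∀ s : Stage Pf K, Countable ((req Pf K G').obj s) := fun s => by
    have h1 : ∀ n : ℤ, Countable (G' n ⟶ s.E) := fun n => hc1 s.E n s.prop
    have h2 : ∀ n : ℤ, Countable (G' n ⟶ K) := fun n => hc2 n
    have h3 : Countable ((Σ n : ℤ, (G' n ⟶ s.E)) ⊕ (Σ n : ℤ, (G' n ⟶ K))) := inferInstance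
    exact h3
  have hne : ∀ s : Stage Pf K, Nonempty ((req Pf K G').obj s) := fun s =>
    ⟨(Sum.inl ⟨0, 0⟩ : (Σ n : ℤ, (G' n ⟶ s.E)) ⊕ (Σ n : ℤ, (G' n ⟶ K)))⟩
  obtain ⟨F, hF⟩ := exists_sequence (req Pf K G') (fun s => Dead G' s) (fun s r => by
    rcases r with ⟨n, ψ⟩ | ⟨n, φ⟩
    · by_cases hψ : ψ ≫ s.i = 0
      · obtain ⟨C, p, c, hT⟩ := distinguished_cocone_triangle ψ
        obtain ⟨i', hi'⟩ := Triangle.yoneda_exact₂ _ hT s.i hψ
        change C ⟶ K at i'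
        change s.i = p ≫ i' at hi'
        refine ⟨⟨C, i', hcone _ hT (hsh n G hG) s.prop⟩, ⟨p, hi'.symm⟩, fun _ => ?_⟩
        exact comp_distTriang_mor_zero₁₂ _ hT
      · refine ⟨s, 𝟙 s, fun h => absurd ?_ hψ⟩
        have h' : (ψ ≫ 𝟙 s.E) ≫ s.i = 0 := h
        rwa [Category.comp_id] at h'
    · obtain ⟨C, a, b, hC, hd⟩ := hsum s.E (G⟦n⟧) s.prop (hsh n G hG)
      obtain ⟨h, ha, hb⟩ := hd s.i φ
      exact ⟨⟨C, h, hC⟩, ⟨a, ha⟩, b, hb⟩) ⟨G, 0, hG⟩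
  let F' : ℕ ⥤ D := F ⋙ forget Pf K
  have hPf : ∀ n, Pf (F'.obj n) := fun n => (F.obj n).prop
  refine ⟨F'.obj, tr F', fun n => (F.obj n).i, hPf, ?_⟩
  refine isHocolim_of_test (F := F') (fun n => (F.obj n).i) (fun n => (F.map _).w)
    (fun C => ∃ n : ℤ, G⟦n⟧ = C) ?_ ?_ ?_ ?_ Q hQ hK (hQsum _ hPf) ?_
  · rintro _ ⟨n, rfl⟩
    exact ⟨G⟦n - 1⟧, ⟨n - 1, rfl⟩, ⟨((shiftFunctorAdd' D (n - 1) 1 n (by omega)).app G).symm⟩⟩
  · rintro _ ⟨n, rfl⟩ x
    exact hfin _ hPf n x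
  · rintro _ ⟨n, rfl⟩ x
    obtain ⟨l, _, hl⟩ := hF 0 (Sum.inr ⟨n, x⟩)
    exact ⟨l, hl⟩
  · rintro _ ⟨n, rfl⟩ k y hy
    obtain ⟨l, h, hl⟩ := hF k (Sum.inl ⟨n, y⟩)
    refine ⟨l, h, ?_⟩
    refine hl ?_
    change (y ≫ (F.map (homOfLE h)).f) ≫ (F.obj l).i = 0
    exact (Category.assoc _ _ _).trans ((congrArg (fun t => y ≫ t) (F.map (homOfLE h)).w).trans hy)
  · intro Z hZ h
    exact hdet Z hZ fun n x => h _ ⟨n, rfl⟩ x

end Groth.Agent.PerfA.HocolimCount
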