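import Groth.Agent.PerfA.CountHom2
import Groth.Agent.PerfA.HocolimCount
import Groth.Agent.PerfA.Neeman
import Groth.Agent.S0887

/-!
# Homotopy colimits of sequences of perfect complexes and countability
-/

set_option autoImplicit false
universe v u
open CategoryTheory CategoryTheory.Limits CategoryTheory.Pretriangulated AlgebraicGeometry Opposite
attribute [local instance] HasDerivedCategory.standard

namespace Groth.Agent.PerfA.CountHocolim

open Groth.Agent.PerfA.CountSec Groth.Agent.PerfA.CountHom Groth.Agent.PerfA.Hocolim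
open Groth.Agent.PerfA.CohomIn Groth.Agent.PerfA.Neeman

section Abstract

variable {D : Type u} [Category.{v} D] [Preadditive D]

/-- A relatively compact object has maps to countable direct sums given by finite sums. -/
lemma isFinSum_of_isCompactObjRel.{w} {P : D → Prop} {K : D}
    (hK : PerfAux.IsCompactObjRel.{w} P K) (E : ℕ → D) (hE : ∀ n, P (E n)) [HasCoproduct E]
    (x : K ⟶ ∐ E) : IsFinSum E x := by
  classical
  obtain ⟨s, g, hg⟩ := isFiniteSum_of_small hK hE (coproductIsCoproduct E) x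
  refine ⟨s.sup id + 1, fun k => if k ∈ s then g k else 0, ?_⟩
  have hs : s ⊆ Finset.range (s.sup id + 1) := fun k hk =>
    Finset.mem_range.2 (Nat.lt_succ_of_le (Finset.le_sup (f := id) hk))
  refine hg.trans ?_
  refine (Finset.sum_congr rfl fun k hk => ?_).trans (Finset.sum_subset hs fun k _ hk => ?_)
  · beta_reduce
    rw [if_pos hk]
    rfl
  · beta_reduce
    rw [if_neg hk, zero_comp]

end Abstract

variable {X : Scheme.{u}}

/-- Countable coproducts in `D_QCoh`. -/
lemma isQCohD_coproduct_nat (K : ℕ → DCoh.D X) (hK : ∀ n, DCoh.IsQCohD (K n)) [HasCoproduct K] :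
    DCoh.IsQCohD (∐ K) := fun i =>
  PerfB.QCohLocal.isQCoh_of_isColimit _ (fun j => hK j.as i) _
    (isColimitOfPreserves (DerivedCategory.homologyFunctor X.Modules i) (coproductIsCoproduct K))

/-- Homotopy colimits of perfect complexes have countable cohomology sheaves. -/
theorem coh_cs_of_isHocolim
    (hX : ∀ U : X.Opens, IsAffineOpen U → Countable (X.presheaf.obj (op U)))
    {E : ℕ → DCoh.D X} {f : ∀ n, E n ⟶ E (n + 1)} [HasCoproduct E] {K : DCoh.D X}
    {i : ∀ n, E n ⟶ K} (hE : ∀ n, DCoh.IsPerfect (E n)) (h : DerLim.IsHocolim E f K i) :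
    coh (cs X) K := by
  obtain ⟨c, hc⟩ := h
  have hS := coh_cs_coproduct E (fun n => coh_cs_of_isPerfect hX (hE n))
  exact (coh (cs X)).ext_of_isTriangulatedClosed₃ _ hc hS hS

variable [CompactSpace X] [QuasiSeparatedSpace X]

/-- Objects of `D_QCoh` with countable cohomology sheaves are homotopy colimits of perfect
complexes. -/
theorem exists_hocolim
    (hX : ∀ U : X.Opens, IsAffineOpen U → Countable (X.presheaf.obj (op U)))
    [HasColimitsOfShape (Discrete ℕ) (DCoh.D X)]
    (hcpt : ∀ E : DCoh.D X, DCoh.IsPerfect E →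
      PerfAux.IsCompactObjRel.{u} (fun L : DCoh.D X => DCoh.IsQCohD L) E)
    (hgen : ∃ P : DCoh.D X, DCoh.IsPerfect P ∧ ∀ E : DCoh.D X, DCoh.IsQCohD E →
      (IsZero E ↔ ∀ (n : ℤ) (φ : P⟦n⟧ ⟶ E), φ = 0))
    (K : DCoh.D X) (hK : DCoh.IsQCohD K)
    (hKc : ∀ V : X.Opens, IsAffineOpen V → ∀ i : ℤ, Countable ((DCoh.HD K i).val.obj (op V))) :
    ∃ (E : ℕ → DCoh.D X) (f : ∀ n, E n ⟶ E (n + 1)) (i : ∀ n, E n ⟶ K),
      (∀ n, DCoh.IsPerfect (E n)) ∧ DerLim.IsHocolim E f K i := by
  obtain ⟨G, hG, hgen⟩ := hgen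
  have hbip : HasBinaryBiproducts (DCoh.D X) := inferInstance
  refine HocolimCount.exists_isHocolim (D := DCoh.D X) (fun E => DCoh.IsPerfect E)
    (fun n E hE => PerfLocal.isPerfect_shift hE n)
    (fun T hT h1 h2 => (Groth.Agent.S0887.result T hT).1 h1 h2)
    (fun A B hA hB => ⟨A ⊞ B, biprod.inl, biprod.inr, ?_, fun f g =>
      ⟨biprod.desc f g, biprod.inl_desc _ _, biprod.inr_desc _ _⟩⟩)
    (fun E => DCoh.IsQCohD E)
    (fun T hT h1 h2 => QCohD.isQCohD_ext₃ T hT h1 h2)
    (fun E hE => isQCohD_coproduct_nat E fun n => QCohD.isQCohD_of_isPerfect _ (hE n)) hK G hG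
    (fun E hE m x => isFinSum_of_isCompactObjRel (hcpt _ (PerfLocal.isPerfect_shift hG m)) E
      (fun n => QCohD.isQCohD_of_isPerfect _ (hE n)) x)
    (fun E n hE => homC_of_isPerfect E (QCohD.isQCohD_of_isPerfect _ hE)
      (fun V hV i => (coh_cs_of_isPerfect hX hE i).2 V hV) G hG n)
    (fun n => homC_of_isPerfect K hK hKc G hG n)
    (fun Z hZ h => (hgen Z hZ).2 h)
  exact (Groth.Agent.S0887.result _ (binaryBiproductTriangle_distinguished A B)).2.1 hA hB

end Groth.Agent.PerfA.CountHocolim
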