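import Groth.Agent.PerfA.HomologyCoprod

/-!
# Exactness of `ℕ`-indexed coproducts and colimits of `O_X`-modules
-/

set_option autoImplicit false
universe u

open CategoryTheory CategoryTheory.Limits AlgebraicGeometry DerivedCategory

attribute [local instance] HasDerivedCategory.standard

namespace Groth.Agent.PerfA.ModNat

instance hasExactColimitsOfShape_nat_ab : HasExactColimitsOfShape ℕ AddCommGrpCat.{u} := by
  have : HasFilteredColimitsOfSize.{0, 0} AddCommGrpCat.{u} := inferInstance
  have : AB5OfSize.{0, 0} AddCommGrpCat.{u} := AB5OfSize_of_univLE.{0, 0, u, u} AddCommGrpCat.{u}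
  infer_instance

variable (X : Scheme.{u})

instance hasExactColimitsOfShape_nat : HasExactColimitsOfShape ℕ X.Modules := by
  have : HasExactColimitsOfShape ℕ (PresheafOfModules.{u} X.ringCatSheaf.obj) :=
    HasExactColimitsOfShape.domain_of_functor ℕ (PresheafOfModules.toPresheaf _)
  exact (PresheafOfModules.sheafificationAdjunction (𝟙 X.ringCatSheaf.obj)).hasExactColimitsOfShape ℕ

instance hasExactColimitsOfShape_discrete_nat : HasExactColimitsOfShape (Discrete ℕ) X.Modules := by
  have : HasExactColimitsOfShape (Discrete ℕ) (PresheafOfModules.{u} X.ringCatSheaf.obj) :=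
    HasExactColimitsOfShape.domain_of_functor (Discrete ℕ) (PresheafOfModules.toPresheaf _)
  exact (PresheafOfModules.sheafificationAdjunction
    (𝟙 X.ringCatSheaf.obj)).hasExactColimitsOfShape (Discrete ℕ)

instance preservesColimitsOfShape_homologyFunctor (m : ℤ) :
    PreservesColimitsOfShape (Discrete ℕ) (homologyFunctor X.Modules m) :=
  inferInstance

instance hasCoproductsOfShape_nat : HasColimitsOfShape (Discrete ℕ) (DerivedCategory X.Modules) :=
  inferInstance

end Groth.Agent.PerfA.ModNat
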