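import Groth.Agent.PerfA.QCohD
import Groth.Agent.PerfA.QCohEpi
import Groth.Agent.PerfB.QCohLocal
import Groth.Agent.PerfB.ModExact
import Groth.Agent.PerfA.ModNat
import Mathlib.Data.DFinsupp.Encodable
import Mathlib.Algebra.Category.ModuleCat.Products

/-!
# Quasi-coherent modules with countably many sections over affine opens
-/

set_option autoImplicit false
universe w v u
open CategoryTheory CategoryTheory.Limits AlgebraicGeometry Opposite TopologicalSpace
attribute [local instance] HasDerivedCategory.standard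

namespace Groth.Agent.PerfA.CountSec

open AlgebraicGeometry.Scheme.Modules Groth.Agent.PerfA.Restrict Groth.Agent.PerfA.QCohSerre

/-- Countability of the middle term of an exact sequence of abelian groups. -/
lemma countable_of_exact {A B C : Type*} [AddCommGroup A] [AddCommGroup B] [AddCommGroup C]
    (f : A → B) (g : B →+ C) (h : ∀ b, g b = 0 → ∃ a, f a = b) [Countable A] [Countable C] :
    Countable B := by
  classical
  have h1 : ∀ c : C, ∃ b : B, (∃ b', g b' = c) → g b = c := fun c => by
    by_cases hc : ∃ b', g b' = c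
    · obtain ⟨b', hb'⟩ := hc
      exact ⟨b', fun _ => hb'⟩
    · exact ⟨0, fun h => absurd h hc⟩
  choose s hs using h1
  have h2 : ∀ b : B, ∃ a : A, f a = b - s (g b) := fun b =>
    h _ (by rw [map_sub, hs (g b) ⟨b, rfl⟩, sub_self])
  choose t ht using h2
  refine Function.Injective.countable (f := fun b : B => (g b, t b)) fun b b' hbb => ?_
  simp only [Prod.mk.injEq] at hbb
  have := ht b
  rw [hbb.2, ht b', hbb.1] at this
  exact (sub_left_inj.1 this).symm

section

variable (X : Scheme.{u})

/-- Quasi-coherent modules with countably many sections over affine opens. -/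
def cs : ObjectProperty X.Modules := fun M =>
  Coh.IsQCoh M ∧ ∀ V : X.Opens, IsAffineOpen V → Countable (M.val.obj (op V))

variable {X}

lemma cs_of_mono {K M : X.Modules} (i : K ⟶ M) [Mono i] (hK : Coh.IsQCoh K) (hM : cs X M) :
    cs X K := ⟨hK, fun V hV => by
  have h1 := PerfB.ModExact.app_injective_of_mono i V
  have : Countable Γ(M, V) := hM.2 V hV
  exact h1.countable⟩

lemma cs_of_epi {M N : X.Modules} (p : M ⟶ N) [Epi p] (hM : cs X M) (hN : Coh.IsQCoh N) :
    cs X N := ⟨hN, fun V hV => by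
  have := hM.1
  have h1 := QCohEpi.app_surjective_of_epi p hV
  have : Countable Γ(M, V) := hM.2 V hV
  exact h1.countable⟩

lemma cs_of_iso {M N : X.Modules} (e : M ≅ N) (hM : cs X M) : cs X N :=
  cs_of_mono e.inv (isQCoh_of_iso e hM.1) hM

lemma cs_kernel {M N : X.Modules} (f : M ⟶ N) (hM : cs X M) (hN : Coh.IsQCoh N) :
    cs X (kernel f) := cs_of_mono (kernel.ι f) (isQCoh_kernel f hM.1 hN) hM

lemma cs_cokernel {M N : X.Modules} (f : M ⟶ N) (hM : Coh.IsQCoh M) (hN : cs X N) :
    cs X (cokernel f) := cs_of_epi (cokernel.π f) hN (isQCoh_cokernel f hM hN.1)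

lemma cs_ext {S : ShortComplex X.Modules} (hS : S.ShortExact) (h1 : cs X S.X₁) (h3 : cs X S.X₃) :
    cs X S.X₂ := ⟨QCohExt.isQCoh_ext hS h1.1 h3.1, fun V hV => by
  have : Countable Γ(S.X₁, V) := h1.2 V hV
  have : Countable Γ(S.X₃, V) := h3.2 V hV
  have := hS.mono_f
  have h4 : Countable Γ(S.X₂, V) := countable_of_exact (S.f.app V) (S.g.app V).hom fun b hb =>
    PerfB.ModExact.exists_app_of_isLimit S.f S.g S.zero
      hS.exact.fIsKernel V b hb
  exact h4⟩

lemma cs_of_isZero {M : X.Modules} (hM : IsZero M) : cs X M :=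
  ⟨isQCoh_of_isZero hM, fun V _ => by
    have h : Subsingleton Γ(M, V) := ⟨fun a b => by
      have h0 : (𝟙 M : M ⟶ M) = 0 := (IsZero.iff_id_eq_zero M).1 hM
      have h1 : ∀ a : Γ(M, V), a = 0 := fun a => by
        have : (𝟙 M : M ⟶ M).app V a = (0 : M ⟶ M).app V a := by rw [h0]
        exact this
      rw [h1 a, h1 b]⟩
    exact @Finite.to_countable _ (@Finite.of_subsingleton _ h)⟩

instance : (cs X).IsClosedUnderIsomorphisms where
  of_iso e h := cs_of_iso e h

instance : (cs X).IsClosedUnderKernels where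
  kernels_le := by
    rintro _ ⟨f, k, hk, hf⟩
    exact cs_of_iso (IsLimit.conePointUniqueUpToIso (kernelIsKernel f) hk)
      (cs_kernel f hf.1 hf.2.1)

instance : (cs X).IsClosedUnderCokernels where
  cokernels_le := by
    rintro _ ⟨f, k, hk, hf⟩
    exact cs_of_iso (IsColimit.coconePointUniqueUpToIso (cokernelIsCokernel f) hk)
      (cs_cokernel f hf.1.1 hf.2)

instance : (cs X).IsClosedUnderExtensions where
  prop_X₂_of_shortExact hS h1 h3 := cs_ext hS h1 h3

instance : (cs X).ContainsZero where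
  exists_zero := ⟨_, isZero_zero _, cs_of_isZero (isZero_zero _)⟩

/-- Countability of sections over affine opens is local. -/
lemma cs_of_restrict_opens (M : X.Modules)
    (h : ∀ x : X, ∃ U : X.Opens, x ∈ U ∧ cs U (M.restrict U.ι)) : cs X M := by
  refine ⟨isQCoh_of_restrict_opens M fun x => ?_, fun V hV => ?_⟩
  · obtain ⟨U, hx, hU⟩ := h x
    exact ⟨U, hx, hU.1⟩
  · choose U hxU hU using h
    have h1 : ∀ x : (V : Set X), ∃ W : X.Opens, IsAffineOpen W ∧ (x : X) ∈ W ∧ W ≤ V ⊓ U x :=
      fun x => exists_isAffineOpen_mem_and_subset (U := V ⊓ U x) ⟨x.2, hxU x⟩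
    choose W hW hxW hWV using h1
    obtain ⟨t, ht⟩ := hV.isCompact.elim_nhds_subcover' (fun x hx => (W ⟨x, hx⟩ : Set X))
      (fun x hx => (W ⟨x, hx⟩).isOpen.mem_nhds (hxW ⟨x, hx⟩))
    have hcount : ∀ x : t, Countable Γ(M, W x.1) := by
      intro x
      have h3 : (U x.1).ι ''ᵁ ((U x.1).ι ⁻¹ᵁ (W x.1)) = W x.1 := by
        rw [Scheme.Hom.image_preimage_eq_opensRange_inf, Scheme.Opens.opensRange_ι]
        exact inf_eq_right.2 ((hWV x.1).trans inf_le_right)
      have h4 : IsAffineOpen ((U x.1).ι ⁻¹ᵁ (W x.1)) := by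
        rw [← (U x.1).ι.isAffineOpen_iff_of_isOpenImmersion, h3]
        exact hW x.1
      have h5 : Countable Γ(M, (U x.1).ι ''ᵁ ((U x.1).ι ⁻¹ᵁ (W x.1))) := (hU x.1).2 _ h4
      rw [h3] at h5
      exact h5
    have hWV' : ∀ x : t, W x.1 ≤ V := fun x => (hWV x.1).trans inf_le_left
    have hinj : Function.Injective
        (fun (s : Γ(M, V)) (x : t) => M.presheaf.map (homOfLE (hWV' x)).op s) := by
      intro s s' hs
      refine TopCat.Sheaf.eq_of_locally_eq' (⟨M.presheaf, M.isSheaf⟩ : TopCat.Sheaf Ab.{u} X)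
        (fun x : t => W x.1) V (fun x => homOfLE (hWV' x)) ?_ s s' (fun x => congrFun hs x)
      intro y hy
      have := ht hy
      simp only [Set.mem_iUnion] at this
      obtain ⟨x, hx, hy'⟩ := this
      exact Opens.mem_iSup.2 ⟨⟨x, hx⟩, hy'⟩
    exact hinj.countable

end

section Coprod

/-- Global sections of a countable coproduct of quasi-coherent modules on an affine scheme. -/
lemma countable_spec {R : CommRingCat.{u}} {ι : Type} [Countable ι]
    (F : Discrete ι ⥤ (Spec R).Modules) (hF : ∀ j, Coh.IsQCoh (F.obj j)) (c : Cocone F)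
    (hc : IsColimit c) (h : ∀ j, Countable (moduleSpecΓFunctor.obj (F.obj j))) :
    Countable (moduleSpecΓFunctor.obj c.pt) := by
  classical
  let G := F ⋙ moduleSpecΓFunctor
  have h1 : IsColimit ((tilde.functor R).mapCocone (colimit.cocone G)) :=
    isColimitOfPreserves (tilde.functor R) (colimit.isColimit G)
  have e : (tilde.functor R).obj (colimit G) ≅ c.pt :=
    h1.coconePointsIsoOfNatIso hc (PerfB.QCohLocal.diagramIso F hF)
  have e2 : colimit G ≅ moduleSpecΓFunctor.obj c.pt :=
    (tilde.toTildeΓNatIso (R := R)).app (colimit G) ≪≫ moduleSpecΓFunctor.mapIso e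
  have e3 : colimit G ≅ ∐ (fun i => G.obj ⟨i⟩) :=
    HasColimit.isoOfNatIso (Discrete.natIsoFunctor)
  have e4 := ModuleCat.coprodIsoDirectSum.{u, 0, u} (R := R) (fun i : ι => G.obj ⟨i⟩)
  let e5 := (e2.symm ≪≫ e3 ≪≫ e4).toLinearEquiv
  have h' : ∀ i : ι, Countable (G.obj ⟨i⟩) := fun i => h ⟨i⟩
  have : Countable (DirectSum ι fun i => G.obj ⟨i⟩) :=
    inferInstanceAs (Countable (Π₀ i, G.obj ⟨i⟩))
  exact e5.injective.countable

variable {X : Scheme.{u}}

/-- A countable coproduct of quasi-coherent modules with countable sections is of this type. -/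
lemma cs_of_isColimit {ι : Type} [Countable ι] (F : Discrete ι ⥤ X.Modules)
    (hF : ∀ j, cs X (F.obj j)) (c : Cocone F) (hc : IsColimit c) : cs X c.pt := by
  refine ⟨PerfB.QCohLocal.isQCoh_of_isColimit F (fun j => (hF j).1) c hc, fun V hV => ?_⟩
  have h1 := countable_spec (R := Γ(X, V)) (F ⋙ restrictFunctor hV.fromSpec)
    (fun j => isQCoh_restrict _ (hF j).1) _
    (isColimitOfPreserves (restrictFunctor hV.fromSpec) hc) (fun j => by
      have h2 : Countable Γ(F.obj j, hV.fromSpec ''ᵁ ⊤) := by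
        rw [CohqB.FiniteType2.fromSpec_image_top hV]
        exact (hF j).2 V hV
      exact h2)
  have h3 : Countable Γ(c.pt, hV.fromSpec ''ᵁ ⊤) := h1
  rw [CohqB.FiniteType2.fromSpec_image_top hV] at h3
  exact h3

end Coprod

section Free

variable {X : Scheme.{u}}

lemma cs_structureModule
    (hX : ∀ U : X.Opens, IsAffineOpen U → Countable (X.presheaf.obj (op U))) :
    cs X (Coh.structureModule X) :=
  ⟨isQCoh_unit X, fun V hV => hX V hV⟩

lemma cs_freeMod (hX : ∀ U : X.Opens, IsAffineOpen U → Countable (X.presheaf.obj (op U))) (n : ℕ) :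
    cs X (FlatMod.freeMod X n) :=
  cs_of_isColimit (Discrete.functor fun _ : Fin n => Coh.structureModule X)
    (fun _ => cs_structureModule hX) _ (coproductIsCoproduct _)

lemma countable_opens (hX : ∀ U : X.Opens, IsAffineOpen U → Countable (X.presheaf.obj (op U)))
    (U : X.Opens) (V : (U : Scheme.{u}).Opens) (hV : IsAffineOpen V) :
    Countable ((U : Scheme.{u}).presheaf.obj (op V)) := by
  have h1 : IsAffineOpen (U.ι ''ᵁ V) := hV.image_of_isOpenImmersion U.ι
  have h2 := hX _ h1
  exact (U.ι.appIso V).commRingCatIsoToRingEquiv.symm.injective.countable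

lemma cs_of_isFinLocFree (hX : ∀ U : X.Opens, IsAffineOpen U → Countable (X.presheaf.obj (op U)))
    {M : X.Modules} (hM : FlatMod.IsFinLocFree M) : cs X M :=
  cs_of_restrict_opens M fun x => by
    obtain ⟨U, n, hx, ⟨e⟩⟩ := hM x
    exact ⟨U, hx, cs_of_iso e.symm (cs_freeMod (fun V hV => countable_opens hX U V hV) n)⟩

end Free

section Derived

open CohomIn

variable {X : Scheme.{u}}

/-- Perfect complexes have countable cohomology over affine opens when the structure sheaf does. -/
theorem coh_cs_of_isPerfect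
    (hX : ∀ U : X.Opens, IsAffineOpen U → Countable (X.presheaf.obj (op U)))
    {K : DCoh.D X} (hK : DCoh.IsPerfect K) : coh (cs X) K := fun i => by
  refine cs_of_restrict_opens _ fun x => ?_
  obtain ⟨V, hx, E, hE, ⟨e⟩⟩ := (isPerfect_iff K).1 hK x
  refine ⟨V, hx, cs_of_iso ?_ (coh_Q_of_terms (cs V) E
    (fun j => cs_of_isFinLocFree (fun W hW => countable_opens hX V W hW) (hE.2 j)) i)⟩
  exact (DerivedCategory.homologyFunctor _ i).mapIso e.symm ≪≫ HDrestrict V.ι K i

/-- Countable coproducts. -/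
theorem coh_cs_coproduct (K : ℕ → DCoh.D X) (hK : ∀ n, coh (cs X) (K n)) [HasCoproduct K] :
    coh (cs X) (∐ K) := fun i =>
  cs_of_isColimit _ (fun j => hK j.as i) _
    (isColimitOfPreserves (DerivedCategory.homologyFunctor X.Modules i) (coproductIsCoproduct K))

end Derived

end Groth.Agent.PerfA.CountSec
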