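import Groth.Agent.PerfA.HypAffine
import Groth.Agent.PerfA.CountSec

/-!
# Objects with countably many maps to a fixed object

`homC K` is the triangulated property of `E` such that all `E⟦i⟧ ⟶ K` are countable.
-/

set_option autoImplicit false
universe v u
open CategoryTheory CategoryTheory.Limits CategoryTheory.Pretriangulated AlgebraicGeometry Opposite
open ZeroObject

namespace Groth.Agent.PerfA.CountHom

open Groth.Agent.PerfA.CountSec

section Abstract

variable {D : Type u} [Category.{v} D] [Preadditive D] [HasZeroObject D] [HasShift D ℤ]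
  [∀ n : ℤ, (shiftFunctor D n).Additive] [Pretriangulated D] (K : D)

/-- Objects all of whose shifts have countably many maps to `K`. -/
def homC : ObjectProperty D := fun E => ∀ i : ℤ, Countable (E⟦i⟧ ⟶ K)

instance : (homC K).IsClosedUnderIsomorphisms where
  of_iso {E E'} e h i := by
    have := h i
    exact Function.Injective.countable (f := fun x : E'⟦i⟧ ⟶ K => e.hom⟦i⟧' ≫ x)
      (fun x y hxy => (cancel_epi (e.hom⟦i⟧')).1 hxy)

instance : (homC K).IsStableUnderShift ℤ where
  isStableUnderShiftBy a := ⟨fun E h i => by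
    have := h (a + i)
    let e : (E⟦a⟧)⟦i⟧ ≅ E⟦a + i⟧ := ((shiftFunctorAdd D a i).app E).symm
    exact Function.Injective.countable (f := fun x : (E⟦a⟧)⟦i⟧ ⟶ K => e.inv ≫ x)
      (fun x y hxy => (cancel_epi e.inv).1 hxy)⟩

lemma homC_ext₂ (T : Triangle D) (hT : T ∈ distTriang D) (h1 : homC K T.obj₁)
    (h3 : homC K T.obj₃) : homC K T.obj₂ := fun i => by
  have h1' := h1 i
  have h3' := h3 i
  have hT' := Triangle.shift_distinguished T hT i
  refine countable_of_exact (A := T.obj₃⟦i⟧ ⟶ K) (B := T.obj₂⟦i⟧ ⟶ K) (C := T.obj₁⟦i⟧ ⟶ K)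
    (fun x => (Triangle.shiftFunctor D i |>.obj T).mor₂ ≫ x)
    (Preadditive.leftComp K (Triangle.shiftFunctor D i |>.obj T).mor₁) fun b hb => ?_
  obtain ⟨a, ha⟩ := Triangle.yoneda_exact₂ _ hT' b hb
  exact ⟨a, ha.symm⟩

instance : (homC K).ContainsZero where
  exists_zero := ⟨0, isZero_zero D, fun i => by
    have h0 : IsZero ((0 : D)⟦i⟧) := (shiftFunctor D i).map_isZero (isZero_zero D)
    have : Subsingleton ((0 : D)⟦i⟧ ⟶ K) := ⟨fun a b => h0.eq_of_src a b⟩
    exact @Finite.to_countable _ (@Finite.of_subsingleton _ this)⟩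

instance : (homC K).IsTriangulated where
  ext₂' T hT h1 h3 := ObjectProperty.le_isoClosure _ _ (homC_ext₂ K T hT h1 h3)

end Abstract

section Scheme

attribute [local instance] HasDerivedCategory.standard

open Groth.Agent.PerfA.ExtZero Groth.Agent.PerfA.Hyp1

variable {X : Scheme.{u}}

/-- Countably many maps from the shifts of `j_!O_U`, `U` affine. -/
lemma homC_OU (K : DCoh.D X) (hK : DCoh.IsQCohD K)
    (hKc : ∀ V : X.Opens, IsAffineOpen V → ∀ i : ℤ, Countable ((DCoh.HD K i).val.obj (op V)))
    (U : X.Opens) (hU : IsAffineOpen U) :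
    homC K ((DerivedCategory.singleFunctor X.Modules 0).obj (OU U)) := fun i => by
  have h1 := HypAffine.toHD_bijective K hK U hU (-i)
  have : Countable Γ(DCoh.HD K (-i), U) := hKc U hU (-i)
  have h2 : Countable (P (-i) U ⟶ K) := h1.1.countable
  let e : ((DerivedCategory.singleFunctor X.Modules 0).obj (OU U))⟦i⟧ ≅ P (-i) U :=
    ((DerivedCategory.singleFunctors X.Modules).shiftIso i (-i) 0 (by omega)).app (OU U)
  exact Function.Injective.countable
    (f := fun x : ((DerivedCategory.singleFunctor X.Modules 0).obj (OU U))⟦i⟧ ⟶ K => e.inv ≫ x)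
    (fun x y hxy => (cancel_epi e.inv).1 hxy)

end Scheme

end Groth.Agent.PerfA.CountHom
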