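import Groth.Agent.PerfA.CountHom
import Groth.Agent.PerfA.PerfInd

/-!
# Countably many maps from a perfect complex
-/

set_option autoImplicit false
universe v u
open CategoryTheory CategoryTheory.Limits CategoryTheory.Pretriangulated AlgebraicGeometry Opposite
attribute [local instance] HasDerivedCategory.standard

namespace Groth.Agent.PerfA.CountHom

open Groth.Agent.PerfA.CountSec

variable {X : Scheme.{u}} [CompactSpace X] [QuasiSeparatedSpace X]

/-- Maps from the shifts of a perfect complex to an object of `D_QCoh` whose cohomology sheaves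
have countably many sections over affine opens. -/
theorem homC_of_isPerfect (K : DCoh.D X) (hK : DCoh.IsQCohD K)
    (hKc : ∀ V : X.Opens, IsAffineOpen V → ∀ i : ℤ, Countable ((DCoh.HD K i).val.obj (op V)))
    (E : DCoh.D X) (hE : DCoh.IsPerfect E) : homC K E :=
  PerfInd.prop_of_isPerfect (homC K) (fun U hU => homC_OU K hK hKc U hU) E hE

omit [CompactSpace X] [QuasiSeparatedSpace X] in
lemma countable_hom_shift {K E : DCoh.D X} (h : homC K E) (i : ℤ) : Countable (E ⟶ K⟦i⟧) := by
  have h1 := h (-i)
  let e : (K⟦i⟧)⟦-i⟧ ≅ K := (shiftFunctorCompIsoId (DCoh.D X) i (-i) (by omega)).app K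
  refine Function.Injective.countable (f := fun x : E ⟶ K⟦i⟧ => (x⟦-i⟧' ≫ e.hom : E⟦-i⟧ ⟶ K)) ?_
  intro x y hxy
  exact (shiftFunctor (DCoh.D X) (-i)).map_injective ((cancel_mono e.hom).1 hxy)

end Groth.Agent.PerfA.CountHom
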