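import Mathlib.Algebra.Homology.DerivedCategory.TStructure
import Mathlib.Algebra.Homology.DerivedCategory.HomologySequence
import Mathlib.Algebra.Homology.HomologicalComplexLimitsEventuallyConstant
import Mathlib.Algebra.Homology.SingleHomology
import Mathlib.CategoryTheory.Functor.OfSequence
import Mathlib.Algebra.Homology.HomotopyCategory.MappingCone
import Mathlib.Algebra.Homology.HomotopyCategory.DegreewiseSplit

/-!
# Attaching cells relative to an exact functor

`T : C ⥤ D` is an exact functor between abelian categories, `M` a cochain complex in `C` such that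
`T M` is bounded above.  Attaching successively cells `L[-n]` with `L` in a class `𝓕`, we obtain
`M ⟶ K` which is degreewise a monomorphism with cokernel in `𝓕` (and an isomorphism in large degrees)
and such that `T K` is acyclic.
-/

set_option autoImplicit false

universe w v v' u u'

open CategoryTheory CategoryTheory.Limits

namespace Groth.Agent.PerfA.ExtCells

variable {C : Type u} [Category.{v} C] [Abelian C]
variable {D : Type u'} [Category.{v'} D] [Abelian D]

open CochainComplex HomologicalComplex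

section cone

lemma isIso_inr_f {F G : CochainComplex C ℤ} (φ : F ⟶ G) (i : ℤ) (h : IsZero (F.X (i + 1))) :
    IsIso ((mappingCone.inr φ).f i) := by
  refine ⟨(mappingCone.snd φ).v i i (add_zero i), by simp, ?_⟩
  have := mappingCone.id_X φ i (i + 1) rfl
  rw [← this]
  have h0 : (mappingCone.fst φ).1.v i (i + 1) rfl = 0 := h.eq_of_tgt _ _
  rw [h0]
  simp

instance mono_inr_f {F G : CochainComplex C ℤ} (φ : F ⟶ G) (i : ℤ) :
    Mono ((mappingCone.inr φ).f i) := by
  have : IsSplitMono ((mappingCone.inr φ).f i) :=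
    IsSplitMono.mk' { retraction := (mappingCone.snd φ).v i i (add_zero i) }
  infer_instance

/-- The cokernel of `G.X i ⟶ (mappingCone φ).X i` is `F.X (i + 1)`. -/
lemma cokernel_inr_f {F G : CochainComplex C ℤ} (φ : F ⟶ G) (i : ℤ) :
    Nonempty (cokernel ((mappingCone.inr φ).f i) ≅ F.X (i + 1)) := by
  let c : CokernelCofork ((mappingCone.inr φ).f i) :=
    CokernelCofork.ofπ ((mappingCone.fst φ).1.v i (i + 1) rfl) (by simp)
  have hc : IsColimit c := CokernelCofork.IsColimit.ofπ _ _
    (fun {Z} k _ => (mappingCone.inl φ).v (i + 1) i (by lia) ≫ k)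
    (fun {Z} k hk => by
      apply mappingCone.ext_from φ (i + 1) i rfl
      · simp
      · simp [hk])
    (fun {Z} k hk m hm => by
      rw [← hm]
      simp)
  exact ⟨(colimit.isColimit _).coconePointUniqueUpToIso hc⟩

attribute [local instance] HasDerivedCategory.standard in
/-- The long exact sequence of a mapping cone, in the form needed here. -/
lemma exactAt_mappingCone {S K : CochainComplex C ℤ} (g : S ⟶ K) (i : ℤ)
    (h1 : IsZero (S.homology (i + 1))) (h2 : Epi (homologyMap g i)) :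
    (mappingCone g).ExactAt i := by
  rw [exactAt_iff_isZero_homology]
  have e2 := CochainComplex.homologyMap_comp_eq_zero_of_distTriang _
    (DerivedCategory.mappingCone_triangle_distinguished g) i
  have e3 := CochainComplex.homologyMap_exact₃_of_distTriang _
    (DerivedCategory.mappingCone_triangle_distinguished g) i (i + 1) rfl
  have epi2 : Epi (homologyMap (mappingCone.triangle g).mor₂ i) :=
    e3.epi_f (h1.eq_of_tgt _ _)
  have z2 : homologyMap (mappingCone.triangle g).mor₂ i = 0 := by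
    have : Epi (homologyMap (mappingCone.triangle g).mor₁ i) := h2
    rw [← cancel_epi (homologyMap (mappingCone.triangle g).mor₁ i)]
    simpa using e2
  have h3 : 𝟙 ((mappingCone.triangle g).obj₃.homology i) = 0 := by
    rw [← cancel_epi (homologyMap (mappingCone.triangle g).mor₂ i), z2]
    simp
  exact (IsZero.iff_id_eq_zero _).2 h3

end cone

section stage

variable (T : C ⥤ D) [T.Additive]

/-- A cell of `single L n` attached to `K` through `g` in a complex `T K` exact in degrees `> n`. -/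
lemma exactAt_map_mappingCone {L : C} {K : CochainComplex C ℤ} {n : ℤ}
    (g : (HomologicalComplex.single C (ComplexShape.up ℤ) n).obj L ⟶ K)
    (hK : ∀ i, n < i → ((T.mapHomologicalComplex (ComplexShape.up ℤ)).obj K).ExactAt i)
    (hg : Epi (homologyMap ((T.mapHomologicalComplex (ComplexShape.up ℤ)).map g) n))
    (i : ℤ) (hi : n ≤ i) :
    ((T.mapHomologicalComplex (ComplexShape.up ℤ)).obj (mappingCone g)).ExactAt i := by
  have key : (mappingCone ((T.mapHomologicalComplex (ComplexShape.up ℤ)).map g)).ExactAt i := by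
    apply exactAt_mappingCone
    · rw [← exactAt_iff_isZero_homology]
      apply ShortComplex.exact_of_isZero_X₂
      exact T.map_isZero (isZero_single_obj_X (ComplexShape.up ℤ) n L (i + 1) (by lia))
    · obtain hi | rfl := hi.lt_or_eq
      · have := hK i hi
        rw [exactAt_iff_isZero_homology] at this
        exact ⟨fun _ _ _ => this.eq_of_src _ _⟩
      · exact hg
  exact key.of_iso (mappingCone.mapHomologicalComplexIso g T).symm


/-- A stage of the construction: a good complex `K` such that `T K` is exact in degrees `> n`. -/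
structure Stage (Good : CochainComplex C ℤ → Prop) (n : ℤ) where
  /-- the complex -/
  K : CochainComplex C ℤ
  good : Good K
  exact : ∀ i, n < i → ((T.mapHomologicalComplex (ComplexShape.up ℤ)).obj K).ExactAt i

variable {T} {Good : CochainComplex C ℤ → Prop} (𝓕 : ObjectProperty C)

/-- the relation between two successive stages -/
structure IsNext {n n' : ℤ} (S : Stage T Good n) (S' : Stage T Good n') (φ : S.K ⟶ S'.K) : Prop where
  iso : ∀ i, i ≠ n' → IsIso (φ.f i)
  mono : Mono (φ.f n')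
  coker : 𝓕 (cokernel (φ.f n'))

variable [𝓕.IsClosedUnderIsomorphisms]
  (hcone : ∀ (n : ℤ) (L : C), 𝓕 L → ∀ (K : CochainComplex C ℤ)
    (g : (HomologicalComplex.single C (ComplexShape.up ℤ) n).obj L ⟶ K), Good K → Good (mappingCone g))
  (hstep : ∀ (n : ℤ) (K : CochainComplex C ℤ), Good K →
    (∀ i, n < i → ((T.mapHomologicalComplex (ComplexShape.up ℤ)).obj K).ExactAt i) →
    ∃ (L : C) (_ : 𝓕 L) (g : (HomologicalComplex.single C (ComplexShape.up ℤ) n).obj L ⟶ K),
      Epi (homologyMap ((T.mapHomologicalComplex (ComplexShape.up ℤ)).map g) n))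

include hcone hstep in
lemma Stage.exists_next {n : ℤ} (S : Stage T Good n) (n' : ℤ) (hn : n' + 1 = n) :
    ∃ (S' : Stage T Good n') (φ : S.K ⟶ S'.K), IsNext 𝓕 S S' φ := by
  obtain ⟨L, hL, g, hg⟩ := hstep n S.K S.good S.exact
  refine ⟨⟨mappingCone g, hcone n L hL _ g S.good, fun i hi =>
    exactAt_map_mappingCone T g S.exact hg i (by lia)⟩, mappingCone.inr g, ?_, ?_, ?_⟩
  · intro i hi
    exact isIso_inr_f g i (isZero_single_obj_X (ComplexShape.up ℤ) n L (i + 1) (by lia))
  · exact mono_inr_f g n'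
  · obtain ⟨e⟩ := cokernel_inr_f g n'
    refine 𝓕.prop_of_iso (e ≪≫ ?_).symm hL
    subst hn
    exact singleObjXSelf (ComplexShape.up ℤ) _ L

/-- the next stage -/
noncomputable def Stage.next {n : ℤ} (S : Stage T Good n) (n' : ℤ) (hn : n' + 1 = n) :
    Stage T Good n' :=
  (S.exists_next 𝓕 hcone hstep n' hn).choose

/-- the map to the next stage -/
noncomputable def Stage.toNext {n : ℤ} (S : Stage T Good n) (n' : ℤ) (hn : n' + 1 = n) :
    S.K ⟶ (S.next 𝓕 hcone hstep n' hn).K :=
  (S.exists_next 𝓕 hcone hstep n' hn).choose_spec.choose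

lemma Stage.isNext_toNext {n : ℤ} (S : Stage T Good n) (n' : ℤ) (hn : n' + 1 = n) :
    IsNext 𝓕 S (S.next 𝓕 hcone hstep n' hn) (S.toNext 𝓕 hcone hstep n' hn) :=
  (S.exists_next 𝓕 hcone hstep n' hn).choose_spec.choose_spec

/-- the sequence of all stages -/
noncomputable def seq {b : ℤ} (S : Stage T Good (b - (0 : ℕ))) : ∀ (q : ℕ), Stage T Good (b - q)
  | 0 => S
  | q + 1 => (seq S q).next 𝓕 hcone hstep _ (by lia)

/-- the sequence of all stages, as a functor -/
noncomputable def seqFunctor {b : ℤ} (S : Stage T Good (b - (0 : ℕ))) : ℕ ⥤ CochainComplex C ℤ :=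
  Functor.ofSequence (X := fun q => (seq 𝓕 hcone hstep S q).K)
    (fun q => (seq 𝓕 hcone hstep S q).toNext 𝓕 hcone hstep _ (by lia))

lemma seqFunctor_map_succ {b : ℤ} (S : Stage T Good (b - (0 : ℕ))) (q : ℕ) :
    (seqFunctor 𝓕 hcone hstep S).map (homOfLE (Nat.le_succ q)) =
      (seq 𝓕 hcone hstep S q).toNext 𝓕 hcone hstep _ (by lia) := by
  dsimp [seqFunctor]
  rw [Functor.ofSequence_map_homOfLE_succ]

lemma isIso_map_of_le {b : ℤ} (S : Stage T Good (b - (0 : ℕ))) {p q : ℕ} (hpq : p ≤ q) (i : ℤ)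
    (hi : b - p ≤ i) : IsIso (((seqFunctor 𝓕 hcone hstep S).map (homOfLE hpq)).f i) := by
  obtain ⟨k, rfl⟩ := Nat.exists_eq_add_of_le hpq
  induction k with
  | zero =>
    simp only [homOfLE_refl, CategoryTheory.Functor.map_id]
    infer_instance
  | succ k h =>
    have h1 := h (by lia)
    rw [← homOfLE_comp (show p ≤ p + k by lia) (show p + k ≤ p + (k + 1) by lia),
      Functor.map_comp, HomologicalComplex.comp_f]
    have h2 : IsIso (((seqFunctor 𝓕 hcone hstep S).map
        (homOfLE (show p + k ≤ p + (k + 1) by lia))).f i) := by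
      erw [seqFunctor_map_succ 𝓕 hcone hstep S (p + k)]
      exact ((seq 𝓕 hcone hstep S (p + k)).isNext_toNext 𝓕 hcone hstep _ (by lia)).iso i
        (by push_cast; lia)
    exact IsIso.comp_isIso

lemma isIso_map_zero_of_lt {b : ℤ} (S : Stage T Good (b - (0 : ℕ))) (q : ℕ) (i : ℤ)
    (hi : i < b - q) : IsIso (((seqFunctor 𝓕 hcone hstep S).map (homOfLE (Nat.zero_le q))).f i) := by
  induction q with
  | zero =>
    simp only [homOfLE_refl, CategoryTheory.Functor.map_id]
    infer_instance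
  | succ k h =>
    have h1 := h (by push_cast at hi; lia)
    rw [← homOfLE_comp (show 0 ≤ k by lia) (show k ≤ k + 1 by lia),
      Functor.map_comp, HomologicalComplex.comp_f]
    have h2 : IsIso (((seqFunctor 𝓕 hcone hstep S).map
        (homOfLE (show k ≤ k + 1 by lia))).f i) := by
      erw [seqFunctor_map_succ 𝓕 hcone hstep S k]
      exact ((seq 𝓕 hcone hstep S k).isNext_toNext 𝓕 hcone hstep _ (by lia)).iso i
        (by push_cast at hi ⊢; lia)
    exact IsIso.comp_isIso

lemma mono_coker {X Y Z W : C} (a : X ⟶ Y) (m : Y ⟶ Z) (c : Z ⟶ W) (ha : IsIso a)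
    (hm : Mono m) (hc : IsIso c) (h : 𝓕 (cokernel m)) :
    Mono (a ≫ m ≫ c) ∧ 𝓕 (cokernel (a ≫ m ≫ c)) := by
  refine ⟨inferInstance, 𝓕.prop_of_iso ?_ h⟩
  exact (cokernelEpiComp _ _ ≪≫ cokernelCompIsIso _ _).symm

lemma isEventuallyConstantFrom {b : ℤ} (S : Stage T Good (b - (0 : ℕ))) (i : ℤ) (q : ℕ)
    (hi : b - q ≤ i) :
    (seqFunctor 𝓕 hcone hstep S ⋙ HomologicalComplex.eval C (ComplexShape.up ℤ) i).IsEventuallyConstantFrom q :=
  fun _ φ => isIso_map_of_le 𝓕 hcone hstep S (leOfHom φ) i hi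

instance {b : ℤ} (S : Stage T Good (b - (0 : ℕ))) (i : ℤ) :
    HasColimit (seqFunctor 𝓕 hcone hstep S ⋙ HomologicalComplex.eval C (ComplexShape.up ℤ) i) :=
  (isEventuallyConstantFrom 𝓕 hcone hstep S i (b - i).natAbs (by lia)).hasColimit

instance {b : ℤ} (S : Stage T Good (b - (0 : ℕ))) : HasColimit (seqFunctor 𝓕 hcone hstep S) :=
  inferInstance

/-- the colimit of all stages -/
noncomputable def colim {b : ℤ} (S : Stage T Good (b - (0 : ℕ))) : CochainComplex C ℤ :=
  colimit (seqFunctor 𝓕 hcone hstep S)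

/-- the maps to the colimit of all stages -/
noncomputable def toColim {b : ℤ} (S : Stage T Good (b - (0 : ℕ))) (q : ℕ) :
    (seq 𝓕 hcone hstep S q).K ⟶ colim 𝓕 hcone hstep S :=
  colimit.ι (seqFunctor 𝓕 hcone hstep S) q

lemma toColim_w {b : ℤ} (S : Stage T Good (b - (0 : ℕ))) {p q : ℕ} (hpq : p ≤ q) :
    (seqFunctor 𝓕 hcone hstep S).map (homOfLE hpq) ≫ toColim 𝓕 hcone hstep S q =
      toColim 𝓕 hcone hstep S p :=
  colimit.w (seqFunctor 𝓕 hcone hstep S) _

lemma isIso_toColim_f {b : ℤ} (S : Stage T Good (b - (0 : ℕ))) (q : ℕ) (i : ℤ) (hi : b - q ≤ i) :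
    IsIso ((toColim 𝓕 hcone hstep S q).f i) :=
  (isEventuallyConstantFrom 𝓕 hcone hstep S i q hi).isIso_ι_of_isColimit
    (isColimitOfPreserves (HomologicalComplex.eval C (ComplexShape.up ℤ) i)
      (colimit.isColimit (seqFunctor 𝓕 hcone hstep S)))

include hcone hstep in
/-- The result of attaching cells. -/
theorem exists_cells_aux {b : ℤ} (S : Stage T Good (b - (0 : ℕ))) :
    ∃ (K : CochainComplex C ℤ) (ι : S.K ⟶ K), (∀ i, b ≤ i → IsIso (ι.f i)) ∧
      (∀ i, i < b → Mono (ι.f i) ∧ 𝓕 (cokernel (ι.f i))) ∧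
      ∀ i, ((T.mapHomologicalComplex (ComplexShape.up ℤ)).obj K).ExactAt i := by
  refine ⟨colim 𝓕 hcone hstep S, toColim 𝓕 hcone hstep S 0, ?_, ?_, ?_⟩
  · intro i hi
    exact isIso_toColim_f 𝓕 hcone hstep S 0 i (by simpa using hi)
  · intro i hi
    obtain ⟨q, rfl⟩ : ∃ q : ℕ, i = b - (q + 1 : ℕ) := ⟨(b - i - 1).natAbs, by lia⟩
    have h1 := isIso_map_zero_of_lt 𝓕 hcone hstep S q (b - (q + 1 : ℕ)) (by push_cast; lia)
    have h2 := isIso_toColim_f 𝓕 hcone hstep S (q + 1) (b - (q + 1 : ℕ)) (by lia)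
    have hn := (seq 𝓕 hcone hstep S q).isNext_toNext 𝓕 hcone hstep (b - (q + 1 : ℕ)) (by push_cast; lia)
    have hm := hn.mono
    have hc := hn.coker
    have e : (toColim 𝓕 hcone hstep S 0).f (b - (q + 1 : ℕ)) =
        ((seqFunctor 𝓕 hcone hstep S).map (homOfLE (Nat.zero_le q))).f (b - (q + 1 : ℕ)) ≫
        ((seq 𝓕 hcone hstep S q).toNext 𝓕 hcone hstep (b - (q + 1 : ℕ)) (by push_cast; lia)).f (b - (q + 1 : ℕ)) ≫
        (toColim 𝓕 hcone hstep S (q + 1)).f (b - (q + 1 : ℕ)) := by
      rw [← toColim_w 𝓕 hcone hstep S (Nat.zero_le (q + 1)),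
        ← homOfLE_comp (Nat.zero_le q) (Nat.le_succ q), Functor.map_comp, Category.assoc]
      erw [seqFunctor_map_succ 𝓕 hcone hstep S q]
      rfl
    have := mono_coker 𝓕 _ _ _ h1 hm h2 hc
    exact e ▸ this
  · intro i
    obtain ⟨q, hq⟩ : ∃ q : ℕ, b - q < i - 1 := ⟨(b - i + 2).natAbs, by lia⟩
    have h0 := isIso_toColim_f 𝓕 hcone hstep S q (i - 1) (by lia)
    have h1 := isIso_toColim_f 𝓕 hcone hstep S q i (by lia)
    have h2 := isIso_toColim_f 𝓕 hcone hstep S q (i + 1) (by lia)
    let f := (T.mapHomologicalComplex (ComplexShape.up ℤ)).map (toColim 𝓕 hcone hstep S q)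
    have hf : QuasiIsoAt f i := by
      rw [quasiIsoAt_iff' _ (i - 1) i (i + 1) (by simp) (by simp)]
      let φ := (shortComplexFunctor' D _ (i - 1) i (i + 1)).map f
      have : IsIso φ.τ₁ := inferInstanceAs (IsIso (T.map ((toColim 𝓕 hcone hstep S q).f (i - 1))))
      have : IsIso φ.τ₂ := inferInstanceAs (IsIso (T.map ((toColim 𝓕 hcone hstep S q).f i)))
      have : IsIso φ.τ₃ := inferInstanceAs (IsIso (T.map ((toColim 𝓕 hcone hstep S q).f (i + 1))))
      exact ShortComplex.quasiIso_of_epi_of_isIso_of_mono φ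
    exact (exactAt_iff_of_quasiIsoAt f i).1 ((seq 𝓕 hcone hstep S q).exact i (by lia))

end stage

/-- **Attaching cells relative to an additive functor.**  Let `M` be a complex which is `Good`, with
`T M` exact in degrees `> b`.  Assume that mapping cones of maps `L[-n] ⟶ K` with `L ∈ 𝓕`, `K` good are
good, and that for `K` good with `T K` exact in degrees `> n` there is `L ∈ 𝓕` and `L[-n] ⟶ K` inducing
an epimorphism on `H^n` after applying `T`.  Then there is `M ⟶ K` which is an isomorphism in degrees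
`≥ b`, degreewise mono with cokernel in `𝓕` in degrees `< b`, and such that `T K` is acyclic. -/
theorem exists_cells (T : C ⥤ D) [T.Additive] (𝓕 : ObjectProperty C) [𝓕.IsClosedUnderIsomorphisms]
    (Good : CochainComplex C ℤ → Prop)
    (hcone : ∀ (n : ℤ) (L : C), 𝓕 L → ∀ (K : CochainComplex C ℤ)
      (g : (HomologicalComplex.single C (ComplexShape.up ℤ) n).obj L ⟶ K), Good K → Good (mappingCone g))
    (hstep : ∀ (n : ℤ) (K : CochainComplex C ℤ), Good K →
      (∀ i, n < i → ((T.mapHomologicalComplex (ComplexShape.up ℤ)).obj K).ExactAt i) →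
      ∃ (L : C) (_ : 𝓕 L) (g : (HomologicalComplex.single C (ComplexShape.up ℤ) n).obj L ⟶ K),
        Epi (homologyMap ((T.mapHomologicalComplex (ComplexShape.up ℤ)).map g) n))
    (M : CochainComplex C ℤ) (hM : Good M) (b : ℤ)
    (hb : ∀ i, b < i → ((T.mapHomologicalComplex (ComplexShape.up ℤ)).obj M).ExactAt i) :
    ∃ (K : CochainComplex C ℤ) (ι : M ⟶ K), (∀ i, b ≤ i → IsIso (ι.f i)) ∧
      (∀ i, i < b → Mono (ι.f i) ∧ 𝓕 (cokernel (ι.f i))) ∧
      ∀ i, ((T.mapHomologicalComplex (ComplexShape.up ℤ)).obj K).ExactAt i :=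
  exists_cells_aux (T := T) 𝓕 hcone hstep (b := b) ⟨M, hM, fun i hi => hb i (by simpa using hi)⟩

section resolution

open DerivedCategory Pretriangulated ZeroObject

/-- If `0 ⟶ M ⟶ K ⟶ N ⟶ 0` is a short exact sequence of complexes with `K` acyclic, then
`Q N[-1] ≅ Q M`. -/
lemma nonempty_iso_shift_of_acyclic [HasDerivedCategory.{w} D] {S : ShortComplex (CochainComplex D ℤ)}
    (hS : S.ShortExact) (hK : ∀ i, S.X₂.ExactAt i) :
    Nonempty (Q.obj (S.X₃⟦(-1 : ℤ)⟧) ≅ Q.obj S.X₁) := by
  have hz : IsZero (Q.obj S.X₂) := by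
    have : QuasiIso (0 : (0 : CochainComplex D ℤ) ⟶ S.X₂) := by
      refine ⟨fun i => ?_⟩
      rw [quasiIsoAt_iff_exactAt]
      · exact hK i
      · exact ShortComplex.exact_of_isZero_X₂ _
          ((HomologicalComplex.eval _ _ i).map_isZero (isZero_zero _))
    have e : Q.obj (0 : CochainComplex D ℤ) ≅ Q.obj S.X₂ := asIso (Q.map 0)
    exact (Q.map_isZero (isZero_zero _)).of_iso e.symm
  have hT := triangleOfSES_distinguished hS
  have : IsIso (triangleOfSESδ hS) := by
    have := (Triangle.isZero₂_iff_isIso₃ _ hT).1 hz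
    exact this
  exact ⟨(Q.commShiftIso (-1 : ℤ)).app S.X₃ ≪≫
    (CategoryTheory.shiftFunctor _ (-1 : ℤ)).mapIso (asIso (triangleOfSESδ hS)) ≪≫
    (shiftFunctorCompIsoId (DerivedCategory D) (1 : ℤ) (-1) (by simp)).app _⟩

/-- **Resolutions relative to an exact functor** (Stacks 08EE in abstract form). -/
theorem exists_resolution [HasDerivedCategory.{w} D] (T : C ⥤ D) [T.Additive]
    [PreservesFiniteLimits T] [PreservesFiniteColimits T]
    (𝓕 : ObjectProperty C) [𝓕.IsClosedUnderIsomorphisms]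
    (Good : CochainComplex C ℤ → Prop)
    (hcone : ∀ (n : ℤ) (L : C), 𝓕 L → ∀ (K : CochainComplex C ℤ)
      (g : (HomologicalComplex.single C (ComplexShape.up ℤ) n).obj L ⟶ K), Good K → Good (mappingCone g))
    (hstep : ∀ (n : ℤ) (K : CochainComplex C ℤ), Good K →
      (∀ i, n < i → ((T.mapHomologicalComplex (ComplexShape.up ℤ)).obj K).ExactAt i) →
      ∃ (L : C) (_ : 𝓕 L) (g : (HomologicalComplex.single C (ComplexShape.up ℤ) n).obj L ⟶ K),
        Epi (homologyMap ((T.mapHomologicalComplex (ComplexShape.up ℤ)).map g) n))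
    (M : CochainComplex C ℤ) (hM : Good M) (b : ℤ)
    (hb : ∀ i, b < i → ((T.mapHomologicalComplex (ComplexShape.up ℤ)).obj M).ExactAt i) :
    ∃ F : CochainComplex C ℤ, (∀ i, b < i → IsZero (F.X i)) ∧ (∀ i, i ≤ b → 𝓕 (F.X i)) ∧
      Nonempty (Q.obj ((T.mapHomologicalComplex (ComplexShape.up ℤ)).obj F) ≅
        Q.obj ((T.mapHomologicalComplex (ComplexShape.up ℤ)).obj M)) := by
  obtain ⟨K, ι, h1, h2, h3⟩ := exists_cells T 𝓕 Good hcone hstep M hM b hb
  have hmono : ∀ i, Mono (ι.f i) := fun i => by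
    by_cases hi : b ≤ i
    · have := h1 i hi
      infer_instance
    · exact (h2 i (by lia)).1
  have hm : Mono ι := HomologicalComplex.mono_of_mono_f _ hmono
  let S : ShortComplex (CochainComplex C ℤ) := ShortComplex.mk ι (cokernel.π ι) (cokernel.condition ι)
  have hS : S.ShortExact :=
    { exact := ShortComplex.exact_of_g_is_cokernel _ (cokernelIsCokernel ι) }
  have hTS : (S.map (T.mapHomologicalComplex (ComplexShape.up ℤ))).ShortExact :=
    hS.map_of_exact (T.mapHomologicalComplex (ComplexShape.up ℤ))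
  obtain ⟨e⟩ := nonempty_iso_shift_of_acyclic hTS h3
  have hc : ∀ i, Nonempty ((cokernel ι).X i ≅ cokernel (ι.f i)) := fun i =>
    ⟨PreservesCokernel.iso (HomologicalComplex.eval C (ComplexShape.up ℤ) i) ι⟩
  refine ⟨(cokernel ι)⟦(-1 : ℤ)⟧, ?_, ?_, ⟨?_ ≪≫ e⟩⟩
  · intro i hi
    obtain ⟨e'⟩ := hc (i + -1)
    have := h1 (i + -1) (by lia)
    exact (isZero_cokernel_of_epi (ι.f (i + -1))).of_iso e'
  · intro i hi
    obtain ⟨e'⟩ := hc (i + -1)
    exact 𝓕.prop_of_iso e'.symm (h2 (i + -1) (by lia)).2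
  · exact Q.mapIso (((T.mapHomologicalComplex (ComplexShape.up ℤ)).commShiftIso (-1 : ℤ)).app (cokernel ι))

end resolution

end Groth.Agent.PerfA.ExtCells
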