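import Groth.Agent.PerfA.Restrict
import Groth.Agent.PerfA.QCohD
import Groth.Agent.PerfA.PerfLocal
import Groth.Agent.LoccohB.KDer
import Groth.Agent.S0476
import Groth.Agent.S0484
import Groth.Agent.S0998
import Mathlib.AlgebraicGeometry.Morphisms.QuasiSeparated
import Mathlib.AlgebraicGeometry.Morphisms.QuasiCompact

/-!
# `Rf_*` for `O`-modules computed by K-injective complexes, extension of `D_QCoh` objects from
quasi-compact opens
-/

set_option autoImplicit false
universe u
open CategoryTheory CategoryTheory.Limits AlgebraicGeometry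
attribute [local instance] HasDerivedCategory.standard

namespace Groth.Agent.PerfA.ExtPush
open AlgebraicGeometry.Scheme.Modules Restrict PerfLocal QCohD

instance isGrothendieckAbelian_modules (X : Scheme.{u}) : IsGrothendieckAbelian.{u} X.Modules :=
  S0484.result _ X.ringCatSheaf

theorem enoughKInjectives (X : Scheme.{u}) : LoccohB.KDer.EnoughKInjectives X.Modules := fun K => by
  obtain ⟨I, f, h1, h2, -⟩ := S0476.result K
  exact ⟨I, f, h1, h2⟩

theorem hasRpush {X Y : Scheme.{u}} (f : X ⟶ Y) : DCoh.HasRpush f :=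
  LoccohB.KDer.hasRightDerived _ (enoughKInjectives X)

/-- `Rf_* I = f_* I` for a K-injective complex `I`. -/
theorem rpush_iso {X Y : Scheme.{u}} (f : X ⟶ Y) [DCoh.HasRpush f] (I : CochainComplex X.Modules ℤ)
    [I.IsKInjective] :
    Nonempty (DerivedCategory.Q.obj
      (((Scheme.Modules.pushforward f).mapHomologicalComplex (ComplexShape.up ℤ)).obj I) ≅
      (DCoh.Rpush f).obj (DerivedCategory.Q.obj I)) := by
  have := LoccohB.KDer.isIso_unit (DCoh.pushKh f) (enoughKInjectives X)
    ((DCoh.pushKh f).totalRightDerivedUnit DerivedCategory.Qh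
      (HomotopyCategory.quasiIso X.Modules (ComplexShape.up ℤ))) I
  exact ⟨@asIso _ _ _ _ _ this⟩

/-- Restricting the pushforward along an open immersion gives back the complex. -/
noncomputable def restrictPushCx {X Y : Scheme.{u}} (f : X ⟶ Y) [IsOpenImmersion f]
    (I : CochainComplex X.Modules ℤ) :
    ((restrictFunctor f).mapHomologicalComplex (ComplexShape.up ℤ)).obj
      (((Scheme.Modules.pushforward f).mapHomologicalComplex (ComplexShape.up ℤ)).obj I) ≅ I :=
  HomologicalComplex.Hom.isoOfComponents (fun i => (restrictFunctorAdjCounitIso f).app (I.X i))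
    fun i j _ => ((restrictFunctorAdjCounitIso f).hom.naturality (I.d i j)).symm

/-- Every object of `D_QCoh(X)` extends along a quasi-compact open immersion. -/
theorem exists_extension {X Y : Scheme.{u}} (f : X ⟶ Y) [IsOpenImmersion f] [QuasiCompact f]
    (F : DCoh.D X) (hF : DCoh.IsQCohD F) :
    ∃ G : CochainComplex Y.Modules ℤ, DCoh.IsQCohD (DCoh.toD Y G) ∧
      Nonempty (DerivedCategory.Q.obj
        (((restrictFunctor f).mapHomologicalComplex (ComplexShape.up ℤ)).obj G) ≅ F) := by
  obtain ⟨K, ⟨e⟩⟩ := exists_rep X F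
  obtain ⟨I, i, h1, h2⟩ := enoughKInjectives X K
  have := hasRpush f
  obtain ⟨e2⟩ := rpush_iso f I
  have e3 : DerivedCategory.Q.obj I ≅ F := (asIso (DerivedCategory.Q.map i)).symm ≪≫ e
  exact ⟨((Scheme.Modules.pushforward f).mapHomologicalComplex (ComplexShape.up ℤ)).obj I,
    isQCohD_of_iso e2.symm (S0998.result f _ (isQCohD_of_iso e3.symm hF)),
    ⟨DerivedCategory.Q.mapIso (restrictPushCx f I) ≪≫ e3⟩⟩

end Groth.Agent.PerfA.ExtPush
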