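import Groth.Agent.PerfA.QCohSerre
import Groth.Agent.PerfA.QCohEpi
import Groth.Agent.PerfA.PerfLocal
import Groth.Agent.PerfC.PcLocal

/-!
# Perfect and pseudo-coherent objects have quasi-coherent cohomology sheaves
-/

set_option autoImplicit false
universe u
open CategoryTheory CategoryTheory.Limits AlgebraicGeometry
attribute [local instance] HasDerivedCategory.standard

namespace Groth.Agent.PerfA.PCohQCoh

open AlgebraicGeometry.Scheme.Modules Groth.Agent.PerfA.Restrict Groth.Agent.PerfA.QCohSerre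

variable {X : Scheme.{u}}

/-- The homology of a short complex of quasi-coherent modules is quasi-coherent. -/
lemma isQCoh_homology (S : ShortComplex X.Modules) (h₁ : Coh.IsQCoh S.X₁) (h₂ : Coh.IsQCoh S.X₂)
    (h₃ : Coh.IsQCoh S.X₃) : Coh.IsQCoh S.homology :=
  isQCoh_of_iso (ShortComplex.LeftHomologyData.ofHasKernelOfHasCokernel S).homologyIso.symm
    (isQCoh_cokernel _ h₁ (isQCoh_kernel _ h₂ h₃))

/-- The cohomology sheaves of a complex of quasi-coherent modules are quasi-coherent. -/
lemma isQCohD_Q (E : CochainComplex X.Modules ℤ) (hE : ∀ i, Coh.IsQCoh (E.X i)) :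
    DCoh.IsQCohD (DerivedCategory.Q.obj E) := fun i =>
  isQCoh_of_iso ((DerivedCategory.homologyFunctorFactors X.Modules i).app E).symm
    (isQCoh_homology (E.sc i) (hE _) (hE _) (hE _))

lemma isQCohD_of_isStrictlyPerfect (E : CochainComplex X.Modules ℤ) (hE : DCoh.IsStrictlyPerfect E) :
    DCoh.IsQCohD (DerivedCategory.Q.obj E) :=
  isQCohD_Q E fun i => Groth.Agent.PerfA.QCohEpi.isQCoh_of_isFinLocFree (hE.2 i)

/-- Cohomology sheaves of an `m`-pseudo-coherent object are quasi-coherent in degrees `> m`. -/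
theorem isQCoh_HD_of_isPseudoCoherentD {m : ℤ} {K : DCoh.D X} (hK : DCoh.IsPseudoCoherentD m K)
    (i : ℤ) (hi : m < i) : Coh.IsQCoh (DCoh.HD K i) := by
  refine isQCoh_of_restrict_opens _ fun x => ?_
  obtain ⟨V, hx, E, α, hE, h1, -⟩ := (isPseudoCoherentD_iff m K).1 hK x
  refine ⟨V, hx, isQCoh_of_iso ?_ (isQCohD_of_isStrictlyPerfect E hE i)⟩
  have := h1 i hi
  exact asIso ((DerivedCategory.homologyFunctor _ i).map α) ≪≫ HDrestrict V.ι K i

/-- A pseudo-coherent object has quasi-coherent cohomology sheaves (Stacks 08E7-ish). -/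
theorem isQCohD_of_isPseudoCoherentD {K : DCoh.D X} (hK : ∀ m : ℤ, DCoh.IsPseudoCoherentD m K) :
    DCoh.IsQCohD K := fun i =>
  isQCoh_HD_of_isPseudoCoherentD (hK (i - 1)) i (by lia)

/-- A perfect object is pseudo-coherent. -/
theorem isPseudoCoherentD_of_isPerfect {K : DCoh.D X} (hK : DCoh.IsPerfect K) (m : ℤ) :
    DCoh.IsPseudoCoherentD m K := by
  rw [isPseudoCoherentD_iff]
  intro x
  obtain ⟨V, hx, E, hE, ⟨e⟩⟩ := (isPerfect_iff K).1 hK x
  exact ⟨V, hx, E, e.inv, hE, fun i _ => inferInstance, inferInstance⟩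

/-- A perfect object has quasi-coherent cohomology sheaves. -/
theorem isQCohD_of_isPerfect {K : DCoh.D X} (hK : DCoh.IsPerfect K) : DCoh.IsQCohD K :=
  isQCohD_of_isPseudoCoherentD (isPseudoCoherentD_of_isPerfect hK)

/-- An object is `m`-pseudo-coherent as soon as it receives a map from a perfect object inducing
isomorphisms on cohomology in degrees `> m` and an epimorphism in degree `m`. -/
theorem isPseudoCoherentD_of_approx {m : ℤ} {P K : DCoh.D X} (hP : DCoh.IsPerfect P) (α : P ⟶ K)
    (h1 : ∀ i : ℤ, m < i → IsIso ((DerivedCategory.homologyFunctor _ i).map α))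
    (h2 : Epi ((DerivedCategory.homologyFunctor _ m).map α)) : DCoh.IsPseudoCoherentD m K := by
  rw [isPseudoCoherentD_iff]
  intro x
  obtain ⟨V, hx, E, hE, ⟨e⟩⟩ := (isPerfect_iff P).1 hP x
  refine ⟨V, hx, E, e.inv ≫ (restrictD V.ι).map α, hE, fun i hi => ?_, ?_⟩
  · have := PerfC.PcLocal.isIso_map_restrictD V.ι α i (h1 i hi)
    rw [Functor.map_comp]
    infer_instance
  · have := PerfC.PcLocal.epi_map_restrictD V.ι α m h2
    rw [Functor.map_comp]
    exact epi_comp _ _

end Groth.Agent.PerfA.PCohQCoh
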