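import Groth.Agent.PerfA.ExtPC
import Groth.Agent.PerfA.ExtPush
import Groth.Agent.PerfA.PCohQCoh
import Groth.Agent.S0997

/-!
# Complexes on quasi-compact opens of affine schemes come from complexes of modules
-/

set_option autoImplicit false
universe u
open CategoryTheory CategoryTheory.Limits AlgebraicGeometry
attribute [local instance] HasDerivedCategory.standard

namespace Groth.Agent.PerfA.ExtFree
open AlgebraicGeometry.Scheme.Modules ExtTilde ExtPC ExtPush Restrict PerfLocal QCohD

section

variable {R : CommRingCat.{u}} {V : Scheme.{u}} (j : V ⟶ Spec R) [IsOpenImmersion j]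

/-- `T_j` on complexes is restriction of the termwise tilde complex. -/
noncomputable def TcxIso (M : CochainComplex (ModuleCat.{u} R) ℤ) :
    DerivedCategory.Q.obj ((Tcx j).obj M) ≅
      (restrictD j).obj ((DCoh.tildeD R).obj (DerivedCategory.Q.obj M)) :=
  (restrictDQ j (((tilde.functor R).mapHomologicalComplex (ComplexShape.up ℤ)).obj M)).symm ≪≫
    (restrictD j).mapIso ((tilde.functor R).mapDerivedCategoryFactors.app M).symm

/-- Every object of `D_QCoh(V)`, `V` a quasi-compact open of `Spec R`, comes from a complex of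
`R`-modules. -/
theorem exists_module_model [CompactSpace V] (E : DCoh.D V) (hE : DCoh.IsQCohD E) :
    ∃ M : CochainComplex (ModuleCat.{u} R) ℤ,
      Nonempty (DerivedCategory.Q.obj ((Tcx j).obj M) ≅ E) := by
  have : QuasiCompact j := (quasiCompact_iff_compactSpace j).2 inferInstance
  obtain ⟨G, hG, ⟨e⟩⟩ := exists_extension j E hE
  obtain ⟨M', ⟨e1⟩⟩ := ((S0997.result R).2.2 _).1 hG
  let M : CochainComplex (ModuleCat.{u} R) ℤ := DerivedCategory.Q.objPreimage M'
  let e2 : DerivedCategory.Q.obj M ≅ M' := DerivedCategory.Q.objObjPreimageIso M'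
  exact ⟨M, ⟨TcxIso j M ≪≫ (restrictD j).mapIso ((DCoh.tildeD R).mapIso e2 ≪≫ e1) ≪≫
    restrictDQ j G ≪≫ e⟩⟩

/-- A pseudo-coherent object on a quasi-compact open `V` of `Spec R` comes from a bounded above
complex of finite free `R`-modules. -/
theorem exists_free_model [CompactSpace V] (E : DCoh.D V)
    (hE : ∀ m : ℤ, DCoh.IsPseudoCoherentD m E) :
    ∃ (F : CochainComplex (ModuleCat.{u} R) ℤ) (b : ℤ), (∀ i, b < i → IsZero (F.X i)) ∧
      (∀ i, finFree R (F.X i)) ∧ Nonempty (DerivedCategory.Q.obj ((Tcx j).obj F) ≅ E) := by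
  obtain ⟨M, ⟨e⟩⟩ := exists_module_model j E (PCohQCoh.isQCohD_of_isPseudoCoherentD hE)
  obtain ⟨F, b, h1, h2, ⟨e'⟩⟩ := exists_free_resolution j M
    (fun m => isPseudoCoherentD_of_iso e.symm (hE m))
  exact ⟨F, b, h1, h2, ⟨e' ≪≫ e⟩⟩

end

section

variable {R : CommRingCat.{u}} {X U : Scheme.{u}} (k : X ⟶ Spec R) [IsOpenImmersion k]
  (i : U ⟶ X) [IsOpenImmersion i]

/-- Restricting `T_k F` along `i` gives `T_{i ≫ k} F`. -/
noncomputable def restrictTcx (F : CochainComplex (ModuleCat.{u} R) ℤ) :
    ((restrictFunctor i).mapHomologicalComplex (ComplexShape.up ℤ)).obj ((Tcx k).obj F) ≅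
      (Tcx (i ≫ k)).obj F :=
  HomologicalComplex.Hom.isoOfComponents
    (fun n => ((restrictFunctorComp i k).app ((tilde.functor R).obj (F.X n))).symm)
    fun a b _ => ((restrictFunctorComp i k).inv.naturality ((tilde.functor R).map (F.d a b))).symm

end

end Groth.Agent.PerfA.ExtFree
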