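import Groth.Agent.PerfA.ExtTilde
import Groth.Agent.PerfA.ExtCells
import Groth.Agent.PerfA.PerfLocal
import Mathlib.Algebra.Category.ModuleCat.Biproducts
import Mathlib.Algebra.Category.ModuleCat.Projective
import Groth.Agent.S0889
import Groth.Agent.S0890

/-!
# Pseudo-coherent complexes on a quasi-compact open of `Spec R` come from complexes of finite free
modules over `R`
-/

set_option autoImplicit false
universe u
open CategoryTheory CategoryTheory.Limits AlgebraicGeometry
attribute [local instance] HasDerivedCategory.standard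

namespace Groth.Agent.PerfA.ExtPC
open AlgebraicGeometry.Scheme.Modules ExtTilde Restrict PerfLocal

/-- A perfect object is pseudo-coherent. -/
lemma isPseudoCoherentD_of_isPerfect {X : Scheme.{u}} {K : DCoh.D X} (h : DCoh.IsPerfect K) (m : ℤ) :
    DCoh.IsPseudoCoherentD m K := by
  rw [isPerfect_iff] at h
  rw [isPseudoCoherentD_iff]
  intro x
  obtain ⟨V, hx, E, hE, ⟨e⟩⟩ := h x
  refine ⟨V, hx, E, e.inv, hE, fun i _ => inferInstance, inferInstance⟩

lemma epi_map_of_iso {A B : Type*} [Category A] [Category B] {G H : A ⥤ B} (e : G ≅ H) {X Y : A}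
    (f : X ⟶ Y) (h : Epi (H.map f)) : Epi (G.map f) := by
  have h1 : G.map f = e.hom.app _ ≫ H.map f ≫ e.inv.app _ := by simp
  rw [h1]
  infer_instance

variable {R : CommRingCat.{u}} {V : Scheme.{u}} (j : V ⟶ Spec R) [IsOpenImmersion j]

/-- `R^r~|_V` is free of rank `r`. -/
noncomputable def TjFree (r : ℕ) : (Tj j).obj (ModuleCat.of R (Fin r → R)) ≅ FlatMod.freeMod V r :=
  (Tj j).mapIso ((ModuleCat.biproductIsoPi (fun _ : Fin r => ModuleCat.of R R)).symm ≪≫
      biproduct.isoCoproduct _) ≪≫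
    PreservesCoproduct.iso (Tj j) (fun _ : Fin r => ModuleCat.of R R) ≪≫
    Sigma.mapIso (fun _ => restrictUnitIso j)

/-- finite free modules -/
def finFree (R : CommRingCat.{u}) : ObjectProperty (ModuleCat.{u} R) :=
  fun L => ∃ r : ℕ, Nonempty (L ≅ ModuleCat.of R (Fin r → R))

instance : (finFree R).IsClosedUnderIsomorphisms where
  of_iso := by
    rintro _ _ e ⟨r, ⟨e'⟩⟩
    exact ⟨r, ⟨e.symm ≪≫ e'⟩⟩

lemma isFinLocFree_Tj {L : ModuleCat.{u} R} (h : finFree R L) : FlatMod.IsFinLocFree ((Tj j).obj L) := by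
  obtain ⟨r, ⟨e⟩⟩ := h
  exact isFinLocFree_of_iso ((Tj j).mapIso e ≪≫ TjFree j r).symm (isFinLocFree_freeMod V r)

/-- `T` on complexes. -/
noncomputable abbrev Tcx : CochainComplex (ModuleCat.{u} R) ℤ ⥤ CochainComplex V.Modules ℤ :=
  (Tj j).mapHomologicalComplex (ComplexShape.up ℤ)

lemma isStrictlyPerfect_single {L : ModuleCat.{u} R} (h : finFree R L) (n : ℤ) :
    DCoh.IsStrictlyPerfect
      ((Tcx j).obj ((HomologicalComplex.single _ (ComplexShape.up ℤ) n).obj L)) := by
  refine ⟨⟨n, n, fun i hi => (Tj j).map_isZero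
    (HomologicalComplex.isZero_single_obj_X _ _ _ _ (by omega))⟩, fun i => ?_⟩
  by_cases hi : i = n
  · subst hi
    exact isFinLocFree_of_iso
      ((Tj j).mapIso (HomologicalComplex.singleObjXSelf (ComplexShape.up ℤ) i L)).symm
      (isFinLocFree_Tj j h)
  · exact isFinLocFree_of_isZero ((Tj j).map_isZero
      (HomologicalComplex.isZero_single_obj_X _ _ _ _ hi))

/-- good complexes: those whose associated complex on `V` is pseudo-coherent. -/
def Good (K : CochainComplex (ModuleCat.{u} R) ℤ) : Prop :=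
  ∀ m : ℤ, DCoh.IsPseudoCoherentD m (DerivedCategory.Q.obj ((Tcx j).obj K))

open Pretriangulated in
lemma good_mappingCone {L : ModuleCat.{u} R} (hL : finFree R L) (n : ℤ)
    (K : CochainComplex (ModuleCat.{u} R) ℤ)
    (g : (HomologicalComplex.single _ (ComplexShape.up ℤ) n).obj L ⟶ K) (hK : Good j K) :
    Good j (CochainComplex.mappingCone g) := by
  intro m
  have hT := DerivedCategory.mappingCone_triangle_distinguished ((Tcx j).map g)
  have h1 := (S0889.result m _ hT).1
  refine isPseudoCoherentD_of_iso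
    (DerivedCategory.Q.mapIso (CochainComplex.mappingCone.mapHomologicalComplexIso g (Tj j)).symm) (h1 ?_ ?_)
  · exact isPseudoCoherentD_of_isPerfect (isPerfect_Q (isStrictlyPerfect_single j hL n)) _
  · exact hK m

lemma step [CompactSpace V] (n : ℤ) (K : CochainComplex (ModuleCat.{u} R) ℤ) (hK : Good j K)
    (hex : ∀ i, n < i → ((Tcx j).obj K).ExactAt i) :
    ∃ (L : ModuleCat.{u} R) (_ : finFree R L)
      (g : (HomologicalComplex.single _ (ComplexShape.up ℤ) n).obj L ⟶ K),
      Epi (HomologicalComplex.homologyMap ((Tcx j).map g) n) := by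
  have h1 : CohB1.IsFT (DCoh.HD (DerivedCategory.Q.obj ((Tcx j).obj K)) n) := by
    refine (S0890.result n _ (hK n)).1 fun i hi => ?_
    have := hex i hi
    rw [HomologicalComplex.exactAt_iff_isZero_homology] at this
    exact this.of_iso ((DerivedCategory.homologyFunctorFactors _ i).app _)
  have e1 : DCoh.HD (DerivedCategory.Q.obj ((Tcx j).obj K)) n ≅ (Tj j).obj (K.homology n) :=
    (DerivedCategory.homologyFunctorFactors _ n).app _ ≪≫ (ExactD.mapCxHomology (Tj j) _ n).app K
  have h2 : CohqB.FiniteType.IsFT ((Tj j).obj (K.homology n)) := CohqB.FiniteType.IsFT.of_iso h1 e1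
  obtain ⟨r, p, hp⟩ := exists_epi j (K.homology n) h2
  have hproj : Projective (ModuleCat.of R (Fin r → R)) :=
    (IsProjective.iff_projective (R := R) (Fin r → R)).1 inferInstance
  let p' : ModuleCat.of R (Fin r → R) ⟶ K.cycles n := Projective.factorThru p (K.homologyπ n)
  have hp' : p' ≫ K.homologyπ n = p := Projective.factorThru_comp _ _
  let g : (HomologicalComplex.single _ (ComplexShape.up ℤ) n).obj (ModuleCat.of R (Fin r → R)) ⟶ K :=
    HomologicalComplex.mkHomFromSingle (p' ≫ K.iCycles n) (fun k hk => by simp)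
  refine ⟨ModuleCat.of R (Fin r → R), ⟨r, ⟨Iso.refl _⟩⟩, g, ?_⟩
  have hg : (HomologicalComplex.singleObjHomologySelfIso (ComplexShape.up ℤ) n _).inv ≫
      HomologicalComplex.homologyMap g n = p := by
    rw [← hp', ← HomologicalComplex.singleObjCyclesSelfIso_inv_homologyπ_assoc,
      HomologicalComplex.homologyπ_naturality, ← Category.assoc]
    congr 1
    rw [← cancel_mono (K.iCycles n)]
    simp [g]
  have h3 : Epi ((Tj j).map (HomologicalComplex.homologyMap g n)) := by
    rw [← hg, Functor.map_comp] at hp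
    exact epi_of_epi ((Tj j).map (HomologicalComplex.singleObjHomologySelfIso _ n _).inv) _
  exact epi_map_of_iso (ExactD.mapCxHomology (Tj j) (ComplexShape.up ℤ) n) g h3

/-- A pseudo-coherent object on a quasi-compact scheme is bounded above. -/
lemma exists_isLE_of_isPseudoCoherentD {X : Scheme.{u}} [CompactSpace X] {K : DCoh.D X} {m : ℤ}
    (h : DCoh.IsPseudoCoherentD m K) : ∃ b : ℤ, K.IsLE b := by
  rw [isPseudoCoherentD_iff] at h
  have h' : ∀ x : X, ∃ V : X.Opens, x ∈ V ∧ ∃ b : ℤ, ((restrictD V.ι).obj K).IsLE b := by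
    intro x
    obtain ⟨V, hx, E, α, hE, h1, h2⟩ := h x
    obtain ⟨a, b, ha, hb⟩ := exists_bounds_of_isStrictlyPerfect E hE
    refine ⟨V, hx, max b m, ?_⟩
    rw [DerivedCategory.isLE_iff]
    intro i hi
    have := h1 i (lt_of_le_of_lt (le_max_right _ _) hi)
    exact ((DerivedCategory.Q.obj E).isZero_of_isLE b i (lt_of_le_of_lt (le_max_left _ _) hi)).of_iso
      (asIso ((DerivedCategory.homologyFunctor _ i).map α)).symm
  choose V hxV b hb using h'
  obtain ⟨t, ht⟩ := CompactSpace.elim_nhds_subcover (fun x => (V x : Set X))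
    (fun x => (V x).isOpen.mem_nhds (hxV x))
  obtain ⟨B, hB⟩ : ∃ B : ℤ, ∀ x ∈ t, b x ≤ B := by
    obtain ⟨B, hB⟩ := (t.finite_toSet.image b).bddAbove
    exact ⟨B, fun x hx => hB ⟨x, hx, rfl⟩⟩
  have hcov : ∀ y : X, ∃ x ∈ t, y ∈ V x := fun y => by
    have : y ∈ (⊤ : Set X) := trivial
    rw [← ht] at this
    simpa using this
  refine ⟨B, isLE_of_restrictD_opens K B fun y => ?_⟩
  obtain ⟨x, hx, hy⟩ := hcov y
  exact ⟨V x, hy, DerivedCategory.TStructure.t.isLE_of_le _ _ _ (hB x hx)⟩

/-- **Resolution by finite free modules over a quasi-compact open of `Spec R`** (08EE in terms of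
modules). -/
theorem exists_free_resolution [CompactSpace V] (M : CochainComplex (ModuleCat.{u} R) ℤ)
    (hM : Good j M) :
    ∃ (F : CochainComplex (ModuleCat.{u} R) ℤ) (b : ℤ), (∀ i, b < i → IsZero (F.X i)) ∧
      (∀ i, finFree R (F.X i)) ∧
      Nonempty (DerivedCategory.Q.obj ((Tcx j).obj F) ≅ DerivedCategory.Q.obj ((Tcx j).obj M)) := by
  obtain ⟨b, hb⟩ := exists_isLE_of_isPseudoCoherentD (hM 0)
  obtain ⟨F, h1, h2, h3⟩ := ExtCells.exists_resolution (Tj j) (finFree R) (Good j)
    (fun n L hL K g hK => good_mappingCone j hL n K g hK) (step j) M hM b (fun i hi => by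
      rw [HomologicalComplex.exactAt_iff_isZero_homology]
      rw [DerivedCategory.isLE_iff] at hb
      exact (hb i hi).of_iso ((DerivedCategory.homologyFunctorFactors _ i).app _).symm)
  refine ⟨F, b, h1, fun i => ?_, h3⟩
  by_cases hi : i ≤ b
  · exact h2 i hi
  · refine ⟨0, ⟨IsZero.iso (h1 i (by omega)) ?_⟩⟩
    exact ModuleCat.isZero_of_subsingleton _

end Groth.Agent.PerfA.ExtPC
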