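import Groth.Agent.PerfA.ExtFree
import Groth.Agent.Cohder.StupidGE
import Groth.Agent.Cohder.TruncTower
import Groth.Agent.Dcoh.PerfFlat
import Groth.Agent.S1011

/-!
# A perfect complex on a quasi-compact open of an affine scheme extends after adding a shifted
vector bundle
-/

set_option autoImplicit false
universe u
open CategoryTheory CategoryTheory.Limits AlgebraicGeometry Pretriangulated
attribute [local instance] HasDerivedCategory.standard

namespace Groth.Agent.PerfA.ExtSplit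
open AlgebraicGeometry.Scheme.Modules ExtTilde ExtPC ExtPush ExtFree Restrict PerfLocal QCohD
open Dcoh.StalkRestrict (pt isFlatAt_restrict_pt_iff)

/-- Flatness of `K.opcycles a`, globally, from local flat amplitude. -/
lemma isFinLocFree_opcycles {V : Scheme.{u}} {K : CochainComplex V.Modules ℤ}
    (hK : DCoh.IsStrictlyPerfect K) {E : DCoh.D V} {a : ℤ} (α : DerivedCategory.Q.obj K ⟶ E)
    (hα : ∀ i, a ≤ i → IsIso ((DerivedCategory.homologyFunctor _ i).map α))
    (hE : ∀ x : V, ∃ (W : V.Opens) (b : ℤ), x ∈ W ∧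
      DCoh.HasFlatAmplitudeIn a b ((restrictD W.ι).obj E)) :
    FlatMod.IsFinLocFree (K.opcycles a) := by
  refine Dcoh.Spread.isFinLocFree_of_cokernel (hK.2 (a - 1)) (hK.2 a) (K.d (a - 1) a) (K.pOpcycles a)
      (K.d_pOpcycles _ _) (K.opcyclesIsCokernel (a - 1) a (by simp)) ?_
  intro x
  obtain ⟨W, b, hx, F, hF, hF', ⟨e⟩⟩ := hE x
  have hKW := isStrictlyPerfect_restrict W.ι hK
  let α' : DerivedCategory.Q.obj
      (((restrictFunctor W.ι).mapHomologicalComplex (ComplexShape.up ℤ)).obj K) ⟶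
      DerivedCategory.Q.obj F := (restrictDQ W.ι K).inv ≫ (restrictD W.ι).map α ≫ e.inv
  have hα' : ∀ i, a ≤ i → IsIso ((DerivedCategory.homologyFunctor _ i).map α') := by
    intro i hi
    have := Dcoh.MapDer.isIso_homology_map (restrictFunctor W.ι) α i (hα i hi)
    simp only [α', Functor.map_comp]
    infer_instance
  have h1 := Dcoh.PerfFlat.isFlat_opcycles hKW hF hF' α' hα'
  obtain ⟨e2⟩ := Dcoh.PerfFlat.nonempty_opcycles_map_iso (restrictFunctor W.ι) K a
  rw [← isFlatAt_restrict_pt_iff W hx]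
  exact Dcoh.Spread.isFlatAt_of_iso e2 (pt W hx) (h1 _)

/-- Uniform flat amplitude for a perfect object on a quasi-compact scheme. -/
lemma exists_flatAmplitude {V : Scheme.{u}} [CompactSpace V] {E : DCoh.D V} (hE : DCoh.IsPerfect E) :
    ∃ a₀ : ℤ, ∀ a ≤ a₀, ∀ x : V, ∃ (W : V.Opens) (b : ℤ), x ∈ W ∧
      DCoh.HasFlatAmplitudeIn a b ((restrictD W.ι).obj E) := by
  rw [Restrict.isPerfect_iff] at hE
  have h : ∀ x : V, ∃ (W : V.Opens), x ∈ W ∧ ∃ a₀ : ℤ, ∀ a ≤ a₀, ∃ b : ℤ,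
      DCoh.HasFlatAmplitudeIn a b ((restrictD W.ι).obj E) := by
    intro x
    obtain ⟨W, hx, P, ⟨⟨a₀, b, hab⟩, hP⟩, ⟨e⟩⟩ := hE x
    refine ⟨W, hx, a₀, fun a ha => ⟨b, P, fun i hi => hab i ?_,
      fun i => Dcoh.Spread.isFlat_of_isFinLocFree (hP i), ⟨e.symm⟩⟩⟩
    rcases hi with hi | hi
    · exact Or.inl (lt_of_lt_of_le hi ha)
    · exact Or.inr hi
  choose W hxW a₀ ha₀ using h
  obtain ⟨t, ht⟩ := isCompact_univ.elim_finite_subcover (fun x : V => (W x : Set V))
    (fun x => (W x).2) (fun x _ => Set.mem_iUnion.2 ⟨x, hxW x⟩)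
  obtain ⟨c, hc⟩ : ∃ c : ℤ, ∀ x ∈ t, c ≤ a₀ x := by
    obtain ⟨c, hc⟩ := (t.image a₀).bddBelow
    exact ⟨c, fun x hx => hc (by simpa using ⟨x, hx, rfl⟩)⟩
  refine ⟨c, fun a ha x => ?_⟩
  obtain ⟨y, hy, hxy⟩ : ∃ y ∈ t, x ∈ W y := by
    have := ht (Set.mem_univ x)
    simpa using this
  obtain ⟨b, hb⟩ := ha₀ y a (ha.trans (hc y hy))
  exact ⟨W y, b, hxy, hb⟩

section Abs

open DerivedCategory

variable {A : Type*} [Category A] [Abelian A] [HasDerivedCategory A]

/-- If `γ : G ⟶ T` is a morphism of complexes with `G` in degrees `> a`, `T` in degrees `≥ a`, and `γ` is an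
isomorphism in degrees `> a`, the cone of `γ` is `T.X a` in degree `a`. -/
lemma exists_triangle {G T : CochainComplex A ℤ} (γ : G ⟶ T) (a : ℤ)
    (h1 : ∀ i, i ≤ a → IsZero (G.X i)) (h2 : ∀ i, i < a → IsZero (T.X i))
    (h3 : ∀ i, a < i → IsIso (γ.f i)) :
    ∃ (g : Q.obj T ⟶ (singleFunctor A a).obj (T.X a))
      (h : (singleFunctor A a).obj (T.X a) ⟶ (Q.obj G)⟦(1 : ℤ)⟧),
      Triangle.mk (Q.map γ) g h ∈ distTriang (DerivedCategory A) := by
  have hm : ∀ i, Mono (γ.f i) := fun i => by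
    by_cases hi : i ≤ a
    · exact (h1 i hi).mono _
    · have := h3 i (by omega)
      infer_instance
  have hm' : Mono γ := HomologicalComplex.mono_of_mono_f γ hm
  let S : ShortComplex (CochainComplex A ℤ) := ShortComplex.mk γ (cokernel.π γ) (by simp)
  have hS : S.ShortExact :=
    { exact := ShortComplex.exact_cokernel γ
      mono_f := hm'
      epi_g := inferInstanceAs (Epi (cokernel.π γ)) }
  have hc : ∀ i, Nonempty ((cokernel γ).X i ≅ cokernel (γ.f i)) := fun i =>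
    ⟨PreservesCokernel.iso (HomologicalComplex.eval A (ComplexShape.up ℤ) i) γ⟩
  have hGE : (cokernel γ).IsStrictlyGE a := by
    rw [CochainComplex.isStrictlyGE_iff]
    intro i hi
    obtain ⟨e⟩ := hc i
    exact (IsZero.of_epi (cokernel.π (γ.f i)) (h2 i hi)).of_iso e
  have hLE : (cokernel γ).IsStrictlyLE a := by
    rw [CochainComplex.isStrictlyLE_iff]
    intro i hi
    obtain ⟨e⟩ := hc i
    have := h3 i hi
    exact (isZero_cokernel_of_epi (γ.f i)).of_iso e
  obtain ⟨M, ⟨e⟩⟩ := (cokernel γ).exists_iso_single a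
  obtain ⟨e1⟩ := hc a
  have e2 : T.X a ≅ cokernel (γ.f a) := by
    have : γ.f a = 0 := (h1 a le_rfl).eq_of_src _ _
    exact (cokernelIsoOfEq this ≪≫ cokernelZeroIsoTarget).symm
  have e3 : M ≅ T.X a := (HomologicalComplex.singleObjXSelf (ComplexShape.up ℤ) a M).symm ≪≫
    (HomologicalComplex.eval A (ComplexShape.up ℤ) a).mapIso e.symm ≪≫ e1 ≪≫ e2.symm
  have e4 : Q.obj (cokernel γ) ≅ (singleFunctor A a).obj (T.X a) :=
    Q.mapIso e ≪≫ ((singleFunctorIsoCompQ A a).app M).symm ≪≫ (singleFunctor A a).mapIso e3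
  let δ : Q.obj (cokernel γ) ⟶ (Q.obj G)⟦(1 : ℤ)⟧ := triangleOfSESδ hS
  refine ⟨Q.map (cokernel.π γ) ≫ e4.hom, e4.inv ≫ δ, ?_⟩
  refine isomorphic_distinguished _ (triangleOfSES_distinguished hS) _ ?_
  refine Triangle.isoMk _ _ (Iso.refl _) (Iso.refl _) e4.symm
    ((Category.comp_id _).trans (Category.id_comp _).symm) ?_ ?_
  · change (Q.map (cokernel.π γ) ≫ e4.hom) ≫ e4.inv = 𝟙 _ ≫ Q.map (cokernel.π γ)
    rw [Category.assoc, e4.hom_inv_id, Category.comp_id, Category.id_comp]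
  · change (e4.inv ≫ δ) ≫ (shiftFunctor (DerivedCategory A) (1 : ℤ)).map (𝟙 (Q.obj G)) = e4.inv ≫ δ
    rw [CategoryTheory.Functor.map_id, Category.comp_id]

/-- If the second map of a distinguished triangle vanishes, the first object is a direct sum. -/
lemma nonempty_iso_of_mor₂_eq_zero [∀ X Y : DerivedCategory A, HasBinaryBiproduct X Y]
    (T : Triangle (DerivedCategory A)) (hT : T ∈ distTriang _) (h : T.mor₂ = 0) :
    Nonempty (T.obj₁ ≅ T.obj₃⟦(-1 : ℤ)⟧ ⊞ T.obj₂) := by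
  have hT' := inv_rot_of_distTriang T hT
  obtain ⟨e, -, -⟩ := exists_iso_binaryBiproduct_of_distTriang _ hT' (by simp [h]; rfl)
  exact ⟨e⟩

end Abs

section Main

variable {R : CommRingCat.{u}} {V : Scheme.{u}} (j : V ⟶ Spec R) [IsOpenImmersion j]

lemma isIso_homology_Tcx {K L : CochainComplex (ModuleCat.{u} R) ℤ} (f : K ⟶ L) (i : ℤ)
    (h : IsIso (HomologicalComplex.homologyMap f i)) :
    IsIso ((DerivedCategory.homologyFunctor V.Modules i).map (DerivedCategory.Q.map ((Tcx j).map f))) := by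
  have h1 : IsIso (HomologicalComplex.homologyMap ((Tcx j).map f) i) :=
    (NatIso.isIso_map_iff (ExactD.mapCxHomology (Tj j) (ComplexShape.up ℤ) i) f).2
      (inferInstanceAs (IsIso ((Tj j).map (HomologicalComplex.homologyMap f i))))
  exact (NatIso.isIso_map_iff (DerivedCategory.homologyFunctorFactors V.Modules i)
    ((Tcx j).map f)).2 h1

/-- Zero modules are finite free. -/
lemma finFree_of_isZero {M : ModuleCat.{u} R} (h : IsZero M) : finFree R M :=
  ⟨0, ⟨IsZero.iso h (ModuleCat.isZero_of_subsingleton _)⟩⟩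

lemma finFree_σ {F : CochainComplex (ModuleCat.{u} R) ℤ} (hF : ∀ i, finFree R (F.X i)) (m i : ℤ) :
    finFree R ((Cohder.StupidGE.σ F m).X i) := by
  by_cases hi : m ≤ i
  · exact (finFree R).prop_of_iso (Cohder.StupidGE.σXIso F m i hi).symm (hF i)
  · exact finFree_of_isZero (Cohder.StupidGE.isZero_σ_X F m i (by omega))

lemma isZero_σ {F : CochainComplex (ModuleCat.{u} R) ℤ} {b : ℤ} (hF : ∀ i, b < i → IsZero (F.X i))
    (m i : ℤ) (hi : b < i) : IsZero ((Cohder.StupidGE.σ F m).X i) := by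
  by_cases hi' : m ≤ i
  · exact (hF i hi).of_iso (Cohder.StupidGE.σXIso F m i hi')
  · exact Cohder.StupidGE.isZero_σ_X F m i (by omega)

/-- A bounded complex of finite free modules gives a strictly perfect complex. -/
lemma isStrictlyPerfect_Tcx {F : CochainComplex (ModuleCat.{u} R) ℤ} (hF : ∀ i, finFree R (F.X i))
    {a b : ℤ} (hab : ∀ i, i < a ∨ b < i → IsZero (F.X i)) :
    DCoh.IsStrictlyPerfect ((Tcx j).obj F) :=
  ⟨⟨a, b, fun i hi => (Tj j).map_isZero (hab i hi)⟩, fun i => isFinLocFree_Tj j (hF i)⟩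

/-- `N[-a]` placed in degree `a`, shifted by `-1`. -/
noncomputable def singleShiftIso {A : Type*} [Category A] [Abelian A] [HasDerivedCategory A] (a : ℤ)
    (N : A) : ((DerivedCategory.singleFunctor A a).obj N)⟦(-1 : ℤ)⟧ ≅
      ((DerivedCategory.singleFunctor A 0).obj N)⟦-(a + 1)⟧ :=
  ((DerivedCategory.singleFunctors A).shiftIso (-1) (a + 1) a (by ring)).app N ≪≫
    (((DerivedCategory.singleFunctors A).shiftIso (-(a + 1)) (a + 1) 0 (by ring)).app N).symm

theorem exists_split [CompactSpace V] (E : DCoh.D V) (hE : DCoh.IsPerfect E)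
    [∀ (A B : DCoh.D V), HasBinaryBiproduct A B] :
    ∃ (r : ℤ) (N : V.Modules) (G : CochainComplex (ModuleCat.{u} R) ℤ), FlatMod.IsFinLocFree N ∧
      (∃ a b : ℤ, ∀ i, i < a ∨ b < i → IsZero (G.X i)) ∧ (∀ i, finFree R (G.X i)) ∧
      Nonempty (DerivedCategory.Q.obj ((Tcx j).obj G) ≅ (DCoh.inD V N)⟦-r⟧ ⊞ E) := by
  have hsep : QuasiSeparatedSpace V := quasiSeparatedSpace_of_quasiSeparated j
  obtain ⟨F, b, hb, hF, ⟨e⟩⟩ := exists_free_model j E (fun m => isPseudoCoherentD_of_isPerfect hE m)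
  obtain ⟨a₀, ha₀⟩ := exists_flatAmplitude hE
  obtain ⟨a₁, b₁, hab₁, hvan⟩ := (S1011.result V E hE).1
  obtain ⟨a₂, b₂, hGE, -⟩ := exists_bounds_of_isPerfect E hE
  let a : ℤ := min (min a₀ (a₁ - 1)) a₂
  have ha0 : a ≤ a₀ := (min_le_left _ _).trans (min_le_left _ _)
  have ha1 : a < a₁ := by
    have : a ≤ a₁ - 1 := (min_le_left _ _).trans (min_le_right _ _)
    omega
  have ha2 : a ≤ a₂ := min_le_right _ _
  let Fn := Cohder.StupidGE.σ F (a - 1)
  let Kn := (Tcx j).obj Fn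
  have hFn : ∀ i, finFree R (Fn.X i) := finFree_σ hF (a - 1)
  have hKn : DCoh.IsStrictlyPerfect Kn :=
    isStrictlyPerfect_Tcx j hFn (a := a - 1) (b := b) (fun i hi => by
      rcases hi with hi | hi
      · exact Cohder.StupidGE.isZero_σ_X F (a - 1) i hi
      · exact isZero_σ hb (a - 1) i hi)
  let α : DerivedCategory.Q.obj Kn ⟶ E :=
    DerivedCategory.Q.map ((Tcx j).map (Cohder.StupidGE.σι F (a - 1))) ≫ e.hom
  have hα : ∀ i, a ≤ i → IsIso ((DerivedCategory.homologyFunctor _ i).map α) := by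
    intro i hi
    have := isIso_homology_Tcx j (Cohder.StupidGE.σι F (a - 1)) i
      (Cohder.StupidGE.isIso_homologyMap_σι F (a - 1) i (by omega))
    simp only [α, Functor.map_comp]
    infer_instance
  have hop : FlatMod.IsFinLocFree (Kn.opcycles a) := isFinLocFree_opcycles hKn α hα (ha₀ a ha0)
  obtain ⟨e1⟩ := Dcoh.BddCx.nonempty_iso_truncGE Kn E a
    (fun i hi => E.isZero_of_isGE a₂ i (by omega)) α hα
  let T := Kn.truncGE a
  let G := Cohder.StupidGE.σ Fn (a + 1)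
  let γ : (Tcx j).obj G ⟶ T := (Tcx j).map (Cohder.StupidGE.σι Fn (a + 1)) ≫ Kn.πTruncGE a
  obtain ⟨g, h, hT⟩ := exists_triangle γ a
    (fun i hi => (Tj j).map_isZero (Cohder.StupidGE.isZero_σ_X Fn (a + 1) i (by omega)))
    (fun i hi => T.isZero_of_isStrictlyGE a i hi)
    (fun i hi => by
      have h1 : IsIso (((Tcx j).map (Cohder.StupidGE.σι Fn (a + 1))).f i) := by
        have := Cohder.StupidGE.isIso_σι_f Fn (a + 1) i (by omega)
        exact inferInstanceAs (IsIso ((Tj j).map ((Cohder.StupidGE.σι Fn (a + 1)).f i)))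
      have h2 := Cohder.TruncTower.isIso_πTruncGE_f Kn a i hi
      simp only [γ, HomologicalComplex.comp_f]
      infer_instance)
  have hN : FlatMod.IsFinLocFree (T.X a) := isFinLocFree_of_iso (Kn.truncGEXIsoOpcycles a).symm hop
  have hg : g = 0 := by
    have h1 := hvan ((DerivedCategory.singleFunctor V.Modules a).obj (T.X a))
      (isQCohD_single _ (QCohEpi.isQCoh_of_isFinLocFree hN) a)
      (fun i hi _ => ((DerivedCategory.singleFunctor V.Modules a).obj (T.X a)).isZero_of_isLE a i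
        (by omega)) (e1.hom ≫ g)
    rw [← cancel_epi e1.hom, h1, comp_zero]
  obtain ⟨e2⟩ := nonempty_iso_of_mor₂_eq_zero _ hT hg
  refine ⟨a + 1, T.X a, G, hN, ⟨a + 1, b, fun i hi => ?_⟩, fun i => finFree_σ hFn (a + 1) i, ⟨?_⟩⟩
  · rcases hi with hi | hi
    · exact Cohder.StupidGE.isZero_σ_X Fn (a + 1) i hi
    · exact isZero_σ (isZero_σ hb (a - 1)) (a + 1) i hi
  · exact e2 ≪≫ biprod.mapIso (singleShiftIso a (T.X a)) e1.symm

end Main

end Groth.Agent.PerfA.ExtSplit
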