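import Groth.Prelude.Def_DCoh2
import Groth.Agent.PerfA.Restrict
import Groth.Agent.PerfB.TildeExact
import Groth.Agent.Ega1.FTAffine
import Groth.Agent.CohqB.FiniteType

/-!
# The functor `N ↦ N~|_V` for an open immersion `j : V ⟶ Spec R`
-/

set_option autoImplicit false
universe u
open CategoryTheory CategoryTheory.Limits AlgebraicGeometry
open scoped TensorProduct

namespace Groth.Agent.PerfA.ExtTilde
open AlgebraicGeometry.Scheme.Modules

section algebra

variable {R : Type u} [CommRing R] {N : Type u} [AddCommGroup N] [Module R N]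

/-- If `N_r` is finite over `R_r`, there is a finite subset of `N` generating `N` up to `r`-power
torsion. -/
lemma exists_finset (r : R)
    [h : Module.Finite (Localization.Away r) ((Localization.Away r) ⊗[R] N)] :
    ∃ s : Finset N, ∀ n : N, ∃ k : ℕ, r ^ k • n ∈ Submodule.span R (s : Set N) := by
  classical
  obtain ⟨s₁, s₂⟩ := h.1
  let f : N →ₗ[R] (Localization.Away r) ⊗[R] N := TensorProduct.mk R (Localization.Away r) N 1
  have hf : IsLocalizedModule (Submonoid.powers r) f := inferInstance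
  refine ⟨IsLocalizedModule.finsetIntegerMultiple (Submonoid.powers r) f s₁, fun x => ?_⟩
  obtain ⟨⟨_, n₁, rfl⟩, hn₁⟩ := multiple_mem_span_of_mem_localization_span (Submonoid.powers r)
    (Localization.Away r) (s₁ : Set _) (IsLocalizedModule.mk' f x (1 : Submonoid.powers r))
    (by rw [s₂]; trivial)
  rw [Submonoid.smul_def, ← IsLocalizedModule.mk'_smul, IsLocalizedModule.mk'_one] at hn₁
  obtain ⟨⟨_, n₂, rfl⟩, hn₂⟩ := IsLocalizedModule.smul_mem_finsetIntegerMultiple_span
    (Submonoid.powers r) f _ s₁ hn₁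
  rw [Submonoid.smul_def] at hn₂
  refine ⟨n₂ + n₁, ?_⟩
  rw [pow_add, mul_smul]
  exact hn₂

end algebra

variable {R : CommRingCat.{u}} {V : Scheme.{u}} (j : V ⟶ Spec R) [IsOpenImmersion j]

/-- `N ↦ N~|_V`. -/
noncomputable abbrev Tj : ModuleCat.{u} R ⥤ V.Modules := tilde.functor R ⋙ restrictFunctor j

instance : (Tj j).Additive := inferInstance
instance : PreservesFiniteLimits (Tj j) := comp_preservesFiniteLimits _ _
instance : PreservesFiniteColimits (Tj j) := comp_preservesFiniteColimits _ _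

/-- `N~|_V` vanishes iff `N` is locally torsion at the points of `V`. -/
lemma isZero_Tj_iff (N : ModuleCat.{u} R) :
    IsZero ((Tj j).obj N) ↔ ∀ (x : V) (n : N), ∃ t : R, t ∉ (j x).asIdeal ∧ t • n = 0 := by
  rw [Restrict.isZero_iff_stalk]
  refine forall_congr' fun x => ?_
  have e := (Restrict.stalkRestrict j x).app (tilde N)
  have e2 : IsZero ((Restrict.stalkAb x).obj ((Tj j).obj N)) ↔
      IsZero ((Restrict.stalkAb (j x)).obj (tilde N)) := ⟨fun h => h.of_iso e.symm, fun h => h.of_iso e⟩
  rw [e2]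
  have e3 : IsZero ((Restrict.stalkAb (j x)).obj (tilde N)) ↔
      Subsingleton ((tilde N).presheaf.stalk (j x)) := AddCommGrpCat.isZero_iff_subsingleton
  rw [e3]
  exact IsLocalizedModule.subsingleton_iff (j x).asIdeal.primeCompl (tilde.toStalk N (j x)).hom

/-- `N₁~|_V ⟶ N₂~|_V` is an epimorphism iff the cokernel of `N₁ ⟶ N₂` is locally torsion. -/
lemma epi_Tj_iff {N₁ N₂ : ModuleCat.{u} R} (p : N₁ ⟶ N₂) :
    Epi ((Tj j).map p) ↔ ∀ (x : V) (n : N₂), ∃ t : R, t ∉ (j x).asIdeal ∧
      t • n ∈ LinearMap.range p.hom := by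
  have h1 : Epi ((Tj j).map p) ↔ IsZero ((Tj j).obj (cokernel p)) := by
    have e : (Tj j).obj (cokernel p) ≅ cokernel ((Tj j).map p) := PreservesCokernel.iso (Tj j) p
    constructor
    · intro h
      exact (isZero_cokernel_of_epi ((Tj j).map p)).of_iso e
    · intro h
      exact Preadditive.epi_of_cokernel_zero ((h.of_iso e.symm).eq_of_tgt _ _)
  have h2 : ∀ n : N₂, ((ConcreteCategory.hom (cokernel.π p)) n = 0) ↔ n ∈ LinearMap.range p.hom := by
    intro n
    have hex : (ShortComplex.mk p (cokernel.π p) (cokernel.condition p)).Exact :=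
      ShortComplex.exact_of_g_is_cokernel _ (cokernelIsCokernel p)
    rw [ShortComplex.moduleCat_exact_iff] at hex
    constructor
    · intro h
      obtain ⟨y, hy⟩ := hex n h
      exact ⟨y, hy⟩
    · rintro ⟨y, rfl⟩
      have := ConcreteCategory.congr_hom (cokernel.condition p) y
      simp
  rw [h1, isZero_Tj_iff]
  refine forall_congr' fun x => ?_
  constructor
  · intro h n
    obtain ⟨t, ht, hn⟩ := h ((ConcreteCategory.hom (cokernel.π p)) n)
    refine ⟨t, ht, (h2 _).1 ?_⟩
    rw [← hn]
    exact map_smul (cokernel.π p).hom t n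
  · intro h n'
    obtain ⟨n, rfl⟩ := (ModuleCat.epi_iff_surjective (cokernel.π p)).1 inferInstance n'
    obtain ⟨t, ht, hn⟩ := h n
    refine ⟨t, ht, ?_⟩
    have := (h2 _).2 hn
    rw [← this]
    exact (map_smul (cokernel.π p).hom t n).symm

/-- If `N~|_V` is of finite type then `N` is finite near each point of `V`. -/
lemma exists_finite_away (N : ModuleCat.{u} R)
    (h : SheafOfModules.IsFiniteType (R := V.ringCatSheaf) ((Tj j).obj N)) (x : V) :
    ∃ r : R, r ∉ (j x).asIdeal ∧
      Module.Finite (Localization.Away r) ((Localization.Away r) ⊗[R] N) := by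
  obtain ⟨U, hxU, hG⟩ := (CohqB.FiniteType.isFT_iff_hasFinGen _).1 h x
  have hxU' : j x ∈ j ''ᵁ U := ⟨x, hxU, rfl⟩
  obtain ⟨_, ⟨_, ⟨r, rfl⟩, rfl⟩, hxr, hrU⟩ :=
    PrimeSpectrum.isBasis_basic_opens.exists_subset_of_mem_open hxU' (j ''ᵁ U).2
  refine ⟨r, hxr, ?_⟩
  let i : Spec (CommRingCat.of (Localization.Away r)) ⟶ Spec R :=
    Spec.map (CommRingCat.ofHom (algebraMap R (Localization.Away r)))
  have hi : IsOpenImmersion i := inferInstance
  have hrange : Set.range i.base = (PrimeSpectrum.basicOpen r : Set (PrimeSpectrum R)) :=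
    PrimeSpectrum.localization_away_comap_range _ r
  have hle : Set.range i.base ⊆ Set.range (U.ι ≫ j).base := by
    rw [hrange]
    refine hrU.trans ?_
    rintro _ ⟨y, hy, rfl⟩
    exact ⟨⟨y, hy⟩, rfl⟩
  let g : Spec (CommRingCat.of (Localization.Away r)) ⟶ U := IsOpenImmersion.lift (U.ι ≫ j) i hle
  have hg : g ≫ U.ι ≫ j = i := IsOpenImmersion.lift_fac (U.ι ≫ j) i hle
  have hg' : IsOpenImmersion g := by
    have : IsOpenImmersion (g ≫ U.ι ≫ j) := by rw [hg]; exact hi
    exact IsOpenImmersion.of_comp g (U.ι ≫ j)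
  have iso1 : ((((tilde N).restrict j).restrict U.ι).restrict g) ≅ (tilde N).restrict i :=
    (restrictFunctor g).mapIso ((restrictFunctorComp U.ι j).symm.app (tilde N)) ≪≫
      (restrictFunctorComp g (U.ι ≫ j)).symm.app (tilde N) ≪≫ (restrictFunctorCongr hg).app (tilde N)
  have iso2 : (tilde N).restrict i ≅ tilde (ModuleCat.of (Localization.Away r)
      ((Localization.Away r) ⊗[R] N)) :=
    (restrictFunctorIsoPullback i).app (tilde N) ≪≫
      Groth.Agent.Ega1.TildePullback.pullbackTildeIso R (Localization.Away r) N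
  obtain ⟨σ, hσ⟩ := hG.restrict g
  exact @Groth.Agent.Ega1.FTAffine.finite_of_generatingSections _ _ _ (iso1 ≪≫ iso2) σ hσ

/-- If `V` is quasi-compact and `N~|_V` is of finite type, there is a finite free module with a map
to `N` which is an epimorphism over `V`. -/
theorem exists_epi [CompactSpace V] (N : ModuleCat.{u} R)
    (h : SheafOfModules.IsFiniteType (R := V.ringCatSheaf) ((Tj j).obj N)) :
    ∃ (n : ℕ) (p : ModuleCat.of R (Fin n → R) ⟶ N), Epi ((Tj j).map p) := by
  classical
  choose r hr hfin using exists_finite_away j N h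
  choose s hs using fun x => @exists_finset R _ N _ _ (r x) (hfin x)
  obtain ⟨t, ht⟩ := CompactSpace.elim_nhds_subcover (fun x => (j ⁻¹ᵁ (PrimeSpectrum.basicOpen (r x)) : Set V))
    (fun x => (j ⁻¹ᵁ (PrimeSpectrum.basicOpen (r x))).isOpen.mem_nhds (hr x))
  let S : Finset N := t.biUnion s
  refine ⟨S.card, ModuleCat.ofHom (Fintype.linearCombination R (fun i => ((S.equivFin.symm i : S) : N))), ?_⟩
  rw [epi_Tj_iff]
  intro x n
  have hx : x ∈ ⋃ y ∈ t, (j ⁻¹ᵁ (PrimeSpectrum.basicOpen (r y)) : Set V) := by rw [ht]; trivial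
  obtain ⟨y, hy, hxy⟩ := Set.mem_iUnion₂.1 hx
  obtain ⟨k, hk⟩ := hs y n
  refine ⟨r y ^ k, ?_, ?_⟩
  · intro hmem
    exact hxy ((j x).isPrime.mem_of_pow_mem k hmem)
  · have hrange : LinearMap.range (Fintype.linearCombination R
        (fun i => ((S.equivFin.symm i : S) : N))) = Submodule.span R (S : Set N) := by
      rw [Fintype.range_linearCombination]
      congr 1
      ext z
      constructor
      · rintro ⟨i, rfl⟩
        exact (S.equivFin.symm i).2
      · intro hz
        exact ⟨S.equivFin ⟨z, hz⟩, by simp⟩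
    change _ ∈ LinearMap.range (Fintype.linearCombination R
        (fun i => ((S.equivFin.symm i : S) : N)))
    rw [hrange]
    exact Submodule.span_mono (Finset.subset_biUnion_of_mem s hy) hk

end Groth.Agent.PerfA.ExtTilde
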