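import Groth.Agent.PerfA.PointHom
import Groth.Agent.LoccohB.FieldDual
import Groth.Agent.LoccohB.DualShift
import Groth.Prelude.Def_DualSch

/-!
# The structure sheaf of the spectrum of a field is dualizing
-/

set_option autoImplicit false
universe u
open CategoryTheory CategoryTheory.Limits AlgebraicGeometry TopologicalSpace Opposite

namespace Groth.Agent.PerfA.FieldSch
open AlgebraicGeometry.Scheme.Modules Groth.Agent.PerfA.PointHom Groth.Agent.PerfA.Restrict DerivedCategory

attribute [local instance] HasDerivedCategory.standard

/-- Restriction of a module in degree `0`. -/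
noncomputable def restrictInD {X Y : Scheme.{u}} (j : Y ⟶ X) [IsOpenImmersion j] (M : X.Modules) :
    (restrictD j).obj (DCoh.inD X M) ≅ DCoh.inD Y (M.restrict j) :=
  (rstep1 j 0).app M

/-- `tildeD` of a module in degree `0`. -/
noncomputable def tildeInD (A : Type u) [CommRing A] (M : Type u) [AddCommGroup M] [Module A M] :
    (DCoh.tildeD (CommRingCat.of A)).obj (Dual.inD A M) ≅
      DCoh.inD (Spec (CommRingCat.of A)) (tilde (R := CommRingCat.of A) (ModuleCat.of A M)) :=
  (tstep1 (A := A) 0).app (ModuleCat.of A M)

/-- The structure sheaf (in degree `0`) on an affine open. -/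
noncomputable def restrictStructureIso {X : Scheme.{u}} (A : Type u) [CommRing A]
    (j : Spec (CommRingCat.of A) ⟶ X) [IsOpenImmersion j] :
    (restrictD j).obj (DCoh.inD X (Coh.structureModule X)) ≅
      (DCoh.tildeD (CommRingCat.of A)).obj (Dual.inD A A) :=
  restrictInD j _ ≪≫
    (singleFunctor (Spec (CommRingCat.of A)).Modules 0).mapIso (restrictUnitIso j) ≪≫
    (tildeInD A A).symm

/-- An affine open subscheme of the spectrum of a field. -/
theorem isSemisimpleRing_of_open (k : Type u) [Field k] (A : Type u) [CommRing A]
    (j : Spec (CommRingCat.of A) ⟶ Spec (CommRingCat.of k)) [IsOpenImmersion j] :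
    IsSemisimpleRing A := by
  rcases subsingleton_or_nontrivial A with hA | hA
  · have : IsSemisimpleModule A A := inferInstance
    exact this
  · have hs : Function.Surjective j := by
      intro y
      have : Nonempty (Spec (CommRingCat.of A)) :=
        inferInstanceAs (Nonempty (PrimeSpectrum A))
      obtain ⟨x⟩ := this
      have hsub : Subsingleton (Spec (CommRingCat.of k)) :=
        inferInstanceAs (Subsingleton (PrimeSpectrum k))
      exact ⟨x, Subsingleton.elim _ _⟩
    have : Epi j.base := by
      rw [TopCat.epi_iff_surjective]
      exact hs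
    have : IsIso j := IsOpenImmersion.isIso j
    have e : CommRingCat.of A ≅ CommRingCat.of k :=
      (Scheme.Spec.preimageIso (asIso j)).unop.symm
    have hk : IsSemisimpleRing k := inferInstance
    exact e.commRingCatIsoToRingEquiv.symm.isSemisimpleRing

/-- A semisimple commutative ring is dualizing. -/
theorem isDualizing_of_isSemisimpleRing (A : Type u) [CommRing A] [IsSemisimpleRing A] :
    Dual.IsDualizing A (Dual.inD A A) := by
  have h1 : Module.Injective A A := Module.injective_of_isSemisimpleRing A A
  have h2 : Injective (ModuleCat.of A A) := Module.injective_object_of_injective_module A A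
  exact Localalg.DGor.isDualizing_self A 1 inferInstance

/-- The structure sheaf of the spectrum of a field is dualizing. -/
theorem isDualizingSch_field (k : Type u) [Field k]
    [∀ (U : Scheme.{u}) (j : U ⟶ Spec (CommRingCat.of k)) [IsOpenImmersion j],
      PreservesFiniteLimits (Scheme.Modules.restrictFunctor j)]
    [∀ (R : CommRingCat.{u}), PreservesFiniteLimits (tilde.functor R)]
    (K : DCoh.D (Spec (CommRingCat.of k)))
    (hK : Nonempty (K ≅ DCoh.inD (Spec (CommRingCat.of k))
      (Coh.structureModule (Spec (CommRingCat.of k))))) :
    Dual2.IsDualizingSch (Spec (CommRingCat.of k)) K := by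
  intro A _ j _
  have := isSemisimpleRing_of_open k A j
  exact ⟨Dual.inD A A, isDualizing_of_isSemisimpleRing A,
    ⟨(restrictD j).mapIso hK.some ≪≫ restrictStructureIso A j⟩⟩

end Groth.Agent.PerfA.FieldSch
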