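import Mathlib.Algebra.Homology.HomologicalComplexAbelian
import Mathlib.Algebra.Homology.DerivedCategory.ExactFunctor
import Mathlib.Algebra.Homology.DerivedCategory.ShortExact

/-!
# Mayer–Vietoris triangles attached to a bicartesian square of exact functors
-/

set_option autoImplicit false
universe w₁ w₂ v₁ v₂ u₁ u₂
open CategoryTheory CategoryTheory.Limits

namespace Groth.Agent.PerfA.MVAbs

open Pretriangulated in
/-- Transport of a distinguished triangle along isomorphisms of the vertices. -/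
lemma isom_dist {T : Type u₁} [Category.{v₁} T] [Preadditive T] [HasZeroObject T] [HasShift T ℤ]
    [∀ n : ℤ, (shiftFunctor T n).Additive] [Pretriangulated T] (S : Triangle T)
    (hS : S ∈ distTriang T) {X Y Z : T} (e₁ : S.obj₁ ≅ X) (e₂ : S.obj₂ ≅ Y) (e₃ : S.obj₃ ≅ Z) :
    Triangle.mk (e₁.inv ≫ S.mor₁ ≫ e₂.hom) (e₂.inv ≫ S.mor₂ ≫ e₃.hom)
      (e₃.inv ≫ S.mor₃ ≫ e₁.hom⟦(1 : ℤ)⟧') ∈ distTriang T := by
  refine isomorphic_distinguished _ hS _ ?_
  refine Triangle.isoMk _ _ e₁.symm e₂.symm e₃.symm ?_ ?_ ?_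
  · change (e₁.inv ≫ S.mor₁ ≫ e₂.hom) ≫ e₂.inv = e₁.inv ≫ S.mor₁
    simp
  · change (e₂.inv ≫ S.mor₂ ≫ e₃.hom) ≫ e₃.inv = e₂.inv ≫ S.mor₂
    simp
  · change (e₃.inv ≫ S.mor₃ ≫ e₁.hom⟦(1 : ℤ)⟧') ≫ e₁.inv⟦(1 : ℤ)⟧' = e₃.inv ≫ S.mor₃
    rw [Category.assoc, Category.assoc, ← Functor.map_comp, Iso.hom_inv_id,
      CategoryTheory.Functor.map_id, Category.comp_id]

variable {A : Type u₁} [Category.{v₁} A] [Abelian A] {B : Type u₂} [Category.{v₂} B] [Abelian B]
  {F₁ F₂ F₂' F₃ : A ⥤ B} [F₁.Additive] [F₂.Additive] [F₂'.Additive] [F₃.Additive]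
  (α : F₁ ⟶ F₂) (α' : F₁ ⟶ F₂') (β : F₂ ⟶ F₃) (β' : F₂' ⟶ F₃)
  (comm : ∀ N, α.app N ≫ β.app N = α'.app N ≫ β'.app N)

/-- The short complex `F₁ N ⟶ F₂ N ⊞ F₂' N ⟶ F₃ N`. -/
noncomputable abbrev mv (N : A) : ShortComplex B :=
  ShortComplex.mk (X₁ := F₁.obj N) (X₂ := F₂.obj N ⊞ F₂'.obj N) (X₃ := F₃.obj N)
    (biprod.lift (α.app N) (-α'.app N))
    (biprod.desc (β.app N) (β'.app N)) (by
      rw [biprod.lift_desc, Preadditive.neg_comp, comm, add_neg_cancel])

/-- The natural map on complexes. -/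
noncomputable def mapCx {F G : A ⥤ B} [F.Additive] [G.Additive] (α : F ⟶ G)
    (K : CochainComplex A ℤ) :
    (F.mapHomologicalComplex (.up ℤ)).obj K ⟶ (G.mapHomologicalComplex (.up ℤ)).obj K :=
  (NatTrans.mapHomologicalComplex α (ComplexShape.up ℤ)).app K

@[simp]
lemma mapCx_f {F G : A ⥤ B} [F.Additive] [G.Additive] (α : F ⟶ G)
    (K : CochainComplex A ℤ) (i : ℤ) : (mapCx α K).f i = α.app (K.X i) := rfl

include comm in
lemma comm_cx (K : CochainComplex A ℤ) :
    mapCx α K ≫ mapCx β K = mapCx α' K ≫ mapCx β' K := by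
  ext i
  exact comm (K.X i)

/-- The short complex of complexes `F₁ K ⟶ F₂ K ⊞ F₂' K ⟶ F₃ K`. -/
noncomputable abbrev mvCx (K : CochainComplex A ℤ) : ShortComplex (CochainComplex B ℤ) :=
  ShortComplex.mk (X₁ := (F₁.mapHomologicalComplex (.up ℤ)).obj K)
    (X₂ := (F₂.mapHomologicalComplex (.up ℤ)).obj K ⊞ (F₂'.mapHomologicalComplex (.up ℤ)).obj K)
    (X₃ := (F₃.mapHomologicalComplex (.up ℤ)).obj K)
    (biprod.lift (mapCx α K) (-mapCx α' K))
    (biprod.desc (mapCx β K) (mapCx β' K)) (by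
      rw [biprod.lift_desc, Preadditive.neg_comp, comm_cx α α' β β' comm, add_neg_cancel])

lemma shortExact_mvCx (h : ∀ N, (mv α α' β β' comm N).ShortExact) (K : CochainComplex A ℤ) :
    (mvCx α α' β β' comm K).ShortExact := by
  apply HomologicalComplex.shortExact_of_degreewise_shortExact
  intro i
  let ev := HomologicalComplex.eval B (ComplexShape.up ℤ) i
  let e : mv α α' β β' comm (K.X i) ≅ (mvCx α α' β β' comm K).map ev :=
    ShortComplex.isoMk (Iso.refl _)
      (ev.mapBiprod ((F₂.mapHomologicalComplex (.up ℤ)).obj K)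
        ((F₂'.mapHomologicalComplex (.up ℤ)).obj K)).symm (Iso.refl _)
      (by
        have h1 := biprod.map_lift_mapBiprod ev _ _ (mapCx α K) (-mapCx α' K)
        rw [← Iso.eq_comp_inv] at h1
        refine (Category.id_comp _).trans (h1.trans ?_)
        rfl)
      (by
        have h1 := biprod.mapBiprod_inv_map_desc ev _ _ (mapCx β K) (mapCx β' K)
        refine h1.trans ?_
        exact (Category.comp_id _).symm)
  exact ShortComplex.shortExact_of_iso e (h (K.X i))

variable [PreservesFiniteLimits F₁] [PreservesFiniteColimits F₁]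
  [PreservesFiniteLimits F₂] [PreservesFiniteColimits F₂]
  [PreservesFiniteLimits F₂'] [PreservesFiniteColimits F₂']
  [PreservesFiniteLimits F₃] [PreservesFiniteColimits F₃]
  [HasDerivedCategory.{w₁} A] [HasDerivedCategory.{w₂} B]

instance : PreservesBinaryBiproducts (DerivedCategory.Q (C := B)) :=
  preservesBinaryBiproducts_of_preservesBiproducts _

open Pretriangulated in
include comm in
/-- The Mayer–Vietoris triangle. -/
theorem exists_triangle (h : ∀ N, (mv α α' β β' comm N).ShortExact) (K : DerivedCategory A) :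
    ∃ (a : F₁.mapDerivedCategory.obj K ⟶ F₂.mapDerivedCategory.obj K ⊞ F₂'.mapDerivedCategory.obj K)
      (b : F₂.mapDerivedCategory.obj K ⊞ F₂'.mapDerivedCategory.obj K ⟶
        F₃.mapDerivedCategory.obj K)
      (c : F₃.mapDerivedCategory.obj K ⟶ (F₁.mapDerivedCategory.obj K)⟦(1 : ℤ)⟧),
      Triangle.mk a b c ∈ distTriang (DerivedCategory B) := by
  let L := DerivedCategory.Q.objPreimage K
  let eL : DerivedCategory.Q.obj L ≅ K := DerivedCategory.Q.objObjPreimageIso K
  let e : ∀ (F : A ⥤ B) [F.Additive] [PreservesFiniteLimits F] [PreservesFiniteColimits F],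
      DerivedCategory.Q.obj ((F.mapHomologicalComplex (.up ℤ)).obj L) ≅
        F.mapDerivedCategory.obj K := fun F _ _ _ =>
    (F.mapDerivedCategoryFactors.app L).symm ≪≫ F.mapDerivedCategory.mapIso eL
  have hS := shortExact_mvCx α α' β β' comm h L
  have hT := DerivedCategory.triangleOfSES_distinguished hS
  let e₁ := e F₁
  let e₂ : DerivedCategory.Q.obj (mvCx α α' β β' comm L).X₂ ≅
      F₂.mapDerivedCategory.obj K ⊞ F₂'.mapDerivedCategory.obj K :=
    DerivedCategory.Q.mapBiprod _ _ ≪≫ biprod.mapIso (e F₂) (e F₂')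
  let e₃ := e F₃
  exact ⟨_, _, _, isom_dist _ hT e₁ e₂ e₃⟩

open Pretriangulated in
include comm in
/-- Triangulated properties and Mayer–Vietoris. -/
theorem prop_of_mv (h : ∀ N, (mv α α' β β' comm N).ShortExact)
    (P : ObjectProperty (DerivedCategory B)) [P.IsTriangulated] [P.IsClosedUnderIsomorphisms]
    (K : DerivedCategory A) (h₁ : P (F₁.mapDerivedCategory.obj K))
    (h₂ : P (F₂.mapDerivedCategory.obj K)) (h₂' : P (F₂'.mapDerivedCategory.obj K)) :
    P (F₃.mapDerivedCategory.obj K) := by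
  obtain ⟨a, b, c, hT⟩ := exists_triangle α α' β β' comm h K
  have h : P (F₂.mapDerivedCategory.obj K ⊞ F₂'.mapDerivedCategory.obj K) :=
    P.ext_of_isTriangulatedClosed₂ _ (binaryBiproductTriangle_distinguished _ _) h₂ h₂'
  exact P.ext_of_isTriangulatedClosed₃ _ hT h₁ h

end Groth.Agent.PerfA.MVAbs
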