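import Groth.Prelude.Def_DCoh2
import Groth.Agent.PerfC.ExtZero2
import Groth.Agent.PerfA.MVAbs

/-!
# Mayer–Vietoris for the functors `TF U = j_! j^*`
-/

set_option autoImplicit false
universe u
open CategoryTheory CategoryTheory.Limits AlgebraicGeometry Opposite TopologicalSpace
attribute [local instance] HasDerivedCategory.standard

namespace Groth.Agent.PerfA.TFMV

open Groth.Agent.PerfC.ExtZero

variable {X : Scheme.{u}}

lemma LocZero.mono {U V : X.Opens} (h : U ≤ V) {N : X.Modules} {W : X.Opens} {s : Γ(N, W)}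
    (hs : LocZero U N W s) : LocZero V N W s :=
  fun x hx hxV => hs x hx (fun hxU => hxV (h hxU))

lemma LocZero.inf {U V : X.Opens} {N : X.Modules} {W : X.Opens} {s : Γ(N, W)}
    (hs : LocZero U N W s) (hs' : LocZero V N W s) : LocZero (U ⊓ V) N W s := by
  intro x hx hxUV
  by_cases hxU : x ∈ U
  · exact hs' x hx (fun hxV => hxUV ⟨hxU, hxV⟩)
  · exact hs x hx hxU

/-- The inclusion `TF U N ⟶ N`. -/
noncomputable def inc (U : X.Opens) (N : X.Modules) : (TF U).obj N ⟶ N := incl U N

instance mono_inc (U : X.Opens) (N : X.Modules) : Mono (inc U N) := mono_incl U N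

lemma inc_app_injective (U : X.Opens) (N : X.Modules) (V : X.Opens) :
    Function.Injective ((inc U N).app V) := incl_app_injective U N V

lemma inc_app_mem (U : X.Opens) (N : X.Modules) (V : X.Opens) (s : Γ((TF U).obj N, V)) :
    LocZero U N V ((inc U N).app V s) := incl_app_mem U N V s

lemma inc_app_bijective_of_le (U : X.Opens) (N : X.Modules) {V : X.Opens} (hV : V ≤ U) :
    Function.Bijective ((inc U N).app V) := incl_app_bijective_of_le U N hV

lemma TF_map_inc {M N : X.Modules} (U : X.Opens) (φ : M ⟶ N) :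
    (TF U).map φ ≫ inc U N = inc U M ≫ φ := TF_map_incl U φ

lemma fac_inc {U V : X.Opens} (h : U ≤ V) (N : X.Modules) : Fac V (inc U N) :=
  fun W s => LocZero.mono h (inc_app_mem U N W s)

/-- Lifting a morphism with values vanishing near the points outside `U`. -/
noncomputable def liftT {U : X.Opens} {M N : X.Modules} (φ : M ⟶ N) (h : Fac U φ) :
    M ⟶ (TF U).obj N := lift φ h

@[reassoc (attr := simp)]
lemma liftT_inc {U : X.Opens} {M N : X.Modules} (φ : M ⟶ N) (h : Fac U φ) :
    liftT φ h ≫ inc U N = φ := lift_incl φ h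

/-- The inclusion `TF U N ⟶ TF V N` for `U ≤ V`. -/
noncomputable def mapLE {U V : X.Opens} (h : U ≤ V) (N : X.Modules) :
    (TF U).obj N ⟶ (TF V).obj N := liftT (inc U N) (fac_inc h N)

@[reassoc (attr := simp)]
lemma mapLE_inc {U V : X.Opens} (h : U ≤ V) (N : X.Modules) : mapLE h N ≫ inc V N = inc U N :=
  liftT_inc _ _

instance mono_mapLE {U V : X.Opens} (h : U ≤ V) (N : X.Modules) : Mono (mapLE h N) := by
  have : Mono (mapLE h N ≫ inc V N) := by rw [mapLE_inc]; infer_instance
  exact mono_of_mono _ (inc V N)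

lemma mapLE_comp {U V W : X.Opens} (h : U ≤ V) (h' : V ≤ W) (N : X.Modules) :
    mapLE h N ≫ mapLE h' N = mapLE (h.trans h') N := by
  rw [← cancel_mono (inc W N), Category.assoc, mapLE_inc, mapLE_inc, mapLE_inc]

lemma mapLE_naturality {U V : X.Opens} (h : U ≤ V) {M N : X.Modules} (φ : M ⟶ N) :
    (TF U).map φ ≫ mapLE h N = mapLE h M ≫ (TF V).map φ := by
  rw [← cancel_mono (inc V N), Category.assoc, Category.assoc, mapLE_inc, TF_map_inc,
    TF_map_inc, mapLE_inc_assoc]

/-- The inclusion `TF U ⟶ TF V` for `U ≤ V`. -/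
noncomputable def natLE {U V : X.Opens} (h : U ≤ V) : TF U ⟶ TF V where
  app N := mapLE h N
  naturality _ _ φ := mapLE_naturality h φ

/-- `TF (U ⊓ V) N ⟶ TF U N ⊞ TF V N`. -/
noncomputable def mvf (U V : X.Opens) (N : X.Modules) :
    (TF (U ⊓ V)).obj N ⟶ (TF U).obj N ⊞ (TF V).obj N :=
  biprod.lift (mapLE inf_le_left N) (-mapLE inf_le_right N)

/-- `TF U N ⊞ TF V N ⟶ TF (U ⊔ V) N`. -/
noncomputable def mvg (U V : X.Opens) (N : X.Modules) :
    (TF U).obj N ⊞ (TF V).obj N ⟶ (TF (U ⊔ V)).obj N :=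
  biprod.desc (mapLE le_sup_left N) (mapLE le_sup_right N)

lemma mvf_mvg (U V : X.Opens) (N : X.Modules) : mvf U V N ≫ mvg U V N = 0 := by
  rw [mvf, mvg, biprod.lift_desc, mapLE_comp, Preadditive.neg_comp, mapLE_comp, add_neg_cancel]

instance mono_mvf (U V : X.Opens) (N : X.Modules) : Mono (mvf U V N) := by
  have : Mono (mvf U V N ≫ biprod.fst) := by
    rw [mvf, biprod.lift_fst]
    infer_instance
  exact mono_of_mono _ biprod.fst

instance epi_mvg (U V : X.Opens) (N : X.Modules) : Epi (mvg U V N) := by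
  refine Preadditive.epi_of_cancel_zero _ (fun {M} h hh => ?_)
  have h1 : mapLE le_sup_left N ≫ h = 0 := by
    have := congrArg (fun t => biprod.inl ≫ t) hh
    simpa only [mvg, biprod.inl_desc_assoc, comp_zero] using this
  have h2 : mapLE le_sup_right N ≫ h = 0 := by
    have := congrArg (fun t => biprod.inr ≫ t) hh
    simpa only [mvg, biprod.inr_desc_assoc, comp_zero] using this
  ext W s
  -- check locally
  have key : ∀ x : W, ∃ (W' : X.Opens) (h' : W' ≤ W), x.1 ∈ W' ∧
      M.presheaf.map (homOfLE h').op (h.app W s) = 0 := by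
    rintro ⟨x, hx⟩
    have aux : ∀ (U' : X.Opens) (hU' : U' ≤ U ⊔ V) (_ : mapLE hU' N ≫ h = 0), x ∈ U' →
        ∃ (W' : X.Opens) (h' : W' ≤ W), x ∈ W' ∧
          M.presheaf.map (homOfLE h').op (h.app W s) = 0 := by
      intro U' hU' e hxU'
      refine ⟨W ⊓ U', inf_le_left, ⟨hx, hxU'⟩, ?_⟩
      rw [app_map]
      obtain ⟨t, ht⟩ := (inc_app_bijective_of_le U' N (V := W ⊓ U') inf_le_right).2
        ((inc (U ⊔ V) N).app (W ⊓ U')
          (((TF (U ⊔ V)).obj N).presheaf.map (homOfLE inf_le_left).op s))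
      have ht' : (mapLE hU' N).app (W ⊓ U') t =
          ((TF (U ⊔ V)).obj N).presheaf.map (homOfLE (inf_le_left : W ⊓ U' ≤ W)).op s := by
        apply inc_app_injective (U ⊔ V) N
        have := congr_arg (fun z : (TF U').obj N ⟶ N => z.app (W ⊓ U') t) (mapLE_inc hU' N)
        exact this.trans ht
      rw [← ht']
      have := congr_arg (fun z : (TF U').obj N ⟶ M => z.app (W ⊓ U') t) e
      exact this
    by_cases hxU : x ∈ U
    · exact aux U le_sup_left h1 hxU
    · by_cases hxV : x ∈ V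
      · exact aux V le_sup_right h2 hxV
      · obtain ⟨W', hW', hxW', e⟩ := suppIn_T (U ⊔ V) N W s x hx (by
          rintro (h | h)
          · exact hxU h
          · exact hxV h)
        refine ⟨W', hW', hxW', ?_⟩
        rw [app_map]
        exact (congrArg (h.app W') e).trans (map_zero' h W')
  choose W' hW' hxW' e using key
  refine TopCat.Sheaf.eq_of_locally_eq' ⟨M.presheaf, M.isSheaf⟩ W' W (fun x => homOfLE (hW' x))
    (fun x hx => Opens.mem_iSup.2 ⟨⟨x, hx⟩, hxW' _⟩) _ _ (fun x => ?_)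
  refine (e x).trans ?_
  exact (map_zero (M.presheaf.map (homOfLE (hW' x)).op).hom).symm

lemma exists_lift_mvf (U V : X.Opens) (N : X.Modules) {W : X.Modules}
    (k : W ⟶ (TF U).obj N ⊞ (TF V).obj N) (hk : k ≫ mvg U V N = 0) :
    ∃ l : W ⟶ (TF (U ⊓ V)).obj N, l ≫ mvf U V N = k := by
  have h0 : (k ≫ biprod.fst) ≫ inc U N + (k ≫ biprod.snd) ≫ inc V N = 0 := by
    have := congrArg (fun t => t ≫ inc (U ⊔ V) N) hk
    rw [zero_comp, Category.assoc] at this
    rw [← this]
    have e : mvg U V N ≫ inc (U ⊔ V) N = biprod.fst ≫ inc U N + biprod.snd ≫ inc V N := by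
      rw [mvg]
      apply biprod.hom_ext' <;> simp
    rw [e, Preadditive.comp_add, Category.assoc, Category.assoc]
  have h1 : (k ≫ biprod.fst) ≫ inc U N = (-(k ≫ biprod.snd)) ≫ inc V N := by
    rw [Preadditive.neg_comp]
    exact eq_neg_of_add_eq_zero_left h0
  have hf : Fac (U ⊓ V) ((k ≫ biprod.fst) ≫ inc U N) := by
    intro V' s
    refine LocZero.inf ?_ ?_
    · exact inc_app_mem U N V' ((k ≫ biprod.fst).app V' s)
    · rw [h1]
      exact inc_app_mem V N V' ((-(k ≫ biprod.snd)).app V' s)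
  refine ⟨liftT _ hf, ?_⟩
  rw [mvf]
  apply biprod.hom_ext
  · rw [Category.assoc, biprod.lift_fst, ← cancel_mono (inc U N), Category.assoc, mapLE_inc]
    exact liftT_inc _ _
  · rw [Category.assoc, biprod.lift_snd, ← cancel_mono (inc V N), Preadditive.comp_neg,
      Preadditive.neg_comp, Category.assoc, mapLE_inc, liftT_inc, h1, Preadditive.neg_comp,
      neg_neg]

/-- The Mayer–Vietoris short complex. -/
noncomputable abbrev mv (U V : X.Opens) (N : X.Modules) : ShortComplex X.Modules :=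
  ShortComplex.mk (mvf U V N) (mvg U V N) (mvf_mvg U V N)

lemma exact_mv (U V : X.Opens) (N : X.Modules) : (mv U V N).Exact := by
  apply ShortComplex.exact_of_f_is_kernel
  exact KernelFork.IsLimit.ofι _ _ (fun k hk => (exists_lift_mvf U V N k hk).choose)
    (fun k hk => (exists_lift_mvf U V N k hk).choose_spec)
    (fun k hk m hm => by
      rw [← cancel_mono (mvf U V N)]
      exact hm.trans (exists_lift_mvf U V N k hk).choose_spec.symm)

lemma shortExact_mv (U V : X.Opens) (N : X.Modules) : (mv U V N).ShortExact where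
  exact := exact_mv U V N
  mono_f := mono_mvf U V N
  epi_g := epi_mvg U V N

/-- `TF j.opensRange ≅ j_! j^*`. -/
noncomputable def tfIso {Y : Scheme.{u}} (j : Y ⟶ X) [IsOpenImmersion j] :
    TF j.opensRange ≅ Scheme.Modules.restrictFunctor j ⋙ jShriek j :=
  NatIso.ofComponents (fun N => @asIso _ _ _ _ (tEta j N) (isIso_tEta j N))
    (fun φ => tEta_naturality j φ)

/-- `TF U ≅ j_! j^*` for the inclusion `j` of `U`. -/
noncomputable def tfOpensIso (U : X.Opens) :
    TF U ≅ Scheme.Modules.restrictFunctor U.ι ⋙ jShriek U.ι :=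
  eqToIso (by rw [Scheme.Opens.opensRange_ι]) ≪≫ tfIso U.ι

instance additive_TF (U : X.Opens) : (TF U).Additive :=
  Functor.additive_of_iso (tfOpensIso U).symm

instance preservesFiniteLimits_TF (U : X.Opens) : PreservesFiniteLimits (TF U) :=
  preservesFiniteLimits_of_natIso (tfOpensIso U).symm

instance preservesFiniteColimits_TF (U : X.Opens) : PreservesFiniteColimits (TF U) :=
  preservesFiniteColimits_of_natIso (tfOpensIso U).symm

/-- `TF U` on the derived category. -/
noncomputable abbrev TFD (U : X.Opens) : DCoh.D X ⥤ DCoh.D X := (TF U).mapDerivedCategory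

/-- Mayer–Vietoris for a triangulated property: from `j_!j^*K` for `U`, `V`, `U ⊓ V` to `U ⊔ V`. -/
theorem prop_TFD_sup (P : ObjectProperty (DCoh.D X)) [P.IsTriangulated]
    [P.IsClosedUnderIsomorphisms] (K : DCoh.D X) (U V : X.Opens)
    (h₁ : P ((TFD (U ⊓ V)).obj K)) (h₂ : P ((TFD U).obj K)) (h₃ : P ((TFD V).obj K)) :
    P ((TFD (U ⊔ V)).obj K) :=
  MVAbs.prop_of_mv (natLE inf_le_left) (natLE inf_le_right) (natLE le_sup_left)
    (natLE le_sup_right) (fun N => (mapLE_comp (inf_le_left : U ⊓ V ≤ U) (le_sup_left : U ≤ U ⊔ V) N).trans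
      (mapLE_comp (inf_le_right : U ⊓ V ≤ V) (le_sup_right : V ≤ U ⊔ V) N).symm)
    (shortExact_mv U V) P K h₁ h₂ h₃

end Groth.Agent.PerfA.TFMV
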