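import Groth.Agent.PerfA.FlfRetract
import Groth.Agent.PerfA.AffVan
import Groth.Agent.PerfA.UnitOU
import Groth.Agent.PerfA.QCohD
import Groth.Agent.PerfA.TFMV
import Groth.Agent.PerfC.ExtZeroD
import Groth.Agent.PerfA.PerfLocal
import Groth.Agent.S0015

/-!
# Vanishing of `Ext^n(F, E)` for `F` finite locally free, uniformly in `F`
-/

set_option autoImplicit false
universe u
open CategoryTheory CategoryTheory.Limits AlgebraicGeometry Pretriangulated
attribute [local instance] HasDerivedCategory.standard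

namespace Groth.Agent.PerfA.FlfExt

variable {X Y : Scheme.{u}}

/-- Hom's from `O[0]` to `M[-i]`, `i < 0`. -/
theorem hom_unit_eq_zero [IsAffine Y] (M : Y.Modules) (hM : Coh.IsQCoh M) (i : ℤ) (hi : i < 0)
    (f : (DerivedCategory.singleFunctor Y.Modules 0).obj (Coh.structureModule Y) ⟶
      (DerivedCategory.singleFunctor Y.Modules i).obj M) : f = 0 := by
  rw [← cancel_epi ((DerivedCategory.singleFunctor Y.Modules 0).map (UnitOU.unitIsoOU Y).inv),
    comp_zero]
  exact AffVan.hom_single_OU_eq_zero M hM ⊤ (isAffineOpen_top Y) 0 i hi _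

theorem hom_free_eq_zero [IsAffine Y] (n : ℕ) (M : Y.Modules) (hM : Coh.IsQCoh M) (i : ℤ)
    (hi : i < 0)
    (f : (DerivedCategory.singleFunctor Y.Modules 0).obj (FlatMod.freeMod Y n) ⟶
      (DerivedCategory.singleFunctor Y.Modules i).obj M) : f = 0 := by
  have h : f = (DerivedCategory.singleFunctor Y.Modules 0).map
      (∑ j : Fin n, S0938.pr Y j ≫ Sigma.ι (fun _ : Fin n => Coh.structureModule Y) j) ≫ f := by
    rw [S0938.sum_pr_ι, CategoryTheory.Functor.map_id, Category.id_comp]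
  rw [h, Functor.map_sum, Preadditive.sum_comp]
  refine Finset.sum_eq_zero (fun j _ => ?_)
  rw [Functor.map_comp, Category.assoc,
    hom_unit_eq_zero M hM i hi ((DerivedCategory.singleFunctor Y.Modules 0).map
      (Sigma.ι (fun _ : Fin n => Coh.structureModule Y) j) ≫ f), comp_zero]

theorem hom_flf_single_eq_zero [IsAffine Y] (F : Y.Modules) (hF : FlatMod.IsFinLocFree F)
    (M : Y.Modules) (hM : Coh.IsQCoh M) (i : ℤ) (hi : i < 0)
    (f : (DerivedCategory.singleFunctor Y.Modules 0).obj F ⟶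
      (DerivedCategory.singleFunctor Y.Modules i).obj M) : f = 0 := by
  obtain ⟨n, j, r, hjr⟩ := FlfRetract.exists_retract F hF
  have h : f = (DerivedCategory.singleFunctor Y.Modules 0).map (j ≫ r) ≫ f := by
    rw [hjr, CategoryTheory.Functor.map_id, Category.id_comp]
  rw [h, Functor.map_comp, Category.assoc,
    hom_free_eq_zero n M hM i hi ((DerivedCategory.singleFunctor Y.Modules 0).map r ≫ f), comp_zero]

/-- Affine vanishing for a finite locally free module and a bounded object of `D_QCoh`. -/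
theorem hom_flf_eq_zero [IsAffine Y] (F : Y.Modules) (hF : FlatMod.IsFinLocFree F)
    (L : DCoh.D Y) (hL : DCoh.IsQCohD L) (a : ℤ) [L.IsGE a] [L.IsLE (-1)]
    (f : (DerivedCategory.singleFunctor Y.Modules 0).obj F ⟶ L) : f = 0 := by
  let C : ObjectProperty (DCoh.D Y) := fun K =>
    ∀ f : (DerivedCategory.singleFunctor Y.Modules 0).obj F ⟶ K, f = 0
  have : C.IsClosedUnderIsomorphisms := ⟨fun e h f => by
    rw [← cancel_mono e.inv, zero_comp]
    exact h _⟩
  refine CohomIn.bounded_induction (QCohSerre.qcoh Y) C ?_ a (-1) ?_ ?_ L hL f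
  · intro T hT h₁ h₃ f
    obtain ⟨g, hg⟩ := Triangle.coyoneda_exact₂ _ hT f (h₃ _)
    rw [hg, h₁ g, zero_comp]
  · intro M hM i _ hi f
    exact hom_flf_single_eq_zero F hF M hM i (by omega) f
  · intro K hK f
    exact hK.eq_of_tgt _ _

open Groth.Agent.PerfC.ExtZero Groth.Agent.PerfA.TFMV Groth.Agent.PerfC.ExtZeroD
open Groth.Agent.PerfA.Restrict

lemma eq_zero_of_adj {C D : Type*} [Category* C] [Category* D] [HasZeroMorphisms C]
    [HasZeroMorphisms D] {L : C ⥤ D} {R : D ⥤ C} (adj : L ⊣ R) [L.PreservesZeroMorphisms]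
    {A : C} {B : D} (h : ∀ g : A ⟶ R.obj B, g = 0) (f : L.obj A ⟶ B) : f = 0 := by
  have h1 : f = L.map ((adj.homEquiv _ _) f) ≫ adj.counit.app B :=
    ((adj.homEquiv _ _).symm_apply_apply f).symm.trans (adj.homEquiv_counit _ _ _)
  rw [h1, h ((adj.homEquiv _ _) f), Functor.map_zero, zero_comp]

lemma eq_zero_of_iso {C : Type*} [Category* C] [HasZeroMorphisms C] {A A' B : C} (e : A' ≅ A)
    (h : ∀ g : A' ⟶ B, g = 0) (f : A ⟶ B) : f = 0 := by
  rw [← cancel_epi e.hom, h (e.hom ≫ f), comp_zero]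

/-- `j_!` of a module in degree zero. -/
noncomputable def shriekSingle (j : Y ⟶ X) [IsOpenImmersion j] (F : Y.Modules) :
    (shriekD j).obj ((DerivedCategory.singleFunctor Y.Modules 0).obj F) ≅
      (DerivedCategory.singleFunctor X.Modules 0).obj ((jShriek j).obj F) :=
  ((jShriek j).mapDerivedCategorySingleFunctor 0).app F

/-- Vanishing over an affine open, in terms of `F_U = j_! j^* F`. -/
theorem hom_TF_eq_zero_of_immersion [IsAffine Y] (j : Y ⟶ X) [IsOpenImmersion j] (F : X.Modules)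
    (hF : FlatMod.IsFinLocFree F) (L : DCoh.D X) (hL : DCoh.IsQCohD L) (a : ℤ) [L.IsGE a]
    [L.IsLE (-1)]
    (f : (DerivedCategory.singleFunctor X.Modules 0).obj ((TF j.opensRange).obj F) ⟶ L) :
    f = 0 := by
  have i₁ : ((restrictD j).obj L).IsGE a := ExactD.isGE_map _ _ _
  have i₂ : ((restrictD j).obj L).IsLE (-1) := ExactD.isLE_map _ _ _
  have h₀ : ∀ g : (DerivedCategory.singleFunctor Y.Modules 0).obj (F.restrict j) ⟶
      (restrictD j).obj L, g = 0 := fun g =>
    hom_flf_eq_zero (F.restrict j) (PerfLocal.isFinLocFree_restrict j hF) ((restrictD j).obj L)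
      (QCohD.isQCohD_restrictD j hL) a g
  have h₁ : ∀ g : (shriekD j).obj ((DerivedCategory.singleFunctor Y.Modules 0).obj
      (F.restrict j)) ⟶ L, g = 0 := fun g => eq_zero_of_adj (adjunction j) h₀ g
  have h₂ : ∀ g : (DerivedCategory.singleFunctor X.Modules 0).obj ((jShriek j).obj
      (F.restrict j)) ⟶ L, g = 0 := fun g => eq_zero_of_iso (shriekSingle j (F.restrict j)) h₁ g
  exact eq_zero_of_iso ((DerivedCategory.singleFunctor X.Modules 0).mapIso
    ((tfIso j).app F).symm) h₂ f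

/-- Vanishing over an affine open, in terms of `F_U = j_! j^* F`. -/
theorem hom_TF_eq_zero_of_isAffineOpen (U : X.Opens) (hU : IsAffineOpen U) (F : X.Modules)
    (hF : FlatMod.IsFinLocFree F) (L : DCoh.D X) (hL : DCoh.IsQCohD L) (a : ℤ) [L.IsGE a]
    [L.IsLE (-1)]
    (f : (DerivedCategory.singleFunctor X.Modules 0).obj ((TF U).obj F) ⟶ L) :
    f = 0 := by
  obtain ⟨V, hV⟩ : ∃ V, V = hU.fromSpec.opensRange := ⟨_, rfl⟩
  have hVU : V = U := hV.trans hU.opensRange_fromSpec
  subst hVU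
  have key : ∀ (W : X.Opens) (_ : W = hU.fromSpec.opensRange)
      (f : (DerivedCategory.singleFunctor X.Modules 0).obj ((TF W).obj F) ⟶ L), f = 0 := by
    rintro W rfl f
    exact hom_TF_eq_zero_of_immersion hU.fromSpec F hF L hL a f
  exact key V hV f

/-- Mayer–Vietoris for the vanishing of morphisms from `F_U`. -/
theorem hom_TF_sup_eq_zero (U V : X.Opens) (F : X.Modules) (L : DCoh.D X)
    (hU : ∀ f : (DerivedCategory.singleFunctor X.Modules 0).obj ((TF U).obj F) ⟶ L, f = 0)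
    (hV : ∀ f : (DerivedCategory.singleFunctor X.Modules 0).obj ((TF V).obj F) ⟶ L, f = 0)
    (hUV : ∀ f : ((DerivedCategory.singleFunctor X.Modules 0).obj
      ((TF (U ⊓ V)).obj F))⟦(1 : ℤ)⟧ ⟶ L, f = 0)
    (f : (DerivedCategory.singleFunctor X.Modules 0).obj ((TF (U ⊔ V)).obj F) ⟶ L) : f = 0 := by
  have hT := (shortExact_mv U V F).singleTriangle_distinguished
  have h0 : (shortExact_mv U V F).singleTriangle.mor₂ ≫ f = 0 := by
    let g : (DerivedCategory.singleFunctor X.Modules 0).obj ((TF U).obj F ⊞ (TF V).obj F) ⟶ L :=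
      (shortExact_mv U V F).singleTriangle.mor₂ ≫ f
    change g = 0
    have h1 : g = (DerivedCategory.singleFunctor X.Modules 0).map
        (biprod.fst ≫ biprod.inl + biprod.snd ≫ biprod.inr) ≫ g := by
      rw [biprod.total, CategoryTheory.Functor.map_id, Category.id_comp]
    rw [h1, Functor.map_add, Preadditive.add_comp, Functor.map_comp, Functor.map_comp,
      Category.assoc, Category.assoc,
      hU ((DerivedCategory.singleFunctor X.Modules 0).map biprod.inl ≫ g),
      hV ((DerivedCategory.singleFunctor X.Modules 0).map biprod.inr ≫ g),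
      comp_zero, comp_zero, add_zero]
  obtain ⟨g, hg⟩ := Triangle.yoneda_exact₃ _ hT f h0
  have h2 : g = 0 := hUV g
  subst h2
  exact hg.trans comp_zero

/-- Morphisms `K⟦1⟧ ⟶ E⟦n⟧` are morphisms `K ⟶ E⟦n - 1⟧`. -/
theorem hom_shift_one_eq_zero (K E : DCoh.D X) (n m : ℤ) (h : m + 1 = n)
    (hK : ∀ f : K ⟶ E⟦m⟧, f = 0) (f : K⟦(1 : ℤ)⟧ ⟶ E⟦n⟧) : f = 0 := by
  obtain ⟨g, hg⟩ := (shiftFunctor (DCoh.D X) (1 : ℤ)).map_surjective
    (f ≫ (shiftFunctorAdd' (DCoh.D X) m 1 n h).hom.app E)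
  rw [hK g, Functor.map_zero] at hg
  rw [← cancel_mono ((shiftFunctorAdd' (DCoh.D X) m 1 n h).hom.app E), ← hg, zero_comp]

/-- Uniform vanishing on quasi-compact opens. -/
theorem uniform [CompactSpace X] [QuasiSeparatedSpace X] (E : DCoh.D X) (hE : DCoh.IsQCohD E)
    (a b : ℤ) [E.IsGE a] [E.IsLE b] (U : X.Opens) (hU : IsCompact (U : Set X)) :
    ∃ n₀ : ℤ, ∀ (F : X.Modules), FlatMod.IsFinLocFree F → ∀ n : ℤ, n₀ ≤ n →
      ∀ φ : (DerivedCategory.singleFunctor X.Modules 0).obj ((TF U).obj F) ⟶ E⟦n⟧, φ = 0 := by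
  refine Groth.Agent.S0015.result X (fun U => ∃ n₀ : ℤ, ∀ (F : X.Modules),
    FlatMod.IsFinLocFree F → ∀ n : ℤ, n₀ ≤ n →
      ∀ φ : (DerivedCategory.singleFunctor X.Modules 0).obj ((TF U).obj F) ⟶ E⟦n⟧, φ = 0)
    ?_ ?_ U hU
  · intro V hV
    refine ⟨b + 1, fun F hF n hn φ => ?_⟩
    have h1 : (E⟦n⟧).IsGE (a - n) := (DerivedCategory.TStructure.t :
      CategoryTheory.Triangulated.TStructure (DCoh.D X)).isGE_shift E a n (a - n) (by omega)
    have h2 : (E⟦n⟧).IsLE (b - n) := (DerivedCategory.TStructure.t :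
      CategoryTheory.Triangulated.TStructure (DCoh.D X)).isLE_shift E b n (b - n) (by omega)
    have h3 : (E⟦n⟧).IsLE (-1) := (DerivedCategory.TStructure.t :
      CategoryTheory.Triangulated.TStructure (DCoh.D X)).isLE_of_le _ (b - n) (-1) (by omega)
    exact hom_TF_eq_zero_of_isAffineOpen V hV F hF _ (QCohD.isQCohD_shift hE n) (a - n) φ
  · rintro U V - - ⟨n₁, h₁⟩ ⟨n₂, h₂⟩ ⟨n₃, h₃⟩
    refine ⟨max n₁ (max n₂ (n₃ + 1)), fun F hF n hn φ => ?_⟩
    refine hom_TF_sup_eq_zero U V F _ (h₁ F hF n (by omega)) (h₂ F hF n (by omega)) ?_ φ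
    exact hom_shift_one_eq_zero _ E n (n - 1) (by omega) (h₃ F hF (n - 1) (by omega))

lemma isIso_inc_top (F : X.Modules) : IsIso (inc ⊤ F) := by
  rw [Scheme.Modules.Hom.isIso_iff_isIso_app]
  intro U
  rw [ConcreteCategory.isIso_iff_bijective]
  exact inc_app_bijective_of_le ⊤ F le_top

end Groth.Agent.PerfA.FlfExt
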