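import Groth.Agent.S0938
import Groth.Agent.CohqB.AffIso
import Groth.Agent.Desc.FinLocFreeSections
import Groth.Agent.PerfA.QCohEpi
import Groth.Agent.Dcoh.Spread

/-!
# Finite locally free modules on an affine scheme are retracts of finite free modules
-/

set_option autoImplicit false
universe u
open CategoryTheory CategoryTheory.Limits AlgebraicGeometry

namespace Groth.Agent.PerfA.FlfRetract

/-- On an affine scheme a finite locally free module is a retract of some `O^n`. -/
theorem exists_retract {Y : Scheme.{u}} [IsAffine Y] (F : Y.Modules) (hF : FlatMod.IsFinLocFree F) :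
    ∃ (n : ℕ) (i : F ⟶ FlatMod.freeMod Y n) (r : FlatMod.freeMod Y n ⟶ F), i ≫ r = 𝟙 F := by
  have hq : Coh.IsQCoh F := QCohEpi.isQCoh_of_isFinLocFree hF
  obtain ⟨hfp, hfl⟩ := (Desc.FinLocFreeSections.isFinLocFree_iff_of_cover hq (fun V => V = ⊤)
    (fun x => ⟨⊤, rfl, isAffineOpen_top Y, trivial⟩)).1 hF ⊤ rfl (isAffineOpen_top Y)
  have hfin : Module.Finite Γ(Y, ⊤) Γ(F, ⊤) := inferInstance
  have hproj : Module.Projective Γ(Y, ⊤) Γ(F, ⊤) := Module.Flat.projective_of_finitePresentation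
  let N : (S0938.Q Y).FullSubcategory := ⟨(S0938.gam Y).obj F, ⟨hfin, hproj⟩⟩
  let G := (S0938.G Y).objPreimage N
  let e : (S0938.G Y).obj G ≅ N := (S0938.G Y).objObjPreimageIso N
  let e' : (S0938.gam Y).obj G.obj ≅ (S0938.gam Y).obj F := (S0938.Q Y).ι.mapIso e
  obtain ⟨f, hf⟩ := S0938.full_aux G.property e'.hom
  obtain ⟨n, i, r, hir⟩ := G.property
  have hG : FlatMod.IsFinLocFree G.obj :=
    Dcoh.Spread.isFinLocFree_of_retract i r hir (Dcoh.FinLocFree.isFinLocFree_freeMod _ _)
  have hGq : Coh.IsQCoh G.obj := QCohEpi.isQCoh_of_isFinLocFree hG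
  have : IsIso f := by
    refine CohqB.AffIso.isIso_of_affine_cover f (fun x => ⟨⊤, trivial, isAffineOpen_top Y, ?_⟩)
    have h1 : Function.Bijective ((S0938.gam Y).map f) := by
      rw [hf]
      exact ConcreteCategory.bijective_of_isIso e'.hom
    exact h1
  refine ⟨n, inv f ≫ i, r ≫ f, ?_⟩
  rw [Category.assoc, reassoc_of% hir, IsIso.inv_hom_id]

end Groth.Agent.PerfA.FlfRetract
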