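import Groth.Agent.Dcoh.PerfDual
import Groth.Agent.PerfC.ProjAbs291
import Groth.Agent.PerfA.TildeMain
import Groth.Agent.PerfA.HypAdj
import Groth.Agent.PerfA.QCohD
import Groth.Agent.S1054
import Mathlib.CategoryTheory.Adjunction.Restrict

/-!
# The functor `K ↦ RΓ(X, E ⊗ᴸ K)` on `D_QCoh(X)` with values in `D(A)`, as a right adjoint
-/

set_option autoImplicit false

universe u v₁ v₂ v₃ u₁ u₂ u₃

open CategoryTheory CategoryTheory.Limits AlgebraicGeometry Pretriangulated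

attribute [local instance] HasDerivedCategory.standard

namespace Groth.Agent.PerfA.GB3

open Groth.Agent.PerfC.IsoLocus

section Abstract

variable {D₁ : Type u₁} [Category.{v₁} D₁] [HasZeroObject D₁] [HasShift D₁ ℤ] [Preadditive D₁]
  [∀ n : ℤ, (shiftFunctor D₁ n).Additive] [Pretriangulated D₁]
  {D₂ : Type u₂} [Category.{v₂} D₂] [HasZeroObject D₂] [HasShift D₂ ℤ] [Preadditive D₂]
  [∀ n : ℤ, (shiftFunctor D₂ n).Additive] [Pretriangulated D₂]
  {D₃ : Type u₃} [Category.{v₃} D₃] [HasZeroObject D₃] [HasShift D₃ ℤ] [Preadditive D₃]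
  [∀ n : ℤ, (shiftFunctor D₃ n).Additive] [Pretriangulated D₃]

/-- The inverse of a triangulated equivalence is triangulated. -/
theorem isTriang_inv {T : D₃ ⥤ D₂} (hT : IsTriang T) [T.IsEquivalence] : IsTriang T.inv := by
  obtain ⟨i₁, i₂⟩ := hT
  let _ : T.asEquivalence.functor.CommShift ℤ := i₁
  have h1 : T.asEquivalence.functor.IsTriangulated := i₂
  let _ : T.asEquivalence.inverse.CommShift ℤ := T.asEquivalence.commShiftInverse ℤ
  have : T.asEquivalence.CommShift ℤ := T.asEquivalence.commShift_of_functor ℤ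
  have h2 : T.asEquivalence.IsTriangulated := Equivalence.IsTriangulated.mk' T.asEquivalence h1
  have h3 : T.asEquivalence.inverse.IsTriangulated := inferInstance
  exact ⟨_, h3⟩

variable (P : ObjectProperty D₁) [P.IsTriangulated] (P' : ObjectProperty D₂) [P'.IsTriangulated]

theorem isTriang_lift {F : D₃ ⥤ D₂} (hF : IsTriang F) (h : ∀ M, P' (F.obj M)) : IsTriang (P'.lift F h) := by
  obtain ⟨_, _⟩ := hF
  exact ⟨inferInstance, inferInstance⟩

omit [HasZeroObject D₂] [∀ n : ℤ, (shiftFunctor D₂ n).Additive] [Pretriangulated D₂] [HasZeroObject D₃]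
  [∀ n : ℤ, (shiftFunctor D₃ n).Additive] [Pretriangulated D₃] [P'.IsTriangulated] in
theorem isEquivalence_lift {T : D₃ ⥤ D₂} (hT1 : T.FullyFaithful) (hT2 : ∀ M, P' (T.obj M))
    (hT3 : ∀ K, P' K → ∃ M, Nonempty (T.obj M ≅ K)) : (P'.lift T hT2).IsEquivalence := by
  have : T.Full := hT1.full
  have : T.Faithful := hT1.faithful
  have : (P'.lift T hT2).EssSurj := ⟨fun K => by
    obtain ⟨M, ⟨e⟩⟩ := hT3 K.obj K.property
    exact ⟨M, ⟨P'.fullyFaithfulι.preimageIso e⟩⟩⟩
  exact { }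

/-- A triangulated right adjoint functor `F : D₁ ⥤ D₂` restricts to a triangulated right adjoint functor between
full triangulated subcategories, the second one being presented as the image of a fully faithful functor. -/
theorem exists_restrict {T : D₃ ⥤ D₂} (hT : IsTriang T) (hT1 : T.FullyFaithful) (hT2 : ∀ M, P' (T.obj M))
    (hT3 : ∀ K, P' K → ∃ M, Nonempty (T.obj M ≅ K)) {L : D₂ ⥤ D₁} {F : D₁ ⥤ D₂} (adj : L ⊣ F)
    (hF : IsTriang F) (hFP : ∀ K, P K → P' (F.obj K)) (hLP : ∀ M, P' M → P (L.obj M)) :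
    ∃ (R : P.FullSubcategory ⥤ D₃) (_ : R.CommShift ℤ) (_ : R.IsTriangulated) (_ : R.IsRightAdjoint),
      Nonempty (R ⋙ T ≅ P.ι ⋙ F) := by
  have := isEquivalence_lift P' hT1 hT2 hT3
  have h1 := isTriang_inv (isTriang_lift P' hT hT2)
  have h2 := isTriang_lift P' ((IsTriang.mk' P.ι).comp hF) (fun K => hFP K.obj K.property)
  obtain ⟨_, _⟩ := h2.comp h1
  let i : (P'.lift (P.ι ⋙ F) (fun K => hFP K.obj K.property) ⋙ (P'.lift T hT2).inv) ⋙ T ≅ P.ι ⋙ F :=
    Functor.associator _ _ _ ≪≫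
      Functor.isoWhiskerLeft (P'.lift (P.ι ⋙ F) (fun K => hFP K.obj K.property))
        (Functor.isoWhiskerLeft (P'.lift T hT2).inv (P'.liftCompιIso T hT2).symm
        ≪≫ (Functor.associator _ _ _).symm ≪≫
          Functor.isoWhiskerRight (P'.lift T hT2).asEquivalence.counitIso P'.ι ≪≫ Functor.leftUnitor _) ≪≫
      P'.liftCompιIso _ _
  let adj' : P.lift (T ⋙ L) (fun M => hLP _ (hT2 M)) ⊣
      (P'.lift (P.ι ⋙ F) (fun K => hFP K.obj K.property) ⋙ (P'.lift T hT2).inv) :=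
    adj.restrictFullyFaithful hT1 P.fullyFaithfulι (P.liftCompιIso _ _).symm i.symm
  exact ⟨_, inferInstance, inferInstance, adj'.isRightAdjoint, ⟨i⟩⟩

end Abstract

open DCoh Groth.Agent.PerfC.DTens

/-- `D(A) ⥤ D(O_{Spec A})` is fully faithful. -/
noncomputable def fullyFaithful (A : CommRingCat.{u}) [PreservesFiniteLimits (tilde.functor A)] :
    (DCoh.tildeD A).FullyFaithful where
  preimage {M N} φ := (Equiv.ofBijective _ (TildeMain.bijective_map A M N)).symm φ
  map_preimage {M N} φ := (Equiv.ofBijective _ (TildeMain.bijective_map A M N)).apply_symm_apply φ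
  preimage_map {M N} φ := (Equiv.ofBijective _ (TildeMain.bijective_map A M N)).symm_apply_apply φ

/-- For `E` perfect, `K ↦ RΓ(X, E ⊗ᴸ K)` as a triangulated right adjoint functor from `D_QCoh(X)` to `D(A)`. -/
theorem exists_functor {X : Scheme.{u}} [CompactSpace X] [QuasiSeparatedSpace X] {A : CommRingCat.{u}}
    (f : X ⟶ Spec A) [QuasiCompact f] [QuasiSeparated f] [DCoh.HasRpush f]
    [PreservesFiniteLimits (tilde.functor A)] (E : DCoh.D X) (hE : DCoh.IsPerfect E) :
    ∃ (R : DCoh.DQCoh X ⥤ DerivedCategory (ModuleCat.{u} A)) (_ : R.CommShift ℤ) (_ : R.IsTriangulated)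
      (_ : R.IsRightAdjoint),
      Nonempty (R ⋙ DCoh.tildeD A ≅ ObjectProperty.ι _ ⋙ (LTX X).obj E ⋙ DCoh.Rpush f) := by
  obtain ⟨E', hE', ⟨adj⟩⟩ := Groth.Agent.Dcoh.PerfDual.exists_adj E hE
  have := Groth.Agent.Dcoh.DerPull.hasLpull f
  refine exists_restrict (T := DCoh.tildeD A) DCoh.IsQCohD DCoh.IsQCohD (IsTriang.mk' _)
    (fullyFaithful A) (TildeMain.isQCohD_map A) (TildeMain.exists_iso A)
    ((Groth.Agent.Dcoh.DerPull.lpullAdj f).comp adj) ?_ ?_ ?_
  · exact (isTriang_LTX_obj E).comp (Groth.Agent.PerfC.ProjAbs291.isTriang_Rpush f)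
  · intro K hK
    exact HypAdj.isQCohD_Rpush f (Groth.Agent.PerfC.ProjAbs291.isQCohD_LTX (QCohD.isQCohD_of_isPerfect E hE) hK)
  · intro M hM
    exact Groth.Agent.PerfC.ProjAbs291.isQCohD_LTX (QCohD.isQCohD_of_isPerfect E' hE') (Groth.Agent.S1054.result f M hM)

end Groth.Agent.PerfA.GB3
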