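import Groth.Agent.PerfC.DTens
import Groth.Agent.Dcoh.TensSingle

/-!
# The comparison map `P ⊗ᴸ G ⟶ P ⊗ G` for a complex `P` and a module `G`

`lam P G : ((LTX X).obj (Q P)).obj (inD G) ⟶ Q (P ⊗ G)` natural in `P` and `G`, an isomorphism for `P` K-flat.
-/

set_option autoImplicit false

universe u v₁ v₂ v₃ u₁ u₂ u₃

open CategoryTheory CategoryTheory.Limits AlgebraicGeometry HomologicalComplex

attribute [local instance] HasDerivedCategory.standard

namespace Groth.Agent.PerfA.GB3

section Single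

variable {C₁ : Type u₁} {C₂ : Type u₂} {D : Type u₃} [Category.{v₁} C₁] [Category.{v₂} C₂] [Category.{v₃} D]
  [Preadditive C₁] [Preadditive C₂] [Preadditive D] [HasZeroObject C₁] [HasZeroObject C₂]
  (F : C₁ ⥤ C₂ ⥤ D) [F.Additive] [∀ (X₁ : C₁), (F.obj X₁).Additive]
  [∀ (K₁ : CochainComplex C₁ ℤ) (K₂ : CochainComplex C₂ ℤ), CochainComplex.HasMapBifunctor K₁ K₂ F]

/-- `singleRightIso` is natural in the object placed in degree `0`. -/
lemma singleRightIso_nat (K : CochainComplex C₁ ℤ) {B B' : C₂} (g : B ⟶ B') :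
    (NatTrans.mapHomologicalComplex (F.flip.map g) (ComplexShape.up ℤ)).app K ≫
        (Groth.Agent.Dcoh.TensSingle.singleRightIso F B').hom.app K =
      (Groth.Agent.Dcoh.TensSingle.singleRightIso F B).hom.app K ≫
        (F.map₂CochainComplex.obj K).map ((single C₂ (ComplexShape.up ℤ) 0).map g) := by
  ext n
  change (F.obj (K.X n)).map g ≫ Groth.Agent.Dcoh.TensSingle.rightHom F B' K n =
    Groth.Agent.Dcoh.TensSingle.rightHom F B K n ≫
      (mapBifunctorMap (𝟙 K) ((single C₂ (ComplexShape.up ℤ) 0).map g) F (ComplexShape.up ℤ)).f n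
  dsimp only [Groth.Agent.Dcoh.TensSingle.rightHom]
  rw [Category.assoc, ι_mapBifunctorMap, single_map_f_self]
  simp

end Single

open DCoh Groth.Agent.PerfC.DTens

variable {X : Scheme.{u}}

/-- Termwise `- ⊗ G` is the tensor product with the complex `G[0]`. -/
noncomputable def cxIso (P : CochainComplex X.Modules ℤ) (G : X.Modules) :
    ((DCoh.tensorRightMod G).mapHomologicalComplex (ComplexShape.up ℤ)).obj P ≅
      (tensorCx.obj P).obj ((CochainComplex.singleFunctor X.Modules 0).obj G) :=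
  (Groth.Agent.Dcoh.TensSingle.singleRightIso (DCoh.tensorBi (X := X)) G).app P

lemma cxIso_nat₁ {P P' : CochainComplex X.Modules ℤ} (f : P ⟶ P') (G : X.Modules) :
    ((DCoh.tensorRightMod G).mapHomologicalComplex (ComplexShape.up ℤ)).map f ≫ (cxIso P' G).hom =
      (cxIso P G).hom ≫ (tensorCx.map f).app ((CochainComplex.singleFunctor X.Modules 0).obj G) :=
  (Groth.Agent.Dcoh.TensSingle.singleRightIso (DCoh.tensorBi (X := X)) G).hom.naturality f

lemma cxIso_nat₂ (P : CochainComplex X.Modules ℤ) {G G' : X.Modules} (g : G ⟶ G') :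
    (NatTrans.mapHomologicalComplex
        (show DCoh.tensorRightMod G ⟶ DCoh.tensorRightMod G' from (DCoh.tensorBi (X := X)).flip.map g)
          (ComplexShape.up ℤ)).app P ≫ (cxIso P G').hom =
      (cxIso P G).hom ≫ (tensorCx.obj P).map ((CochainComplex.singleFunctor X.Modules 0).map g) :=
  singleRightIso_nat (DCoh.tensorBi (X := X)) P g

lemma cxIso_inv_nat₁ {P P' : CochainComplex X.Modules ℤ} (f : P ⟶ P') (G : X.Modules) :
    (tensorCx.map f).app ((CochainComplex.singleFunctor X.Modules 0).obj G) ≫ (cxIso P' G).inv =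
      (cxIso P G).inv ≫ ((DCoh.tensorRightMod G).mapHomologicalComplex (ComplexShape.up ℤ)).map f := by
  rw [Iso.comp_inv_eq, Category.assoc, cxIso_nat₁, Iso.inv_hom_id_assoc]

lemma cxIso_inv_nat₂ (P : CochainComplex X.Modules ℤ) {G G' : X.Modules} (g : G ⟶ G') :
    (tensorCx.obj P).map ((CochainComplex.singleFunctor X.Modules 0).map g) ≫ (cxIso P G').inv =
      (cxIso P G).inv ≫ (NatTrans.mapHomologicalComplex
        (show DCoh.tensorRightMod G ⟶ DCoh.tensorRightMod G' from (DCoh.tensorBi (X := X)).flip.map g)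
          (ComplexShape.up ℤ)).app P := by
  rw [Iso.comp_inv_eq, Category.assoc, cxIso_nat₂, Iso.inv_hom_id_assoc]

/-- The map `P ⊗ᴸ G ⟶ P ⊗ G`. -/
noncomputable def lam (P : CochainComplex X.Modules ℤ) (G : X.Modules) :
    ((LTX X).obj (DerivedCategory.Q.obj P)).obj (DCoh.inD X G) ⟶
      DerivedCategory.Q.obj (((DCoh.tensorRightMod G).mapHomologicalComplex (ComplexShape.up ℤ)).obj P) :=
  ((LTX X).obj (DerivedCategory.Q.obj P)).map ((DerivedCategory.singleFunctorIsoCompQ X.Modules 0).hom.app G) ≫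
    κX P ((CochainComplex.singleFunctor X.Modules 0).obj G) ≫ DerivedCategory.Q.map (cxIso P G).inv

theorem isIso_lam (P : CochainComplex X.Modules ℤ) (G : X.Modules) (hP : DCoh.IsKFlat P) : IsIso (lam P G) := by
  have h1 : IsIso (κX P ((CochainComplex.singleFunctor X.Modules 0).obj G)) := isIso_κX P _ hP
  have h2 : IsIso (DerivedCategory.Q.map (cxIso P G).inv) := inferInstance
  have h3 : IsIso (((LTX X).obj (DerivedCategory.Q.obj P)).map
    ((DerivedCategory.singleFunctorIsoCompQ X.Modules 0).hom.app G)) := inferInstance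
  exact @IsIso.comp_isIso _ _ _ _ _ _ _ h3 (@IsIso.comp_isIso _ _ _ _ _ _ _ h1 h2)

theorem lam_nat₁ {P P' : CochainComplex X.Modules ℤ} (f : P ⟶ P') (G : X.Modules) :
    ((LTX X).map (DerivedCategory.Q.map f)).app (DCoh.inD X G) ≫ lam P' G =
      lam P G ≫ DerivedCategory.Q.map (((DCoh.tensorRightMod G).mapHomologicalComplex (ComplexShape.up ℤ)).map f) := by
  have h := congrArg DerivedCategory.Q.map (cxIso_inv_nat₁ f G)
  rw [Functor.map_comp, Functor.map_comp] at h
  unfold lam
  rw [← NatTrans.naturality_assoc]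
  refine Eq.trans ?_ (congrArg (fun t => _ ≫ t) (Category.assoc _ _ _).symm) |>.trans (Category.assoc _ _ _).symm
  refine congrArg (fun t => _ ≫ t) ?_
  refine (κX_nat₁_assoc f ((CochainComplex.singleFunctor X.Modules 0).obj G) _).trans ?_
  exact (congrArg (fun t => _ ≫ t) h)

theorem lam_nat₂ (P : CochainComplex X.Modules ℤ) {G G' : X.Modules} (g : G ⟶ G') :
    ((LTX X).obj (DerivedCategory.Q.obj P)).map ((DerivedCategory.singleFunctor X.Modules 0).map g) ≫ lam P G' =
      lam P G ≫ DerivedCategory.Q.map ((NatTrans.mapHomologicalComplex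
        (show DCoh.tensorRightMod G ⟶ DCoh.tensorRightMod G' from (DCoh.tensorBi (X := X)).flip.map g)
          (ComplexShape.up ℤ)).app P) := by
  have h := congrArg DerivedCategory.Q.map (cxIso_inv_nat₂ P g)
  rw [Functor.map_comp, Functor.map_comp] at h
  have h0 := congrArg ((LTX X).obj (DerivedCategory.Q.obj P)).map
    ((DerivedCategory.singleFunctorIsoCompQ X.Modules 0).hom.naturality g)
  rw [Functor.map_comp, Functor.map_comp] at h0
  unfold lam
  rw [← Category.assoc, h0, Category.assoc]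
  refine Eq.trans ?_ (congrArg (fun t => _ ≫ t) (Category.assoc _ _ _).symm) |>.trans (Category.assoc _ _ _).symm
  refine congrArg (fun t => _ ≫ t) ?_
  refine (κX_nat₂_assoc P ((CochainComplex.singleFunctor X.Modules 0).map g) _).trans ?_
  exact (congrArg (fun t => _ ≫ t) h)

theorem exists_lam (X : Scheme.{u}) : ∃ lam : ∀ (P : CochainComplex X.Modules ℤ) (G : X.Modules),
      ((LTX X).obj (DerivedCategory.Q.obj P)).obj (DCoh.inD X G) ⟶
        DerivedCategory.Q.obj (((DCoh.tensorRightMod G).mapHomologicalComplex (ComplexShape.up ℤ)).obj P),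
    (∀ P G, DCoh.IsKFlat P → IsIso (lam P G)) ∧
    (∀ (P P' : CochainComplex X.Modules ℤ) (f : P ⟶ P') (G : X.Modules),
      ((LTX X).map (DerivedCategory.Q.map f)).app (DCoh.inD X G) ≫ lam P' G =
        lam P G ≫ DerivedCategory.Q.map (((DCoh.tensorRightMod G).mapHomologicalComplex (ComplexShape.up ℤ)).map f)) ∧
    (∀ (P : CochainComplex X.Modules ℤ) (G G' : X.Modules) (g : G ⟶ G'),
      ((LTX X).obj (DerivedCategory.Q.obj P)).map ((DerivedCategory.singleFunctor X.Modules 0).map g) ≫ lam P G' =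
        lam P G ≫ DerivedCategory.Q.map ((NatTrans.mapHomologicalComplex
          (show DCoh.tensorRightMod G ⟶ DCoh.tensorRightMod G' from (DCoh.tensorBi (X := X)).flip.map g)
            (ComplexShape.up ℤ)).app P)) :=
  ⟨lam, isIso_lam, fun _ _ f G => lam_nat₁ f G, fun P _ _ g => lam_nat₂ P g⟩

end Groth.Agent.PerfA.GB3
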