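/-
S1270, step S7: pseudo-coherence over an affine base, in terms of modules (a bundled form of
S1004, Stacks 08E7, together with perfect => pseudo-coherent).
-/
import Groth.Agent.S1004
import Groth.Agent.PerfA.PCohQCoh

set_option autoImplicit false
universe u
open CategoryTheory CategoryTheory.Limits AlgebraicGeometry
attribute [local instance] HasDerivedCategory.standard

namespace Groth.Agent.PerfA.GB3

variable (A : CommRingCat.{u}) [PreservesFiniteLimits (tilde.functor A)]

/-- `M~` is `m`-pseudo-coherent iff `M` is. -/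
theorem isPseudoCoherentD_tildeD_iff (M : DerivedCategory (ModuleCat.{u} A)) (m : ℤ) :
    DCoh.IsPseudoCoherentD m ((DCoh.tildeD A).obj M) ↔ DRing.IsPseudoCoherent A m M := by
  let _ : PreservesFiniteLimits (tilde.functor (CommRingCat.of A)) :=
    inferInstanceAs (PreservesFiniteLimits (tilde.functor A))
  exact Groth.Agent.S1004.result (A : Type u) M m

/-- If `M~` is perfect then `M` is pseudo-coherent. -/
theorem isPseudoCoherent_of_isPerfect_tildeD {M : DerivedCategory (ModuleCat.{u} A)}
    (h : DCoh.IsPerfect ((DCoh.tildeD A).obj M)) (m : ℤ) : DRing.IsPseudoCoherent A m M :=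
  (isPseudoCoherentD_tildeD_iff A M m).1 (PCohQCoh.isPseudoCoherentD_of_isPerfect h m)

/-- If `M` is pseudo-coherent then `M~` is. -/
theorem isPseudoCoherentD_tildeD {M : DerivedCategory (ModuleCat.{u} A)}
    (h : ∀ m : ℤ, DRing.IsPseudoCoherent A m M) (m : ℤ) :
    DCoh.IsPseudoCoherentD m ((DCoh.tildeD A).obj M) :=
  (isPseudoCoherentD_tildeD_iff A M m).2 (h m)

end Groth.Agent.PerfA.GB3
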