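import Groth.Agent.PerfC.ProjAbs291
import Groth.Agent.PerfC.LTXRestr
import Groth.Agent.PerfC.LpullTens
import Groth.Agent.PerfB.BCShift
import Groth.Agent.PerfA.PushD
import Groth.Agent.PerfA.QCohSerre
import Groth.Agent.S0998

/-!
# `j`-local objects of `D_QCoh` for an open immersion `j`, and tensor products

An object of `D(O_X)` is `j`-local if it belongs to the essential image of `Rj_*`.
* `loc_of_restrict`: `j`-locality can be checked on an open cover.
* `loc_tens`: if `A` is `j`-local then `A ⊗ᴸ K` is (for `A`, `K` in `D_QCoh`).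
* `isIso_unit_tens`: `(Rj_* O_U) ⊗ᴸ K` is `j`-local.
-/

set_option autoImplicit false

universe u

open CategoryTheory CategoryTheory.Limits AlgebraicGeometry Pretriangulated

attribute [local instance] HasDerivedCategory.standard

namespace Groth.Agent.PerfA.GB3

open Groth.Agent.PerfA.Restrict Groth.Agent.PerfC.IsoLocus Groth.Agent.PerfC.DTens
  Groth.Agent.PerfC.ProjAbs291 Groth.Agent.PerfC.LpullTens

variable {X U : Scheme.{u}} (j : U ⟶ X) [IsOpenImmersion j] [DCoh.HasRpush j]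

/-- The `j`-local objects. -/
abbrev loc : ObjectProperty (DCoh.D X) := (DCoh.Rpush j).essImage

instance loc_isTriangulated : (loc j).IsTriangulated := by
  obtain ⟨_, _⟩ := isTriang_Rpush j
  infer_instance

/-- A `j`-local object which vanishes on `U` is zero. -/
lemma isZero_of_loc {K : DCoh.D X} (hK : loc j K) (h : IsZero ((restrictD j).obj K)) :
    IsZero K := by
  obtain ⟨N, ⟨e⟩⟩ := hK
  have h1 : IsZero N := by
    refine IsZero.of_iso h ?_
    exact (asIso ((Groth.Agent.Dcoh.DerSch.restrictAdj j).counit.app N)).symm ≪≫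
      (restrictD j).mapIso e
  exact (isZero_Rpush j h1).of_iso e.symm

omit [IsOpenImmersion j] [DCoh.HasRpush j] in
/-- Coproducts of objects of the essential image. -/
lemma essImage_coprod {C D : Type*} [Category* C] [Category* D] (F : C ⥤ D) {J : Type*}
    {M : J → D} {N : J → C} (e : ∀ i, M i ≅ F.obj (N i)) [HasCoproduct N]
    [PreservesColimit (Discrete.functor N) F] (c : Cofan M) (hc : IsColimit c) :
    F.essImage c.pt := by
  have h3 := isColimitCofanMkObjOfIsColimit F N _ (coproductIsCoproduct N)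
  let w : Discrete.functor (fun i => F.obj (N i)) ≅ Discrete.functor M :=
    Discrete.natIso (fun i => (e i.as).symm)
  exact ⟨_, ⟨IsColimit.coconePointsIsoOfNatIso h3 hc w⟩⟩

/-- A coproduct of `j`-local objects of `D_QCoh` is `j`-local. -/
lemma loc_coprod [QuasiCompact j] {J : Type u} (M : J → DCoh.D X) (hM : ∀ i, DCoh.IsQCohD (M i))
    (h : ∀ i, loc j (M i)) (c : Cofan M) (hc : IsColimit c) : loc j c.pt := by
  have h1 : ∀ i, IsIso ((Groth.Agent.Dcoh.DerSch.restrictAdj j).unit.app (M i)) := fun i =>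
    (Adjunction.isIso_unit_app_iff_mem_essImage _).2 (h i)
  let N : J → DCoh.D U := fun i => (restrictD j).obj (M i)
  have hN : ∀ i, DCoh.IsQCohD (N i) := fun i =>
    Groth.Agent.PerfA.AffModel.isQCohD_restrictD j (hM i)
  have h2 := preservesColimit_Rpush j N hN
  let e : ∀ i, M i ≅ (DCoh.Rpush j).obj (N i) := fun i => @asIso _ _ _ _ _ (h1 i)
  exact essImage_coprod (DCoh.Rpush j) e c hc

/-- The tensor product of a `j`-local object and of an object of `D_QCoh`: the affine case. -/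
lemma loc_tens_of_isAffine [QuasiCompact j] [IsAffine X] {A K : DCoh.D X} (hA : DCoh.IsQCohD A)
    (hA' : loc j A) (hK : DCoh.IsQCohD K) : loc j (((LTX X).obj A).obj K) := by
  obtain ⟨_, _⟩ := isTriang_LTX_obj A
  refine Groth.Agent.PerfC.AffGen291.prop_of_isQCohD X ((loc j).inverseImage ((LTX X).obj A))
    (fun J Z c hc hZ h => ?_) ?_ K hK
  · have := preservesCoproducts_LTX_obj J A
    exact loc_coprod j (fun i => ((LTX X).obj A).obj (Z i)) (fun i => isQCohD_LTX hA (hZ i)) h
      (Cofan.mk (((LTX X).obj A).obj c.pt) (fun i => ((LTX X).obj A).map (c.inj i)))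
      (isColimitCofanMkObjOfIsColimit ((LTX X).obj A) Z _ hc)
  · have e : ((LTX X).obj A).obj ((DerivedCategory.singleFunctor X.Modules 0).obj
        (Coh.structureModule X)) ≅ A :=
      ((LTX X).obj A).mapIso ((DerivedCategory.singleFunctorIsoCompQ X.Modules 0).app _) ≪≫
        (unitIso X).app A
    exact (loc j).prop_of_iso e.symm hA'

section

variable {j}
variable {W V : Scheme.{u}} {j' : W ⟶ V} {k : V ⟶ X} {k' : W ⟶ U} [IsOpenImmersion k]
  [IsOpenImmersion k'] [DCoh.HasRpush j'] (hp : IsPullback k' j' j k)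

omit [IsOpenImmersion j] in
include hp in
/-- Restriction of local objects. -/
lemma loc_restrict {K : DCoh.D X} (hK : loc j K) : loc j' ((restrictD k).obj K) := by
  obtain ⟨N, ⟨e⟩⟩ := hK
  obtain ⟨i⟩ := Groth.Agent.Dcoh.DerSch.exists_rpushRestrictIso j j' k' k hp
  exact ⟨(restrictD k').obj N, ⟨(i.app N).symm ≪≫ (restrictD k).mapIso e⟩⟩

end

/-- Locality of the notion of `j`-local object. -/
lemma loc_of_restrict {K : DCoh.D X} (h : ∀ x : X, ∃ V : X.Opens, x ∈ V ∧
    ∃ _ : DCoh.HasRpush (j ∣_ V), loc (j ∣_ V) ((restrictD V.ι).obj K)) : loc j K := by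
  let adj : restrictD j ⊣ DCoh.Rpush j := Groth.Agent.Dcoh.DerSch.restrictAdj j
  obtain ⟨C, p, q, hT⟩ := distinguished_cocone_triangle (adj.unit.app K)
  suffices hC : IsZero C by
    have : IsIso (adj.unit.app K) := (Triangle.isZero₃_iff_isIso₁ _ hT).1 hC
    exact ⟨_, ⟨(asIso (adj.unit.app K)).symm⟩⟩
  refine isZero_of_restrictD_opens C (fun x => ?_)
  obtain ⟨V, hx, hR, hV⟩ := h x
  refine ⟨V, hx, ?_⟩
  have hp := (isPullback_morphismRestrict j V)
  have h1 : loc (j ∣_ V) ((restrictD V.ι).obj ((DCoh.Rpush j).obj ((restrictD j).obj K))) :=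
    loc_restrict hp.flip ⟨_, ⟨Iso.refl _⟩⟩
  have h2 : loc (j ∣_ V) ((restrictD V.ι).obj C) :=
    (loc (j ∣_ V)).ext_of_isTriangulatedClosed₃ _ ((restrictD V.ι).map_distinguished _ hT) hV h1
  refine isZero_of_loc (j ∣_ V) h2 ?_
  have h3 : IsZero ((restrictD j).obj C) :=
    (Triangle.isZero₃_iff_isIso₁ _ ((restrictD j).map_distinguished _ hT)).2
      (Groth.Agent.PerfA.PushD.isIso_restrict_unit_app j K)
  have h4 : IsZero ((restrictD (j ⁻¹ᵁ V).ι).obj ((restrictD j).obj C)) :=
    (restrictD (j ⁻¹ᵁ V).ι).map_isZero h3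
  have w : (j ∣_ V) ≫ V.ι = (j ⁻¹ᵁ V).ι ≫ j := hp.w
  exact h4.of_iso ((Groth.Agent.Dcoh.LocalD.restrictCompEq w).app C ≪≫
    ((Groth.Agent.Dcoh.LocalD.restrictComp (j ⁻¹ᵁ V).ι j).app C).symm)

/-- The derived tensor product of a `j`-local object of `D_QCoh` and of an object of `D_QCoh` is
`j`-local. -/
theorem loc_tens [QuasiCompact j] {A K : DCoh.D X} (hA : DCoh.IsQCohD A) (hA' : loc j A)
    (hK : DCoh.IsQCohD K) : loc j (((LTX X).obj A).obj K) := by
  refine loc_of_restrict j (fun x => ?_)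
  obtain ⟨V, hV, hx, -⟩ := exists_isAffineOpen_mem_and_subset (X := X) (x := x) (U := ⊤) trivial
  have : IsAffine V.toScheme := hV
  have hR := Groth.Agent.Dcoh.DerSch.hasRpush (j ∣_ V)
  refine ⟨V, hx, hR, ?_⟩
  have h1 : loc (j ∣_ V) ((restrictD V.ι).obj A) :=
    loc_restrict (isPullback_morphismRestrict j V).flip hA'
  exact (loc (j ∣_ V)).prop_of_iso (Groth.Agent.PerfC.LTXRestr.restrTensObj V.ι A K).symm
    (loc_tens_of_isAffine (j ∣_ V) (Groth.Agent.PerfA.AffModel.isQCohD_restrictD V.ι hA) h1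
      (Groth.Agent.PerfA.AffModel.isQCohD_restrictD V.ι hK))

/-- `(Rj_* O_U) ⊗ᴸ K` is `j`-local. -/
theorem isIso_unit_tens {X : Scheme.{u}} (U : X.Opens) [QuasiCompact U.ι] [DCoh.HasRpush U.ι]
    (K : DCoh.D X) (hK : DCoh.IsQCohD K) :
    IsIso ((PerfB.BCShift.lAdj U.ι).unit.app (((PerfC.DTens.LTX X).obj
      ((DCoh.Rpush U.ι).obj (DCoh.inD _ (Coh.structureModule U)))).obj K)) := by
  have h1 : DCoh.IsQCohD (DCoh.inD _ (Coh.structureModule U.toScheme)) :=
    Groth.Agent.PerfA.QCohD.isQCohD_inD _ (Groth.Agent.PerfA.QCohSerre.isQCoh_unit _)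
  have h2 := loc_tens U.ι (Groth.Agent.S0998.result U.ι _ h1) ⟨_, ⟨Iso.refl _⟩⟩ hK
  exact (Adjunction.isIso_unit_app_iff_mem_essImage _).2 h2

end Groth.Agent.PerfA.GB3
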