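import Groth.Agent.PerfA.HypAffine
import Groth.Agent.PerfA.ExtPush
import Groth.Agent.Dcoh.DerSch
import Groth.Agent.Fdesc.QCohStalk
import Groth.Agent.CohqB.LocalQC

/-!
# `Rp_*` for affine `p` is conservative on `D_QCoh`, and `Lp^*` of a generator is a generator
-/

set_option autoImplicit false

universe u

open CategoryTheory CategoryTheory.Limits AlgebraicGeometry Opposite TopologicalSpace
open DerivedCategory
open Groth.Agent.PerfA.ExtZero Groth.Agent.PerfA.Hyp0 Groth.Agent.PerfA.Hyp1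

attribute [local instance] HasDerivedCategory.standard

namespace Groth.Agent.PerfA.GenPull

/-- A quasi-coherent module whose sections over an affine cover vanish is zero. -/
theorem isZero_of_affine_sections {X : Scheme.{u}} (M : X.Modules) (hM : Coh.IsQCoh M)
    (h : ∀ x : X, ∃ U : X.Opens, IsAffineOpen U ∧ x ∈ U ∧ ∀ s : Γ(M, U), s = 0) : IsZero M := by
  refine CohqB.LocalQC.isZero_of_stalks fun x => ?_
  obtain ⟨U, hU, hx, h0⟩ := h x
  refine subsingleton_of_forall_eq 0 fun t => ?_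
  obtain ⟨V, hxV, t, rfl⟩ := TopCat.Presheaf.exists_germ_eq _ t
  obtain ⟨g, hg, hxg⟩ := hU.exists_basicOpen_le ⟨x, hxV⟩ hx
  obtain ⟨n, s, hs⟩ := Fdesc.QCohStalk.exists_map_eq_pow_smul M hU hM g
    (M.presheaf.map (homOfLE hg).op t)
  rw [h0 s, map_zero] at hs
  have hunit : IsUnit (X.presheaf.map (homOfLE (X.basicOpen_le g)).op g) :=
    RingedSpace.isUnit_res_basicOpen _ _
  have h1 : M.presheaf.map (homOfLE hg).op t = 0 := by
    have h2 := (hunit.pow n).smul_eq_zero.1 hs.symm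
    exact h2
  rw [← Fdesc.QCohStalk.germ_map M hg x hxg t, h1, map_zero]

variable {X Y : Scheme.{u}}

/-- The complex `p_* I`. -/
noncomputable abbrev pushCx (p : X ⟶ Y) (I : CochainComplex X.Modules ℤ) :
    CochainComplex Y.Modules ℤ :=
  ((Scheme.Modules.pushforward p).mapHomologicalComplex (ComplexShape.up ℤ)).obj I

/-- If `p_* I` is acyclic, then hypercohomology classes of `I` on `p⁻¹ V` vanish locally on `V`. -/
lemma exists_res_eq_zero (p : X ⟶ Y) (I : CochainComplex X.Modules ℤ) [I.IsKInjective]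
    (m : ℤ) (hI : (pushCx p I).ExactAt m) (V : Y.Opens) (φ : P m (p ⁻¹ᵁ V) ⟶ Q.obj I)
    (y : Y) (hy : y ∈ V) :
    ∃ (V' : Y.Opens) (h : V' ≤ V), y ∈ V' ∧ res (show p ⁻¹ᵁ V' ≤ p ⁻¹ᵁ V from fun _ hx => h hx) φ = 0 := by
  obtain ⟨z, hz, rfl⟩ := exists_cocycle_of_isKInjective φ
  obtain ⟨a, rfl⟩ := desc_surjective z
  have ha : (I.d m (m + 1)).app _ a = 0 := by
    rw [desc_comp] at hz
    exact desc_injective (hz.trans desc_zero.symm)
  let z' : OU V ⟶ (pushCx p I).X m := desc (M := (pushCx p I).X m) a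
  have hz' : z' ≫ (pushCx p I).d m (m + 1) = 0 := by
    rw [desc_comp]
    exact (congrArg (desc (M := (pushCx p I).X (m + 1)) (U := V)) ha).trans desc_zero
  obtain ⟨G, q, hq, w, hw⟩ := ((pushCx p I).exactAt_iff' (m - 1) m (m + 1) (by simp) (by simp)).1 hI |>.exact_up_to_refinements z' hz'
  obtain ⟨V', hV', t, hyV', ht⟩ := exists_local_section q y hy
  refine ⟨V', hV', hyV', ?_⟩
  obtain ⟨b, hb⟩ := desc_surjective (t ≫ w)
  have hb' : (I.d (m - 1) m).app _ b = (I.X m).presheaf.map (homOfLE (show p ⁻¹ᵁ V' ≤ p ⁻¹ᵁ V from fun _ hx => hV' hx)).op a := by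
    have h1 : (t ≫ w) ≫ (pushCx p I).d (m - 1) m = (OUF Y).map (homOfLE hV') ≫ z' := by
      rw [← ht, Category.assoc, Category.assoc]
      exact congrArg (t ≫ ·) hw.symm
    rw [hb, desc_comp, map_desc] at h1
    exact desc_injective (M := (pushCx p I).X m) (U := V') h1
  have h2 : Pmap m (show p ⁻¹ᵁ V' ≤ p ⁻¹ᵁ V from fun _ hx => hV' hx) ≫ ofCocycle (desc a) hz = 0 := by
    rw [map_ofCocycle]
    refine ofCocycle_eq_zero (n := m - 1) (by lia) _ _ (desc b) ?_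
    rw [desc_comp, map_desc, hb']
  exact h2

/-- For `p` affine, `Rp_*` is conservative on `D_QCoh`. -/
theorem isZero_of_isZero_Rpush (p : X ⟶ Y) [IsAffineHom p] [DCoh.HasRpush p] (E : DCoh.D X)
    (hE : DCoh.IsQCohD E) (h : IsZero ((DCoh.Rpush p).obj E)) : IsZero E := by
  obtain ⟨K, ⟨e⟩⟩ : ∃ K : CochainComplex X.Modules ℤ, Nonempty (Q.obj K ≅ E) :=
    ⟨_, ⟨Q.objObjPreimageIso E⟩⟩
  obtain ⟨I, i, h1, h2⟩ := ExtPush.enoughKInjectives X K
  let e3 : Q.obj I ≅ E := (asIso (Q.map i)).symm ≪≫ e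
  obtain ⟨e2⟩ := ExtPush.rpush_iso p I
  have hI : DCoh.IsQCohD (Q.obj I) := QCohD.isQCohD_of_iso e3.symm hE
  have h3 : IsZero (Q.obj (pushCx p I)) :=
    (e2 ≪≫ (DCoh.Rpush p).mapIso e3).isZero_iff.2 h
  have h4 : ∀ m, (pushCx p I).ExactAt m := by
    intro m
    rw [HomologicalComplex.exactAt_iff_isZero_homology]
    exact ((homologyFunctorFactors Y.Modules m).app (pushCx p I)).isZero_iff.1
      ((ExactD.isZero_iff _).1 h3 m)
  refine e3.isZero_iff.1 ((ExactD.isZero_iff _).2 fun m => ?_)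
  refine isZero_of_affine_sections (DCoh.HD (Q.obj I) m) (hI m) fun x => ?_
  obtain ⟨V, hV, hxV, -⟩ := exists_isAffineOpen_mem_and_subset (x := p x) (U := (⊤ : Y.Opens)) trivial
  refine ⟨p ⁻¹ᵁ V, hV.preimage p, hxV, fun s => ?_⟩
  obtain ⟨φ, rfl⟩ := (HypAffine.toHD_bijective (Q.obj I) hI (p ⁻¹ᵁ V) (hV.preimage p) m).2 s
  have h5 := fun y hy => exists_res_eq_zero p I m (h4 m) V φ y hy
  choose V' hV' hy hres using h5
  refine TopCat.Sheaf.eq_of_locally_eq' ⟨(DCoh.HD (Q.obj I) m).presheaf, (DCoh.HD (Q.obj I) m).isSheaf⟩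
    (fun y : V => p ⁻¹ᵁ (V' y.1 y.2)) (p ⁻¹ᵁ V) (fun y => homOfLE fun _ hx => hV' y.1 y.2 hx)
    (fun x hx => ?_) _ _ fun y => ?_
  · exact Opens.mem_iSup.2 ⟨⟨p x, hx⟩, hy _ _⟩
  · have h6 := toHD_res (show p ⁻¹ᵁ (V' y.1 y.2) ≤ p ⁻¹ᵁ V from fun _ hx => hV' y.1 y.2 hx) φ
    rw [hres, toHD_zero] at h6
    exact h6.symm.trans (map_zero _).symm

/-- `Lp^*` of a generator of `D_QCoh(Y)` is a generator of `D_QCoh(X)` for `p : X ⟶ Y` affine (with the adjunction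
`Lp^* ⊣ Rp_*` as an input). -/
theorem generator_of_adj (p : X ⟶ Y) [IsAffineHom p] (L : DCoh.D Y ⥤ DCoh.D X) [DCoh.HasRpush p]
    (adj : L ⊣ DCoh.Rpush p) (G : DCoh.D Y)
    (hgen : ∀ E : DCoh.D Y, DCoh.IsQCohD E → (∀ (n : ℤ) (φ : G⟦n⟧ ⟶ E), φ = 0) → IsZero E)
    (E : DCoh.D X) (hE : DCoh.IsQCohD E)
    (h : ∀ (n : ℤ) (φ : (L.obj G)⟦n⟧ ⟶ E), φ = 0) : IsZero E := by
  refine isZero_of_isZero_Rpush p E hE (hgen _ (S0998.result p E hE) fun n ψ => ?_)
  let _ := Dcoh.DerSch.rpushCommShift p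
  have h1 : ∀ (φ : L.obj G ⟶ E⟦-n⟧), φ = 0 := by
    intro φ
    have h2 := h n (φ⟦n⟧' ≫ (shiftNegShift E n).hom)
    have h3 : φ⟦n⟧' = 0 := by
      rw [← cancel_mono (shiftNegShift E n).hom, h2, zero_comp]
    exact (shiftFunctor (DCoh.D X) n).map_injective (h3.trans (Functor.map_zero _ _ _).symm)
  have h4 : ∀ (φ : G ⟶ (DCoh.Rpush p).obj (E⟦-n⟧)), φ = 0 := by
    intro φ
    apply (adj.homEquiv _ _).symm.injective
    rw [h1 ((adj.homEquiv _ _).symm φ), h1 ((adj.homEquiv _ _).symm 0)]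
  have h5 : (shiftShiftNeg G n).inv ≫ ψ⟦-n⟧' = 0 := by
    have h6 := h4 (((shiftShiftNeg G n).inv ≫ ψ⟦-n⟧') ≫ ((DCoh.Rpush p).commShiftIso (-n)).inv.app E)
    rw [← cancel_mono (((DCoh.Rpush p).commShiftIso (-n)).inv.app E), zero_comp]
    exact h6
  have h7 : ψ⟦-n⟧' = 0 := by
    rw [← cancel_epi (shiftShiftNeg G n).inv, h5, comp_zero]
  exact (shiftFunctor (DCoh.D Y) (-n)).map_injective (h7.trans (Functor.map_zero _ _ _).symm)

end Groth.Agent.PerfA.GenPull
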