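import Mathlib.Algebra.Homology.DerivedCategory.FullyFaithful
import Mathlib.Algebra.Homology.DerivedCategory.HomologySequence
import Mathlib.Algebra.Homology.SingleHomology
import Mathlib.Algebra.Category.ModuleCat.Abelian
import Mathlib.Algebra.Homology.ConcreteCategory
import Groth.Agent.PerfA.ExactD

/-!
# The ring generates its derived category

An object `M` of `D(R)` such that every map `R[-n] ⟶ M` is zero is zero.
-/

set_option autoImplicit false

universe w u

open CategoryTheory CategoryTheory.Limits HomologicalComplex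

namespace Groth.Agent.PerfA.GenRing

variable {R : Type u} [Ring R]

/-- A cocycle of degree `n` whose class is nonzero gives a morphism of complexes `R[-n] ⟶ K` which is nonzero
on homology. -/
lemma homology_eq_zero_of_forall {C : Type*} [Category C] [Abelian C]
    (K : CochainComplex C ℤ) (n : ℤ) (G : C)
    (h : ∀ g : (HomologicalComplex.single C (ComplexShape.up ℤ) n).obj G ⟶ K, homologyMap g n = 0)
    (z : G ⟶ K.cycles n) : z ≫ K.homologyπ n = 0 := by
  let g : (HomologicalComplex.single C (ComplexShape.up ℤ) n).obj G ⟶ K :=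
    mkHomFromSingle (z ≫ K.iCycles n) (fun k _ => by simp)
  have hg := h g
  have e1 : (singleObjCyclesSelfIso (ComplexShape.up ℤ) n G).inv ≫ cyclesMap g n = z := by
    rw [← cancel_mono (K.iCycles n), Category.assoc, cyclesMap_i]
    simp [g]
  rw [← e1, Category.assoc, ← homologyπ_naturality, hg, comp_zero, comp_zero]

variable [HasDerivedCategory.{w} (ModuleCat.{u} R)]

open DerivedCategory

/-- An object `M` of `D(R)` such that every map `R[-n] ⟶ M` is zero is zero. -/
theorem isZero_of_forall (M : DerivedCategory (ModuleCat.{u} R))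
    (h : ∀ (n : ℤ) (φ : (singleFunctor (ModuleCat.{u} R) n).obj (ModuleCat.of R R) ⟶ M), φ = 0) :
    IsZero M := by
  let K := Q.objPreimage M
  let e : Q.obj K ≅ M := Q.objObjPreimageIso M
  refine IsZero.of_iso ?_ e.symm
  rw [ExactD.isZero_iff]
  intro n
  refine IsZero.of_iso ?_ ((homologyFunctorFactors (ModuleCat.{u} R) n).app K)
  have hz : ∀ z : ModuleCat.of R R ⟶ K.cycles n, z ≫ K.homologyπ n = 0 := by
    refine homology_eq_zero_of_forall K n _ fun g => ?_
    have h1 : Q.map g = 0 := by
      have h2 := h n (Q.map g ≫ e.hom)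
      rwa [← cancel_mono e.hom, zero_comp]
    have h3 := (homologyFunctorFactors (ModuleCat.{u} R) n).hom.naturality g
    rw [Functor.comp_map, h1, Functor.map_zero, zero_comp] at h3
    exact (cancel_epi ((homologyFunctorFactors (ModuleCat.{u} R) n).hom.app _)).1
      (h3.symm.trans comp_zero.symm)
  rw [IsZero.iff_id_eq_zero]
  change 𝟙 (K.homology n) = 0
  rw [← cancel_epi (K.homologyπ n), Category.comp_id, comp_zero]
  ext x
  have h4 := hz (ModuleCat.ofHom (LinearMap.toSpanSingleton R (K.cycles n) x))
  have h5 : (K.homologyπ n).hom ((1 : R) • x) = 0 := congrArg (fun f => (ModuleCat.Hom.hom f) (1 : R)) h4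
  rw [one_smul] at h5
  exact h5

end Groth.Agent.PerfA.GenRing
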