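import Groth.Agent.PerfA.Hyp0
import Groth.Agent.PerfA.ExtZero
import Groth.Agent.Dcoh.Restrict

/-!
# Hypercohomology of objects of `D(O_X)` on opens

`P m U` is `j_! O_U [-m]` in `D(O_X)`; the hypercohomology group `H^m(U, K)` is `P m U ⟶ K`.  Here: the map `toHD : H^m(U, K) → Γ(U, H^m(K))`, which is locally bijective, and the
Mayer-Vietoris sequence.
-/

set_option autoImplicit false

universe u

open CategoryTheory CategoryTheory.Limits AlgebraicGeometry Opposite TopologicalSpace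
open Groth.Agent.PerfA.ExtZero Groth.Agent.PerfA.Hyp0

attribute [local instance] HasDerivedCategory.standard

namespace Groth.Agent.PerfA.Hyp1

variable {X : Scheme.{u}}

/-- `j_! O_U [-m]`. -/
noncomputable abbrev P (m : ℤ) (U : X.Opens) : DCoh.D X :=
  (DerivedCategory.singleFunctor X.Modules m).obj (OU U)

/-- The transition map `j_! O_V [-m] ⟶ j_! O_U [-m]`. -/
noncomputable abbrev Pmap (m : ℤ) {U V : X.Opens} (h : V ≤ U) : P m V ⟶ P m U :=
  (DerivedCategory.singleFunctor X.Modules m).map ((OUF X).map (homOfLE h))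

@[reassoc (attr := simp)]
lemma Pmap_Pmap (m : ℤ) {U V W : X.Opens} (h : V ≤ U) (h' : W ≤ V) :
    Pmap m h' ≫ Pmap m h = Pmap m (h'.trans h) := by
  rw [Pmap, Pmap, ← Functor.map_comp, ← Functor.map_comp]
  rfl

@[simp]
lemma Pmap_self (m : ℤ) {U : X.Opens} (h : U ≤ U) : Pmap m h = 𝟙 _ := by
  rw [Pmap, show homOfLE h = 𝟙 U from rfl, CategoryTheory.Functor.map_id, CategoryTheory.Functor.map_id]

/-- Restriction of hypercohomology classes. -/
noncomputable def res {m : ℤ} {K : DCoh.D X} {U V : X.Opens} (h : V ≤ U) (φ : P m U ⟶ K) : P m V ⟶ K :=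
  Pmap m h ≫ φ

@[simp]
lemma res_res {m : ℤ} {K : DCoh.D X} {U V W : X.Opens} (h : V ≤ U) (h' : W ≤ V) (φ : P m U ⟶ K) :
    res h' (res h φ) = res (h'.trans h) φ := by
  rw [res, res, res, Pmap_Pmap_assoc]

@[simp]
lemma res_self {m : ℤ} {K : DCoh.D X} {U : X.Opens} (h : U ≤ U) (φ : P m U ⟶ K) :
    res h φ = φ := by
  rw [res, Pmap_self, Category.id_comp]

@[simp]
lemma res_comp {m : ℤ} {K L : DCoh.D X} {U V : X.Opens} (h : V ≤ U) (φ : P m U ⟶ K) (f : K ⟶ L) :
    res h (φ ≫ f) = res h φ ≫ f := by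
  rw [res, res, Category.assoc]

@[simp]
lemma res_add {m : ℤ} {K : DCoh.D X} {U V : X.Opens} (h : V ≤ U) (φ ψ : P m U ⟶ K) :
    res h (φ + ψ) = res h φ + res h ψ := by
  rw [res, res, res, Preadditive.comp_add]

@[simp]
lemma res_sub {m : ℤ} {K : DCoh.D X} {U V : X.Opens} (h : V ≤ U) (φ ψ : P m U ⟶ K) :
    res h (φ - ψ) = res h φ - res h ψ := by
  rw [res, res, res, Preadditive.comp_sub]

@[simp]
lemma res_zero {m : ℤ} {K : DCoh.D X} {U V : X.Opens} (h : V ≤ U) :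
    res h (0 : P m U ⟶ K) = 0 := by
  rw [res, comp_zero]

/-- The map from hypercohomology to the sections of the cohomology sheaf. -/
noncomputable def toHD {m : ℤ} {K : DCoh.D X} {U : X.Opens} (φ : P m U ⟶ K) : Γ(DCoh.HD K m, U) :=
  homEquiv U _ (toH φ)

lemma toHD_comp {m : ℤ} {K L : DCoh.D X} {U : X.Opens} (φ : P m U ⟶ K) (f : K ⟶ L) :
    toHD (φ ≫ f) = ((DerivedCategory.homologyFunctor X.Modules m).map f).app U (toHD φ) := by
  rw [toHD, toH_comp, homEquiv_comp, toHD]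

lemma toHD_res {m : ℤ} {K : DCoh.D X} {U V : X.Opens} (h : V ≤ U) (φ : P m U ⟶ K) :
    toHD (res h φ) = (DCoh.HD K m).presheaf.map (homOfLE h).op (toHD φ) := by
  obtain ⟨s, hs⟩ := desc_surjective (toH (G := OU U) φ)
  have h1 : toH (G := OU V) (res h φ) = (OUF X).map (homOfLE h) ≫ toH (G := OU U) φ := toH_map_comp _ _
  rw [toHD, toHD, h1, hs, map_desc, homEquiv_apply, homEquiv_apply, desc_app_gen, desc_app_gen]

lemma toHD_add {m : ℤ} {K : DCoh.D X} {U : X.Opens} (φ ψ : P m U ⟶ K) :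
    toHD (φ + ψ) = toHD φ + toHD ψ := by
  rw [toHD, toH_add, map_add, toHD, toHD]

lemma toHD_zero {m : ℤ} {K : DCoh.D X} {U : X.Opens} :
    toHD (0 : P m U ⟶ K) = 0 := by
  rw [toHD, toH_zero, map_zero]

/-- Epimorphisms onto `j_! O_U` have sections locally on `U`. -/
lemma exists_local_section {G : X.Modules} {U : X.Opens} (p : G ⟶ OU U) [Epi p] (x : X) (hx : x ∈ U) :
    ∃ (V : X.Opens) (hVU : V ≤ U) (q : OU V ⟶ G), x ∈ V ∧ q ≫ p = (OUF X).map (homOfLE hVU) := by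
  obtain ⟨V, hVU, t, hxV, ht⟩ := Groth.Agent.Dcoh.Restrict.exists_local_preimage p U (gen U) x hx
  refine ⟨V, hVU, desc t, hxV, ?_⟩
  apply hom_ext
  rw [desc_comp, desc_app_gen, ht, OUF_map_app_gen]

/-- `toHD` is locally surjective. -/
lemma exists_local_toHD_eq {m : ℤ} {K : DCoh.D X} {U : X.Opens} (s : Γ(DCoh.HD K m, U)) (x : X) (hx : x ∈ U) :
    ∃ (V : X.Opens) (hVU : V ≤ U) (φ : P m V ⟶ K), x ∈ V ∧
      toHD φ = (DCoh.HD K m).presheaf.map (homOfLE hVU).op s := by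
  obtain ⟨G', p, hp, φ, hφ⟩ := exists_epi_toH_eq (K := K) (m := m) (desc s)
  obtain ⟨V, hVU, q, hxV, hq⟩ := exists_local_section p x hx
  refine ⟨V, hVU, (DerivedCategory.singleFunctor X.Modules m).map q ≫ φ, hxV, ?_⟩
  have h1 : toH (G := OU V) ((DerivedCategory.singleFunctor X.Modules m).map q ≫ φ) =
      desc ((DCoh.HD K m).presheaf.map (homOfLE hVU).op s) := by
    rw [toH_map_comp, hφ, reassoc_of% hq, map_desc]
  rw [toHD, h1, homEquiv_apply, desc_app_gen]

/-- `toHD` is locally injective. -/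
lemma exists_local_eq_zero {m : ℤ} {K : DCoh.D X} {U : X.Opens} (φ : P m U ⟶ K) (h : toHD φ = 0)
    (x : X) (hx : x ∈ U) :
    ∃ (V : X.Opens) (hVU : V ≤ U), x ∈ V ∧ res hVU φ = 0 := by
  have h1 : toH (G := OU U) φ = 0 := (homEquiv U _).injective (by rw [map_zero]; exact h)
  obtain ⟨G', p, hp, hφ⟩ := exists_epi_of_toH_eq_zero (G := OU U) φ h1
  obtain ⟨V, hVU, q, hxV, hq⟩ := exists_local_section p x hx
  refine ⟨V, hVU, hxV, ?_⟩
  change (DerivedCategory.singleFunctor X.Modules m).map ((OUF X).map (homOfLE hVU)) ≫ φ = 0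
  rw [← hq, Functor.map_comp, Category.assoc, hφ, comp_zero]

end Groth.Agent.PerfA.Hyp1
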