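import Groth.Agent.PerfA.Hyp2

/-!
# The action of functions on hypercohomology

For `r ∈ Γ(X, U)`, `act r : j_! O_U ⟶ j_! O_U` is multiplication by `r`; it makes `H^m(U, K)` a module over
`Γ(X, U)`, compatibly with restriction, `toHD` and the Mayer-Vietoris connecting map.
-/

set_option autoImplicit false

universe u

open CategoryTheory CategoryTheory.Limits AlgebraicGeometry Opposite TopologicalSpace
open Groth.Agent.PerfA.ExtZero Groth.Agent.PerfA.Hyp0 Groth.Agent.PerfA.Hyp1 Groth.Agent.PerfA.Hyp2

attribute [local instance] HasDerivedCategory.standard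

namespace Groth.Agent.PerfA.HypAct

variable {X : Scheme.{u}}

/-- Multiplication by a function on `j_! O_U`. -/
noncomputable def act {U : X.Opens} (r : Γ(X, U)) : OU U ⟶ OU U := desc (r • gen U)

@[reassoc (attr := simp)]
lemma act_desc {U : X.Opens} (r : Γ(X, U)) {M : X.Modules} (s : Γ(M, U)) :
    act r ≫ desc s = desc (r • s) := by
  rw [act, desc_comp, Scheme.Modules.Hom.app_smul, desc_app_gen]

lemma act_mul {U : X.Opens} (r s : Γ(X, U)) : act (r * s) = act r ≫ act s := by
  have h : act r ≫ act s = desc (r • s • gen U) := act_desc r (s • gen U)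
  rw [h, ← mul_smul]
  rfl

lemma act_one {U : X.Opens} : act (1 : Γ(X, U)) = 𝟙 _ := by
  apply hom_ext
  rw [act, one_smul, desc_app_gen]
  rfl

lemma act_add {U : X.Opens} (r s : Γ(X, U)) : act (r + s) = act r + act s := by
  rw [act, act, act, add_smul, desc_add]

lemma act_zero {U : X.Opens} : act (0 : Γ(X, U)) = 0 := by
  rw [act, zero_smul, desc_zero]

/-- Compatibility of the action with the transition maps. -/
lemma map_act {U V : X.Opens} (h : V ≤ U) (r : Γ(X, U)) :
    (OUF X).map (homOfLE h) ≫ act r = act (X.presheaf.map (homOfLE h).op r) ≫ (OUF X).map (homOfLE h) := by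
  obtain ⟨s, hs⟩ := desc_surjective ((OUF X).map (homOfLE h))
  have h1 : s = (OU U).presheaf.map (homOfLE h).op (gen U) := by
    rw [← OUF_map_app_gen, hs, desc_app_gen]
  rw [act, map_desc, hs, act_desc, h1, Scheme.Modules.map_smul]

/-- The action of `Γ(X, U)` on `H^m(U, K)`. -/
noncomputable instance instSMul {U : X.Opens} {m : ℤ} {K : DCoh.D X} : SMul Γ(X, U) (P m U ⟶ K) where
  smul r φ := (DerivedCategory.singleFunctor X.Modules m).map (act r) ≫ φ

lemma smul_def {U : X.Opens} {m : ℤ} {K : DCoh.D X} (r : Γ(X, U)) (φ : P m U ⟶ K) :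
    r • φ = (DerivedCategory.singleFunctor X.Modules m).map (act r) ≫ φ := rfl

/-- The module structure. -/
noncomputable instance instModule {U : X.Opens} {m : ℤ} {K : DCoh.D X} : Module Γ(X, U) (P m U ⟶ K) where
  one_smul φ := by
    rw [smul_def, act_one, CategoryTheory.Functor.map_id, Category.id_comp]
  mul_smul r s φ := by
    rw [smul_def, smul_def, smul_def, mul_comm, act_mul, Functor.map_comp, Category.assoc, ← smul_def s]
    rw [← Category.assoc, ← Functor.map_comp, ← act_mul, mul_comm, act_mul, Functor.map_comp, Category.assoc]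
    rfl
  smul_zero r := by rw [smul_def, comp_zero]
  smul_add r φ ψ := by rw [smul_def, smul_def, smul_def, Preadditive.comp_add]
  add_smul r s φ := by rw [smul_def, smul_def, smul_def, act_add, Functor.map_add, Preadditive.add_comp]
  zero_smul φ := by rw [smul_def, act_zero, Functor.map_zero, zero_comp]

@[simp]
lemma smul_comp {U : X.Opens} {m : ℤ} {K L : DCoh.D X} (r : Γ(X, U)) (φ : P m U ⟶ K) (f : K ⟶ L) :
    (r • φ) ≫ f = r • (φ ≫ f) := by
  rw [smul_def, smul_def, Category.assoc]

lemma res_smul {U V : X.Opens} {m : ℤ} {K : DCoh.D X} (h : V ≤ U) (r : Γ(X, U)) (φ : P m U ⟶ K) :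
    res h (r • φ) = X.presheaf.map (homOfLE h).op r • res h φ := by
  rw [res, res, smul_def, smul_def, ← Category.assoc, ← Category.assoc, Pmap, ← Functor.map_comp, map_act,
    Functor.map_comp]

lemma toHD_smul {U : X.Opens} {m : ℤ} {K : DCoh.D X} (r : Γ(X, U)) (φ : P m U ⟶ K) :
    toHD (r • φ) = r • toHD φ := by
  obtain ⟨s, hs⟩ := desc_surjective (toH (G := OU U) φ)
  have h1 : toH (G := OU U) (r • φ) = act r ≫ toH (G := OU U) φ := toH_map_comp _ _
  rw [toHD, toHD, h1, hs, act_desc, homEquiv_apply, homEquiv_apply, desc_app_gen, desc_app_gen]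

/-- The action of a function on the Mayer-Vietoris short complex. -/
noncomputable def actMV {U V : X.Opens} (r : Γ(X, U ⊔ V)) : mvShortComplex U V ⟶ mvShortComplex U V where
  τ₁ := act (X.presheaf.map (homOfLE (inf_le_left.trans le_sup_left : U ⊓ V ≤ U ⊔ V)).op r)
  τ₂ := biprod.map (act (X.presheaf.map (homOfLE le_sup_left).op r))
    (act (X.presheaf.map (homOfLE le_sup_right).op r))
  τ₃ := act r
  comm₁₂ := by
    change _ ≫ mvf U V = mvf U V ≫ _
    apply biprod.hom_ext
    · simp only [mvf, Category.assoc, biprod.lift_fst, biprod.map_fst, biprod.lift_fst_assoc]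
      rw [map_act, ← ConcreteCategory.comp_apply, ← Functor.map_comp]
      rfl
    · simp only [mvf, Category.assoc, biprod.lift_snd, biprod.map_snd, biprod.lift_snd_assoc,
        Preadditive.neg_comp, Preadditive.comp_neg]
      rw [map_act, ← ConcreteCategory.comp_apply, ← Functor.map_comp]
      rfl
  comm₂₃ := by
    change _ ≫ mvg U V = mvg U V ≫ _
    apply biprod.hom_ext'
    · simp only [mvg, biprod.inl_map_assoc, biprod.inl_desc, biprod.inl_desc_assoc]
      rw [map_act]
    · simp only [mvg, biprod.inr_map_assoc, biprod.inr_desc, biprod.inr_desc_assoc]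
      rw [map_act]

lemma smul_mvδ {m n : ℤ} (h : n + 1 = m) {U V : X.Opens} {K : DCoh.D X} (r : Γ(X, U ⊔ V))
    (ψ : P n (U ⊓ V) ⟶ K) :
    r • (mvδ h U V ≫ ψ) = mvδ h U V ≫ (X.presheaf.map (homOfLE (inf_le_left.trans le_sup_left : U ⊓ V ≤ U ⊔ V)).op r • ψ) := by
  have h1 : (DerivedCategory.singleFunctor X.Modules m).map (act r) ≫ mvδ h U V =
      mvδ h U V ≫ (DerivedCategory.singleFunctor X.Modules n).map
        (act (X.presheaf.map (homOfLE (inf_le_left.trans le_sup_left : U ⊓ V ≤ U ⊔ V)).op r)) :=
    sesδ_naturality (mvShortComplex_shortExact U V) h (mvShortComplex_shortExact U V) (actMV r)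
  rw [smul_def, smul_def, ← Category.assoc, h1, Category.assoc]

end Groth.Agent.PerfA.HypAct
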