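import Groth.Agent.PerfA.Hyp2
import Groth.Agent.PerfA.HypInd

/-!
# Uniform vanishing of hypercohomology of objects of `D_QCoh`

`AffBij K`: for `U` affine, `H^m(U, K) = Γ(U, H^m(K))`.  For `U` quasi-compact and quasi-separated there is a bound
`N` such that `H^m(U, K) = 0` for `m ≥ N + a` and all `K` satisfying `AffBij` with `K.IsLE a`.
-/

set_option autoImplicit false

universe u

open CategoryTheory CategoryTheory.Limits AlgebraicGeometry Opposite TopologicalSpace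
open Groth.Agent.PerfA.ExtZero Groth.Agent.PerfA.Hyp0 Groth.Agent.PerfA.Hyp1 Groth.Agent.PerfA.Hyp2

attribute [local instance] HasDerivedCategory.standard

namespace Groth.Agent.PerfA.HypBound

variable {X : Scheme.{u}}

/-- `H^m(U, K) ≅ Γ(U, H^m(K))` for all affine opens `U` and all `m`. -/
def AffBij (K : DCoh.D X) : Prop :=
  ∀ (m : ℤ) (U : X.Opens), IsAffineOpen U → Function.Bijective (toHD : (P m U ⟶ K) → Γ(DCoh.HD K m, U))

lemma AffBij.eq_zero {K : DCoh.D X} (hK : AffBij K) {m : ℤ} {U : X.Opens} (hU : IsAffineOpen U)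
    (φ : P m U ⟶ K) (h : toHD φ = 0) : φ = 0 :=
  (hK m U hU).1 (h.trans toHD_zero.symm)

lemma AffBij.eq_zero_of_isZero {K : DCoh.D X} (hK : AffBij K) {m : ℤ} {U : X.Opens} (hU : IsAffineOpen U)
    (φ : P m U ⟶ K) (h : IsZero (DCoh.HD K m)) : φ = 0 := by
  apply hK.eq_zero hU
  have h1 : toH (G := OU U) φ = 0 := h.eq_of_tgt _ _
  rw [toHD, h1, map_zero]

/-- Uniform vanishing bound on quasi-compact opens contained in a quasi-separated quasi-compact open. -/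
theorem exists_bound (U : X.Opens) (hU : IsCompact (U : Set X)) (hU' : IsQuasiSeparated (U : Set X)) :
    ∃ N : ℤ, ∀ (K : DCoh.D X), AffBij K → ∀ (a : ℤ), K.IsLE a → ∀ m : ℤ, a + N ≤ m →
      ∀ φ : P m U ⟶ K, φ = 0 := by
  refine HypInd.qcqs_induction U hU hU' (fun W => ∃ N : ℤ, ∀ (K : DCoh.D X), AffBij K →
    ∀ (a : ℤ), K.IsLE a → ∀ m : ℤ, a + N ≤ m → ∀ φ : P m W ⟶ K, φ = 0) ?_ ?_ U le_rfl hU
  · intro W _ hW
    refine ⟨1, fun K hK a ha m hm φ => hK.eq_zero_of_isZero hW φ ?_⟩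
    exact DerivedCategory.isZero_of_isLE K a m (by lia)
  · intro W W' _ _ _ _ ⟨N₁, h₁⟩ ⟨N₂, h₂⟩ ⟨N₃, h₃⟩
    refine ⟨max (max N₁ N₂) (N₃ + 1), fun K hK a ha m hm φ => ?_⟩
    have e1 := le_max_left (max N₁ N₂) (N₃ + 1)
    have e2 := le_max_right (max N₁ N₂) (N₃ + 1)
    have e3 := le_max_left N₁ N₂
    have e4 := le_max_right N₁ N₂
    obtain ⟨ψ, hψ⟩ := mv_exists_δ (n := m - 1) (by lia) φ (h₁ K hK a ha m (by lia) _)
      (h₂ K hK a ha m (by lia) _)
    rw [hψ, h₃ K hK a ha (m - 1) (by lia) ψ, comp_zero]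

/-- Lower bound: `H^m(U, K) = 0` for `m < a` if `K.IsGE a` (no quasi-coherence needed). -/
theorem eq_zero_of_isGE (K : DCoh.D X) (a : ℤ) [K.IsGE a] (m : ℤ) (hm : m < a) (U : X.Opens)
    (φ : P m U ⟶ K) : φ = 0 :=
  DerivedCategory.TStructure.t.zero_of_isLE_of_isGE φ m a hm inferInstance inferInstance

end Groth.Agent.PerfA.HypBound
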