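import Groth.Agent.PerfA.HypAct
import Groth.Agent.PerfA.HypBound
import Groth.Agent.CohqB.QC2

/-!
# Localisation of hypercohomology

For `U` quasi-compact and quasi-separated, `g ∈ Γ(X, U)` and `K` in `D_QCoh`, we have
`H^m(U ∩ D(g), K) = H^m(U, K)_g`.
-/

set_option autoImplicit false

universe u

open CategoryTheory CategoryTheory.Limits AlgebraicGeometry Opposite TopologicalSpace
open Groth.Agent.PerfA.ExtZero Groth.Agent.PerfA.Hyp0 Groth.Agent.PerfA.Hyp1 Groth.Agent.PerfA.Hyp2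
open Groth.Agent.PerfA.HypAct Groth.Agent.PerfA.HypBound

attribute [local instance] HasDerivedCategory.standard

namespace Groth.Agent.PerfA.HypLoc

variable {X : Scheme.{u}}

section Pw

variable {U : X.Opens} (g : Γ(X, U)) {K : DCoh.D X} {m : ℤ}

/-- Multiplication by `g ^ n` on `H^m(V, K)`, `V ≤ U`. -/
noncomputable def pw (n : ℕ) {V : X.Opens} (hV : V ≤ U) (x : P m V ⟶ K) : P m V ⟶ K :=
  X.presheaf.map (homOfLE hV).op (g ^ n) • x

lemma pw_add (n : ℕ) {V : X.Opens} (hV : V ≤ U) (x y : P m V ⟶ K) :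
    pw g n hV (x + y) = pw g n hV x + pw g n hV y := smul_add _ _ _

lemma pw_sub (n : ℕ) {V : X.Opens} (hV : V ≤ U) (x y : P m V ⟶ K) :
    pw g n hV (x - y) = pw g n hV x - pw g n hV y := smul_sub _ _ _

lemma pw_zero (n : ℕ) {V : X.Opens} (hV : V ≤ U) :
    pw g n hV (0 : P m V ⟶ K) = 0 := smul_zero _

lemma pw_pw (n k : ℕ) {V : X.Opens} (hV : V ≤ U) (x : P m V ⟶ K) :
    pw g n hV (pw g k hV x) = pw g (n + k) hV x := by
  rw [pw, pw, pw, smul_smul, ← map_mul, ← pow_add]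

lemma pw_comm (n k : ℕ) {V : X.Opens} (hV : V ≤ U) (x : P m V ⟶ K) :
    pw g n hV (pw g k hV x) = pw g k hV (pw g n hV x) := by
  rw [pw_pw, pw_pw, add_comm]

lemma pw_res (n : ℕ) {V W : X.Opens} (hV : V ≤ U) (hW : W ≤ V) (x : P m V ⟶ K) :
    pw g n (hW.trans hV) (res hW x) = res hW (pw g n hV x) := by
  rw [pw, pw, res_smul, ← ConcreteCategory.comp_apply, ← Functor.map_comp]
  rfl

lemma pw_mvδ (n : ℕ) {k l : ℤ} (h : l + 1 = k) {V W : X.Opens} (hV : V ≤ U) (hW : W ≤ U)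
    (ψ : P l (V ⊓ W) ⟶ K) :
    pw g n (sup_le hV hW) (mvδ h V W ≫ ψ) = mvδ h V W ≫ pw g n (inf_le_left.trans hV) ψ := by
  rw [pw, pw, smul_mvδ, ← ConcreteCategory.comp_apply, ← Functor.map_comp]
  rfl

lemma pw_comp (n : ℕ) {V : X.Opens} (hV : V ≤ U) (x : P m V ⟶ K) {L : DCoh.D X} (f : K ⟶ L) :
    pw g n hV (x ≫ f) = pw g n hV x ≫ f := by
  rw [pw, pw, smul_comp]

end Pw

/-- `H^m(W ∩ D(g), K)` is the localisation of `H^m(W, K)` at `g`, for all `m`. -/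
structure LocAt {U : X.Opens} (g : Γ(X, U)) (K : DCoh.D X) (W : X.Opens) (hW : W ≤ U) : Prop where
  eq_zero : ∀ (m : ℤ) (D : X.Opens) (hD : D ≤ W) (_ : D = W ⊓ X.basicOpen g) (x : P m W ⟶ K),
    res hD x = 0 → ∃ n, pw g n hW x = 0
  exists_lift : ∀ (m : ℤ) (D : X.Opens) (hD : D ≤ W) (_ : D = W ⊓ X.basicOpen g) (y : P m D ⟶ K),
    ∃ (n : ℕ) (x : P m W ⟶ K), res hD x = pw g n (hD.trans hW) y

lemma locAt_of_isAffineOpen {U : X.Opens} (g : Γ(X, U)) {K : DCoh.D X} (hK : AffBij K)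
    (hK' : DCoh.IsQCohD K) (W : X.Opens) (hW : W ≤ U) (hW' : IsAffineOpen W) : LocAt g K W hW := by
  have hb : X.basicOpen (X.presheaf.map (homOfLE hW).op g) = W ⊓ X.basicOpen g :=
    Scheme.basicOpen_res _ _ _
  constructor
  · intro m D hD hDW x hx
    obtain rfl : D = X.basicOpen (X.presheaf.map (homOfLE hW).op g) := hDW.trans hb.symm
    have hq : SheafOfModules.IsQuasicoherent (R := X.ringCatSheaf) (DCoh.HD K m) := hK' m
    have hL := CohqB.QC2.loc_of_isQuasicoherent (DCoh.HD K m) hW'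
    obtain ⟨n, hn⟩ := hL.eq_zero (X.presheaf.map (homOfLE hW).op g) (toHD x) (by
      have := toHD_res hD x
      rw [hx, toHD_zero] at this
      exact this.symm)
    refine ⟨n, hK.eq_zero hW' _ ?_⟩
    rw [pw, toHD_smul, map_pow]
    exact hn
  · intro m D hD hDW y
    obtain rfl : D = X.basicOpen (X.presheaf.map (homOfLE hW).op g) := hDW.trans hb.symm
    have hq : SheafOfModules.IsQuasicoherent (R := X.ringCatSheaf) (DCoh.HD K m) := hK' m
    have hL := CohqB.QC2.loc_of_isQuasicoherent (DCoh.HD K m) hW'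
    obtain ⟨n, t, ht⟩ := hL.exists_lift (X.presheaf.map (homOfLE hW).op g) (toHD y)
    obtain ⟨x, hx⟩ := (hK m W hW').2 t
    refine ⟨n, x, (hK m _ (hW'.basicOpen _)).1 ?_⟩
    rw [toHD_res, hx, pw, toHD_smul]
    refine Eq.trans ht ?_
    rw [map_pow]
    congr 2
    change (X.presheaf.map _ ≫ X.presheaf.map _) g = _
    rw [← Functor.map_comp]
    rfl

lemma locAt_sup {U : X.Opens} (g : Γ(X, U)) {K : DCoh.D X} (W₁ W₂ : X.Opens) (h₁ : W₁ ≤ U) (h₂ : W₂ ≤ U)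
    (H₁ : LocAt g K W₁ h₁) (H₂ : LocAt g K W₂ h₂) (H₃ : LocAt g K (W₁ ⊓ W₂) (inf_le_left.trans h₁)) :
    LocAt g K (W₁ ⊔ W₂) (sup_le h₁ h₂) := by
  set E := X.basicOpen g with hE
  constructor
  · intro m D hD hDW x hx
    have hm : m - 1 + 1 = m := by lia
    have hD₁ : W₁ ⊓ E ≤ D := by
      rw [hDW]; exact inf_le_inf_right _ le_sup_left
    have hD₂ : W₂ ⊓ E ≤ D := by
      rw [hDW]; exact inf_le_inf_right _ le_sup_right
    obtain ⟨n₁, hn₁⟩ := H₁.eq_zero m (W₁ ⊓ E) inf_le_left rfl (res le_sup_left x) (by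
      have := congrArg (res hD₁) hx
      rw [res_res, res_zero] at this
      rw [res_res]
      exact this)
    obtain ⟨n₂, hn₂⟩ := H₂.eq_zero m (W₂ ⊓ E) inf_le_left rfl (res le_sup_right x) (by
      have := congrArg (res hD₂) hx
      rw [res_res, res_zero] at this
      rw [res_res]
      exact this)
    -- after multiplication by a power of `g`, `x` comes from the overlap
    obtain ⟨ψ, hψ⟩ := mv_exists_δ hm (pw g (n₁ + n₂) (sup_le h₁ h₂) x)
      (by rw [← pw_res, add_comm, ← pw_pw]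
          have : pw g n₁ (le_sup_left.trans (sup_le h₁ h₂)) (res le_sup_left x) = 0 := hn₁
          rw [this, pw_zero])
      (by rw [← pw_res, ← pw_pw]
          have : pw g n₂ (le_sup_right.trans (sup_le h₁ h₂)) (res le_sup_right x) = 0 := hn₂
          rw [this, pw_zero])
    have h0 : mvδ hm (W₁ ⊓ E) (W₂ ⊓ E) ≫
        res (inf_le_inf inf_le_left inf_le_left) ψ = 0 := by
      rw [← res_mvδ hm (inf_le_left : W₁ ⊓ E ≤ W₁)
        (inf_le_left : W₂ ⊓ E ≤ W₂), ← hψ, ← pw_res]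
      have h5 : res (sup_le hD₁ hD₂) (res hD x) = 0 := by rw [hx, res_zero]
      rw [res_res] at h5
      rw [h5, pw_zero]
    obtain ⟨a, b, hab⟩ := mv_exists_of_δ_eq_zero hm _ h0
    obtain ⟨k₁, a', ha'⟩ := H₁.exists_lift (m - 1) (W₁ ⊓ E) inf_le_left rfl a
    obtain ⟨k₂, b', hb'⟩ := H₂.exists_lift (m - 1) (W₂ ⊓ E) inf_le_left rfl b
    obtain ⟨l, hl⟩ := H₃.eq_zero (m - 1) ((W₁ ⊓ E) ⊓ (W₂ ⊓ E)) (inf_le_inf inf_le_left inf_le_left)
      (inf_inf_distrib_right W₁ W₂ E).symm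
      (pw g (k₁ + k₂) (inf_le_left.trans h₁) ψ -
        (res inf_le_left (pw g k₂ h₁ a') - res inf_le_right (pw g k₁ h₂ b'))) (by
      rw [res_sub, res_sub, ← pw_res, hab, pw_sub, res_res, res_res, sub_eq_zero]
      congr 1
      · rw [← res_res (inf_le_left : W₁ ⊓ E ≤ W₁) inf_le_left, ← pw_res g k₂ h₁ inf_le_left a', ha', pw_pw]
        rw [← pw_res g _ (inf_le_left.trans h₁) inf_le_left, add_comm]
      · rw [← res_res (inf_le_left : W₂ ⊓ E ≤ W₂) inf_le_right, ← pw_res g k₁ h₂ inf_le_left b', hb', pw_pw]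
        rw [← pw_res g _ (inf_le_left.trans h₂) inf_le_right])
    refine ⟨l + (k₁ + k₂) + (n₁ + n₂), ?_⟩
    rw [← pw_pw, hψ, pw_mvδ g _ hm h₁ h₂]
    rw [pw_sub, sub_eq_zero, pw_pw] at hl
    rw [hl, pw_sub, Preadditive.comp_sub]
    have e1 : pw g l (inf_le_left.trans h₁) (res (inf_le_left : W₁ ⊓ W₂ ≤ W₁) (pw g k₂ h₁ a')) =
      res inf_le_left (pw g l h₁ (pw g k₂ h₁ a')) := pw_res g l h₁ _ _
    have e2 : pw g l (inf_le_left.trans h₁) (res (inf_le_right : W₁ ⊓ W₂ ≤ W₂) (pw g k₁ h₂ b')) =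
      res inf_le_right (pw g l h₂ (pw g k₁ h₂ b')) := pw_res g l h₂ _ _
    rw [e1, e2, mvδ_res_left, mvδ_res_right, sub_zero]
  · intro m D hD hDW y
    have hm : m - 1 + 1 = m := by lia
    have hD₁ : W₁ ⊓ E ≤ D := by
      rw [hDW]; exact inf_le_inf_right _ le_sup_left
    have hD₂ : W₂ ⊓ E ≤ D := by
      rw [hDW]; exact inf_le_inf_right _ le_sup_right
    have hD₁₂ : D ≤ (W₁ ⊓ E) ⊔ (W₂ ⊓ E) := by
      rw [hDW, inf_sup_right]
    obtain ⟨n₁, x₁, hx₁⟩ := H₁.exists_lift m (W₁ ⊓ E) inf_le_left rfl (res hD₁ y)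
    obtain ⟨n₂, x₂, hx₂⟩ := H₂.exists_lift m (W₂ ⊓ E) inf_le_left rfl (res hD₂ y)
    obtain ⟨k, hk⟩ := H₃.eq_zero m ((W₁ ⊓ E) ⊓ (W₂ ⊓ E)) (inf_le_inf inf_le_left inf_le_left)
      (inf_inf_distrib_right W₁ W₂ E).symm
      (res inf_le_left (pw g n₂ h₁ x₁) - res inf_le_right (pw g n₁ h₂ x₂)) (by
      rw [res_sub, res_res, res_res, sub_eq_zero]
      rw [← res_res (inf_le_left : W₁ ⊓ E ≤ W₁) inf_le_left, ← res_res (inf_le_left : W₂ ⊓ E ≤ W₂) inf_le_right,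
        ← pw_res g n₂ h₁ inf_le_left x₁, ← pw_res g n₁ h₂ inf_le_left x₂, hx₁, hx₂, pw_pw, pw_pw,
        add_comm n₁ n₂]
      rw [← pw_res g _ (inf_le_left.trans h₁) inf_le_left, ← pw_res g _ (inf_le_left.trans h₂) inf_le_right,
        res_res, res_res])
    rw [pw_sub, sub_eq_zero] at hk
    obtain ⟨x, hxa, hxb⟩ := mv_glue (pw g k h₁ (pw g n₂ h₁ x₁)) (pw g k h₂ (pw g n₁ h₂ x₂)) (by
      rw [← pw_res g k h₁ inf_le_left, ← pw_res g k h₂ inf_le_right]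
      exact hk)
    -- the difference comes from the overlap
    obtain ⟨ψ', hψ'⟩ := mv_exists_δ (U := W₁ ⊓ E) (V := W₂ ⊓ E) hm
      (res (sup_le hD₁ hD₂) (pw g (k + (n₁ + n₂)) (hD.trans (sup_le h₁ h₂)) y - res hD x))
      (by
        rw [res_res, res_sub, sub_eq_zero, res_res, ← res_res (le_sup_left : W₁ ≤ W₁ ⊔ W₂) inf_le_left, hxa,
          ← pw_res g _ _ hD₁, ← pw_res g k h₁ inf_le_left, ← pw_res g n₂ h₁ inf_le_left, hx₁, pw_pw, pw_pw]
        congr 1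
        lia)
      (by
        rw [res_res, res_sub, sub_eq_zero, res_res, ← res_res (le_sup_right : W₂ ≤ W₁ ⊔ W₂) inf_le_left, hxb,
          ← pw_res g _ _ hD₂, ← pw_res g k h₂ inf_le_left, ← pw_res g n₁ h₂ inf_le_left, hx₂, pw_pw, pw_pw]
        congr 1
        lia)
    obtain ⟨l, ψ, hψ⟩ := H₃.exists_lift (m - 1) ((W₁ ⊓ E) ⊓ (W₂ ⊓ E)) (inf_le_inf inf_le_left inf_le_left)
      (inf_inf_distrib_right W₁ W₂ E).symm ψ'
    refine ⟨l + (k + (n₁ + n₂)), pw g l (sup_le h₁ h₂) x + mvδ hm W₁ W₂ ≫ ψ, ?_⟩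
    have e1 : pw g l ((sup_le hD₁ hD₂).trans (hD.trans (sup_le h₁ h₂)))
        (res (sup_le hD₁ hD₂) (pw g (k + (n₁ + n₂)) (hD.trans (sup_le h₁ h₂)) y - res hD x)) =
        res (sup_le_sup inf_le_left inf_le_left) (mvδ hm W₁ W₂ ≫ ψ) := by
      rw [hψ', res_mvδ hm (inf_le_left : W₁ ⊓ E ≤ W₁) (inf_le_left : W₂ ⊓ E ≤ W₂), hψ]
      exact pw_mvδ g l _ (inf_le_left.trans h₁) (inf_le_left.trans h₂) ψ'
    have e2 := congrArg (res hD₁₂) e1
    rw [pw_res g l (hD.trans (sup_le h₁ h₂)) (sup_le hD₁ hD₂), res_res, res_self, res_res] at e2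
    rw [res_add, ← e2, pw_sub, pw_pw, ← pw_res g l _ hD x, add_sub_cancel]

/-- Localisation of hypercohomology on a quasi-compact quasi-separated open. -/
theorem locAt {U : X.Opens} (hU : IsCompact (U : Set X)) (hU' : IsQuasiSeparated (U : Set X)) (g : Γ(X, U))
    {K : DCoh.D X} (hK : AffBij K) (hK' : DCoh.IsQCohD K) : LocAt g K U le_rfl := by
  refine HypInd.qcqs_induction U hU hU' (fun W => ∀ hW : W ≤ U, LocAt g K W hW) ?_ ?_ U le_rfl hU le_rfl
  · intro W _ hW' hW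
    exact locAt_of_isAffineOpen g hK hK' W hW hW'
  · intro W W' h h' _ _ H H' H'' _
    exact locAt_sup g W W' h h' (H h) (H' h') (H'' _)

/-- `H^m(U, K) → H^m(D(g), K)` has kernel the `g`-power torsion. -/
theorem exists_pow_smul_eq_zero {U : X.Opens} (hU : IsCompact (U : Set X))
    (hU' : IsQuasiSeparated (U : Set X)) (g : Γ(X, U)) {K : DCoh.D X} (hK : AffBij K)
    (hK' : DCoh.IsQCohD K) {m : ℤ} (x : P m U ⟶ K) (hx : res (X.basicOpen_le g) x = 0) :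
    ∃ n : ℕ, g ^ n • x = 0 := by
  obtain ⟨n, hn⟩ := (locAt hU hU' g hK hK').eq_zero m (X.basicOpen g) (X.basicOpen_le g)
    (inf_eq_right.2 (X.basicOpen_le g)).symm x hx
  refine ⟨n, ?_⟩
  rw [pw] at hn
  convert hn
  change g ^ n = X.presheaf.map (𝟙 _) (g ^ n)
  rw [CategoryTheory.Functor.map_id]
  rfl

/-- Classes on `D(g)` extend to `U` after multiplication with a power of `g`. -/
theorem exists_res_eq_pow_smul {U : X.Opens} (hU : IsCompact (U : Set X))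
    (hU' : IsQuasiSeparated (U : Set X)) (g : Γ(X, U)) {K : DCoh.D X} (hK : AffBij K)
    (hK' : DCoh.IsQCohD K) {m : ℤ} (y : P m (X.basicOpen g) ⟶ K) :
    ∃ (n : ℕ) (x : P m U ⟶ K),
      res (X.basicOpen_le g) x = (X.presheaf.map (homOfLE (X.basicOpen_le g)).op g) ^ n • y := by
  obtain ⟨n, x, hx⟩ := (locAt hU hU' g hK hK').exists_lift m (X.basicOpen g) (X.basicOpen_le g)
    (inf_eq_right.2 (X.basicOpen_le g)).symm y
  refine ⟨n, x, ?_⟩
  rw [hx, pw, map_pow]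

end Groth.Agent.PerfA.HypLoc
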