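import Groth.Agent.PerfA.HypAffine
import Groth.Agent.PerfA.HypBound
import Groth.Agent.Dcoh.DerSch
import Groth.Agent.PerfB.ModExact

/-!
# Hypercohomology and `Rf_*`

For a K-injective complex `L` of `O_X`-modules the classes `P m U ⟶ Q L` are the cocycles in
`Γ(L^m, U)` modulo coboundaries.  Hence the cohomology sheaves of `Rf_*` are controlled by the
hypercohomology of the opens `f⁻¹V`.
-/

set_option autoImplicit false

universe u

open CategoryTheory CategoryTheory.Limits AlgebraicGeometry Opposite TopologicalSpace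
open Groth.Agent.PerfA.ExtZero Groth.Agent.PerfA.Hyp0 Groth.Agent.PerfA.Hyp1 Groth.Agent.PerfA.Hyp2
open Groth.Agent.PerfA.HypBound

attribute [local instance] HasDerivedCategory.standard

namespace Groth.Agent.PerfA.HypPush

section Cocycle

variable {X : Scheme.{u}} {L : CochainComplex X.Modules ℤ} {m : ℤ} {U : X.Opens}

/-- The hypercohomology class of a cocycle. -/
noncomputable def cls (s : Γ(L.X m, U)) (hs : (L.d m (m + 1)).app U s = 0) :
    P m U ⟶ DerivedCategory.Q.obj L :=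
  ofCocycle (desc s) (by rw [desc_comp, hs, desc_zero])

lemma exists_cls (hL : L.IsKInjective) (φ : P m U ⟶ DerivedCategory.Q.obj L) :
    ∃ (s : Γ(L.X m, U)) (hs : (L.d m (m + 1)).app U s = 0), φ = cls s hs := by
  obtain ⟨z, hz, rfl⟩ := exists_cocycle_of_isKInjective φ
  obtain ⟨s, rfl⟩ := desc_surjective z
  refine ⟨s, ?_, rfl⟩
  rw [desc_comp] at hz
  exact desc_injective (hz.trans desc_zero.symm)

lemma exists_of_cls_eq_zero (hL : L.IsKInjective) {n : ℤ} (hn : n + 1 = m) (s : Γ(L.X m, U))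
    (hs : (L.d m (m + 1)).app U s = 0) (h : cls s hs = 0) :
    ∃ t : Γ(L.X n, U), (L.d n m).app U t = s := by
  obtain ⟨y, hy⟩ := exists_of_ofCocycle_eq_zero hn (desc s) _ h
  obtain ⟨t, rfl⟩ := desc_surjective y
  rw [desc_comp] at hy
  exact ⟨t, desc_injective hy⟩

lemma cls_eq_zero {n : ℤ} (hn : n + 1 = m) (s : Γ(L.X m, U))
    (hs : (L.d m (m + 1)).app U s = 0) (t : Γ(L.X n, U)) (ht : (L.d n m).app U t = s) :
    cls s hs = 0 :=
  ofCocycle_eq_zero hn _ _ (desc t) (by rw [desc_comp, ht])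

lemma app_map_eq {M N : X.Modules} (p : M ⟶ N) {V : X.Opens} (h : V ≤ U) (s : Γ(M, U)) :
    p.app V (M.presheaf.map (homOfLE h).op s) = N.presheaf.map (homOfLE h).op (p.app U s) :=
  Groth.Agent.Dcoh.Restrict.app_map_apply p (homOfLE h) s

lemma d_res {V : X.Opens} (h : V ≤ U) (s : Γ(L.X m, U)) (hs : (L.d m (m + 1)).app U s = 0) :
    (L.d m (m + 1)).app V ((L.X m).presheaf.map (homOfLE h).op s) = 0 := by
  rw [app_map_eq, hs]
  exact map_zero ((L.X (m + 1)).presheaf.map (homOfLE h).op).hom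

lemma res_cls {V : X.Opens} (h : V ≤ U) (s : Γ(L.X m, U)) (hs : (L.d m (m + 1)).app U s = 0) :
    res h (cls s hs) = cls ((L.X m).presheaf.map (homOfLE h).op s) (d_res h s hs) := by
  refine (map_ofCocycle (desc s) _ ((OUF X).map (homOfLE h))).trans ?_
  rw [cls]
  congr 1
  exact map_desc _ _

end Cocycle

section Push

variable {X S : Scheme.{u}} (f : X ⟶ S)

/-- The complex `f_* L`. -/
noncomputable abbrev pushC (L : CochainComplex X.Modules ℤ) : CochainComplex S.Modules ℤ :=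
  ((Scheme.Modules.pushforward f).mapHomologicalComplex (ComplexShape.up ℤ)).obj L

/-- Local vanishing of hypercohomology of preimages implies that the complex `f_* L` is exact. -/
theorem exactAt_pushC (L : CochainComplex X.Modules ℤ) (hL : L.IsKInjective) (m : ℤ)
    (h : ∀ (W : S.Opens) (x : S), x ∈ W → ∃ (V : S.Opens) (_ : V ≤ W), x ∈ V ∧
      ∀ φ : P m (f ⁻¹ᵁ V) ⟶ DerivedCategory.Q.obj L, φ = 0) : (pushC f L).ExactAt m := by
  rw [HomologicalComplex.exactAt_iff' _ (m - 1) m (m + 1) (by simp) (by simp)]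
  refine PerfB.ModExact.exact_of_locally_lifts _ fun W y hy x hx => ?_
  obtain ⟨V, hVW, hxV, hV⟩ := h W x hx
  have hle : f ⁻¹ᵁ V ≤ f ⁻¹ᵁ W := fun a ha => hVW ha
  have hy' : (L.d m (m + 1)).app (f ⁻¹ᵁ W) y = 0 := hy
  obtain ⟨t, ht⟩ := exists_of_cls_eq_zero hL (n := m - 1) (by lia) _ (d_res hle y hy') (hV _)
  exact ⟨V, hVW, hxV, t, ht⟩

end Push

end Groth.Agent.PerfA.HypPush
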