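import Mathlib.CategoryTheory.Triangulated.Subcategory
import Mathlib.CategoryTheory.Triangulated.Functor
import Mathlib.CategoryTheory.Triangulated.Triangulated

/-!
# The cone of an idempotent projection
-/

set_option autoImplicit false

universe v₁ v₂ u₁ u₂

open CategoryTheory CategoryTheory.Limits CategoryTheory.Pretriangulated

set_option linter.unusedSectionVars false

namespace Groth.Agent.PerfA.IdemCone

section

variable {D : Type u₁} [Category.{v₁} D] [Preadditive D] [HasZeroObject D]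
  [HasShift D ℤ] [∀ n : ℤ, (shiftFunctor D n).Additive] [Pretriangulated D]

/-- The triangle `B ⟶ A ⊞ B ⟶ A ⟶ B⟦1⟧`. -/
theorem inr_fst_distinguished (A B : D) :
    Triangle.mk (biprod.inr : B ⟶ A ⊞ B) biprod.fst (0 : A ⟶ B⟦(1 : ℤ)⟧) ∈ distTriang D := by
  refine isomorphic_distinguished _ (binaryBiproductTriangle_distinguished B A) _ ?_
  refine Triangle.isoMk _ _ (Iso.refl _) (biprod.braiding A B) (Iso.refl _) ?_ ?_ ?_
  · change biprod.inr ≫ (biprod.braiding A B).hom = 𝟙 B ≫ biprod.inl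
    ext <;> simp
  · change biprod.fst ≫ 𝟙 A = (biprod.braiding A B).hom ≫ biprod.snd
    simp
  · change (0 : A ⟶ B⟦(1 : ℤ)⟧) ≫ _ = 𝟙 A ≫ (0 : A ⟶ B⟦(1 : ℤ)⟧)
    rw [zero_comp, comp_zero]

/-- The cone of the idempotent `A ⊞ B ⟶ B ⟶ A ⊞ B` is `A ⊞ A⟦1⟧`. -/
theorem cone_idem [IsTriangulated D] (A B Z : D) (g : A ⊞ B ⟶ Z) (h : Z ⟶ (A ⊞ B)⟦(1 : ℤ)⟧)
    (hT : Triangle.mk ((biprod.snd : A ⊞ B ⟶ B) ≫ biprod.inr) g h ∈ distTriang D) :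
    Nonempty (Z ≅ A ⊞ A⟦(1 : ℤ)⟧) := by
  have h12 := rot_of_distTriang _ (binaryBiproductTriangle_distinguished A B)
  let o := Triangulated.someOctahedron (u₁₂ := (biprod.snd : A ⊞ B ⟶ B))
    (u₂₃ := (biprod.inr : B ⟶ A ⊞ B)) rfl h12 (inr_fst_distinguished A B) hT
  obtain ⟨e, -, -⟩ := exists_iso_binaryBiproduct_of_distTriang _ o.mem (by
    change (0 : A ⟶ B⟦(1 : ℤ)⟧) ≫ _ = 0
    rw [zero_comp])
  exact ⟨e ≪≫ biprod.braiding _ _⟩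

end

section

variable {D₂ : Type u₁} [Category.{v₁} D₂] [Preadditive D₂] [HasZeroObject D₂]
  [HasShift D₂ ℤ] [∀ n : ℤ, (shiftFunctor D₂ n).Additive] [Pretriangulated D₂]
  {D₃ : Type u₂} [Category.{v₂} D₃] [Preadditive D₃] [HasZeroObject D₃]
  [HasShift D₃ ℤ] [∀ n : ℤ, (shiftFunctor D₃ n).Additive] [Pretriangulated D₃]

/-- If `L G ≅ A ⊞ B` and morphisms `L G ⟶ L G` extend to roofs, then `A ⊞ A⟦1⟧` is in the image of `L`. -/
theorem exists_lift_sum_shift [IsTriangulated D₃] (L : D₂ ⥤ D₃) [L.CommShift ℤ] [L.IsTriangulated]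
    (G : D₂) (A B : D₃) (e : L.obj G ≅ A ⊞ B)
    (hroof : ∀ α : L.obj G ⟶ L.obj G, ∃ (E₁ : D₂) (β γ : E₁ ⟶ G),
      (∀ 𝒯 : ObjectProperty D₂, 𝒯.IsTriangulated → 𝒯.IsClosedUnderIsomorphisms → 𝒯 G → 𝒯 E₁) ∧
      IsIso (L.map β) ∧ L.map β ≫ α = L.map γ) :
    ∃ C : D₂, (∀ 𝒯 : ObjectProperty D₂, 𝒯.IsTriangulated → 𝒯.IsClosedUnderIsomorphisms → 𝒯 G → 𝒯 C) ∧
      Nonempty (L.obj C ≅ A ⊞ A⟦(1 : ℤ)⟧) := by
  obtain ⟨E₁, β, γ, h𝒯, hβ, hγ⟩ := hroof (e.hom ≫ (biprod.snd ≫ biprod.inr) ≫ e.inv)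
  obtain ⟨C, c, d, hT⟩ := distinguished_cocone_triangle γ
  refine ⟨C, fun 𝒯 h1 h2 hG => 𝒯.ext_of_isTriangulatedClosed₃ _ hT (h𝒯 𝒯 h1 h2 hG) hG, ?_⟩
  have h3 := L.map_distinguished _ hT
  obtain ⟨Z, g, h, hZ⟩ := distinguished_cocone_triangle ((biprod.snd : A ⊞ B ⟶ B) ≫ biprod.inr)
  obtain ⟨e1⟩ := cone_idem A B Z g h hZ
  have hcomm : (L.mapTriangle.obj (Triangle.mk γ c d)).mor₁ ≫ e.hom =
      (L.map β ≫ e.hom) ≫ (biprod.snd ≫ biprod.inr) := by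
    change L.map γ ≫ e.hom = _
    rw [← hγ]
    simp
  let φ := completeDistinguishedTriangleMorphism _ _ h3 hZ (L.map β ≫ e.hom) e.hom hcomm
  have h4 : IsIso φ.hom₁ := by
    change IsIso (L.map β ≫ e.hom)
    infer_instance
  have h5 : IsIso φ.hom₂ := by
    change IsIso e.hom
    infer_instance
  have h6 : IsIso φ.hom₃ := isIso₃_of_isIso₁₂ φ h3 hZ h4 h5
  exact ⟨(@asIso _ _ _ _ φ.hom₃ h6) ≪≫ e1⟩

end

end Groth.Agent.PerfA.IdemCone
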