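import Groth.Agent.PerfA.Restrict
import Groth.Agent.PerfC.Supp

/-!
# Locally bounded below objects of `D(O_X)`
-/

set_option autoImplicit false
universe u
open CategoryTheory CategoryTheory.Limits CategoryTheory.Pretriangulated AlgebraicGeometry
attribute [local instance] HasDerivedCategory.standard

namespace Groth.Agent.PerfA.LocBdd
open Groth.Agent.PerfA.Restrict Groth.Agent.PerfC.Supp

variable {X Y : Scheme.{u}}

/-- `K` is locally bounded below. -/
def LB (K : DCoh.D X) : Prop :=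
  ∀ x : X, ∃ (V : X.Opens) (a : ℤ), x ∈ V ∧ ((restrictD V.ι).obj K).IsGE a

/-- Restriction to an open immersion is in degrees `≥ a` iff the supports of the lower cohomology sheaves
miss the image. -/
lemma isGE_restrictD_iff (j : Y ⟶ X) [IsOpenImmersion j] (K : DCoh.D X) (a : ℤ) :
    ((restrictD j).obj K).IsGE a ↔ ∀ i : ℤ, i < a → ∀ y : Y, j y ∉ supp K i := by
  rw [DerivedCategory.isGE_iff]
  refine forall₂_congr fun i _ => ?_
  change IsZero (DCoh.HD ((restrictD j).obj K) i) ↔ _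
  rw [← supp_eq_empty_iff, supp_restrictD, Set.eq_empty_iff_forall_notMem]
  rfl

lemma lb_iff (K : DCoh.D X) :
    LB K ↔ ∀ x : X, ∃ (V : X.Opens) (a : ℤ), x ∈ V ∧ ∀ i : ℤ, i < a → ∀ y ∈ V, y ∉ supp K i := by
  refine forall_congr' fun x => exists_congr fun V => exists_congr fun a => and_congr_right fun _ => ?_
  rw [isGE_restrictD_iff]
  exact forall₂_congr fun i _ => ⟨fun h y hy => h ⟨y, hy⟩, fun h y => h y.1 y.2⟩

lemma isGE_iff_supp (K : DCoh.D X) (a : ℤ) : K.IsGE a ↔ ∀ i : ℤ, i < a → ∀ y : X, y ∉ supp K i := by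
  rw [DerivedCategory.isGE_iff]
  refine forall₂_congr fun i _ => ?_
  change IsZero (DCoh.HD K i) ↔ _
  rw [← supp_eq_empty_iff, Set.eq_empty_iff_forall_notMem]

/-- Being locally bounded below is stable under restriction. -/
lemma LB.restrict {K : DCoh.D X} (h : LB K) (j : Y ⟶ X) [IsOpenImmersion j] :
    LB ((restrictD j).obj K) := by
  rw [lb_iff] at h ⊢
  intro y
  obtain ⟨V, a, hx, hV⟩ := h (j y)
  refine ⟨j ⁻¹ᵁ V, a, hx, fun i hi z hz => ?_⟩
  rw [supp_restrictD]
  exact hV i hi (j z) hz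

/-- Being locally bounded below on a quasi-compact scheme is being bounded below. -/
lemma LB.exists_isGE [CompactSpace X] {K : DCoh.D X} (h : LB K) : ∃ a : ℤ, K.IsGE a := by
  rw [lb_iff] at h
  choose V a hxV hV using h
  obtain ⟨t, ht⟩ := isCompact_univ.elim_finite_subcover (fun x => (V x : Set X)) (fun x => (V x).2)
    (fun x _ => Set.mem_iUnion.2 ⟨x, hxV x⟩)
  obtain ⟨m, hm⟩ := (t.finite_toSet.image a).bddBelow
  refine ⟨m, (isGE_iff_supp K m).2 fun i hi y => ?_⟩
  obtain ⟨x, hx, hy⟩ := Set.mem_iUnion₂.1 (ht (Set.mem_univ y))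
  exact hV x i (hi.trans_le (hm ⟨x, hx, rfl⟩)) y hy

lemma LB.of_iso {K L : DCoh.D X} (h : LB K) (e : K ≅ L) : LB L := by
  rw [lb_iff] at h ⊢
  intro x
  obtain ⟨V, a, hx, hV⟩ := h x
  exact ⟨V, a, hx, fun i hi y hy => by rw [← supp_congr e]; exact hV i hi y hy⟩

lemma LB.of_isGE {K : DCoh.D X} (a : ℤ) (h : K.IsGE a) : LB K := by
  rw [lb_iff]
  intro x
  exact ⟨⊤, a, trivial, fun i hi y _ => (isGE_iff_supp K a).1 h i hi y⟩

end Groth.Agent.PerfA.LocBdd
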