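import Groth.Agent.LoccohB.FullSubTri

/-!
# Localizing subcategories containing compact generators
-/

set_option autoImplicit false

universe w v u v' u' t

open CategoryTheory CategoryTheory.Limits Pretriangulated

namespace Groth.Agent.PerfA.Localizing

open Groth.Agent.CohtopA.BrownW Groth.Agent.LoccohB.FullSubTri

variable {D : Type u} [Category.{v} D] [Preadditive D] [HasZeroObject D] [HasShift D ℤ]
    [∀ n : ℤ, (shiftFunctor D n).Additive] [Pretriangulated D] [HasCoproducts.{w} D]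
    [LocallySmall.{w} D]

/-- A triangulated subcategory `L` closed under coproducts of objects of `Q` and containing a compact generating
family of `Q` contains `Q`. -/
theorem prop_of_localizing (Q L : ObjectProperty D) [Q.IsTriangulated] [L.IsTriangulated]
    [Q.IsClosedUnderIsomorphisms] [L.IsClosedUnderIsomorphisms]
    (hQ : ∀ (J : Type w) (K : J → D), (∀ j, Q (K j)) → Q (∐ K))
    (hL : ∀ (J : Type w) (K : J → D), (∀ j, Q (K j)) → (∀ j, L (K j)) → L (∐ K))
    {κ : Type t} [Small.{w} κ] (E : κ → D) (hE : ∀ k, PerfAux.IsCompactObjRel.{w} Q (E k))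
    (hEQ : ∀ k, Q (E k)) (hEL : ∀ k, L (E k))
    (hgen : ∀ X, Q X → (∀ (k : κ) (n : ℤ) (φ : (E k)⟦n⟧ ⟶ X), φ = 0) → IsZero X)
    (X : D) (hX : Q X) : L X := by
  let P : ObjectProperty D := L ⊓ Q
  have hP : P.IsTriangulated := inferInstance
  have : P.IsClosedUnderIsomorphisms := inferInstance
  have h1 : ∀ J : Type w, P.IsClosedUnderColimitsOfShape (Discrete J) := fun J =>
    .mk' (by
      rintro _ ⟨F, hF⟩
      refine P.prop_of_iso (HasColimit.isoOfNatIso Discrete.natIsoFunctor).symm ?_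
      exact ⟨hL J _ (fun j => (hF ⟨j⟩).2) (fun j => (hF ⟨j⟩).1), hQ J _ (fun j => (hF ⟨j⟩).2)⟩)
  have h2 : ∀ J : Type w, HasColimitsOfShape (Discrete J) P.FullSubcategory := fun J => inferInstance
  have h3 : ∀ J : Type w, PreservesColimitsOfShape (Discrete J) P.ι := fun J => inferInstance
  let E' : κ → P.FullSubcategory := fun k => ⟨E k, hEL k, hEQ k⟩
  have hE' : ∀ k, IsCompactW.{w} (E' k) := fun k =>
    isCompactW_fullSubcategory P (E' k) (fun ι X' _ hX' => hE k ι X' (fun i => (hX' i).2))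
  have hE'' : CohDer.Generates E' := generates_fullSubcategory P E' (fun L hL h => hgen L hL.2 h)
  have : P.ι.IsLeftAdjoint := isLeftAdjoint E' hE' hE'' P.ι
  let R := P.ι.rightAdjoint
  let adj : P.ι ⊣ R := Adjunction.ofIsLeftAdjoint P.ι
  let c : (R.obj X).obj ⟶ X := adj.counit.app X
  obtain ⟨C, g, h, hT⟩ := distinguished_cocone_triangle c
  have hC : Q C := Q.ext_of_isTriangulatedClosed₃ _ hT (R.obj X).property.2 hX
  have hinj : ∀ (Y : D), P Y → ∀ (a : Y ⟶ (R.obj X).obj), a ≫ c = 0 → a = 0 := by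
    intro Y hY a ha
    let Y' : P.FullSubcategory := ⟨Y, hY⟩
    have h4 : (adj.homEquiv Y' X).symm (ObjectProperty.homMk a : Y' ⟶ R.obj X) =
        (adj.homEquiv Y' X).symm 0 := by
      rw [Adjunction.homEquiv_counit, Adjunction.homEquiv_counit, Functor.map_zero, zero_comp]
      exact ha
    exact congrArg (fun f => f.hom) ((adj.homEquiv Y' X).symm.injective h4)
  have hsurj : ∀ (Y : D), P Y → ∀ (f : Y ⟶ X), ∃ a : Y ⟶ (R.obj X).obj, a ≫ c = f := by
    intro Y hY f
    let Y' : P.FullSubcategory := ⟨Y, hY⟩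
    refine ⟨(adj.homEquiv Y' X f).hom, ?_⟩
    have := (adj.homEquiv Y' X).symm_apply_apply f
    rw [Adjunction.homEquiv_counit] at this
    exact this
  have hC0 : IsZero C := by
    refine hgen C hC (fun k n ψ => ?_)
    have hY : P ((E k)⟦n⟧) := P.le_shift n _ ⟨hEL k, hEQ k⟩
    have h5 : ψ ≫ h = 0 := by
      have h6 : (ψ ≫ h) ≫ c⟦(1 : ℤ)⟧' = 0 := by
        have h0 : h ≫ c⟦(1 : ℤ)⟧' = 0 := comp_distTriang_mor_zero₃₁ _ hT
        rw [Category.assoc, h0, comp_zero]
      let e : ((E k)⟦n⟧)⟦(-1 : ℤ)⟧⟦(1 : ℤ)⟧ ≅ (E k)⟦n⟧ := shiftNegShift _ _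
      obtain ⟨b, hb⟩ := (shiftFunctor D (1 : ℤ)).map_surjective (e.hom ≫ ψ ≫ h)
      have h7 : b ≫ c = 0 := by
        apply (shiftFunctor D (1 : ℤ)).map_injective
        rw [Functor.map_comp, hb, Category.assoc, h6, comp_zero, Functor.map_zero]
      have h8 := hinj _ (P.le_shift (-1 : ℤ) _ hY) b h7
      rw [← cancel_epi e.hom, ← hb, h8, Functor.map_zero, comp_zero]
    obtain ⟨φ, hφ⟩ : ∃ φ : (E k)⟦n⟧ ⟶ X, ψ = φ ≫ g := Triangle.coyoneda_exact₃ _ hT ψ h5
    obtain ⟨a, ha⟩ := hsurj _ hY φ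
    have h0 : c ≫ g = 0 := comp_distTriang_mor_zero₁₂ _ hT
    rw [hφ, ← ha, Category.assoc, h0, comp_zero]
  have hiso : IsIso c := (Triangle.isZero₃_iff_isIso₁ _ hT).1 hC0
  exact L.prop_of_iso (asIso c) (R.obj X).property.1

end Groth.Agent.PerfA.Localizing
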