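import Groth.Agent.PerfA.PostTower
import Mathlib.CategoryTheory.Limits.Preserves.Shapes.Products
import Mathlib.CategoryTheory.Triangulated.Functor

/-!
# Milnor limits in pretriangulated categories
-/

set_option autoImplicit false

universe w v u v' u'

open CategoryTheory CategoryTheory.Limits Pretriangulated

namespace Groth.Agent.PerfA.Milnor

open PostTower

variable {D : Type u} [Category.{v} D] [Preadditive D] [HasZeroObject D] [HasShift D ℤ]
  [∀ n : ℤ, (shiftFunctor D n).Additive] [Pretriangulated D]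

/-- `L` with the projections `π n : L ⟶ E n` is a Milnor limit of the tower `(E, τ)`: there is a distinguished
triangle `L ⟶ ∏ E ⟶ ∏ E ⟶ L⟦1⟧` where the second map is `1 - shift`. -/
def IsMilnor {E : ℕ → D} (τ : ∀ n, E (n + 1) ⟶ E n) {L : D} (π : ∀ n, L ⟶ E n) : Prop :=
  ∃ (_ : HasProduct E) (c : ∏ᶜ E ⟶ L⟦(1 : ℤ)⟧), Triangle.mk (Pi.lift π) (oneSub τ) c ∈ distTriang D

section

variable {E : ℕ → D} {τ : ∀ n, E (n + 1) ⟶ E n}

lemma IsMilnor.comp {L : D} {π : ∀ n, L ⟶ E n} (h : IsMilnor τ π) (n : ℕ) : π (n + 1) ≫ τ n = π n := by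
  obtain ⟨_, c, hT⟩ := h
  have h0 : Pi.lift π ≫ oneSub τ = 0 := comp_distTriang_mor_zero₁₂ _ hT
  have h1 := congrArg (· ≫ Pi.π E n) h0
  simp only [Category.assoc, Pi.lift_π, Preadditive.comp_sub, Pi.lift_π_assoc, zero_comp] at h1
  exact (sub_eq_zero.1 h1).symm

/-- Milnor limits exist when the product exists. -/
lemma exists_isMilnor [HasProduct E] (τ : ∀ n, E (n + 1) ⟶ E n) :
    ∃ (L : D) (π : ∀ n, L ⟶ E n), IsMilnor τ π := by
  obtain ⟨L, p, c, hT⟩ := distinguished_cocone_triangle₁ (oneSub τ)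
  refine ⟨L, fun n => p ≫ Pi.π E n, inferInstance, c, ?_⟩
  have : (Pi.lift fun n => p ≫ Pi.π E n) = p := by
    apply Pi.hom_ext
    simp
  rw [this]
  exact hT

lemma IsMilnor.exists_lift {L : D} {π : ∀ n, L ⟶ E n} (h : IsMilnor τ π) (X : D)
    (x : ∀ n, X ⟶ E n) (hx : ∀ n, x (n + 1) ≫ τ n = x n) : ∃ y : X ⟶ L, ∀ n, y ≫ π n = x n := by
  obtain ⟨_, c, hT⟩ := h
  obtain ⟨y, hy⟩ := milnor_exists τ _ c hT X x hx
  exact ⟨y, fun n => by simpa using hy n⟩

lemma IsMilnor.eq_zero {L : D} {π : ∀ n, L ⟶ E n} (h : IsMilnor τ π) (X : D)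
    (hX : ∀ n (y : X⟦(1 : ℤ)⟧ ⟶ E n), ∃ z : X⟦(1 : ℤ)⟧ ⟶ E (n + 1), z ≫ τ n = y)
    (x : X ⟶ L) (hx : ∀ n, x ≫ π n = 0) : x = 0 := by
  obtain ⟨_, c, hT⟩ := h
  exact milnor_unique τ _ c hT X hX x (fun n => by simpa using hx n)

/-- Two Milnor limits of the same tower are isomorphic. -/
lemma IsMilnor.exists_iso {L L' : D} {π : ∀ n, L ⟶ E n} {π' : ∀ n, L' ⟶ E n} (h : IsMilnor τ π)
    (h' : IsMilnor τ π') : ∃ e : L ≅ L', ∀ n, e.hom ≫ π' n = π n := by
  obtain ⟨_, c, hT⟩ := h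
  obtain ⟨_, c', hT'⟩ := h'
  obtain ⟨a, ha, ha'⟩ := complete_distinguished_triangle_morphism₁ _ _ hT hT' (𝟙 _) (𝟙 _)
    (by exact (Category.comp_id _).trans (Category.id_comp _).symm)
  let φ : Triangle.mk (Pi.lift π) (oneSub τ) c ⟶ Triangle.mk (Pi.lift π') (oneSub τ) c' :=
    { hom₁ := a
      hom₂ := 𝟙 _
      hom₃ := 𝟙 _
      comm₁ := ha
      comm₂ := (Category.comp_id _).trans (Category.id_comp _).symm
      comm₃ := ha' }
  have : IsIso a := isIso₁_of_isIso₂₃ φ hT hT' (inferInstanceAs (IsIso (𝟙 _)))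
    (inferInstanceAs (IsIso (𝟙 _)))
  refine ⟨@asIso _ _ _ _ a this, fun n => ?_⟩
  have h1 : Pi.lift π = a ≫ Pi.lift π' := (Category.comp_id _).symm.trans ha
  have h2 : (Pi.lift π) ≫ Pi.π E n = (a ≫ Pi.lift π') ≫ Pi.π E n := congrArg (· ≫ Pi.π E n) h1
  rw [Pi.lift_π] at h2
  have h3 : (a ≫ Pi.lift π') ≫ Pi.π E n = a ≫ π' n :=
    (Category.assoc _ _ _).trans (congrArg (a ≫ ·) (Pi.lift_π _ _))
  exact (h2.trans h3).symm

/-- Transport of Milnor limits along an isomorphism of the limit. -/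
lemma IsMilnor.of_iso {L L' : D} {π : ∀ n, L ⟶ E n} {π' : ∀ n, L' ⟶ E n} (h : IsMilnor τ π)
    (e : L' ≅ L) (he : ∀ n, e.hom ≫ π n = π' n) : IsMilnor τ π' := by
  obtain ⟨_, c, hT⟩ := h
  have h1 : e.hom ≫ Pi.lift π = Pi.lift π' := by
    apply Pi.hom_ext
    intro n
    simp [he]
  refine ⟨inferInstance, c ≫ e.inv⟦(1 : ℤ)⟧', ?_⟩
  refine isomorphic_distinguished _ hT _ (Triangle.isoMk _ _ e (Iso.refl _) (Iso.refl _) ?_ ?_ ?_)
  · exact (Category.comp_id _).trans h1.symm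
  · exact (Category.comp_id _).trans (Category.id_comp _).symm
  · have : e.inv⟦(1 : ℤ)⟧' ≫ e.hom⟦(1 : ℤ)⟧' = 𝟙 _ := by
      rw [← Functor.map_comp, e.inv_hom_id, CategoryTheory.Functor.map_id]
    refine (Category.assoc _ _ _).trans ((congrArg (c ≫ ·) this).trans ?_)
    exact (Category.comp_id _).trans (Category.id_comp _).symm

end

section Map

variable {D' : Type u'} [Category.{v'} D'] [Preadditive D'] [HasZeroObject D'] [HasShift D' ℤ]
  [∀ n : ℤ, (shiftFunctor D' n).Additive] [Pretriangulated D']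
  {E : ℕ → D} {τ : ∀ n, E (n + 1) ⟶ E n}

/-- The comparison `R (∏ E) ≅ ∏ R E` is compatible with `1 - shift`. -/
lemma IsMilnor.map {L : D} {π : ∀ n, L ⟶ E n} (h : IsMilnor τ π) (R : D ⥤ D') [R.CommShift ℤ]
    [R.IsTriangulated] [PreservesLimit (Discrete.functor E) R] :
    IsMilnor (E := fun n => R.obj (E n)) (fun n => R.map (τ n)) (fun n => R.map (π n)) := by
  obtain ⟨_, c, hT⟩ := h
  have h1 : HasProduct (fun n => R.obj (E n)) :=
    hasLimit_of_iso (F := Discrete.functor E ⋙ R) (Discrete.natIso (fun _ => Iso.refl _))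
  let e : R.obj (∏ᶜ E) ≅ ∏ᶜ (fun n => R.obj (E n)) := PreservesProduct.iso R E
  have he : ∀ n, e.hom ≫ Pi.π (fun n => R.obj (E n)) n = R.map (Pi.π E n) := by
    intro n
    exact piComparison_comp_π R E n
  have h2 : (Pi.lift fun n => R.map (π n)) ≫ e.inv = R.map (Pi.lift π) := by
    rw [← cancel_mono e.hom, Category.assoc, Iso.inv_hom_id, Category.comp_id]
    apply Pi.hom_ext
    intro n
    rw [Pi.lift_π, Category.assoc, he, ← Functor.map_comp, Pi.lift_π]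
  have h3 : oneSub (fun n => R.map (τ n)) ≫ e.inv = e.inv ≫ R.map (oneSub τ) := by
    rw [← cancel_mono e.hom, ← cancel_epi e.hom]
    simp only [Category.assoc, Iso.inv_hom_id, Category.comp_id, Iso.hom_inv_id_assoc]
    apply Pi.hom_ext
    intro n
    rw [Category.assoc, Pi.lift_π, Preadditive.comp_sub, he, ← Category.assoc, he, Category.assoc, he,
      ← Functor.map_comp, ← Functor.map_comp, Pi.lift_π, Functor.map_sub]
  refine ⟨h1, e.inv ≫ R.map c ≫ (R.commShiftIso (1 : ℤ)).hom.app L, ?_⟩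
  refine isomorphic_distinguished _ (R.map_distinguished _ hT) _
    (Triangle.isoMk _ _ (Iso.refl _) e.symm e.symm ?_ ?_ ?_)
  · exact h2.trans (Category.id_comp _).symm
  · exact h3
  · refine (congrArg ((e.inv ≫ R.map c ≫ (R.commShiftIso (1 : ℤ)).hom.app L) ≫ ·)
      ((shiftFunctor D' (1 : ℤ)).map_id _)).trans (Category.comp_id _)

end Map

end Groth.Agent.PerfA.Milnor
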