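import Groth.Agent.PerfA.QCohExt
import Groth.Agent.Smoothlim.TildePull
import Mathlib.RingTheory.SimpleModule.InjectiveProjective
import Mathlib.Algebra.Category.ModuleCat.Injective
import Mathlib.Algebra.Homology.HomotopyCategory.KInjective

/-!
# Modules on the spectrum of a field; pushforward of `M~` along maps of affine schemes
-/

set_option autoImplicit false
universe u
open CategoryTheory CategoryTheory.Limits AlgebraicGeometry TopologicalSpace Opposite

namespace Groth.Agent.PerfA.PointMod
open AlgebraicGeometry.Scheme.Modules Groth.Agent.PerfA.QCohSerre Groth.Agent.PerfA.QCohExt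

/-- `(res M)~ ≅ φ_* (M~)`. -/
noncomputable def tildePushIso {R S : CommRingCat.{u}} (φ : R ⟶ S) :
    tilde.functor S ⋙ Scheme.Modules.pushforward (Spec.map φ) ≅
      ModuleCat.restrictScalars φ.hom ⋙ tilde.functor R :=
  have h : IsIso (Functor.whiskerLeft (tilde.functor S ⋙ Scheme.Modules.pushforward (Spec.map φ))
      (counitΓ R)) := by
    rw [NatTrans.isIso_iff_isIso_app]
    intro V
    have : IsIso (tilde V).fromTildeΓ := (isIso_fromTildeΓ_iff).2 ⟨V, ⟨Iso.refl _⟩⟩
    exact isIso_fromTildeΓ_pushforward φ (tilde V)
  (asIso (Functor.whiskerLeft (tilde.functor S ⋙ Scheme.Modules.pushforward (Spec.map φ))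
      (counitΓ R))).symm ≪≫
    Functor.associator _ _ _ ≪≫
    Functor.isoWhiskerLeft (tilde.functor S) ((Functor.associator _ _ _).symm ≪≫
      Functor.isoWhiskerRight (Smoothlim.TildePull.pushΓIso φ) (tilde.functor R) ≪≫
      Functor.associator _ _ _) ≪≫
    (Functor.associator _ _ _).symm ≪≫
    Functor.isoWhiskerRight (asIso (tilde.adjunction (R := S)).unit).symm _ ≪≫
    Functor.leftUnitor _

instance isIso_Γ_counit (R : CommRingCat.{u}) (M : (Spec R).Modules) :
    IsIso ((ΓF R).map ((counitΓ R).app M)) := by
  have h := (tilde.adjunction (R := R)).right_triangle_components M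
  have : IsIso ((tilde.adjunction (R := R)).unit.app ((ΓF R).obj M)) :=
    NatIso.isIso_app_of_isIso (tilde.adjunction (R := R)).unit _
  exact IsIso.of_isIso_fac_left h

variable (κ : Type u) [Field κ]

omit [Field κ] in
theorem isZero_sections_bot {X : Scheme.{u}} (M : X.Modules) :
    IsZero (M.presheaf.obj (op (⊥ : X.Opens))) := by
  have hT : IsTerminal (M.presheaf.obj (op (⊥ : X.Opens))) :=
    TopCat.Sheaf.isTerminalOfEmpty (X := X) (⟨M.presheaf, M.isSheaf⟩ : TopCat.Sheaf Ab.{u} X)
  exact hT.isZero

theorem isQCoh_of_field (M : (Spec (CommRingCat.of κ)).Modules) : Coh.IsQCoh M := by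
  rw [← isIso_counitΓ_iff]
  have h1 := isIso_Γ_counit (CommRingCat.of κ) M
  rw [Hom.isIso_iff_isIso_app]
  intro U
  by_cases hU : U = ⊥
  · subst hU
    exact isIso_of_source_target_iso_zero _ (isZero_sections_bot _).isoZero
      (isZero_sections_bot _).isoZero
  · obtain rfl : U = ⊤ := by
      obtain ⟨x, hx⟩ := (Opens.ne_bot_iff_nonempty U).1 hU
      rw [eq_top_iff]
      intro y _
      have : Subsingleton (Spec (CommRingCat.of κ)) :=
        inferInstanceAs (Subsingleton (PrimeSpectrum κ))
      rwa [Subsingleton.elim y x]
    rw [ConcreteCategory.isIso_iff_bijective]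
    exact (ConcreteCategory.isIso_iff_bijective ((ΓF (CommRingCat.of κ)).map
      ((counitΓ (CommRingCat.of κ)).app M))).1 h1

instance essSurj_tilde : (tilde.functor (CommRingCat.of κ)).EssSurj where
  mem_essImage M := (spec_iff _ M).1 (isQCoh_of_field κ M)

instance full_tilde : (tilde.functor (CommRingCat.of κ)).Full :=
  (tilde.fullyFaithfulFunctor (R := CommRingCat.of κ)).full

instance faithful_tilde : (tilde.functor (CommRingCat.of κ)).Faithful :=
  (tilde.fullyFaithfulFunctor (R := CommRingCat.of κ)).faithful

instance isEquivalence_tilde : (tilde.functor (CommRingCat.of κ)).IsEquivalence where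

theorem injective_moduleCat (V : ModuleCat.{u} κ) : Injective V := by
  have : Module.Injective κ V := Module.injective_of_isSemisimpleRing κ V
  exact Module.injective_object_of_injective_module κ V

theorem injective_of_field (M : (Spec (CommRingCat.of κ)).Modules) : Injective M := by
  let e := (tilde.functor (CommRingCat.of κ)).asEquivalence
  have h2 : Injective (e.functor.obj (e.inverse.obj M)) :=
    (e.map_injective_iff _).2 (injective_moduleCat κ _)
  exact Injective.of_iso (e.counitIso.app M) h2

omit [Field κ] in
/-- An injective object placed in one degree is a K-injective complex. -/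
theorem isKInjective_single_of_injective {C : Type*} [Category* C] [Abelian C] (I : C)
    (hI : Injective I) (n : ℤ) :
    CochainComplex.IsKInjective ((CochainComplex.singleFunctor C n).obj I) := by
  have : ∀ i, Injective (((CochainComplex.singleFunctor C n).obj I).X i) := fun i => by
    by_cases h : i = n
    · subst h
      exact Injective.of_iso (HomologicalComplex.singleObjXSelf (ComplexShape.up ℤ) i I).symm hI
    · exact (HomologicalComplex.isZero_single_obj_X (ComplexShape.up ℤ) n I i h).injective
  exact CochainComplex.isKInjective_of_injective _ n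

/-- Complexes of modules concentrated in one degree over the spectrum of a field are K-injective. -/
theorem isKInjective_single (M : (Spec (CommRingCat.of κ)).Modules) (n : ℤ) :
    CochainComplex.IsKInjective ((CochainComplex.singleFunctor _ n).obj M) :=
  isKInjective_single_of_injective M (injective_of_field κ M) n

end Groth.Agent.PerfA.PointMod
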