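import Groth.Agent.PerfA.FieldSch
import Groth.Agent.LoccohB.HomBC2
import Mathlib.Algebra.Category.ModuleCat.Injective

/-!
# Morphisms from residue fields of closed points into `f^! O`, `f` proper over a field
-/

set_option autoImplicit false
universe u
open CategoryTheory CategoryTheory.Limits AlgebraicGeometry TopologicalSpace Opposite

namespace Groth.Agent.PerfA.PointVan
open AlgebraicGeometry.Scheme.Modules Groth.Agent.PerfA.PointHom Groth.Agent.PerfA.Restrict
  Groth.Agent.PerfA.FieldSch DerivedCategory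

attribute [local instance] HasDerivedCategory.standard

/-- Hom in the derived category of a field. -/
theorem subsingleton_hom_field (k : Type u) [Field k] (V : Type u) [AddCommGroup V] [Module k V]
    (i : ℤ) (hi : i ≠ 0) : Subsingleton (Dual.inD k V ⟶ (Dual.inD k k)⟦i⟧) := by
  rcases lt_or_gt_of_ne hi with h | h
  · exact Localalg.DGor.subsingleton_hom_neg k V k i h
  · obtain ⟨m, rfl⟩ := Int.eq_ofNat_of_zero_le (show 0 ≤ i by omega)
    rw [Localalg.DGor.subsingleton_hom_iff]
    have h1 : Module.Injective k k := Module.injective_of_isSemisimpleRing k k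
    have h2 : Injective (ModuleCat.of k k) := Module.injective_object_of_injective_module k k
    exact HasInjectiveDimensionLT.subsingleton (ModuleCat.of k k) 1 m (by omega) _

/-- The same for modules in degree `m`. -/
theorem subsingleton_hom_single (k : Type u) [Field k] (V : ModuleCat.{u} k) (i : ℤ) (hi : i ≠ 0) :
    Subsingleton ((singleFunctor (ModuleCat.{u} k) i).obj V ⟶ Dual.inD k k) := by
  have := subsingleton_hom_field k V i hi
  exact (LoccohB.HomBC.sgEquiv i V (Dual.inD k k)).toEquiv.subsingleton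

/-- The range of a morphism from the spectrum of a field. -/
theorem range_eq_singleton {κ : Type u} [Field κ] {X : Scheme.{u}}
    (e : Spec (CommRingCat.of κ) ⟶ X) (y : Spec (CommRingCat.of κ)) : Set.range e = {e y} := by
  have hsub : Subsingleton (Spec (CommRingCat.of κ)) :=
    inferInstanceAs (Subsingleton (PrimeSpectrum κ))
  refine Set.eq_singleton_iff_unique_mem.2 ⟨⟨y, rfl⟩, ?_⟩
  rintro _ ⟨z, rfl⟩
  rw [Subsingleton.elim z y]

section Main

variable (k : Type u) [Field k] {X : Scheme.{u}} (f : X ⟶ Spec (CommRingCat.of k))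
  [DCoh.HasRpush f]
  (h : ∀ K : DCoh.D X, DCoh.IsQCohD K → DCoh.IsQCohD ((DCoh.Rpush f).obj K))
  (a : DCoh.DQCoh (Spec (CommRingCat.of k)) ⥤ DCoh.DQCoh X)
  (adj : (ObjectProperty.lift DCoh.IsQCohD (ObjectProperty.ι DCoh.IsQCohD ⋙ DCoh.Rpush f)
    (fun K => h K.obj K.property)) ⊣ a)
  (O : DCoh.DQCoh (Spec (CommRingCat.of k)))
  (hO : Nonempty (O.obj ≅ DCoh.inD (Spec (CommRingCat.of k))
    (Coh.structureModule (Spec (CommRingCat.of k)))))

include adj hO

/-- Vanishing of `Hom(V[-i], ω')` for a `κ`-vector space `V`, where `Spec κ ⟶ Spec A ⊆ X` is a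
closed point. -/
theorem subsingleton_point {κ : Type u} [Field κ] {A : Type u} [CommRing A]
    (j : Spec (CommRingCat.of A) ⟶ X) [IsOpenImmersion j]
    (ω' : Dual.D A)
    (e' : (restrictD j).obj (a.obj O).obj ≅ (DCoh.tildeD (CommRingCat.of A)).obj ω')
    (φ : CommRingCat.of A ⟶ CommRingCat.of κ) (hc : IsClosed (Set.range (Spec.map φ ≫ j)))
    (V : ModuleCat.{u} κ) (i : ℤ) (hi : i ≠ 0) :
    Subsingleton ((resSingle φ i).obj V ⟶ ω') := by
  obtain ⟨eO⟩ := hO
  let ψ : CommRingCat.of k ⟶ CommRingCat.of κ := Spec.preimage ((Spec.map φ ≫ j) ≫ f)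
  have hψ : Spec.map ψ = (Spec.map φ ≫ j) ≫ f := Spec.map_preimage _
  have hc' : IsClosed (Set.range (Spec.map ψ ≫ 𝟙 (Spec (CommRingCat.of k)))) := by
    have : Subsingleton (Spec (CommRingCat.of k)) :=
      inferInstanceAs (Subsingleton (PrimeSpectrum k))
    have h0 : Nonempty (Spec (CommRingCat.of κ)) :=
      inferInstanceAs (Nonempty (PrimeSpectrum κ))
    obtain ⟨y⟩ := h0
    have : Set.range (Spec.map ψ ≫ 𝟙 (Spec (CommRingCat.of k))) = Set.univ := by
      refine Set.eq_univ_of_forall fun z => ⟨y, Subsingleton.elim _ _⟩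
    rw [this]
    exact isClosed_univ
  let e : (restrictD (𝟙 (Spec (CommRingCat.of k)))).obj O.obj ≅
      (DCoh.tildeD (CommRingCat.of k)).obj (Dual.inD k k) :=
    (restrictD _).mapIso eO ≪≫ restrictStructureIso k (𝟙 _)
  have n := natHomPoint f h a adj j (𝟙 _) φ ψ (by rw [hψ, Category.comp_id]) hc hc' O
    (Dual.inD k k) ω' e e' i
  have hs : Subsingleton ((resSingle ψ i).obj V ⟶ Dual.inD k k) :=
    subsingleton_hom_single k _ i hi
  exact (n.subsingleton_iff V).2 hs

/-- Vanishing of `Ext^i(A/m, ω')` for `i ≠ 0`, `m` a maximal ideal of `A` corresponding to a closed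
point of `X`. -/
theorem subsingleton_quot {A : Type u} [CommRing A]
    (j : Spec (CommRingCat.of A) ⟶ X) [IsOpenImmersion j]
    (ω' : Dual.D A)
    (e' : (restrictD j).obj (a.obj O).obj ≅ (DCoh.tildeD (CommRingCat.of A)).obj ω')
    (m : Ideal A) [m.IsMaximal] (y : Spec (CommRingCat.of A)) (hy : y.asIdeal = m)
    (hc : IsClosed ({j y} : Set X)) (i : ℤ) (hi : i ≠ 0) :
    Subsingleton (Dual.inD A (A ⧸ m) ⟶ ω'⟦i⟧) := by
  let _ : Field (A ⧸ m) := Ideal.Quotient.field m
  let φ : CommRingCat.of A ⟶ CommRingCat.of (A ⧸ m) := CommRingCat.ofHom (Ideal.Quotient.mk m)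
  have h0 : Nonempty (Spec (CommRingCat.of (A ⧸ m))) :=
    inferInstanceAs (Nonempty (PrimeSpectrum (A ⧸ m)))
  obtain ⟨y0⟩ := h0
  have hy0 : Spec.map φ y0 = y := by
    apply PrimeSpectrum.ext
    have h1 : y0.asIdeal = ⊥ := by
      rcases Ideal.eq_bot_or_top y0.asIdeal with h | h
      · exact h
      · exact absurd h y0.isPrime.ne_top
    change Ideal.comap (Ideal.Quotient.mk m) y0.asIdeal = y.asIdeal
    rw [h1, hy, ← RingHom.ker_eq_comap_bot, Ideal.mk_ker]
  have hr : Set.range (Spec.map φ ≫ j) = {j y} := by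
    rw [range_eq_singleton (Spec.map φ ≫ j) y0, ← hy0]
    rfl
  have hs := subsingleton_point k f h a adj O hO j ω' e' φ (by rw [hr]; exact hc)
    (ModuleCat.of (A ⧸ m) (A ⧸ m)) i hi
  let el : (ModuleCat.restrictScalars.{u} φ.hom).obj (ModuleCat.of (A ⧸ m) (A ⧸ m)) ≃ₗ[A]
      (A ⧸ m) :=
    { toFun := fun x => x
      invFun := fun x => x
      map_add' := fun _ _ => rfl
      map_smul' := fun r x => by
        obtain ⟨x, rfl⟩ := Ideal.Quotient.mk_surjective x
        rfl
      left_inv := fun _ => rfl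
      right_inv := fun _ => rfl }
  let ei : (ModuleCat.restrictScalars.{u} φ.hom).obj (ModuleCat.of (A ⧸ m) (A ⧸ m)) ≅
      ModuleCat.of A (A ⧸ m) := el.toModuleIso
  have hs' : Subsingleton ((singleFunctor (ModuleCat.{u} A) i).obj (ModuleCat.of A (A ⧸ m)) ⟶ ω') :=
    (((singleFunctor (ModuleCat.{u} A) i).mapIso ei).homCongr (Iso.refl ω')).subsingleton_congr.1 hs
  exact (LoccohB.HomBC.sgEquiv i (ModuleCat.of A (A ⧸ m)) ω').symm.toEquiv.subsingleton

end Main

end Groth.Agent.PerfA.PointVan
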