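import Groth.Agent.PerfA.PostAbs
import Mathlib.CategoryTheory.Limits.Shapes.Products
import Mathlib.CategoryTheory.Triangulated.Pretriangulated

/-!
# Postnikov towers: the derived limit of the canonical truncations

For `C` abelian and `K : DerivedCategory C`, `E K n = τ_{≥ -n} K`.

* `milnor_unique`, `milnor_exists`: maps into a derived limit of a tower.
* `isIso_of_rlim` / `rlim_triangle`: if a detecting class `P` of objects `G` satisfies
  `Hom(S_m G, S_q (H^q K)) = 0` for `q < m`, then `K` is the derived limit of its truncations.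
* `hom_eq_zero_of_rlim`: for such `K` bounded above and any `X` with `Hom(X, S_q (H^q K)) = 0` for all
  `q`, `Hom(X, K) = 0`.
-/

set_option autoImplicit false

universe w v u

open CategoryTheory Category Limits Pretriangulated Triangulated DerivedCategory

namespace Groth.Agent.PerfA.PostTower

open PostAbs

section Milnor

variable {D : Type*} [Category D] [Preadditive D] [HasZeroObject D] [HasShift D ℤ]
  [∀ n : ℤ, (shiftFunctor D n).Additive] [Pretriangulated D]

variable {E : ℕ → D} (τ : ∀ n, E (n + 1) ⟶ E n) [HasProduct E]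

/-- `1 - shift` on the product of a tower. -/
noncomputable abbrev oneSub : ∏ᶜ E ⟶ ∏ᶜ E :=
  Pi.lift fun n : ℕ => Pi.π E n - Pi.π E (n + 1) ≫ τ n

lemma milnor_exists {L : D} (p : L ⟶ ∏ᶜ E) (c : ∏ᶜ E ⟶ L⟦(1 : ℤ)⟧)
    (hT : Triangle.mk p (oneSub τ) c ∈ distTriang D) (X : D)
    (x : ∀ n, X ⟶ E n) (hx : ∀ n, x (n + 1) ≫ τ n = x n) :
    ∃ y : X ⟶ L, ∀ n, y ≫ p ≫ Pi.π E n = x n := by
  have h : (Pi.lift x : X ⟶ ∏ᶜ E) ≫ oneSub τ = 0 := by
    apply Pi.hom_ext
    intro n
    simp [hx]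
  obtain ⟨y, hy⟩ := Triangle.coyoneda_exact₂ _ hT (Pi.lift x) h
  refine ⟨y, fun n => ?_⟩
  have := congr_arg (fun t => t ≫ Pi.π E n) hy
  simp only [Pi.lift_π] at this
  rw [this]
  exact (assoc _ _ _).symm

lemma milnor_unique {L : D} (p : L ⟶ ∏ᶜ E) (c : ∏ᶜ E ⟶ L⟦(1 : ℤ)⟧)
    (hT : Triangle.mk p (oneSub τ) c ∈ distTriang D) (X : D)
    (hX : ∀ n (y : X⟦(1 : ℤ)⟧ ⟶ E n), ∃ z : X⟦(1 : ℤ)⟧ ⟶ E (n + 1), z ≫ τ n = y)
    (x : X ⟶ L) (hx : ∀ n, x ≫ p ≫ Pi.π E n = 0) : x = 0 := by
  have h0 : x ≫ p = 0 := by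
    apply Pi.hom_ext
    intro n
    simpa using hx n
  have h1 : x⟦(1 : ℤ)⟧' ≫ p⟦(1 : ℤ)⟧' = 0 := by
    rw [← Functor.map_comp, h0, Functor.map_zero]
  obtain ⟨g, hg⟩ : ∃ g : X⟦(1 : ℤ)⟧ ⟶ ∏ᶜ E, x⟦(1 : ℤ)⟧' = g ≫ c :=
    Triangle.coyoneda_exact₁ _ hT (x⟦(1 : ℤ)⟧') h1
  -- solve `z n - z (n+1) ≫ τ n = g n`
  choose s hs using hX
  let z : ∀ n : ℕ, X⟦(1 : ℤ)⟧ ⟶ E n := fun n =>
    Nat.rec (motive := fun n => X⟦(1 : ℤ)⟧ ⟶ E n) 0 (fun n zn => s n (zn - g ≫ Pi.π E n)) n
  have hz : ∀ n, z n - z (n + 1) ≫ τ n = g ≫ Pi.π E n := by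
    intro n
    have : z (n + 1) ≫ τ n = z n - g ≫ Pi.π E n := hs n (z n - g ≫ Pi.π E n)
    rw [this]
    abel
  have hgz : (Pi.lift z : X⟦(1 : ℤ)⟧ ⟶ ∏ᶜ E) ≫ oneSub τ = g := by
    apply Pi.hom_ext
    intro n
    simp only [assoc, Pi.lift_π, Preadditive.comp_sub, Pi.lift_π_assoc]
    exact hz n
  have hdc : oneSub τ ≫ c = 0 := comp_distTriang_mor_zero₂₃ _ hT
  have h2 : x⟦(1 : ℤ)⟧' = 0 := by
    rw [hg, ← hgz, assoc, hdc, comp_zero]
  exact (shiftFunctor D (1 : ℤ)).map_injective (by rw [h2, Functor.map_zero])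

end Milnor

variable {C : Type u} [Category.{v} C] [Abelian C] [HasDerivedCategory.{w} C]

/-- `τ_{≥ -n} K`. -/
noncomputable abbrev E (K : DerivedCategory C) (n : ℕ) : DerivedCategory C :=
  (tt.truncGE (-(n : ℤ))).obj K

/-- The canonical map `K ⟶ τ_{≥ -n} K`. -/
noncomputable abbrev toE (K : DerivedCategory C) (n : ℕ) : K ⟶ E K n :=
  (tt.truncGEπ (-(n : ℤ))).app K

/-- The transition map `τ_{≥ -(n+1)} K ⟶ τ_{≥ -n} K`. -/
noncomputable abbrev trans (K : DerivedCategory C) (n : ℕ) : E K (n + 1) ⟶ E K n :=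
  (tt.natTransTruncGEOfLE (-((n + 1 : ℕ) : ℤ)) (-(n : ℤ))
    (Int.neg_le_neg (Int.ofNat_le.mpr (Nat.le_succ n)))).app K

@[reassoc (attr := simp)]
lemma toE_trans (K : DerivedCategory C) (n : ℕ) : toE K (n + 1) ≫ trans K n = toE K n :=
  tt.π_natTransTruncGEOfLE_app _ _ _ _

lemma isIso_homology_trans (K : DerivedCategory C) (n : ℕ) (q : ℤ) (h : -(n : ℤ) ≤ q) :
    IsIso ((homologyFunctor C q).map (trans K n)) := by
  have h1 := isIso_homology_truncGEπ K (-(n : ℤ)) q h
  have h2 := isIso_homology_truncGEπ K (-((n + 1 : ℕ) : ℤ)) q (by push_cast; lia)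
  have h3 : (homologyFunctor C q).map (toE K (n + 1)) ≫ (homologyFunctor C q).map (trans K n) =
      (homologyFunctor C q).map (toE K n) := by
    rw [← Functor.map_comp, toE_trans]
  have : IsIso ((homologyFunctor C q).map (toE K (n + 1)) ≫
      (homologyFunctor C q).map (trans K n)) := by
    rw [h3]; exact h1
  exact IsIso.of_isIso_comp_left ((homologyFunctor C q).map (toE K (n + 1))) _

lemma isZero_homology_obj₁ (T : Triangle (DerivedCategory C)) (hT : T ∈ distTriang _) (q₀ q : ℤ)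
    (hq : q₀ + 1 = q)
    (h1 : Epi ((homologyFunctor C q₀).map T.mor₂)) (h2 : Mono ((homologyFunctor C q).map T.mor₂)) :
    IsZero ((homologyFunctor C q).obj T.obj₁) := by
  have hδ := (HomologySequence.epi_homologyMap_mor₂_iff T hT q₀ q hq).1 h1
  have hm := (HomologySequence.mono_homologyMap_mor₁_iff T hT q₀ q hq).2 hδ
  have h0 := (HomologySequence.mono_homologyMap_mor₂_iff T hT q).1 h2
  rw [IsZero.iff_id_eq_zero, ← cancel_mono ((homologyFunctor C q).map T.mor₁), h0, comp_zero,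
    zero_comp]

/-- Surjectivity of the transition maps on `Hom(X⟦1⟧, -)`. -/
lemma trans_lift (X K : DerivedCategory C) (k : ℕ)
    (h : ∀ φ : X ⟶ (singleFunctor C (-((k + 1 : ℕ) : ℤ))).obj
      ((homologyFunctor C (-((k + 1 : ℕ) : ℤ))).obj K), φ = 0)
    (y : X⟦(1 : ℤ)⟧ ⟶ E K k) : ∃ z : X⟦(1 : ℤ)⟧ ⟶ E K (k + 1), z ≫ trans K k = y := by
  obtain ⟨F, f, g, hT⟩ := distinguished_cocone_triangle₁ (trans K k)
  set r : ℤ := -((k + 1 : ℕ) : ℤ) with hr
  have hr' : r = -(k : ℤ) - 1 := by rw [hr]; push_cast; ring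
  have hFLE : F.IsLE r := by
    rw [isLE_iff]
    intro i hi
    refine isZero_homology_obj₁ _ hT (i - 1) i (by lia) ?_ ?_
    · change Epi ((homologyFunctor C (i - 1)).map (trans K k))
      by_cases h1 : -(k : ℤ) ≤ i - 1
      · have := isIso_homology_trans K k (i - 1) h1
        infer_instance
      · have hz : IsZero ((homologyFunctor C (i - 1)).obj (E K k)) :=
          isZero_of_isGE _ (-(k : ℤ)) _ (by lia)
        exact ⟨fun _ _ _ => hz.eq_of_src _ _⟩
    · change Mono ((homologyFunctor C i).map (trans K k))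
      have := isIso_homology_trans K k i (by lia)
      infer_instance
  have hFGE : F.IsGE r := by
    rw [isGE_iff]
    intro i hi
    refine isZero_homology_obj₁ _ hT (i - 1) i (by lia) ?_ ?_
    · have hz : IsZero ((homologyFunctor C (i - 1)).obj (E K k)) :=
        isZero_of_isGE _ (-(k : ℤ)) _ (by lia)
      exact ⟨fun _ _ _ => hz.eq_of_src _ _⟩
    · have hz : IsZero ((homologyFunctor C i).obj (E K (k + 1))) :=
        isZero_of_isGE _ (-((k + 1 : ℕ) : ℤ)) _ (by lia)
      exact ⟨fun _ _ _ => hz.eq_of_tgt _ _⟩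
  obtain ⟨Y, ⟨e⟩⟩ := exists_iso_singleFunctor_obj_of_isGE_of_isLE F r
  -- the homology of `F` in degree `r`
  have hmono : Mono ((homologyFunctor C r).map f) := by
    refine (HomologySequence.mono_homologyMap_mor₁_iff _ hT (r - 1) r (by lia)).2 ?_
    have hz : IsZero ((homologyFunctor C (r - 1)).obj (E K k)) :=
      isZero_of_isGE _ (-(k : ℤ)) _ (by lia)
    exact hz.eq_of_src _ _
  have hepi : Epi ((homologyFunctor C r).map f) := by
    refine (HomologySequence.epi_homologyMap_mor₁_iff _ hT r).2 ?_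
    have hz : IsZero ((homologyFunctor C r).obj (E K k)) :=
      isZero_of_isGE _ (-(k : ℤ)) _ (by lia)
    exact hz.eq_of_tgt _ _
  have hiso : IsIso ((homologyFunctor C r).map f) := isIso_of_mono_of_epi _
  have hiso' : IsIso ((homologyFunctor C r).map (toE K (k + 1))) :=
    isIso_homology_truncGEπ K (-((k + 1 : ℕ) : ℤ)) r le_rfl
  let e' : Y ≅ (homologyFunctor C r).obj K :=
    (singleFunctorCompHomologyFunctorIso C r).symm.app Y ≪≫
      (homologyFunctor C r).mapIso e.symm ≪≫ asIso ((homologyFunctor C r).map f) ≪≫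
        (asIso ((homologyFunctor C r).map (toE K (k + 1)))).symm
  have hXF : ∀ ψ : X ⟶ F, ψ = 0 := by
    intro ψ
    have h0 := h (ψ ≫ e.hom ≫ (singleFunctor C r).map e'.hom)
    rw [← cancel_mono (e.hom ≫ (singleFunctor C r).map e'.hom), h0, zero_comp]
  obtain ⟨ψ, hψ⟩ := (shiftFunctor (DerivedCategory C) (1 : ℤ)).map_surjective (y ≫ g)
  have hyg : y ≫ g = 0 := by
    rw [← hψ, hXF ψ, Functor.map_zero]
  obtain ⟨z, hz⟩ := Triangle.coyoneda_exact₃ _ hT y hyg
  exact ⟨z, hz.symm⟩

/-- The vanishing hypothesis: `Hom(S_m G, S_q (H^q K)) = 0` for `q < m` and `G` in the class `P`. -/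
def Van (P : ObjectProperty C) (K : DerivedCategory C) : Prop :=
  ∀ (G : C), P G → ∀ (m q : ℤ), q < m →
    ∀ φ : (singleFunctor C m).obj G ⟶ (singleFunctor C q).obj ((homologyFunctor C q).obj K), φ = 0

lemma Van.trans_lift {P : ObjectProperty C} {K : DerivedCategory C} (hK : Van P K) {G : C}
    (hG : P G) (m : ℤ) (k : ℕ) (y : ((singleFunctor C m).obj G)⟦(1 : ℤ)⟧ ⟶ E K k) :
    ∃ z : ((singleFunctor C m).obj G)⟦(1 : ℤ)⟧ ⟶ E K (k + 1), z ≫ trans K k = y := by
  by_cases hm : (-((k + 1 : ℕ) : ℤ)) < m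
  · exact PostTower.trans_lift _ K k (hK G hG m _ hm) y
  · have h1 : (((singleFunctor C m).obj G)⟦(1 : ℤ)⟧).IsLE (m - 1) :=
      TStructure.t.isLE_shift _ m 1 (m - 1) (by lia)
    have h0 : y = 0 := TStructure.t.zero y (m - 1) (-(k : ℤ)) (by push_cast at hm; lia)
    exact ⟨0, by rw [h0, zero_comp]⟩

/-- For bounded below `K` with the vanishing hypothesis, a map `S_m G ⟶ K` is determined by
its effect on `H^m`. -/
lemma Van.eq_zero_of_bounded_below {P : ObjectProperty C} {K : DerivedCategory C}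
    (hK : Van P K) {G : C} (hG : P G) (m a : ℤ) [K.IsGE a] (φ : (singleFunctor C m).obj G ⟶ K)
    (hφ : (homologyFunctor C m).map φ = 0) : φ = 0 := by
  -- first kill the image in `τ_{≥ m} K`
  have h1 : φ ≫ (tt.truncGEπ m).app K = 0 := by
    have hT := tt.triangleLTGE_distinguished (m + 1) ((tt.truncGE m).obj K)
    set L := (tt.truncGE m).obj K with hL
    have hLm : (tt.truncLT (m + 1)).obj L = (tt.truncLT (m + 1)).obj L := rfl
    have h2 : (φ ≫ (tt.truncGEπ m).app K) ≫ (tt.truncGEπ (m + 1)).app L = 0 :=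
      TStructure.t.zero _ m (m + 1) (by lia)
    obtain ⟨ψ, hψ⟩ : ∃ ψ : (singleFunctor C m).obj G ⟶ (tt.truncLT (m + 1)).obj L,
        φ ≫ (tt.truncGEπ m).app K = ψ ≫ (tt.truncLTι (m + 1)).app L :=
      Triangle.coyoneda_exact₂ _ hT _ h2
    have hLE : ((tt.truncLT (m + 1)).obj L).IsLE m := inferInstance
    have hGE : ((tt.truncLT (m + 1)).obj L).IsGE m := by
      rw [isGE_iff]
      intro i hi
      have := isIso_homology_truncLTι L (m + 1) i (by lia)
      exact (isZero_of_isGE L m i hi).of_iso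
        (asIso ((homologyFunctor C i).map ((tt.truncLTι (m + 1)).app L)))
    obtain ⟨Y, ⟨e⟩⟩ := exists_iso_singleFunctor_obj_of_isGE_of_isLE
      ((tt.truncLT (m + 1)).obj L) m
    have hi := isIso_homology_truncLTι L (m + 1) m (by lia)
    have h3 : (homologyFunctor C m).map ψ = 0 := by
      rw [← cancel_mono ((homologyFunctor C m).map ((tt.truncLTι (m + 1)).app L)),
        ← Functor.map_comp, ← hψ, Functor.map_comp, hφ, zero_comp, zero_comp]
    have h4 : ψ ≫ e.hom = 0 := by
      obtain ⟨g, hg⟩ := (singleFunctor C m).map_surjective (ψ ≫ e.hom)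
      have h5 : (homologyFunctor C m).map ((singleFunctor C m).map g) = 0 := by
        rw [hg, Functor.map_comp, h3, zero_comp]
      have h6 := (singleFunctorCompHomologyFunctorIso C m).hom.naturality g
      dsimp at h6
      rw [h5, zero_comp] at h6
      have h7 : g = 0 := by
        rw [← cancel_epi ((singleFunctorCompHomologyFunctorIso C m).hom.app G), ← h6, comp_zero]
      rw [← hg, h7, Functor.map_zero]
    have h8 : ψ = 0 := by rw [← cancel_mono e.hom, h4, zero_comp]
    rw [hψ, h8, zero_comp]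
  obtain ⟨ψ, hψ⟩ : ∃ ψ : (singleFunctor C m).obj G ⟶ (tt.truncLT m).obj K,
      φ = ψ ≫ (tt.truncLTι m).app K :=
    Triangle.coyoneda_exact₂ _ (tt.triangleLTGE_distinguished m K) _ h1
  have h2 : ψ = 0 := by
    have hGE : ((tt.truncLT m).obj K).IsGE a := by
      rw [isGE_iff]
      intro i hi
      by_cases him : i < m
      · have := isIso_homology_truncLTι K m i him
        exact (isZero_of_isGE K a i hi).of_iso
          (asIso ((homologyFunctor C i).map ((tt.truncLTι m).app K)))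
      · exact isZero_of_isLE _ (m - 1) i (by lia)
    refine hom_eq_zero_of_bounded _ (m - a).toNat a (m - 1) (by lia)
      ((tt.truncLT m).obj K) hGE inferInstance ?_ ψ
    intro q χ
    by_cases hq : q < m
    · have := isIso_homology_truncLTι K m q hq
      let e := (singleFunctor C q).mapIso (asIso ((homologyFunctor C q).map
        ((tt.truncLTι m).app K)))
      have h0 := hK G hG m q hq (χ ≫ e.hom)
      rw [← cancel_mono e.hom, h0, zero_comp]
    · have hz : IsZero ((homologyFunctor C q).obj ((tt.truncLT m).obj K)) :=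
        isZero_of_isLE _ (m - 1) q (by lia)
      exact ((singleFunctor C q).map_isZero hz).eq_of_tgt _ _
  rw [hψ, h2, zero_comp]

lemma Van.truncGE {P : ObjectProperty C} {K : DerivedCategory C} (hK : Van P K) (a : ℤ) :
    Van P ((tt.truncGE a).obj K) := by
  intro G hG m q hq φ
  by_cases h : a ≤ q
  · have := isIso_homology_truncGEπ K a q h
    let e := (singleFunctor C q).mapIso (asIso ((homologyFunctor C q).map
      ((tt.truncGEπ a).app K)))
    have h0 := hK G hG m q hq (φ ≫ e.inv)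
    rw [← cancel_mono e.inv, h0, zero_comp]
  · have hz : IsZero ((homologyFunctor C q).obj ((tt.truncGE a).obj K)) :=
      isZero_of_isGE _ a q (by lia)
    exact ((singleFunctor C q).map_isZero hz).eq_of_tgt _ _

/-- Key theorem: `K` is the derived limit of its truncations `τ_{≥ -n} K`. -/
theorem isIso_of_rlim {P : ObjectProperty C} (hP : Detects P) {K : DerivedCategory C}
    (hK : Van P K) [HasProduct (E K)] {L : DerivedCategory C} (p : L ⟶ ∏ᶜ E K)
    (c : ∏ᶜ E K ⟶ L⟦(1 : ℤ)⟧) (hT : Triangle.mk p (oneSub (trans K)) c ∈ distTriang _)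
    (e : K ⟶ L) (he : ∀ n, e ≫ p ≫ Pi.π (E K) n = toE K n) : IsIso e := by
  rw [isIso_iff]
  intro m
  -- compatibility of the projections
  have hp : ∀ n, p ≫ Pi.π (E K) (n + 1) ≫ trans K n = p ≫ Pi.π (E K) n := by
    intro n
    have h0 : p ≫ oneSub (trans K) = 0 := comp_distTriang_mor_zero₁₂ _ hT
    have h1 := congr_arg (fun t => t ≫ Pi.π (E K) n) h0
    simp only [assoc, Pi.lift_π, Preadditive.comp_sub, zero_comp] at h1
    exact (sub_eq_zero.1 h1).symm
  set n : ℕ := (-m).toNat with hn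
  have hnm : -(n : ℤ) ≤ m := by lia
  have hi1 : IsIso ((homologyFunctor C m).map (toE K n)) := isIso_homology_truncGEπ K _ m hnm
  have hfac : (homologyFunctor C m).map e ≫ (homologyFunctor C m).map (p ≫ Pi.π (E K) n) =
      (homologyFunctor C m).map (toE K n) := by
    rw [← Functor.map_comp, he]
  have hmono : Mono ((homologyFunctor C m).map (p ≫ Pi.π (E K) n)) := by
    by_contra hcon
    obtain ⟨G, hG, φ, hφ, hφ'⟩ := exists_single_of_not_mono hP (p ≫ Pi.π (E K) n) m hcon
    apply hφ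
    have key : ∀ k, φ ≫ p ≫ Pi.π (E K) (n + k) = 0 := by
      intro k
      have hkm : (homologyFunctor C m).map (φ ≫ p ≫ Pi.π (E K) (n + k)) = 0 := by
        induction k with
        | zero => exact hφ'
        | succ k ih =>
          have := isIso_homology_trans K (n + k) m (by push_cast; lia)
          rw [← cancel_mono ((homologyFunctor C m).map (trans K (n + k))), zero_comp,
            ← Functor.map_comp, assoc, assoc]
          have h3 : p ≫ Pi.π (E K) (n + (k + 1)) ≫ trans K (n + k) = p ≫ Pi.π (E K) (n + k) :=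
            hp (n + k)
          rw [h3]
          exact ih
      exact (hK.truncGE _).eq_zero_of_bounded_below hG m (-((n + k : ℕ) : ℤ)) _ hkm
    have key' : ∀ k, φ ≫ p ≫ Pi.π (E K) k = 0 := by
      intro k
      by_cases hk : n ≤ k
      · obtain ⟨j, rfl⟩ := Nat.exists_eq_add_of_le hk
        exact key j
      · -- descend from `n`
        have hdesc : ∀ j i, i + j = n → φ ≫ p ≫ Pi.π (E K) i = 0 := by
          intro j
          induction j with
          | zero => intro i hi; obtain rfl : i = n := by lia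
                    exact key 0
          | succ j ih =>
            intro i hi
            have h4 := ih (i + 1) (by lia)
            rw [← hp i, ← assoc p, ← assoc φ, h4, zero_comp]
        exact hdesc (n - k) k (by lia)
    have hφ0 : φ = 0 := milnor_unique (trans K) p c hT _
      (fun k y => hK.trans_lift hG m k y) φ key'
    rw [hφ0, Functor.map_zero]
  have hepi : Epi ((homologyFunctor C m).map (p ≫ Pi.π (E K) n)) := by
    have : Epi ((homologyFunctor C m).map e ≫ (homologyFunctor C m).map (p ≫ Pi.π (E K) n)) := by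
      rw [hfac]; infer_instance
    exact epi_of_epi ((homologyFunctor C m).map e) _
  have hi2 : IsIso ((homologyFunctor C m).map (p ≫ Pi.π (E K) n)) := isIso_of_mono_of_epi _
  have : IsIso ((homologyFunctor C m).map e ≫ (homologyFunctor C m).map (p ≫ Pi.π (E K) n)) := by
    rw [hfac]; exact hi1
  exact IsIso.of_isIso_comp_right _ ((homologyFunctor C m).map (p ≫ Pi.π (E K) n))

/-- `K` is the derived limit of its truncations, in the form of a distinguished triangle. -/
theorem rlim_triangle {P : ObjectProperty C} (hP : Detects P) {K : DerivedCategory C}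
    (hK : Van P K) [HasProduct (E K)] :
    ∃ c : (∏ᶜ E K) ⟶ K⟦(1 : ℤ)⟧,
      Triangle.mk (Pi.lift (toE K)) (oneSub (trans K)) c ∈ distTriang _ := by
  obtain ⟨L, p, c, hT⟩ := distinguished_cocone_triangle₁ (oneSub (trans K))
  obtain ⟨e, he⟩ := milnor_exists (trans K) p c hT K (toE K) (fun n => toE_trans K n)
  have hiso := isIso_of_rlim hP hK p c hT e he
  refine ⟨c ≫ (inv e)⟦(1 : ℤ)⟧', ?_⟩
  refine isomorphic_distinguished _ hT _ ?_
  refine Triangle.isoMk _ _ (@asIso _ _ K L e hiso) (Iso.refl _) (Iso.refl _) ?_ ?_ ?_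
  · change (Pi.lift (toE K) : K ⟶ ∏ᶜ E K) ≫ 𝟙 (∏ᶜ E K) = e ≫ p
    rw [comp_id]
    apply Pi.hom_ext
    intro n
    rw [assoc, he n, Pi.lift_π]
  · change oneSub (trans K) ≫ 𝟙 (∏ᶜ E K) = 𝟙 (∏ᶜ E K) ≫ oneSub (trans K)
    rw [id_comp, comp_id]
  · change (c ≫ (inv e)⟦(1 : ℤ)⟧') ≫ e⟦(1 : ℤ)⟧' = 𝟙 (∏ᶜ E K) ≫ c
    rw [id_comp, assoc, ← Functor.map_comp, IsIso.inv_hom_id, CategoryTheory.Functor.map_id, comp_id]

end Groth.Agent.PerfA.PostTower
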