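import Groth.Agent.LoccohB.RightAdj
import Groth.Agent.PerfA.PostTower
import Groth.Agent.PerfA.QCohRes
import Groth.Agent.PerfA.Localizing
import Groth.Agent.PerfA.PerfLocal
import Mathlib.CategoryTheory.Monad.Limits

/-!
# Products and Milnor limits in `D_QCoh(O_X)`, localizing subcategories of `D_QCoh(O_X)`
-/

set_option autoImplicit false

universe u

open CategoryTheory CategoryTheory.Limits AlgebraicGeometry Pretriangulated

attribute [local instance] HasDerivedCategory.standard

namespace Groth.Agent.PerfA.QCLim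

open LoccohB.RightAdj LoccohB.DQCohTri CohtopA.BrownW PostTower

section

variable (X : Scheme.{u}) [CompactSpace X] [QuasiSeparatedSpace X]

/-- The inclusion `D_QCoh(O_X) ⥤ D(O_X)` has a right adjoint. -/
theorem isLeftAdjoint_ι : (ObjectProperty.ι (DCoh.IsQCohD (X := X))).IsLeftAdjoint := by
  obtain ⟨P, -, hP, hP'⟩ := exists_compact_generator X
  exact isLeftAdjoint (fun _ : PUnit.{u + 1} => P) (fun _ => hP) hP' (ObjectProperty.ι (DCoh.IsQCohD (X := X)))

/-- `D_QCoh(O_X)` has countable products. -/
theorem hasProductsOfShape_nat : HasProductsOfShape ℕ (DCoh.DQCoh X) := by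
  have := isLeftAdjoint_ι X
  let _ : Coreflective (ObjectProperty.ι (DCoh.IsQCohD (X := X))) :=
    { R := (ObjectProperty.ι (DCoh.IsQCohD (X := X))).rightAdjoint
      adj := Adjunction.ofIsLeftAdjoint _ }
  exact hasLimitsOfShape_of_coreflective (ObjectProperty.ι (DCoh.IsQCohD (X := X)))

/-- A triangulated subcategory of `D(O_X)` which contains all perfect objects and is closed under coproducts of objects of
`D_QCoh` contains `D_QCoh`. -/
theorem prop_of_isQCohD (L : ObjectProperty (DCoh.D X)) [L.IsTriangulated] [L.IsClosedUnderIsomorphisms]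
    (hL : ∀ (J : Type u) (K : J → DCoh.D X), (∀ j, DCoh.IsQCohD (K j)) → (∀ j, L (K j)) → L (∐ K))
    (hperf : ∀ P : DCoh.D X, DCoh.IsPerfect P → L P) (K : DCoh.D X) (hK : DCoh.IsQCohD K) : L K := by
  obtain ⟨P, hP, hP'⟩ := S1008.result X
  exact Localizing.prop_of_localizing (D := DCoh.D X) (DCoh.IsQCohD (X := X)) L
    (fun J K hK => S1040.result X K hK) hL (fun _ : PUnit.{u + 1} => P)
    (fun _ => (S1003.result X P (LoccohB.PerfQCoh.isQCohD_of_isPerfect hP)).2 hP)
    (fun _ => LoccohB.PerfQCoh.isQCohD_of_isPerfect hP) (fun _ => hperf P hP)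
    (fun E hE h => (hP' E hE).2 (fun n φ => h PUnit.unit n φ)) K hK

end

end Groth.Agent.PerfA.QCLim
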