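import Mathlib.CategoryTheory.Triangulated.Subcategory
import Mathlib.CategoryTheory.Triangulated.Functor

/-!
# Roofs: extending a morphism after localization (abstract version)
-/

set_option autoImplicit false

universe v₁ v₂ v₃ u₁ u₂ u₃

open CategoryTheory CategoryTheory.Limits CategoryTheory.Pretriangulated

set_option linter.unusedSectionVars false

namespace Groth.Agent.PerfA.RoofAbs

section

variable {D₁ : Type u₁} [Category.{v₁} D₁] [Preadditive D₁] [HasZeroObject D₁]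
  [HasShift D₁ ℤ] [∀ n : ℤ, (shiftFunctor D₁ n).Additive] [Pretriangulated D₁]
  {D₂ : Type u₂} [Category.{v₂} D₂] [Preadditive D₂] [HasZeroObject D₂]
  [HasShift D₂ ℤ] [∀ n : ℤ, (shiftFunctor D₂ n).Additive] [Pretriangulated D₂]
  {D₃ : Type u₃} [Category.{v₃} D₃] [Preadditive D₃] [HasZeroObject D₃]
  [HasShift D₃ ℤ] [∀ n : ℤ, (shiftFunctor D₃ n).Additive] [Pretriangulated D₃]

instance inverseImage_isTriangulatedClosed₂ (T : D₁ ⥤ D₂) [T.CommShift ℤ] [T.IsTriangulated]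
    (𝒯 : ObjectProperty D₂) [𝒯.IsTriangulatedClosed₂] [𝒯.IsClosedUnderIsomorphisms] :
    (𝒯.inverseImage T).IsTriangulatedClosed₂ where
  ext₂' Δ hΔ h₁ h₃ := ObjectProperty.le_isoClosure _ _
    (𝒯.ext_of_isTriangulatedClosed₂ _ (T.map_distinguished Δ hΔ) h₁ h₃)

instance inverseImage_isTriangulated (T : D₁ ⥤ D₂) [T.CommShift ℤ] [T.IsTriangulated]
    (𝒯 : ObjectProperty D₂) [𝒯.IsTriangulated] [𝒯.IsClosedUnderIsomorphisms] :
    (𝒯.inverseImage T).IsTriangulated where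

/-- Extending a morphism defined after applying `L` to a roof. -/
theorem exists_roof (T : D₁ ⥤ D₂) [T.CommShift ℤ] [T.IsTriangulated] [T.Full]
    (L : D₂ ⥤ D₃) [L.CommShift ℤ] [L.IsTriangulated] {P M : D₁} {E E' J C : D₂}
    (eE : T.obj P ≅ E) (eC : T.obj M ≅ C) (η : E' ⟶ J) (c : J ⟶ C) (d : C ⟶ E'⟦(1 : ℤ)⟧)
    (hT : Triangle.mk η c d ∈ distTriang D₂) (hη : IsIso (L.map η))
    (hfac : ∀ φ : P ⟶ M, ∃ (Q : D₁) (a : P ⟶ Q) (b : Q ⟶ M), a ≫ b = φ ∧ IsZero (L.obj (T.obj Q)) ∧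
      ∀ 𝒯 : ObjectProperty D₁, 𝒯.IsTriangulated → 𝒯.IsClosedUnderIsomorphisms → 𝒯 P → 𝒯 Q)
    (α : L.obj E ⟶ L.obj E') (α' : E ⟶ J) (hα' : L.map α' = α ≫ L.map η) :
    ∃ (E₁ : D₂) (β : E₁ ⟶ E) (γ : E₁ ⟶ E'),
      (∀ 𝒯 : ObjectProperty D₂, 𝒯.IsTriangulated → 𝒯.IsClosedUnderIsomorphisms → 𝒯 E → 𝒯 E₁) ∧
      IsIso (L.map β) ∧ L.map β ≫ α = L.map γ := by
  obtain ⟨φ, hφ⟩ := T.map_surjective (eE.hom ≫ α' ≫ c ≫ eC.inv)
  obtain ⟨Q, a, b, hab, hQ, hthick⟩ := hfac φ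
  obtain ⟨E₁, β, w, hβ⟩ := distinguished_cocone_triangle₁ (eE.inv ≫ T.map a)
  have hβ0 : β ≫ (eE.inv ≫ T.map a) = 0 := comp_distTriang_mor_zero₁₂ _ hβ
  have h1 : (β ≫ α') ≫ c = 0 := by
    have h2 : α' ≫ c = (eE.inv ≫ T.map a) ≫ T.map b ≫ eC.hom := by
      rw [Category.assoc, ← T.map_comp_assoc, hab, hφ]
      simp
    rw [Category.assoc, h2, ← Category.assoc, hβ0, zero_comp]
  obtain ⟨γ, hγ⟩ := Triangle.coyoneda_exact₂ _ hT (β ≫ α') h1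
  change β ≫ α' = γ ≫ η at hγ
  have hLβ : IsIso (L.map β) := by
    have h3 := L.map_distinguished _ hβ
    have h4 : IsIso (L.mapTriangle.obj (Triangle.mk β (eE.inv ≫ T.map a) w)).mor₁ :=
      (Triangle.isZero₃_iff_isIso₁ _ h3).1 hQ
    exact h4
  refine ⟨E₁, β, γ, ?_, hLβ, ?_⟩
  · intro 𝒯 h𝒯 h𝒯' hE
    have h5 : (𝒯.inverseImage T) Q :=
      hthick (𝒯.inverseImage T) inferInstance inferInstance (𝒯.prop_of_iso eE.symm hE)
    exact 𝒯.ext_of_isTriangulatedClosed₁ _ hβ hE h5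
  · rw [← cancel_mono (L.map η), Category.assoc, ← hα', ← L.map_comp]
    exact (congrArg L.map hγ).trans (L.map_comp _ _)

end

end Groth.Agent.PerfA.RoofAbs
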