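import Groth.Agent.PerfA.AffModel
import Groth.Agent.PerfA.RoofAbs

/-!
# Extending morphisms from a quasi-compact open of an affine scheme (Stacks 08EH), from an adjunction
-/

set_option autoImplicit false
universe u
open CategoryTheory CategoryTheory.Limits CategoryTheory.Pretriangulated AlgebraicGeometry
attribute [local instance] HasDerivedCategory.standard

namespace Groth.Agent.PerfA.Roof
open AlgebraicGeometry.Scheme.Modules Groth.Agent.PerfA.Restrict Groth.Agent.PerfA.PerfLocal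
  Groth.Agent.PerfA.TildeSupp Groth.Agent.PerfB.TildeExact Groth.Agent.PerfA.AffModel

/-- Factorization: on an affine scheme, a morphism `P ⟶ M` (in `D(Γ(X, O))`) with `P` perfect and `M~|_U = 0`
factors through some `Q` in the triangulated closure of `P` with `Q~|_U = 0`. -/
theorem exists_factor_model (X : Scheme.{u}) [IsAffine X] (U : X.Opens) (hU : IsCompact (U : Set X))
    (P M : DerivedCategory (ModuleCat.{u} Γ(X, ⊤))) (hP : DRing.IsPerfect Γ(X, ⊤) P)
    (hM : IsZero ((restrictD U.ι).obj ((modelD X).obj M))) (φ : P ⟶ M) :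
    ∃ (Q : DerivedCategory (ModuleCat.{u} Γ(X, ⊤))) (a : P ⟶ Q) (b : Q ⟶ M), a ≫ b = φ ∧
      IsZero ((restrictD U.ι).obj ((modelD X).obj Q)) ∧
      ∀ 𝒯 : ObjectProperty (DerivedCategory (ModuleCat.{u} Γ(X, ⊤))), 𝒯.IsTriangulated →
        𝒯.IsClosedUnderIsomorphisms → 𝒯 P → 𝒯 Q := by
  obtain ⟨l, hl⟩ := exists_list_basicOpen X U hU
  rw [isZero_restrictD_modelD_iff_isTors X M U l hl] at hM
  obtain ⟨Q, a, b, hab, hQ, h𝒯⟩ := RingKill.exists_factor_of_isPerfect l P M hP hM φ
  exact ⟨Q, a, b, hab, (isZero_restrictD_modelD_iff_isTors X Q U l hl).2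
    fun f hf => RingKill.isTors_of_nilp (hQ f hf), h𝒯⟩

/-- Stacks 08EH from an adjunction `j^* ⊣ Rj_*` with invertible counit. The extension `E₁` lies in every
triangulated subcategory containing `E`. -/
theorem exists_roof_of_adjunction (X : Scheme.{u}) [IsAffine X] (U : X.Opens)
    (hU : IsCompact (U : Set X)) (hqc : (DCoh.IsQCohD (X := X)).IsTriangulated)
    (R : DCoh.D (U : Scheme.{u}) ⥤ DCoh.D X) (adj : restrictD U.ι ⊣ R) [IsIso adj.counit]
    (E E' : DCoh.D X) (hE : DCoh.IsPerfect E) (hEq : DCoh.IsQCohD E) (hE' : DCoh.IsQCohD E')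
    (hR : DCoh.IsQCohD (R.obj ((restrictD U.ι).obj E')))
    (α : (restrictD U.ι).obj E ⟶ (restrictD U.ι).obj E') :
    ∃ (E₁ : DCoh.D X) (β : E₁ ⟶ E) (γ : E₁ ⟶ E'),
      (∀ 𝒯 : ObjectProperty (DCoh.D X), 𝒯.IsTriangulated → 𝒯.IsClosedUnderIsomorphisms → 𝒯 E → 𝒯 E₁) ∧
      IsIso ((restrictD U.ι).map β) ∧ (restrictD U.ι).map β ≫ α = (restrictD U.ι).map γ := by
  let L := restrictD U.ι
  let η : E' ⟶ R.obj (L.obj E') := adj.unit.app E'
  have htri : L.map η ≫ adj.counit.app (L.obj E') = 𝟙 _ := adj.left_triangle_components E'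
  have hη : IsIso (L.map η) := by
    have : IsIso (L.map η ≫ adj.counit.app (L.obj E')) := by rw [htri]; infer_instance
    exact IsIso.of_isIso_comp_right (L.map η) (adj.counit.app (L.obj E'))
  obtain ⟨C, c, d, hT⟩ := distinguished_cocone_triangle η
  have hC : DCoh.IsQCohD C := by
    have : (DCoh.IsQCohD (X := X)).IsClosedUnderIsomorphisms := ⟨fun e h => isQCohD_of_iso e h⟩
    exact (DCoh.IsQCohD (X := X)).ext_of_isTriangulatedClosed₃ _ hT hE' hR
  obtain ⟨P, ⟨eP⟩⟩ := exists_iso_modelD X hEq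
  obtain ⟨M, ⟨eM⟩⟩ := exists_iso_modelD X hC
  have hP : DRing.IsPerfect Γ(X, ⊤) P :=
    (isPerfect_modelD_iff X P).1 (isPerfect_of_iso eP.symm hE)
  have hLC : IsZero (L.obj C) := by
    have h3 := L.map_distinguished _ hT
    exact (Triangle.isZero₃_iff_isIso₁ _ h3).2 hη
  have hM : IsZero ((restrictD U.ι).obj ((modelD X).obj M)) := hLC.of_iso (L.mapIso eM)
  have : (modelD X).IsTriangulated := inferInstance
  refine RoofAbs.exists_roof (modelD X) L eP eM η c d hT hη ?_ α (adj.homEquiv _ _ α) ?_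
  · intro φ
    exact exists_factor_model X U hU P M hP hM φ
  · have h5 : L.map (adj.homEquiv _ _ α) ≫ adj.counit.app (L.obj E') = α :=
      (adj.homEquiv_counit _ _ _).symm.trans ((adj.homEquiv _ _).symm_apply_apply α)
    rw [← cancel_mono (adj.counit.app (L.obj E')), h5, Category.assoc, htri, Category.comp_id]

end Groth.Agent.PerfA.Roof
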