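import Groth.Agent.PerfA.OpenPush
import Groth.Agent.PerfA.Roof
import Groth.Agent.PerfA.QCohD
import Groth.Agent.PerfA.PerfTri
import Groth.Agent.S0998

/-!
# Extending morphisms from a quasi-compact open of an affine scheme (Stacks 08EH)
-/

set_option autoImplicit false
universe u
open CategoryTheory CategoryTheory.Limits CategoryTheory.Pretriangulated AlgebraicGeometry
attribute [local instance] HasDerivedCategory.standard

namespace Groth.Agent.PerfA.RoofOpen
open AlgebraicGeometry.Scheme.Modules Groth.Agent.PerfA.Restrict Groth.Agent.PerfA.PerfLocal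

/-- `Rj_*j^*` preserves `D_QCoh` (`j` the inclusion of a quasi-compact open of an affine scheme). -/
lemma isQCohD_Rpush_restrict {X : Scheme.{u}} [IsAffine X] (U : X.Opens)
    (hU : IsCompact (U : Set X)) [DCoh.HasRpush U.ι] (K : DCoh.D X) (hK : DCoh.IsQCohD K) :
    DCoh.IsQCohD ((DCoh.Rpush U.ι).obj ((restrictD U.ι).obj K)) := by
  have : CompactSpace (U : Scheme.{u}) := isCompact_iff_compactSpace.mp hU
  have h1 : QuasiCompact U.ι := inferInstance
  exact S0998.result U.ι _ (QCohD.isQCohD_restrictD U.ι hK)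

/-- Stacks 08EH. The extension `E₁` lies in every triangulated subcategory containing `E`. -/
theorem exists_roof (X : Scheme.{u}) [IsAffine X] (U : X.Opens) (hU : IsCompact (U : Set X))
    (E E' : DCoh.D X) (hE : DCoh.IsPerfect E) (hE' : DCoh.IsQCohD E')
    (α : (restrictD U.ι).obj E ⟶ (restrictD U.ι).obj E') :
    ∃ (E₁ : DCoh.D X) (β : E₁ ⟶ E) (γ : E₁ ⟶ E'),
      (∀ 𝒯 : ObjectProperty (DCoh.D X), 𝒯.IsTriangulated → 𝒯.IsClosedUnderIsomorphisms → 𝒯 E → 𝒯 E₁) ∧
      IsIso ((restrictD U.ι).map β) ∧ (restrictD U.ι).map β ≫ α = (restrictD U.ι).map γ := by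
  have : DCoh.HasRpush U.ι := LoccohB.RpushTri.hasRpush U.ι
  exact Roof.exists_roof_of_adjunction X U hU inferInstance (DCoh.Rpush U.ι)
    (OpenPush.restrictRpushAdj U.ι) E E' hE (QCohD.isQCohD_of_isPerfect E hE) hE'
    (isQCohD_Rpush_restrict U hU E' hE') α

/-- Stacks 08EH, `E₁` perfect. -/
theorem exists_roof_isPerfect (X : Scheme.{u}) [IsAffine X] (U : X.Opens)
    (hU : IsCompact (U : Set X)) (E E' : DCoh.D X) (hE : DCoh.IsPerfect E) (hE' : DCoh.IsQCohD E')
    (α : (restrictD U.ι).obj E ⟶ (restrictD U.ι).obj E') :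
    ∃ (E₁ : DCoh.D X) (β : E₁ ⟶ E) (γ : E₁ ⟶ E'), DCoh.IsPerfect E₁ ∧
      IsIso ((restrictD U.ι).map β) ∧ (restrictD U.ι).map β ≫ α = (restrictD U.ι).map γ := by
  obtain ⟨E₁, β, γ, h1, h2, h3⟩ := exists_roof X U hU E E' hE hE' α
  exact ⟨E₁, β, γ, h1 (PerfTri.perf X) inferInstance inferInstance hE, h2, h3⟩

end Groth.Agent.PerfA.RoofOpen
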