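import Groth.Agent.PerfA.Restrict
import Mathlib.Topology.Sheaves.Skyscraper
import Mathlib.Algebra.Category.ModuleCat.Presheaf.Sheafification
import Mathlib.Algebra.Category.ModuleCat.Presheaf.Colimits
import Mathlib.Algebra.Category.ModuleCat.Sheaf.Colimits
import Mathlib.Algebra.Category.ModuleCat.Sheaf.Limits
import Mathlib.CategoryTheory.Preadditive.Injective.Basic

/-!
# The stalk functors on `O_X`-modules are exact and preserve colimits
-/

set_option autoImplicit false

universe u v₁ v₂ v₃ u₁ u₂ u₃ w w'

open CategoryTheory CategoryTheory.Limits AlgebraicGeometry Opposite TopologicalSpace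

namespace Groth.Agent.PerfA.StalkExact

open AlgebraicGeometry.Scheme.Modules Groth.Agent.PerfA.Restrict

section

variable {A : Type u₁} [Category.{v₁} A] {B : Type u₂} [Category.{v₂} B] {C : Type u₃}
  [Category.{v₃} C] {L : A ⥤ B} {R : B ⥤ A}

/-- If `L ⊣ R` exhibits `B` as a reflective subcategory of `A` and `L ⋙ F` preserves colimits, so does `F`. -/
lemma preservesColimitsOfShape_of_reflective (adj : L ⊣ R) [IsIso adj.counit] (F : B ⥤ C)
    (J : Type w) [Category.{w'} J] [HasColimitsOfShape J A] [PreservesColimitsOfShape J (L ⋙ F)] :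
    PreservesColimitsOfShape J F where
  preservesColimit {K} := by
    have hL : PreservesColimitsOfShape J L :=
      ⟨fun {K'} => (adj.leftAdjoint_preservesColimits.preservesColimitsOfShape (J := J)).preservesColimit⟩
    let c := colimit.cocone (K ⋙ R)
    have hc := colimit.isColimit (K ⋙ R)
    have h1 : IsColimit (L.mapCocone c) := isColimitOfPreserves L hc
    have h2 : IsColimit (F.mapCocone (L.mapCocone c)) := isColimitOfPreserves (L ⋙ F) hc
    have : PreservesColimit ((K ⋙ R) ⋙ L) F := preservesColimit_of_preserves_colimit_cocone h1 h2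
    exact preservesColimit_of_iso_diagram F
      (K₁ := (K ⋙ R) ⋙ L) (K₂ := K) (Functor.associator _ _ _ ≪≫ Functor.isoWhiskerLeft K (asIso adj.counit) ≪≫
        Functor.rightUnitor K)

end

variable {X : Scheme.{u}}

/-- The underlying sheaf of abelian groups, as a functor. -/
noncomputable abbrev toSheafAb (X : Scheme.{u}) : X.Modules ⥤ Sheaf (Opens.grothendieckTopology X) AddCommGrpCat.{u} :=
  SheafOfModules.toSheaf X.ringCatSheaf

instance preservesColimitsOfShape_toSheafAb (J : Type u) [SmallCategory J] :
    PreservesColimitsOfShape J (toSheafAb X) := by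
  have : PreservesColimitsOfShape J
      (PresheafOfModules.sheafification.{u, u, u, u} (R := X.ringCatSheaf) (𝟙 X.ringCatSheaf.obj) ⋙
        SheafOfModules.toSheaf X.ringCatSheaf) :=
    inferInstanceAs (PreservesColimitsOfShape J
      (PresheafOfModules.toPresheaf _ ⋙ presheafToSheaf (Opens.grothendieckTopology X) AddCommGrpCat.{u}))
  exact preservesColimitsOfShape_of_reflective
    (PresheafOfModules.sheafificationAdjunction.{u, u, u, u} (R := X.ringCatSheaf) (𝟙 X.ringCatSheaf.obj)) _ J

instance preservesColimits_toSheafAb : PreservesColimits (toSheafAb X) where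

instance preservesColimits_stalkAb (x : X) : PreservesColimits (stalkAb x) := by
  have h : PreservesColimits (TopCat.Sheaf.forget Ab.{u} X ⋙ TopCat.Presheaf.stalkFunctor Ab.{u} x) := by
    classical
    exact (stalkSkyscraperSheafAdjunction (C := Ab.{u}) (X := X) x).leftAdjoint_preservesColimits
  exact @comp_preservesColimits _ _ _ _ _ _ (toSheafAb X)
    (TopCat.Sheaf.forget Ab.{u} X ⋙ TopCat.Presheaf.stalkFunctor Ab.{u} x) _ h

instance preservesFiniteLimits_stalkAb (x : X) : PreservesFiniteLimits (stalkAb x) := by
  have h : PreservesFiniteLimits (TopCat.Sheaf.forget Ab.{u} X ⋙ TopCat.Presheaf.stalkFunctor Ab.{u} x) :=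
    inferInstance
  have h' : PreservesFiniteLimits (toSheafAb X) :=
    inferInstanceAs (PreservesFiniteLimits (SheafOfModules.toSheaf.{u} X.ringCatSheaf))
  exact @comp_preservesFiniteLimits _ _ _ _ _ _ (toSheafAb X)
    (TopCat.Sheaf.forget Ab.{u} X ⋙ TopCat.Presheaf.stalkFunctor Ab.{u} x) h' h

instance preservesFiniteColimits_stalkAb (x : X) : PreservesFiniteColimits (stalkAb x) :=
  PreservesColimits.preservesFiniteColimits _

lemma mono_iff_stalk {M N : X.Modules} (φ : M ⟶ N) : Mono φ ↔ ∀ x : X, Mono ((stalkAb x).map φ) := by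
  constructor
  · intro h x
    infer_instance
  · intro h
    apply Preadditive.mono_of_isZero_kernel
    rw [isZero_iff_stalk]
    intro x
    have := h x
    exact (isZero_kernel_of_mono ((stalkAb x).map φ)).of_iso (PreservesKernel.iso (stalkAb x) φ)

lemma epi_iff_stalk {M N : X.Modules} (φ : M ⟶ N) : Epi φ ↔ ∀ x : X, Epi ((stalkAb x).map φ) := by
  constructor
  · intro h x
    infer_instance
  · intro h
    apply Preadditive.epi_of_isZero_cokernel
    rw [isZero_iff_stalk]
    intro x
    have := h x
    exact (isZero_cokernel_of_epi ((stalkAb x).map φ)).of_iso (PreservesCokernel.iso (stalkAb x) φ)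

end Groth.Agent.PerfA.StalkExact
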