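import Groth.Agent.PerfA.RoofOpen
import Groth.Agent.PerfA.IdemCone
import Groth.Agent.S1019

/-!
# `F ⊞ F⟦1⟧` extends from a quasi-compact open of an affine scheme (Stacks 08EI)
-/

set_option autoImplicit false
universe u
open CategoryTheory CategoryTheory.Limits CategoryTheory.Pretriangulated AlgebraicGeometry
attribute [local instance] HasDerivedCategory.standard

namespace Groth.Agent.PerfA.SumShift
open AlgebraicGeometry.Scheme.Modules Groth.Agent.PerfA.Restrict Groth.Agent.PerfA.PerfLocal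

/-- Stacks 08EI, in `D(O_X)`. -/
theorem exists_sum_shift (X : Scheme.{u}) [IsAffine X] (U : X.Opens) (hU : IsCompact (U : Set X))
    (F : DCoh.D (U : Scheme.{u})) (hF : DCoh.IsPerfect F) :
    ∃ C : DCoh.D X, DCoh.IsPerfect C ∧ Nonempty ((restrictD U.ι).obj C ≅ F ⊞ F⟦(1 : ℤ)⟧) := by
  obtain ⟨r, W, G, -, hG, ⟨e⟩⟩ := S1019.result X U hU F hF
  let G' : DCoh.D X := DCoh.toD X G
  obtain ⟨C, hC, eC⟩ := IdemCone.exists_lift_sum_shift (restrictD U.ι) G' F
    ((DCoh.inD (U : Scheme.{u}) W)⟦-r⟧) (restrictDQ U.ι G ≪≫ e ≪≫ biprod.braiding _ _)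
    (fun α => RoofOpen.exists_roof X U hU G' G' hG (QCohD.isQCohD_of_isPerfect G' hG) α)
  exact ⟨C, hC (PerfTri.perf X) inferInstance inferInstance hG, eC⟩

/-- Stacks 08EI, represented by complexes. -/
theorem exists_sum_shift_cx (X : Scheme.{u}) [IsAffine X] (U : X.Opens)
    (hU : IsCompact (U : Set X)) (F : DCoh.D (U : Scheme.{u})) (hF : DCoh.IsPerfect F) :
    ∃ G : CochainComplex X.Modules ℤ, DCoh.IsPerfect (DCoh.toD X G) ∧
      Nonempty (DerivedCategory.Q.obj ((DCoh.restrictCx U).obj G) ≅ F ⊞ F⟦(1 : ℤ)⟧) := by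
  obtain ⟨C, hC, ⟨eC⟩⟩ := exists_sum_shift X U hU F hF
  obtain ⟨H, ⟨eH⟩⟩ := exists_rep X C
  exact ⟨H, isPerfect_of_iso eH.symm hC,
    ⟨(restrictDQ U.ι H).symm ≪≫ (restrictD U.ι).mapIso eH ≪≫ eC⟩⟩

end Groth.Agent.PerfA.SumShift
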