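import Groth.Agent.PerfA.PerfLocal
import Groth.Agent.PerfB.TildeExact
import Groth.Agent.Ega1.TildePullback
import Mathlib.RingTheory.Spectrum.Prime.FreeLocus
import Mathlib.RingTheory.LocalProperties.ProjectiveDimension

/-!
# The tilde functor: restriction to open affines, finite free and finite projective modules
-/

set_option autoImplicit false
universe u
open CategoryTheory CategoryTheory.Limits AlgebraicGeometry
attribute [local instance] HasDerivedCategory.standard

namespace Groth.Agent.PerfA.TildeRes
open AlgebraicGeometry.Scheme.Modules Groth.Agent.PerfA.Restrict Groth.Agent.PerfA.PerfLocal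
open scoped TensorProduct

/-- Restricting `M~` along an open immersion `Spec S ⟶ Spec R` gives `(S ⊗ M)~`. -/
noncomputable def tildeRestrictIso {R S : CommRingCat.{u}} (φ : R ⟶ S)
    [IsOpenImmersion (Spec.map φ)] :
    tilde.functor R ⋙ restrictFunctor (Spec.map φ) ≅
      ModuleCat.extendScalars φ.hom ⋙ tilde.functor S :=
  Functor.isoWhiskerLeft _ (restrictFunctorIsoPullback (Spec.map φ)) ≪≫
    Ega1.TildePullback.tildePullbackIso φ

/-- Restricting `N~` along an open immersion `Spec B ⟶ Spec A` gives `(B ⊗ N)~`. -/
noncomputable def tildeRestrictIsoTensor (A B : Type u) [CommRing A] [CommRing B] [Algebra A B]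
    [IsOpenImmersion (Spec.map (CommRingCat.ofHom (algebraMap A B)))]
    (N : Type u) [AddCommGroup N] [Module A N] :
    (tilde (ModuleCat.of A N)).restrict (Spec.map (CommRingCat.ofHom (algebraMap A B))) ≅
      tilde (R := CommRingCat.of B) (ModuleCat.of B (B ⊗[A] N)) :=
  (restrictFunctorIsoPullback _).app _ ≪≫ Ega1.TildePullback.pullbackTildeIso A B N

/-- The two models for the free module of rank `n`. -/
noncomputable def freeIsoFreeMod (X : Scheme.{u}) (n : ℕ) :
    (SheafOfModules.free (R := X.ringCatSheaf) (ULift.{u} (Fin n)) : X.Modules) ≅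
      FlatMod.freeMod X n :=
  Sigma.whiskerEquiv (C := X.Modules) (f := fun _ : ULift.{u} (Fin n) => Coh.structureModule X)
    (g := fun _ : Fin n => Coh.structureModule X) Equiv.ulift (fun _ => Iso.refl _)

/-- The sheaf associated to a finite free module is free of finite rank. -/
lemma exists_iso_freeMod {R : CommRingCat.{u}} (N : ModuleCat.{u} R) [Module.Free R N]
    [Module.Finite R N] : ∃ n : ℕ, Nonempty (tilde N ≅ FlatMod.freeMod (Spec R) n) := by
  let b := Module.Free.chooseBasis R N
  let n := Fintype.card (Module.Free.ChooseBasisIndex R N)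
  let e : Module.Free.ChooseBasisIndex R N ≃ ULift.{u} (Fin n) :=
    (Fintype.equivFin _).trans Equiv.ulift.symm
  refine ⟨n, ⟨(tilde.functor R).mapIso ((b.reindex e).repr.toModuleIso) ≪≫
    tildeFinsupp (ULift.{u} (Fin n)) ≪≫ freeIsoFreeMod (Spec R) n⟩⟩

lemma isFinLocFree_tilde_of_free {R : CommRingCat.{u}} (N : ModuleCat.{u} R) [Module.Free R N]
    [Module.Finite R N] : FlatMod.IsFinLocFree (tilde N) := by
  obtain ⟨n, ⟨e⟩⟩ := exists_iso_freeMod N
  exact isFinLocFree_of_iso e.symm (isFinLocFree_freeMod _ n)

/-- A point of `D(f)` comes from the spectrum of the localization away from `f`. -/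
lemma exists_specMap_away_eq {A : Type u} [CommRing A] (f : A) (p : PrimeSpectrum A)
    (hp : f ∉ p.asIdeal) :
    ∃ y : Spec (CommRingCat.of (Localization.Away f)),
      (Spec.map (CommRingCat.ofHom (algebraMap A (Localization.Away f)))) y = p := by
  have h1 := PrimeSpectrum.localization_away_comap_range (Localization.Away f) f
  have h2 : p ∈ Set.range (PrimeSpectrum.comap (algebraMap A (Localization.Away f))) := by
    rw [h1]
    exact hp
  obtain ⟨y, hy⟩ := h2
  exact ⟨y, hy⟩

/-- A finitely presented module whose localization at `p` is free is free near `p`, in terms of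
the associated sheaf. -/
lemma exists_away_free {A : Type u} [CommRing A] (p : PrimeSpectrum A) (N : ModuleCat.{u} A)
    [Module.FinitePresentation A N]
    (hN : Module.Free (Localization.AtPrime p.asIdeal) (N.localizedModule p.asIdeal.primeCompl)) :
    ∃ f : A, f ∉ p.asIdeal ∧
      Module.Free (Localization.Away f) (Localization.Away f ⊗[A] N) := by
  obtain ⟨r, hr, h1, -⟩ := Module.FinitePresentation.exists_free_localizedModule_powers
    p.asIdeal.primeCompl (N.localizedModuleMkLinearMap p.asIdeal.primeCompl)
    (Localization.AtPrime p.asIdeal)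
  exact ⟨r, hr, Module.Free.of_equiv (LocalizedModule.equivTensorProduct (.powers r) N)⟩

/-- A finitely presented module whose localization at `p` is free is free near `p`, in terms of
the associated sheaf. -/
lemma exists_restrict_isFinLocFree {A : Type u} [CommRing A] (p : PrimeSpectrum A)
    (N : ModuleCat.{u} A) [Module.FinitePresentation A N]
    (hN : Module.Free (Localization.AtPrime p.asIdeal) (N.localizedModule p.asIdeal.primeCompl)) :
    ∃ (U : Scheme.{u}) (j : U ⟶ Spec (CommRingCat.of A)) (_ : IsOpenImmersion j) (y : U),
      j y = p ∧ FlatMod.IsFinLocFree ((tilde (R := CommRingCat.of A) N).restrict j) := by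
  obtain ⟨f, hf, h1⟩ := exists_away_free p N hN
  obtain ⟨y, hy⟩ := exists_specMap_away_eq f p hf
  refine ⟨_, Spec.map (CommRingCat.ofHom (algebraMap A (Localization.Away f))), inferInstance, y,
    hy, ?_⟩
  have : Module.Finite A N := inferInstance
  exact isFinLocFree_of_iso (tildeRestrictIsoTensor A (Localization.Away f) N).symm
    (isFinLocFree_tilde_of_free (R := CommRingCat.of (Localization.Away f)) _)

/-- The triangle attached to a short exact sequence of modules, restricted to an open subscheme. -/
lemma isPerfect_X₃_of_shortExact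
    (two : ∀ {X : Scheme.{u}} (T : Pretriangulated.Triangle (DCoh.D X)),
      T ∈ Pretriangulated.distinguishedTriangles → DCoh.IsPerfect T.obj₁ →
        DCoh.IsPerfect T.obj₂ → DCoh.IsPerfect T.obj₃)
    {A : CommRingCat.{u}} {S : ShortComplex (ModuleCat.{u} A)} (hS : S.ShortExact)
    {U : Scheme.{u}} (j : U ⟶ Spec A) [IsOpenImmersion j]
    (h1 : DCoh.IsPerfect (DCoh.inD U ((tilde S.X₁).restrict j)))
    (h2 : DCoh.IsPerfect (DCoh.inD U ((tilde S.X₂).restrict j))) :
    DCoh.IsPerfect (DCoh.inD U ((tilde S.X₃).restrict j)) := by
  have hS' : ((S.map (tilde.functor A)).map (restrictFunctor j)).ShortExact :=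
    (hS.map_of_exact (tilde.functor A)).map_of_exact (restrictFunctor j)
  exact two _ hS'.singleTriangle_distinguished h1 h2

/-- Over a Noetherian ring, the sheaf associated to a finite module whose localization at `p` has
finite projective dimension is perfect near `p`. -/
lemma exists_restrict_isPerfect
    (two : ∀ {X : Scheme.{u}} (T : Pretriangulated.Triangle (DCoh.D X)),
      T ∈ Pretriangulated.distinguishedTriangles → DCoh.IsPerfect T.obj₁ →
        DCoh.IsPerfect T.obj₂ → DCoh.IsPerfect T.obj₃)
    {A : Type u} [CommRing A] [IsNoetherianRing A] (p : PrimeSpectrum A) (n : ℕ) :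
    ∀ (N : ModuleCat.{u} A) [Module.Finite A N],
      HasProjectiveDimensionLT (N.localizedModule p.asIdeal.primeCompl) (n + 1) →
      ∃ (U : Scheme.{u}) (j : U ⟶ Spec (CommRingCat.of A)) (_ : IsOpenImmersion j) (y : U),
        j y = p ∧
          DCoh.IsPerfect (DCoh.inD U ((tilde (R := CommRingCat.of A) N).restrict j)) := by
  induction n with
  | zero =>
    intro N _ hN
    have : Module.FinitePresentation A N := Module.finitePresentation_of_finite A N
    rw [zero_add, ← projective_iff_hasProjectiveDimensionLT_one,
      ← IsProjective.iff_projective] at hN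
    have : Module.Finite (Localization.AtPrime p.asIdeal)
        (N.localizedModule p.asIdeal.primeCompl) :=
      Module.Finite.of_isLocalizedModule p.asIdeal.primeCompl
        (N.localizedModuleMkLinearMap p.asIdeal.primeCompl)
    have hfree : Module.Free (Localization.AtPrime p.asIdeal)
        (N.localizedModule p.asIdeal.primeCompl) := Module.free_of_flat_of_isLocalRing
    obtain ⟨U, j, hj, y, hy, h⟩ := exists_restrict_isFinLocFree p N hfree
    exact ⟨U, j, hj, y, hy, isPerfect_inD_of_isFinLocFree h⟩
  | succ n ih =>
    intro N _ hN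
    obtain ⟨k, f, hf⟩ := Module.Finite.exists_fin' A N
    let φ : ModuleCat.of A (Fin k → A) ⟶ N := ModuleCat.ofHom f
    have : Epi φ := (ModuleCat.epi_iff_surjective φ).2 hf
    let T := ShortComplex.mk (kernel.ι φ) φ (kernel.condition φ)
    have hT : T.ShortExact := { exact := ShortComplex.exact_kernel φ }
    have hTS := hT.map_of_exact (ModuleCat.localizedModuleFunctor p.asIdeal.primeCompl)
    have hP : Projective (ModuleCat.of A (Fin k → A)) := by
      rw [← IsProjective.iff_projective]
      exact inferInstanceAs (Module.Projective A (Fin k → A))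
    have : Projective (T.map (ModuleCat.localizedModuleFunctor p.asIdeal.primeCompl)).X₂ :=
      (ModuleCat.localizedModuleFunctor p.asIdeal.primeCompl).projective_obj
        (ModuleCat.of A (Fin k → A))
    have hfin : Module.Finite A T.X₁ :=
      Module.Finite.of_injective (kernel.ι φ).hom
        ((ModuleCat.mono_iff_injective _).1 inferInstance)
    obtain ⟨U, j, hj, y, hy, h⟩ := ih T.X₁ ((hTS.hasProjectiveDimensionLT_X₃_iff n ‹_›).1 hN)
    refine ⟨U, j, hj, y, hy,
      isPerfect_X₃_of_shortExact two (A := CommRingCat.of A) (S := T) hT j h ?_⟩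
    have h2 : FlatMod.IsFinLocFree
        (tilde (R := CommRingCat.of A) (ModuleCat.of A (Fin k → A))) :=
      isFinLocFree_tilde_of_free (R := CommRingCat.of A) (ModuleCat.of A (Fin k → A))
    exact isPerfect_inD_of_isFinLocFree (isFinLocFree_restrict j h2)

end Groth.Agent.PerfA.TildeRes
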