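import Mathlib.Topology.KrullDimension
import Mathlib.Topology.Sober
import Mathlib.RingTheory.Spectrum.Prime.Topology

/-!
# Bounding the Krull dimension of a closed subset by chains of specializations
-/

set_option autoImplicit false
universe u
open TopologicalSpace Order Topology

namespace Groth.Agent.PerfA.TopDim

section

attribute [local instance] specializationOrder

/-- Chains of irreducible closed subsets of a sober space are chains of specializations. -/
theorem exists_chain {Y : Type*} [TopologicalSpace Y] [QuasiSober Y] [T0Space Y]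
    (s : LTSeries (IrreducibleCloseds Y)) :
    ∃ t : Fin (s.length + 1) → Y, ∀ i j, i < j → t j ⤳ t i ∧ t j ≠ t i := by
  let e := irreducibleSetEquivPoints (α := Y)
  refine ⟨fun j => e (s j), fun i j hij => ?_⟩
  have h1 : e (s i) < e (s j) := e.strictMono (s.strictMono hij)
  exact ⟨h1.le, h1.ne'⟩

end

/-- A bound for the dimension of a closed subset `T` of a quasi-compact sober space: it suffices to
bound chains of specializations starting in `T`, all of which specialize to a closed point. -/
theorem topologicalKrullDim_le {X : Type*} [TopologicalSpace X] [CompactSpace X] [QuasiSober X]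
    [T0Space X] (T : Set X) (hT : IsClosed T) (n : ℕ)
    (h : ∀ z : X, IsClosed ({z} : Set X) → ∀ (l : ℕ) (p : Fin (l + 1) → X),
      (∀ i j, i < j → p i ⤳ p j ∧ p i ≠ p j) → p (Fin.last l) ⤳ z → p 0 ∈ T → l ≤ n) :
    topologicalKrullDim T ≤ (n : WithBot ℕ∞) := by
  have : QuasiSober T := hT.isClosedEmbedding_subtypeVal.quasiSober
  refine iSup_le fun s => ?_
  obtain ⟨t, ht'⟩ := exists_chain s
  have ht : ∀ i j, i < j → (t j : X) ⤳ t i ∧ (t j : X) ≠ t i := by
    intro i j hij
    exact ⟨(ht' i j hij).1.map continuous_subtype_val, fun h3 => (ht' i j hij).2 (Subtype.ext h3)⟩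
  obtain ⟨z, hz, hzc⟩ := isClosed_closure.exists_closed_singleton
    (S := closure ({((t 0 : T) : X)} : Set X)) ⟨_, subset_closure rfl⟩
  have h4 : ((t 0 : T) : X) ⤳ z := specializes_iff_mem_closure.2 hz
  have h5 := h z hzc s.length (fun i => t (Fin.rev i)) (fun i j hij => ht _ _ (Fin.rev_lt_rev.2 hij))
    (by simpa using h4) (t _).2
  exact_mod_cast h5

/-- Every point of a quasi-compact `T₀` space specializes to a closed point. -/
theorem exists_closed_specializes {X : Type*} [TopologicalSpace X] [CompactSpace X] [T0Space X]
    (x : X) : ∃ z : X, IsClosed ({z} : Set X) ∧ x ⤳ z := by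
  obtain ⟨z, hz, hzc⟩ := isClosed_closure.exists_closed_singleton
    (S := closure ({x} : Set X)) ⟨_, subset_closure rfl⟩
  exact ⟨z, hzc, specializes_iff_mem_closure.2 hz⟩

end Groth.Agent.PerfA.TopDim
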