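import Mathlib.Algebra.Homology.DerivedCategory.HomologySequence
import Mathlib.CategoryTheory.Abelian.Refinements
import Groth.Agent.CohtopB.DTrunc

/-!
# Four and five lemmas for morphisms of distinguished triangles in a derived category
-/

set_option autoImplicit false
universe w v u
open CategoryTheory CategoryTheory.Limits CategoryTheory.Pretriangulated

namespace Groth.Agent.PerfA.TriFive

section Four

variable {A : Type u} [Category.{v} A] [Abelian A]
  {X Y Z W X' Y' Z' W' : A} {f : X ⟶ Y} {g : Y ⟶ Z} {h : Z ⟶ W}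
  {f' : X' ⟶ Y'} {g' : Y' ⟶ Z'} {h' : Z' ⟶ W'}
  (α : X ⟶ X') (β : Y ⟶ Y') (γ : Z ⟶ Z') (δ : W ⟶ W')
  (hfg : f ≫ g = 0) (hgh : g ≫ h = 0) (hfg' : f' ≫ g' = 0) (hgh' : g' ≫ h' = 0)
  (c₁ : f ≫ β = α ≫ f') (c₂ : g ≫ γ = β ≫ g') (c₃ : h ≫ δ = γ ≫ h')

include hfg' hgh' c₁ c₂ c₃ in
lemma four_epi (e₁ : (ShortComplex.mk g h hgh).Exact) (e₂ : (ShortComplex.mk f' g' hfg').Exact)
    [Epi α] [Epi γ] [Mono δ] : Epi β := by
  rw [epi_iff_surjective_up_to_refinements]
  intro T y
  obtain ⟨T₁, π₁, _, z, hz⟩ := surjective_up_to_refinements_of_epi γ (y ≫ g')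
  have hzh : z ≫ h = 0 := by
    rw [← cancel_mono δ, Category.assoc, c₃, ← Category.assoc, ← hz, zero_comp, Category.assoc,
      Category.assoc, hgh', comp_zero, comp_zero]
  obtain ⟨T₂, π₂, _, x, hx⟩ := e₁.exact_up_to_refinements z hzh
  dsimp at x hx
  have hk : (π₂ ≫ π₁ ≫ y - x ≫ β) ≫ g' = 0 := by
    rw [Preadditive.sub_comp, Category.assoc, Category.assoc, Category.assoc, ← c₂, hz,
      ← Category.assoc x, ← hx, Category.assoc, sub_self]
  obtain ⟨T₃, π₃, _, u', hu'⟩ := e₂.exact_up_to_refinements _ hk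
  dsimp at u' hu'
  obtain ⟨T₄, π₄, _, u, hu⟩ := surjective_up_to_refinements_of_epi α u'
  refine ⟨T₄, π₄ ≫ π₃ ≫ π₂ ≫ π₁, inferInstance, π₄ ≫ π₃ ≫ x + u ≫ f, ?_⟩
  rw [Preadditive.add_comp, Category.assoc, Category.assoc, Category.assoc, Category.assoc,
    Category.assoc, Category.assoc, c₁, ← Category.assoc u, ← hu, Category.assoc, ← hu',
    Preadditive.comp_sub, Preadditive.comp_sub]
  abel

include hgh hfg c₁ c₂ c₃ in
lemma four_mono (e₁ : (ShortComplex.mk g h hgh).Exact) (e₂ : (ShortComplex.mk f' g' hfg').Exact)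
    [Epi α] [Mono β] [Mono δ] : Mono γ := by
  refine Preadditive.mono_of_cancel_zero _ fun {T} z hz => ?_
  have hzh : z ≫ h = 0 := by
    rw [← cancel_mono δ, Category.assoc, c₃, ← Category.assoc, hz, zero_comp, zero_comp]
  obtain ⟨T₁, π₁, _, y, hy⟩ := e₁.exact_up_to_refinements z hzh
  dsimp at y hy
  have hk : (y ≫ β) ≫ g' = 0 := by
    rw [Category.assoc, ← c₂, ← Category.assoc, ← hy, Category.assoc, hz, comp_zero]
  obtain ⟨T₂, π₂, _, u', hu'⟩ := e₂.exact_up_to_refinements _ hk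
  dsimp at u' hu'
  obtain ⟨T₃, π₃, _, u, hu⟩ := surjective_up_to_refinements_of_epi α u'
  have h1 : π₃ ≫ π₂ ≫ y = u ≫ f := by
    rw [← cancel_mono β]
    simp only [Category.assoc]
    rw [c₁, hu', ← Category.assoc, hu, Category.assoc]
  have h2 : (π₃ ≫ π₂ ≫ π₁) ≫ z = 0 := by
    simp only [Category.assoc]
    rw [hy, ← Category.assoc π₂, ← Category.assoc π₃, h1, Category.assoc, hfg, comp_zero]
  rw [← cancel_epi (π₃ ≫ π₂ ≫ π₁), h2, comp_zero]

end Four

variable {A : Type u} [Category.{v} A] [Abelian A] [HasDerivedCategory.{w} A]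

open DerivedCategory

variable {T T' : Triangle (DerivedCategory A)} (hT : T ∈ distTriang _) (hT' : T' ∈ distTriang _)
  (φ : T ⟶ T')

lemma map_comm₁ (n : ℤ) : (homologyFunctor A n).map T.mor₁ ≫ (homologyFunctor A n).map φ.hom₂ =
    (homologyFunctor A n).map φ.hom₁ ≫ (homologyFunctor A n).map T'.mor₁ := by
  rw [← Functor.map_comp, ← Functor.map_comp, φ.comm₁]

lemma map_comm₂ (n : ℤ) : (homologyFunctor A n).map T.mor₂ ≫ (homologyFunctor A n).map φ.hom₃ =
    (homologyFunctor A n).map φ.hom₂ ≫ (homologyFunctor A n).map T'.mor₂ := by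
  rw [← Functor.map_comp, ← Functor.map_comp, φ.comm₂]

lemma δ_naturality (n₀ n₁ : ℤ) (h : n₀ + 1 = n₁) :
    HomologySequence.δ T n₀ n₁ h ≫ (homologyFunctor A n₁).map φ.hom₁ =
      (homologyFunctor A n₀).map φ.hom₃ ≫ HomologySequence.δ T' n₀ n₁ h :=
  ((homologyFunctor A 0).homologySequenceδ_naturality T T' φ n₀ n₁ h).symm

include hT hT'

/-- Four lemma: epimorphism on the middle term of a morphism of distinguished triangles. -/
lemma epi_homology_hom₂ (n₀ n₁ : ℤ) (h : n₀ + 1 = n₁)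
    (h₁ : Epi ((homologyFunctor A n₀).map φ.hom₁)) (h₃ : Epi ((homologyFunctor A n₀).map φ.hom₃))
    (h₁' : Mono ((homologyFunctor A n₁).map φ.hom₁)) :
    Epi ((homologyFunctor A n₀).map φ.hom₂) :=
  four_epi _ _ _ _ (HomologySequence.comp_δ T hT n₀ n₁ h)
    (by rw [← Functor.map_comp, comp_distTriang_mor_zero₁₂ _ hT', Functor.map_zero])
    (HomologySequence.comp_δ T' hT' n₀ n₁ h)
    (map_comm₁ φ n₀) (map_comm₂ φ n₀) (δ_naturality φ n₀ n₁ h)
    (HomologySequence.exact₃ T hT n₀ n₁ h) (HomologySequence.exact₂ T' hT' n₀)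

/-- Four lemma: monomorphism on the middle term of a morphism of distinguished triangles. -/
lemma mono_homology_hom₂ (n₀ n₁ : ℤ) (h : n₀ + 1 = n₁)
    (h₃' : Epi ((homologyFunctor A n₀).map φ.hom₃)) (h₁ : Mono ((homologyFunctor A n₁).map φ.hom₁))
    (h₃ : Mono ((homologyFunctor A n₁).map φ.hom₃)) :
    Mono ((homologyFunctor A n₁).map φ.hom₂) :=
  four_mono _ _ _ _ (HomologySequence.δ_comp T hT n₀ n₁ h)
    (by rw [← Functor.map_comp, comp_distTriang_mor_zero₁₂ _ hT, Functor.map_zero])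
    (HomologySequence.δ_comp T' hT' n₀ n₁ h)
    (δ_naturality φ n₀ n₁ h) (map_comm₁ φ n₁) (map_comm₂ φ n₁)
    (HomologySequence.exact₂ T hT n₁) (HomologySequence.exact₁ T' hT' n₀ n₁ h)

/-- Five lemma for the middle term of a morphism of distinguished triangles. -/
lemma isIso_homology_hom₂ (n₀ n₁ n₂ : ℤ) (h : n₀ + 1 = n₁) (h' : n₁ + 1 = n₂)
    (h₃' : Epi ((homologyFunctor A n₀).map φ.hom₃)) (h₁ : IsIso ((homologyFunctor A n₁).map φ.hom₁))
    (h₃ : IsIso ((homologyFunctor A n₁).map φ.hom₃))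
    (h₁' : Mono ((homologyFunctor A n₂).map φ.hom₁)) :
    IsIso ((homologyFunctor A n₁).map φ.hom₂) := by
  have := mono_homology_hom₂ hT hT' φ n₀ n₁ h h₃' inferInstance inferInstance
  have := epi_homology_hom₂ hT hT' φ n₁ n₂ h' inferInstance inferInstance h₁'
  exact isIso_of_mono_of_epi _

omit hT hT'

/-- `τ_{≥ n}` of a morphism is an isomorphism iff it induces isomorphisms on cohomology in
degrees `≥ n`. -/
lemma isIso_truncGE_map_iff {K L : DerivedCategory A} (f : K ⟶ L) (n : ℤ) :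
    IsIso ((TStructure.t.truncGE n).map f) ↔
      ∀ m : ℤ, n ≤ m → IsIso ((homologyFunctor A m).map f) := by
  have key : ∀ m : ℤ, n ≤ m → ((homologyFunctor A m).map f ≫
      (homologyFunctor A m).map ((TStructure.t.truncGEπ n).app L) =
      (homologyFunctor A m).map ((TStructure.t.truncGEπ n).app K) ≫
      (homologyFunctor A m).map ((TStructure.t.truncGE n).map f)) := by
    intro m _
    rw [← Functor.map_comp, ← Functor.map_comp]
    congr 1
    exact (TStructure.t.truncGEπ n).naturality f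
  constructor
  · intro h m hm
    have h1 := Groth.Agent.CohtopB.DTrunc.isIso_homology_map_truncGEπ K n m hm
    have h2 := Groth.Agent.CohtopB.DTrunc.isIso_homology_map_truncGEπ L n m hm
    have h3 : IsIso ((homologyFunctor A m).map f ≫
      (homologyFunctor A m).map ((TStructure.t.truncGEπ n).app L)) := by
      rw [key m hm]
      infer_instance
    exact IsIso.of_isIso_comp_right _ ((homologyFunctor A m).map ((TStructure.t.truncGEπ n).app L))
  · intro h
    rw [DerivedCategory.isIso_iff]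
    intro m
    by_cases hm : n ≤ m
    · have h1 := Groth.Agent.CohtopB.DTrunc.isIso_homology_map_truncGEπ K n m hm
      have h2 := Groth.Agent.CohtopB.DTrunc.isIso_homology_map_truncGEπ L n m hm
      have h4 := h m hm
      have h3 : IsIso ((homologyFunctor A m).map ((TStructure.t.truncGEπ n).app K) ≫
        (homologyFunctor A m).map ((TStructure.t.truncGE n).map f)) := by
        rw [← key m hm]
        infer_instance
      exact IsIso.of_isIso_comp_left
        ((homologyFunctor A m).map ((TStructure.t.truncGEπ n).app K)) _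
    · have h1 : IsZero ((homologyFunctor A m).obj ((TStructure.t.truncGE n).obj K)) :=
        isZero_of_isGE _ n m (by lia)
      have h2 : IsZero ((homologyFunctor A m).obj ((TStructure.t.truncGE n).obj L)) :=
        isZero_of_isGE _ n m (by lia)
      exact ⟨0, h1.eq_of_src _ _, h2.eq_of_src _ _⟩

end Groth.Agent.PerfA.TriFive
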